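import Mathlib
import Cfsg.Prelude.Def_Local
import Cfsg.Agent.Lib.helper14.PConstrained
import Cfsg.Agent.Lib.helper54.AxB
import Cfsg.Agent.Lib.helper53.Quot

/-!
# `p`-constraint of `p`-local subgroups

* `map_normalizer_of_coprime`, `map_centralizer_of_coprime` : images of normalizers / centralizers of a
  `p`-subgroup modulo a normal `p'`-subgroup.
* `isPConstrained_of_surjective` : a group with a surjection with `p'`-kernel onto a group of
  characteristic `p` is `p`-constrained.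
* `isPConstrained_normalizer`, `isPConstrained_centralizer`.
-/

set_option autoImplicit false

namespace Cfsg.Agent.Lib.helper14

open Subgroup Cfsg.Agent.Lib.helper40

section lift

variable {G : Type*} [Group G] [Finite G] {p : ℕ} [Fact p.Prime]

theorem exists_mul_mem_normalizer_of_coprime (N : Subgroup G) [N.Normal]
    (hN : (Nat.card N).Coprime p) (P : Subgroup G) (hP : IsPGroup p P) (x : G)
    (hx : ∀ u ∈ P, x * u * x⁻¹ ∈ N ⊔ P) : ∃ c ∈ N, c⁻¹ * x ∈ Subgroup.normalizer (P : Set G) := by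
  have hle : P.map (MulAut.conj x).toMonoidHom ≤ N ⊔ P := by
    rintro _ ⟨u, hu, rfl⟩
    exact hx u hu
  obtain ⟨c, hc, hcr⟩ := Cfsg.Agent.Lib.helper38.exists_conj_le_of_le_sup N P
    (P.map (MulAut.conj x).toMonoidHom) hN hP (hP.map _) hle
  refine ⟨c, hc, ?_⟩
  apply mem_normalizer_of_map_conj_le
  rintro _ ⟨u, hu, rfl⟩
  have h1 : c⁻¹ * (x * u * x⁻¹) * c ∈ P := hcr _ ⟨u, hu, rfl⟩
  have e : (MulAut.conj (c⁻¹ * x)) u = c⁻¹ * (x * u * x⁻¹) * c := by
    rw [MulAut.conj_apply]; group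
  show (MulAut.conj (c⁻¹ * x)) u ∈ P
  rw [e]; exact h1

theorem map_normalizer_of_coprime (N : Subgroup G) [N.Normal] (hN : (Nat.card N).Coprime p)
    (P : Subgroup G) (hP : IsPGroup p P) :
    (Subgroup.normalizer (P : Set G)).map (QuotientGroup.mk' N) =
      Subgroup.normalizer ((P.map (QuotientGroup.mk' N) : Subgroup (G ⧸ N)) : Set (G ⧸ N)) := by
  apply le_antisymm (Subgroup.le_normalizer_map _)
  intro y hy
  obtain ⟨x, rfl⟩ := QuotientGroup.mk'_surjective N y
  have hx : ∀ u ∈ P, x * u * x⁻¹ ∈ N ⊔ P := by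
    intro u hu
    have h1 : (QuotientGroup.mk' N) (x * u * x⁻¹) ∈ P.map (QuotientGroup.mk' N) := by
      rw [map_mul, map_mul, map_inv]
      exact (Subgroup.mem_normalizer_iff.mp hy _).mp ⟨u, hu, rfl⟩
    have h2 : x * u * x⁻¹ ∈ (P.map (QuotientGroup.mk' N)).comap (QuotientGroup.mk' N) := h1
    rwa [QuotientGroup.comap_map_mk'] at h2
  obtain ⟨c, hc, hcn⟩ := exists_mul_mem_normalizer_of_coprime N hN P hP x hx
  refine ⟨c⁻¹ * x, hcn, ?_⟩
  have hc1 : (QuotientGroup.mk' N) c = 1 := by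
    rw [QuotientGroup.mk'_apply, QuotientGroup.eq_one_iff]; exact hc
  rw [map_mul, map_inv, hc1, inv_one, one_mul]

theorem map_centralizer_of_coprime (N : Subgroup G) [N.Normal] (hN : (Nat.card N).Coprime p)
    (P : Subgroup G) (hP : IsPGroup p P) :
    (Subgroup.centralizer (P : Set G)).map (QuotientGroup.mk' N) =
      Subgroup.centralizer ((P.map (QuotientGroup.mk' N) : Subgroup (G ⧸ N)) : Set (G ⧸ N)) := by
  apply le_antisymm
  · rintro _ ⟨x, hx, rfl⟩
    rw [Subgroup.mem_centralizer_iff]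
    rintro _ ⟨u, hu, rfl⟩
    rw [← map_mul, ← map_mul, Subgroup.mem_centralizer_iff.mp hx u hu]
  intro y hy
  obtain ⟨x, rfl⟩ := QuotientGroup.mk'_surjective N y
  have hcomm : ∀ u ∈ P, (QuotientGroup.mk' N) u * (QuotientGroup.mk' N) x =
      (QuotientGroup.mk' N) x * (QuotientGroup.mk' N) u :=
    fun u hu => Subgroup.mem_centralizer_iff.mp hy _ ⟨u, hu, rfl⟩
  have hx : ∀ u ∈ P, x * u * x⁻¹ ∈ N ⊔ P := by
    intro u hu
    have h1 : (QuotientGroup.mk' N) (x * u * x⁻¹) ∈ P.map (QuotientGroup.mk' N) := by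
      rw [map_mul, map_mul, map_inv, ← hcomm u hu, mul_inv_cancel_right]
      exact ⟨u, hu, rfl⟩
    have h2 : x * u * x⁻¹ ∈ (P.map (QuotientGroup.mk' N)).comap (QuotientGroup.mk' N) := h1
    rwa [QuotientGroup.comap_map_mk'] at h2
  obtain ⟨c, hc, hcn⟩ := exists_mul_mem_normalizer_of_coprime N hN P hP x hx
  have hc1 : (QuotientGroup.mk' N) c = 1 := by
    rw [QuotientGroup.mk'_apply, QuotientGroup.eq_one_iff]; exact hc
  refine ⟨c⁻¹ * x, ?_, ?_⟩
  · show c⁻¹ * x ∈ Subgroup.centralizer (P : Set G)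
    rw [Subgroup.mem_centralizer_iff]
    intro u hu
    have h1 : (c⁻¹ * x) * u * (c⁻¹ * x)⁻¹ ∈ P := (Subgroup.mem_normalizer_iff.mp hcn u).mp hu
    have h2 : (c⁻¹ * x) * u * (c⁻¹ * x)⁻¹ * u⁻¹ ∈ P := P.mul_mem h1 (P.inv_mem hu)
    have h3 : (c⁻¹ * x) * u * (c⁻¹ * x)⁻¹ * u⁻¹ ∈ N := by
      rw [← QuotientGroup.eq_one_iff, ← QuotientGroup.mk'_apply]
      simp only [map_mul, map_inv, hc1, inv_one, one_mul]
      rw [← hcomm u hu]
      group
    have h4 := Cfsg.Agent.Lib.helper38.eq_one_of_mem_pgroup_of_mem_coprime hP hN h2 h3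
    calc u * (c⁻¹ * x) = ((c⁻¹ * x) * u * (c⁻¹ * x)⁻¹ * u⁻¹)⁻¹ * ((c⁻¹ * x) * u) := by group
      _ = c⁻¹ * x * u := by rw [h4]; group
  · rw [map_mul, map_inv, hc1, inv_one, one_mul]

end lift

/-- A finite group mapping onto a group of characteristic `p` with kernel of order prime to `p` is
`p`-constrained. -/
theorem isPConstrained_of_surjective {X Y : Type*} [Group X] [Group Y] [Finite X] [Finite Y] {p : ℕ}
    [Fact p.Prime] (ρ : X →* Y) (hρ : Function.Surjective ρ) (hker : (Nat.card ρ.ker).Coprime p)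
    (hY : Subgroup.centralizer (Cfsg.pCore p Y : Set Y) ≤ Cfsg.pCore p Y) :
    Cfsg.IsPConstrained p X := by
  have hNn := pPrimeCore_normal' p X
  have hYcore : Cfsg.pPrimeCore p Y = ⊥ := by
    have h1 : Cfsg.pPrimeCore p Y ≤ Subgroup.centralizer (Cfsg.pCore p Y : Set Y) := by
      intro x hx
      rw [Subgroup.mem_centralizer_iff]
      intro q hq
      have hc1 : x * (q * x⁻¹ * q⁻¹) ∈ Cfsg.pPrimeCore p Y :=
        Subgroup.mul_mem _ hx ((pPrimeCore_normal' p Y).conj_mem x⁻¹ (Subgroup.inv_mem _ hx) q)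
      have hc2 : x * q * x⁻¹ * q⁻¹ ∈ Cfsg.pCore p Y :=
        Subgroup.mul_mem _ ((pCore_normal' p Y).conj_mem q hq x) (Subgroup.inv_mem _ hq)
      have e : x * (q * x⁻¹ * q⁻¹) = x * q * x⁻¹ * q⁻¹ := by group
      rw [e] at hc1
      have h := Cfsg.Agent.Lib.helper38.eq_one_of_mem_pgroup_of_mem_coprime (pCore_isPGroup p Y)
        (pPrimeCore_card_coprime p Y) hc2 hc1
      calc q * x = (x * q * x⁻¹ * q⁻¹)⁻¹ * (x * q) := by group
        _ = x * q := by rw [h]; group
    rw [eq_bot_iff]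
    intro x hx
    rw [Subgroup.mem_bot]
    exact Cfsg.Agent.Lib.helper38.eq_one_of_mem_pgroup_of_mem_coprime (pCore_isPGroup p Y)
      (pPrimeCore_card_coprime p Y) (hY (h1 hx)) hx
  have hNker : ∀ n ∈ Cfsg.pPrimeCore p X, ρ n = 1 := by
    have h1 : ((Cfsg.pPrimeCore p X).map ρ).Normal := hNn.map ρ hρ
    have h2 : (Nat.card ((Cfsg.pPrimeCore p X).map ρ)).Coprime p := by
      have hd : Nat.card ((Cfsg.pPrimeCore p X).map ρ) ∣ Nat.card (Cfsg.pPrimeCore p X) :=
        Subgroup.card_dvd_of_surjective (ρ.subgroupMap (Cfsg.pPrimeCore p X))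
          (ρ.subgroupMap_surjective _)
      exact Nat.Coprime.coprime_dvd_left hd (pPrimeCore_card_coprime p X)
    have h3 := le_pPrimeCore _ h1 h2
    rw [hYcore] at h3
    intro n hn
    exact Subgroup.mem_bot.mp (h3 ⟨n, hn, rfl⟩)
  have hKN : ρ.ker ≤ Cfsg.pPrimeCore p X := le_pPrimeCore _ inferInstance hker
  have hD : (Cfsg.pCore p Y).comap ρ ≤ Cfsg.pPrimePCore p X := by
    unfold Cfsg.pPrimePCore
    rw [← Subgroup.map_le_iff_le_comap]
    have hDn : ((Cfsg.pCore p Y).comap ρ).Normal := by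
      have := pCore_normal' p Y
      infer_instance
    apply le_pCore _ (hDn.map _ (QuotientGroup.mk'_surjective _))
    rintro ⟨_, ⟨d, hd, rfl⟩⟩
    obtain ⟨k, hk⟩ := (pCore_isPGroup p Y) ⟨ρ d, hd⟩
    refine ⟨k, Subtype.ext ?_⟩
    have h1 : ρ d ^ p ^ k = 1 := congrArg Subtype.val hk
    have h2 : d ^ p ^ k ∈ Cfsg.pPrimeCore p X := by
      apply hKN
      rw [MonoidHom.mem_ker, map_pow]
      exact h1
    show (QuotientGroup.mk' (Cfsg.pPrimeCore p X)) d ^ p ^ k = 1
    rw [← map_pow, QuotientGroup.mk'_apply, QuotientGroup.eq_one_iff]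
    exact h2
  intro P₁ c hc
  apply hD
  show ρ c ∈ Cfsg.pCore p Y
  apply hY
  rw [Subgroup.mem_centralizer_iff]
  intro y hy
  obtain ⟨d, rfl⟩ := hρ y
  have hd : d ∈ Cfsg.pPrimePCore p X := hD hy
  obtain ⟨n, hn, u, hu, rfl⟩ := Subgroup.mem_sup_of_normal_left.mp (pPrimePCore_le_sup_sylow P₁ hd)
  rw [map_mul, hNker n hn, one_mul, ← map_mul, ← map_mul, Subgroup.mem_centralizer_iff.mp hc u hu]

/-- If `G` is finite and the image of `H` in `G/O_{p'}(G)` has characteristic `p`, then `H` is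
`p`-constrained. -/
theorem isPConstrained_of_charPIn_map {G : Type*} [Group G] [Finite G] {p : ℕ} [Fact p.Prime]
    (H : Subgroup G)
    (hH : haveI := pPrimeCore_normal' p G
      Cfsg.Agent.Lib.helper54.CharPIn p (H.map (QuotientGroup.mk' (Cfsg.pPrimeCore p G)))) :
    Cfsg.IsPConstrained p ↥H := by
  have hNn := pPrimeCore_normal' p G
  apply isPConstrained_of_surjective ((QuotientGroup.mk' (Cfsg.pPrimeCore p G)).subgroupMap H)
    ((QuotientGroup.mk' (Cfsg.pPrimeCore p G)).subgroupMap_surjective H)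
  · have hle : (((QuotientGroup.mk' (Cfsg.pPrimeCore p G)).subgroupMap H).ker).map H.subtype ≤
        Cfsg.pPrimeCore p G := by
      rintro _ ⟨x, hx, rfl⟩
      have hx' : ((QuotientGroup.mk' (Cfsg.pPrimeCore p G)).subgroupMap H) x = 1 :=
        MonoidHom.mem_ker.mp hx
      have h1 := congrArg Subtype.val hx'
      have h2 : (QuotientGroup.mk' (Cfsg.pPrimeCore p G)) (x : G) = 1 := h1
      rw [QuotientGroup.mk'_apply, QuotientGroup.eq_one_iff] at h2
      exact h2
    have hd := Subgroup.card_dvd_of_le hle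
    rw [Subgroup.card_subtype] at hd
    exact Nat.Coprime.coprime_dvd_left hd (pPrimeCore_card_coprime p G)
  · exact (Cfsg.Agent.Lib.helper54.charPIn_iff _).mp hH

/-- **Normalizers of `p`-subgroups of `p`-constrained groups are `p`-constrained.** -/
theorem isPConstrained_normalizer {G : Type*} [Group G] [Finite G] {p : ℕ} [Fact p.Prime]
    (hG : Cfsg.IsPConstrained p G) (P : Subgroup G) (hP : IsPGroup p P) :
    Cfsg.IsPConstrained p ↥(Subgroup.normalizer (P : Set G)) := by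
  have hNn := pPrimeCore_normal' p G
  have hGbar := (isPConstrained_iff_of_pPrimeCore_eq_bot p (pPrimeCore_quotient_pPrimeCore p)).mp
    (isPConstrained_iff_quotient.mp hG)
  have htop := Cfsg.Agent.Lib.helper54.charPIn_top hGbar
  have hNbar := htop.inf_normalizer le_top (hP.map (QuotientGroup.mk' (Cfsg.pPrimeCore p G)))
  rw [top_inf_eq] at hNbar
  apply isPConstrained_of_charPIn_map
  rw [map_normalizer_of_coprime _ (pPrimeCore_card_coprime p G) P hP]
  exact hNbar

/-- **Centralizers of `p`-subgroups of `p`-constrained groups are `p`-constrained.** -/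
theorem isPConstrained_centralizer {G : Type*} [Group G] [Finite G] {p : ℕ} [Fact p.Prime]
    (hG : Cfsg.IsPConstrained p G) (P : Subgroup G) (hP : IsPGroup p P) :
    Cfsg.IsPConstrained p ↥(Subgroup.centralizer (P : Set G)) := by
  have hNn := pPrimeCore_normal' p G
  have hGbar := (isPConstrained_iff_of_pPrimeCore_eq_bot p (pPrimeCore_quotient_pPrimeCore p)).mp
    (isPConstrained_iff_quotient.mp hG)
  have htop := Cfsg.Agent.Lib.helper54.charPIn_top hGbar
  have hNbar := htop.inf_normalizer le_top (hP.map (QuotientGroup.mk' (Cfsg.pPrimeCore p G)))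
  rw [top_inf_eq] at hNbar
  apply isPConstrained_of_charPIn_map
  rw [map_centralizer_of_coprime _ (pPrimeCore_card_coprime p G) P hP]
  exact Cfsg.Agent.Lib.helper54.CharPIn.of_normal (Subgroup.centralizer_le_normalizer _)
    (Cfsg.Agent.Lib.helper55.normalizer_le_normalizer_centralizer _) hNbar

end Cfsg.Agent.Lib.helper14
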