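import Mathlib
import Cfsg.Prelude.Def_PLocal
import Cfsg.Agent.S0650
import Cfsg.Agent.S0655

/-!
# The stable normal closure `W(S)` of `Ω₁(Z(S))`: basic facts

* `omegaCenterThompson_mem` : `Ω₁(Z(J(S)))` belongs to the family defining `W(S)`.
* `stableNormalClosure_le_omegaCenterThompson`, `omegaOne_center_le_stableNormalClosure`.
* `stableNormalClosure_map_normal` : the image of `W(S)` under a stable embedding is normal.
-/

set_option autoImplicit false

namespace Cfsg.Agent.Lib.helper14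

open Subgroup

universe u

/-- the closure of a conjugation-invariant set is normal -/
theorem closure_normal_of_conj_mem {G : Type*} [Group G] (s : Set G)
    (h : ∀ g x, x ∈ s → g * x * g⁻¹ ∈ s) : (Subgroup.closure s).Normal := by
  have h1 : Subgroup.normalClosure s = Subgroup.closure s := by
    unfold Subgroup.normalClosure
    congr 1
    apply Set.Subset.antisymm
    · intro x hx
      obtain ⟨a, ha, hax⟩ := Group.mem_conjugatesOfSet_iff.mp hx
      obtain ⟨c, hc⟩ := isConj_iff.mp hax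
      rw [← hc]; exact h c a ha
    · exact Group.subset_conjugatesOfSet
  rw [← h1]; exact Subgroup.normalClosure_normal

theorem omegaOne_normal {G : Type*} [Group G] (p : ℕ) (X : Subgroup G) [hX : X.Normal] :
    (Cfsg.omegaOne p X).Normal := by
  apply closure_normal_of_conj_mem
  rintro g x ⟨hx, hxp⟩
  refine ⟨hX.conj_mem x hx g, ?_⟩
  rw [conj_pow, hxp]; simp

theorem map_omegaOne {G H : Type*} [Group G] [Group H] (τ : G →* H) (hτ : Function.Injective τ)
    (p : ℕ) (X : Subgroup G) : (Cfsg.omegaOne p X).map τ = Cfsg.omegaOne p (X.map τ) := by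
  unfold Cfsg.omegaOne
  rw [MonoidHom.map_closure]
  congr 1
  ext y
  constructor
  · rintro ⟨x, ⟨hx, hxp⟩, rfl⟩
    exact ⟨⟨x, hx, rfl⟩, by rw [← map_pow, hxp, map_one]⟩
  · rintro ⟨⟨x, hx, rfl⟩, hyp⟩
    refine ⟨x, ⟨hx, ?_⟩, rfl⟩
    apply hτ
    rw [map_pow, map_one]; exact hyp

theorem map_inf_centralizer_of_injective {G H : Type*} [Group G] [Group H] (τ : G →* H)
    (hτ : Function.Injective τ) (J : Subgroup G) :
    (J ⊓ Subgroup.centralizer (J : Set G)).map τ =
      J.map τ ⊓ Subgroup.centralizer ((J.map τ : Subgroup H) : Set H) := by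
  ext y
  rw [Subgroup.mem_map, Subgroup.mem_inf, Subgroup.mem_map]
  constructor
  · rintro ⟨j, hj, rfl⟩
    obtain ⟨hj1, hj2⟩ := Subgroup.mem_inf.mp hj
    refine ⟨⟨j, hj1, rfl⟩, ?_⟩
    rw [Subgroup.mem_centralizer_iff] at hj2 ⊢
    rintro _ ⟨k, hk, rfl⟩
    rw [← map_mul, ← map_mul, hj2 k hk]
  · rintro ⟨⟨j, hj, rfl⟩, hc⟩
    refine ⟨j, Subgroup.mem_inf.mpr ⟨hj, ?_⟩, rfl⟩
    rw [Subgroup.mem_centralizer_iff] at hc ⊢
    intro k hk
    apply hτ
    rw [map_mul, map_mul]; exact hc _ ⟨k, hk, rfl⟩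

section

variable {S : Type u} [Group S]

/-- `(Ω₁(Z(J(S)))).map τ` is normal when `J(S).map τ` is. -/
theorem omegaCenterThompson_map_normal {H : Type*} [Group H] (p : ℕ) (τ : S →* H)
    (hτ : Function.Injective τ) (hJ : ((Cfsg.thompsonSubgroup p S).map τ).Normal) :
    ((Cfsg.omegaCenterThompson p S).map τ).Normal := by
  unfold Cfsg.omegaCenterThompson
  rw [map_omegaOne τ hτ, map_inf_centralizer_of_injective τ hτ]
  have : ((Cfsg.thompsonSubgroup p S).map τ ⊓
      Subgroup.centralizer (((Cfsg.thompsonSubgroup p S).map τ : Subgroup H) : Set H)).Normal :=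
    inferInstance
  exact omegaOne_normal p _

/-- `Ω₁(Z(S)) ≤ A` for every elementary abelian `A` of largest order. -/
theorem omegaOne_center_le_of_mem_maxElem [Finite S] (p : ℕ) (A : Subgroup S)
    (hA : A ∈ Cfsg.maxElementaryAbelianSubgroups p S) :
    Cfsg.omegaOne p (Subgroup.center S) ≤ A := by
  unfold Cfsg.omegaOne
  rw [Subgroup.closure_le]
  rintro z ⟨hz, hzp⟩
  have hzc : Subgroup.zpowers z ≤ Subgroup.center S := (Subgroup.zpowers_le).mpr hz
  have hzn : (Subgroup.zpowers z).Normal := by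
    constructor
    intro n hn g
    have h1 := Subgroup.mem_center_iff.mp (hzc hn) g
    have e : g * n * g⁻¹ = n := by rw [h1]; group
    rw [e]; exact hn
  have hcomm : IsMulCommutative ↥(A ⊔ Subgroup.zpowers z) := by
    apply Cfsg.Agent.S0650.sup_isMulCommutative A (Subgroup.zpowers z) hA.1.1 inferInstance
    intro h hh k hk
    exact Subgroup.mem_center_iff.mp (hzc hk) h
  have hpow : ∀ a ∈ A ⊔ Subgroup.zpowers z, a ^ p = 1 := by
    intro a ha
    obtain ⟨a₀, ha₀, k, hk, rfl⟩ := Subgroup.mem_sup_of_normal_right.mp ha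
    have hc : Commute a₀ k := Subgroup.mem_center_iff.mp (hzc hk) a₀
    obtain ⟨i, rfl⟩ := Subgroup.mem_zpowers_iff.mp hk
    rw [hc.mul_pow, hA.1.2 a₀ ha₀, one_mul, ← zpow_natCast, ← zpow_mul, mul_comm, zpow_mul,
      zpow_natCast, hzp, one_zpow]
  have hcard := hA.2 _ ⟨hcomm, hpow⟩
  have heq := Subgroup.eq_of_le_of_card_ge (le_sup_left : A ≤ A ⊔ Subgroup.zpowers z) hcard
  rw [SetLike.mem_coe, heq]
  exact (le_sup_right : Subgroup.zpowers z ≤ A ⊔ Subgroup.zpowers z) (Subgroup.mem_zpowers z)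

theorem omegaOne_center_le_omegaCenterThompson [Finite S] {p : ℕ} [Fact p.Prime] (hS : IsPGroup p S) :
    Cfsg.omegaOne p (Subgroup.center S) ≤ Cfsg.omegaCenterThompson p S := by
  rw [← (Cfsg.Agent.S0655.result hS).1]
  exact le_sInf (fun A hA => omegaOne_center_le_of_mem_maxElem p A hA)

theorem omegaCenterThompson_mem [Finite S] {p : ℕ} [Fact p.Prime] (hS : IsPGroup p S) :
    Cfsg.omegaCenterThompson p S ∈ {W : Subgroup S | Cfsg.omegaOne p (Subgroup.center S) ≤ W ∧
      ∀ (H : Type u) [Group H] (τ : S →* H), Cfsg.IsStableEmbedding p τ → (W.map τ).Normal} :=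
  ⟨omegaOne_center_le_omegaCenterThompson hS,
    fun _ _ τ hτ => omegaCenterThompson_map_normal p τ hτ.1 hτ.2.2.2.2.1⟩

theorem stableNormalClosure_le_omegaCenterThompson [Finite S] {p : ℕ} [Fact p.Prime]
    (hS : IsPGroup p S) : Cfsg.stableNormalClosure p S ≤ Cfsg.omegaCenterThompson p S :=
  sInf_le (omegaCenterThompson_mem hS)

theorem omegaOne_center_le_stableNormalClosure (p : ℕ) :
    Cfsg.omegaOne p (Subgroup.center S) ≤ Cfsg.stableNormalClosure p S :=
  le_sInf (fun _ hW => hW.1)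

theorem stableNormalClosure_map_normal [Finite S] {p : ℕ} [Fact p.Prime] (hS : IsPGroup p S)
    {H : Type u} [Group H] (τ : S →* H) (hτ : Cfsg.IsStableEmbedding p τ) :
    ((Cfsg.stableNormalClosure p S).map τ).Normal := by
  have h0 := (omegaCenterThompson_mem hS).2 H τ hτ
  constructor
  rintro _ ⟨w, hw, rfl⟩ h
  have hw0 := stableNormalClosure_le_omegaCenterThompson hS hw
  obtain ⟨w', hw', hw'e⟩ := h0.conj_mem _ ⟨w, hw0, rfl⟩ h
  refine ⟨w', ?_, hw'e⟩
  have hw1 := Subgroup.mem_sInf.mp (show w ∈ sInf {W : Subgroup S |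
    Cfsg.omegaOne p (Subgroup.center S) ≤ W ∧
      ∀ (H : Type u) [Group H] (τ : S →* H), Cfsg.IsStableEmbedding p τ → (W.map τ).Normal} from hw)
  show w' ∈ sInf {W : Subgroup S | Cfsg.omegaOne p (Subgroup.center S) ≤ W ∧
      ∀ (H : Type u) [Group H] (τ : S →* H), Cfsg.IsStableEmbedding p τ → (W.map τ).Normal}
  rw [Subgroup.mem_sInf]
  intro W' hW'
  obtain ⟨w'', hw'', hw''e⟩ := (hW'.2 H τ hτ).conj_mem _ ⟨w, hw1 W' hW', rfl⟩ h
  have : w'' = w' := hτ.1 (hw''e.trans hw'e.symm)
  rw [← this]; exact hw''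

end

section transport

variable {S S' : Type u} [Group S] [Group S']

theorem maxElem_map (p : ℕ) (η : S ≃* S') {A : Subgroup S}
    (hA : A ∈ Cfsg.maxElementaryAbelianSubgroups p S) :
    A.map η.toMonoidHom ∈ Cfsg.maxElementaryAbelianSubgroups p S' := by
  have hAc := hA.1.1
  refine ⟨⟨inferInstance, ?_⟩, ?_⟩
  · rintro _ ⟨a, ha, rfl⟩
    rw [← map_pow, hA.1.2 a ha, map_one]
  · intro B hB
    have hBc := hB.1
    have h1 : Cfsg.IsElementaryAbelian p (B.map η.symm.toMonoidHom) := by
      refine ⟨inferInstance, ?_⟩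
      rintro _ ⟨b, hb, rfl⟩
      rw [← map_pow, hB.2 b hb, map_one]
    have h2 := hA.2 _ h1
    rw [Subgroup.card_map_of_injective η.symm.injective] at h2
    rw [Subgroup.card_map_of_injective η.injective]
    exact h2

theorem map_symm_map' (η : S ≃* S') (A : Subgroup S') :
    (A.map η.symm.toMonoidHom).map η.toMonoidHom = A := by
  rw [Subgroup.map_map]
  have : η.toMonoidHom.comp η.symm.toMonoidHom = MonoidHom.id S' := by ext x; simp
  rw [this, Subgroup.map_id]

theorem thompsonSubgroup_map (p : ℕ) (η : S ≃* S') :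
    (Cfsg.thompsonSubgroup p S).map η.toMonoidHom = Cfsg.thompsonSubgroup p S' := by
  unfold Cfsg.thompsonSubgroup
  apply le_antisymm
  · rw [Subgroup.map_le_iff_le_comap]
    apply sSup_le
    intro A hA
    rw [← Subgroup.map_le_iff_le_comap]
    exact le_sSup (maxElem_map p η hA)
  · apply sSup_le
    intro A' hA'
    rw [← map_symm_map' η A']
    exact Subgroup.map_mono (le_sSup (maxElem_map p η.symm hA'))

theorem omegaCenterThompson_map (p : ℕ) (η : S ≃* S') :
    (Cfsg.omegaCenterThompson p S).map η.toMonoidHom = Cfsg.omegaCenterThompson p S' := by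
  unfold Cfsg.omegaCenterThompson
  rw [map_omegaOne _ η.injective, map_inf_centralizer_of_injective _ η.injective,
    thompsonSubgroup_map]

theorem isStableEmbedding_comp (p : ℕ) (η : S ≃* S') {H : Type u} [Group H] (τ' : S' →* H)
    (hτ' : Cfsg.IsStableEmbedding p τ') : Cfsg.IsStableEmbedding p (τ'.comp η.toMonoidHom) := by
  obtain ⟨hinj, hfin, ⟨P, hP⟩, hc, hJ, hV⟩ := hτ'
  refine ⟨hinj.comp η.injective, hfin, ⟨P, ?_⟩, hc, ?_, ?_⟩
  · rw [hP]
    ext y
    constructor
    · rintro ⟨x', rfl⟩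
      exact ⟨η.symm x', by simp⟩
    · rintro ⟨x, rfl⟩
      exact ⟨η x, rfl⟩
  · rw [← Subgroup.map_map, thompsonSubgroup_map]
    exact hJ
  · intro V _ hVle
    apply hV V
    rwa [← Subgroup.map_map, omegaCenterThompson_map] at hVle

/-- the family defining `W(S)` is transported by isomorphisms -/
theorem stableFamily_map (p : ℕ) (η : S ≃* S') {W : Subgroup S}
    (hW : W ∈ {W : Subgroup S | Cfsg.omegaOne p (Subgroup.center S) ≤ W ∧
      ∀ (H : Type u) [Group H] (τ : S →* H), Cfsg.IsStableEmbedding p τ → (W.map τ).Normal}) :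
    W.map η.toMonoidHom ∈ {W : Subgroup S' | Cfsg.omegaOne p (Subgroup.center S') ≤ W ∧
      ∀ (H : Type u) [Group H] (τ : S' →* H), Cfsg.IsStableEmbedding p τ → (W.map τ).Normal} := by
  refine ⟨?_, ?_⟩
  · unfold Cfsg.omegaOne
    rw [Subgroup.closure_le]
    rintro z' ⟨hz', hz'p⟩
    have hz : η.symm z' ∈ Cfsg.omegaOne p (Subgroup.center S) := by
      apply Subgroup.subset_closure
      refine ⟨?_, ?_⟩
      · rw [Subgroup.mem_center_iff] at hz' ⊢
        intro g
        apply η.injective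
        rw [map_mul, map_mul, MulEquiv.apply_symm_apply]
        exact hz' (η g)
      · rw [← map_pow, hz'p, map_one]
    exact ⟨η.symm z', hW.1 hz, by simp⟩
  · intro H _ τ' hτ'
    rw [Subgroup.map_map]
    exact hW.2 H _ (isStableEmbedding_comp p η τ' hτ')

theorem stableNormalClosure_mem [Finite S] {p : ℕ} [Fact p.Prime] (hS : IsPGroup p S) :
    Cfsg.stableNormalClosure p S ∈ {W : Subgroup S | Cfsg.omegaOne p (Subgroup.center S) ≤ W ∧
      ∀ (H : Type u) [Group H] (τ : S →* H), Cfsg.IsStableEmbedding p τ → (W.map τ).Normal} :=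
  ⟨omegaOne_center_le_stableNormalClosure p, fun _ _ τ hτ => stableNormalClosure_map_normal hS τ hτ⟩

/-- `W(S)` is transported by isomorphisms -/
theorem stableNormalClosure_map [Finite S] {p : ℕ} [Fact p.Prime] (hS : IsPGroup p S) (η : S ≃* S') :
    (Cfsg.stableNormalClosure p S).map η.toMonoidHom = Cfsg.stableNormalClosure p S' := by
  have hfin : Finite S' := Finite.of_equiv S η.toEquiv
  have hS' : IsPGroup p S' := hS.of_equiv η
  apply le_antisymm
  · have h1 : Cfsg.stableNormalClosure p S ≤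
        (Cfsg.stableNormalClosure p S').map η.symm.toMonoidHom :=
      sInf_le (stableFamily_map p η.symm (stableNormalClosure_mem hS'))
    have h2 := Subgroup.map_mono (f := η.toMonoidHom) h1
    rwa [map_symm_map'] at h2
  · exact sInf_le (stableFamily_map p η (stableNormalClosure_mem hS))

end transport

end Cfsg.Agent.Lib.helper14
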