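import Mathlib
import Cfsg.Agent.Lib.helper47.SL2Cent

/-!
# `SL₂(F)`: matrix computations for the Dickson-type theorem

`uMat μ = [[1, μ], [0, 1]]`, `lMat ν = [[1, 0], [ν, 1]]`; traces, unipotent elements, centralizers of
elements with `(tr g)² ≠ 4`.
-/

set_option autoImplicit false
set_option linter.unusedSimpArgs false

namespace Cfsg.Agent.Lib.helper14

open Matrix Cfsg.Agent.Lib.helper47

section

variable {F : Type*} [Field F]

/-- upper unitriangular element of `SL₂` -/
def uMat (μ : F) : SpecialLinearGroup (Fin 2) F := ⟨!![1, μ; 0, 1], by simp [det_fin_two_of]⟩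

/-- lower unitriangular element of `SL₂` -/
def lMat (ν : F) : SpecialLinearGroup (Fin 2) F := ⟨!![1, 0; ν, 1], by simp [det_fin_two_of]⟩

@[simp] theorem uMat_val (μ : F) : (uMat μ).1 = !![1, μ; 0, 1] := rfl
@[simp] theorem lMat_val (ν : F) : (lMat ν).1 = !![1, 0; ν, 1] := rfl

theorem sl2_ext' {g h : SpecialLinearGroup (Fin 2) F} (h00 : g.1 0 0 = h.1 0 0)
    (h01 : g.1 0 1 = h.1 0 1) (h10 : g.1 1 0 = h.1 1 0) (h11 : g.1 1 1 = h.1 1 1) : g = h := by
  apply Subtype.ext
  ext i j
  fin_cases i <;> fin_cases j <;> assumption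

theorem sl2_det' (g : SpecialLinearGroup (Fin 2) F) :
    g.1 0 0 * g.1 1 1 - g.1 0 1 * g.1 1 0 = 1 := by
  have h := g.2
  rw [det_fin_two] at h
  exact h

theorem mul_val_00 (g h : SpecialLinearGroup (Fin 2) F) :
    (g * h).1 0 0 = g.1 0 0 * h.1 0 0 + g.1 0 1 * h.1 1 0 := by
  show (g.1 * h.1) 0 0 = _
  simp [Matrix.mul_apply, Fin.sum_univ_two]

theorem mul_val_01 (g h : SpecialLinearGroup (Fin 2) F) :
    (g * h).1 0 1 = g.1 0 0 * h.1 0 1 + g.1 0 1 * h.1 1 1 := by
  show (g.1 * h.1) 0 1 = _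
  simp [Matrix.mul_apply, Fin.sum_univ_two]

theorem mul_val_10 (g h : SpecialLinearGroup (Fin 2) F) :
    (g * h).1 1 0 = g.1 1 0 * h.1 0 0 + g.1 1 1 * h.1 1 0 := by
  show (g.1 * h.1) 1 0 = _
  simp [Matrix.mul_apply, Fin.sum_univ_two]

theorem mul_val_11 (g h : SpecialLinearGroup (Fin 2) F) :
    (g * h).1 1 1 = g.1 1 0 * h.1 0 1 + g.1 1 1 * h.1 1 1 := by
  show (g.1 * h.1) 1 1 = _
  simp [Matrix.mul_apply, Fin.sum_univ_two]

theorem inv_val_00 (g : SpecialLinearGroup (Fin 2) F) : (g⁻¹).1 0 0 = g.1 1 1 := by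
  show (adjugate g.1) 0 0 = _
  rw [adjugate_fin_two]; simp

theorem inv_val_01 (g : SpecialLinearGroup (Fin 2) F) : (g⁻¹).1 0 1 = - g.1 0 1 := by
  show (adjugate g.1) 0 1 = _
  rw [adjugate_fin_two]; simp

theorem inv_val_10 (g : SpecialLinearGroup (Fin 2) F) : (g⁻¹).1 1 0 = - g.1 1 0 := by
  show (adjugate g.1) 1 0 = _
  rw [adjugate_fin_two]; simp

theorem inv_val_11 (g : SpecialLinearGroup (Fin 2) F) : (g⁻¹).1 1 1 = g.1 0 0 := by
  show (adjugate g.1) 1 1 = _
  rw [adjugate_fin_two]; simp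

theorem one_val_00 : (1 : SpecialLinearGroup (Fin 2) F).1 0 0 = 1 := by
  show (1 : Matrix (Fin 2) (Fin 2) F) 0 0 = 1
  simp

theorem one_val_01 : (1 : SpecialLinearGroup (Fin 2) F).1 0 1 = 0 := by
  show (1 : Matrix (Fin 2) (Fin 2) F) 0 1 = 0
  simp

theorem one_val_10 : (1 : SpecialLinearGroup (Fin 2) F).1 1 0 = 0 := by
  show (1 : Matrix (Fin 2) (Fin 2) F) 1 0 = 0
  simp

theorem one_val_11 : (1 : SpecialLinearGroup (Fin 2) F).1 1 1 = 1 := by
  show (1 : Matrix (Fin 2) (Fin 2) F) 1 1 = 1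
  simp

theorem uMat_00 (μ : F) : (uMat μ).1 0 0 = 1 := by simp
theorem uMat_01 (μ : F) : (uMat μ).1 0 1 = μ := by simp
theorem uMat_10 (μ : F) : (uMat μ).1 1 0 = 0 := by simp
theorem uMat_11 (μ : F) : (uMat μ).1 1 1 = 1 := by simp
theorem lMat_00 (ν : F) : (lMat ν).1 0 0 = 1 := by simp
theorem lMat_01 (ν : F) : (lMat ν).1 0 1 = 0 := by simp
theorem lMat_10 (ν : F) : (lMat ν).1 1 0 = ν := by simp
theorem lMat_11 (ν : F) : (lMat ν).1 1 1 = 1 := by simp

/-- the trace of an element of `SL₂` -/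
def str (g : SpecialLinearGroup (Fin 2) F) : F := g.1 0 0 + g.1 1 1

theorem uMat_mul (a b : F) : uMat a * uMat b = uMat (a + b) := by
  apply sl2_ext' <;> simp [mul_val_00, mul_val_01, mul_val_10, mul_val_11, add_comm]

theorem uMat_zero : uMat (0 : F) = 1 := by
  apply sl2_ext' <;> simp [one_val_00, one_val_01, one_val_10, one_val_11]

theorem uMat_inv (a : F) : (uMat a)⁻¹ = uMat (-a) := by
  apply inv_eq_of_mul_eq_one_right
  rw [uMat_mul, add_neg_cancel, uMat_zero]

theorem uMat_injective : Function.Injective (uMat : F → SpecialLinearGroup (Fin 2) F) := by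
  intro a b h
  have := congrArg (fun g : SpecialLinearGroup (Fin 2) F => g.1 0 1) h
  simpa using this

theorem uMat_pow (a : F) (n : ℕ) : uMat a ^ n = uMat (n * a) := by
  induction n with
  | zero => simp [uMat_zero]
  | succ n ih => rw [pow_succ, ih, uMat_mul]; congr 1; push_cast; ring

theorem lMat_mul (a b : F) : lMat a * lMat b = lMat (a + b) := by
  apply sl2_ext' <;> simp [mul_val_00, mul_val_01, mul_val_10, mul_val_11, add_comm]

theorem lMat_zero : lMat (0 : F) = 1 := by
  apply sl2_ext' <;> simp [one_val_00, one_val_01, one_val_10, one_val_11]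

theorem lMat_inv (a : F) : (lMat a)⁻¹ = lMat (-a) := by
  apply inv_eq_of_mul_eq_one_right
  rw [lMat_mul, add_neg_cancel, lMat_zero]

theorem lMat_pow (a : F) (n : ℕ) : lMat a ^ n = lMat (n * a) := by
  induction n with
  | zero => simp [lMat_zero]
  | succ n ih => rw [pow_succ, ih, lMat_mul]; congr 1; push_cast; ring

theorem str_one : str (1 : SpecialLinearGroup (Fin 2) F) = 2 := by
  unfold str
  rw [one_val_00, one_val_11]; norm_num

theorem str_uMat (μ : F) : str (uMat μ) = 2 := by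
  unfold str; simp; norm_num

theorem str_lMat (ν : F) : str (lMat ν) = 2 := by
  unfold str; simp; norm_num

theorem str_conj (h g : SpecialLinearGroup (Fin 2) F) : str (h * g * h⁻¹) = str g := by
  unfold str
  have hd := sl2_det' h
  simp only [mul_val_00, mul_val_01, mul_val_10, mul_val_11, inv_val_00, inv_val_01, inv_val_10,
    inv_val_11]
  linear_combination (g.1 0 0 + g.1 1 1) * hd

theorem str_conj' (h g : SpecialLinearGroup (Fin 2) F) : str (h⁻¹ * g * h) = str g := by
  have := str_conj h⁻¹ g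
  rwa [inv_inv] at this

/-- an element commuting with a nontrivial upper unitriangular element is upper triangular with equal
diagonal entries -/
theorem commute_uMat {g : SpecialLinearGroup (Fin 2) F} {μ : F} (hμ : μ ≠ 0)
    (h : g * uMat μ = uMat μ * g) : g.1 1 0 = 0 ∧ g.1 0 0 = g.1 1 1 := by
  have h00 := congrArg (fun x : SpecialLinearGroup (Fin 2) F => x.1 0 0) h
  have h01 := congrArg (fun x : SpecialLinearGroup (Fin 2) F => x.1 0 1) h
  simp only [mul_val_00, mul_val_01, uMat_00, uMat_01, uMat_10, uMat_11] at h00 h01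
  have hc : g.1 1 0 = 0 := by
    have : μ * g.1 1 0 = 0 := by linear_combination -h00
    rcases mul_eq_zero.mp this with h | h
    · exact absurd h hμ
    · exact h
  refine ⟨hc, ?_⟩
  have : μ * (g.1 0 0 - g.1 1 1) = 0 := by linear_combination h01
  rcases mul_eq_zero.mp this with h | h
  · exact absurd h hμ
  · exact sub_eq_zero.mp h

/-- an upper triangular element of trace `2` is upper unitriangular -/
theorem eq_uMat_of_str {g : SpecialLinearGroup (Fin 2) F} (ht : str g = 2) (hc : g.1 1 0 = 0) :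
    g = uMat (g.1 0 1) := by
  have hd := sl2_det' g
  unfold str at ht
  rw [hc, mul_zero, sub_zero] at hd
  have h1 : (g.1 0 0 - 1) ^ 2 = 0 := by linear_combination -hd + g.1 0 0 * ht
  have h2 : g.1 0 0 = 1 := sub_eq_zero.mp (pow_eq_zero_iff (two_ne_zero)|>.mp h1)
  have h3 : g.1 1 1 = 1 := by linear_combination ht - h2
  apply sl2_ext' <;> simp [h2, h3, hc]

theorem conj_uMat_10 (g : SpecialLinearGroup (Fin 2) F) (μ : F) :
    (g * uMat μ * g⁻¹).1 1 0 = -(μ * g.1 1 0 ^ 2) := by
  simp only [mul_val_00, mul_val_01, mul_val_10, mul_val_11, inv_val_00, inv_val_01, inv_val_10,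
    inv_val_11, uMat_00, uMat_01, uMat_10, uMat_11]
  ring

theorem conj_uMat_10' (g : SpecialLinearGroup (Fin 2) F) (μ : F) :
    (g⁻¹ * uMat μ * g).1 1 0 = -(μ * g.1 1 0 ^ 2) := by
  simp only [mul_val_00, mul_val_01, mul_val_10, mul_val_11, inv_val_00, inv_val_01, inv_val_10,
    inv_val_11, uMat_00, uMat_01, uMat_10, uMat_11]
  ring

/-- powers of an element of trace `2` -/
theorem pow_val_of_str {g : SpecialLinearGroup (Fin 2) F} (ht : str g = 2) (k : ℕ) :
    (g ^ k).1 0 0 = 1 + k * (g.1 0 0 - 1) ∧ (g ^ k).1 0 1 = k * g.1 0 1 ∧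
      (g ^ k).1 1 0 = k * g.1 1 0 ∧ (g ^ k).1 1 1 = 1 + k * (g.1 1 1 - 1) := by
  have hd := sl2_det' g
  unfold str at ht
  induction k with
  | zero => simp [one_val_00, one_val_01, one_val_10, one_val_11]
  | succ k ih =>
    obtain ⟨i00, i01, i10, i11⟩ := ih
    rw [pow_succ]
    simp only [mul_val_00, mul_val_01, mul_val_10, mul_val_11, i00, i01, i10, i11]
    push_cast
    refine ⟨?_, ?_, ?_, ?_⟩
    · linear_combination (-(k : F)) * hd + (k : F) * g.1 0 0 * ht
    · linear_combination (k : F) * g.1 0 1 * ht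
    · linear_combination (k : F) * g.1 1 0 * ht
    · linear_combination (-(k : F)) * hd + (k : F) * g.1 1 1 * ht

theorem pow_char_of_str (p : ℕ) [CharP F p] {g : SpecialLinearGroup (Fin 2) F} (ht : str g = 2) :
    g ^ p = 1 := by
  obtain ⟨h00, h01, h10, h11⟩ := pow_val_of_str ht p
  have hp : ((p : ℕ) : F) = 0 := CharP.cast_eq_zero F p
  apply sl2_ext'
  · rw [h00, hp, zero_mul, add_zero, one_val_00]
  · rw [h01, hp, zero_mul, one_val_01]
  · rw [h10, hp, zero_mul, one_val_10]
  · rw [h11, hp, zero_mul, add_zero, one_val_11]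

theorem str_of_pow_char_pow (p : ℕ) [Fact p.Prime] [CharP F p] {g : SpecialLinearGroup (Fin 2) F}
    {j : ℕ} (h : g ^ (p ^ j) = 1) : str g = 2 := by
  have h1 : (g.1 - 1) ^ (p ^ j) = 0 := by
    have hc : Commute g.1 (1 : Matrix (Fin 2) (Fin 2) F) := Commute.one_right _
    rw [sub_pow_char_pow_of_commute (p := p) (n := j) hc, one_pow, sub_eq_zero]
    have := congrArg (fun x : SpecialLinearGroup (Fin 2) F => x.1) h
    simpa using this
  have h2 : IsNilpotent (g.1 - 1) := ⟨p ^ j, h1⟩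
  have h3 := Matrix.isNilpotent_trace_of_isNilpotent h2
  have h4 := h3.eq_zero
  rw [Matrix.trace_fin_two] at h4
  unfold str
  simp only [Matrix.sub_apply, Matrix.one_apply_eq] at h4
  linear_combination h4

/-- `(tr g)² ≠ 4` implies that `g` is not a scalar matrix -/
theorem isNonScalar_of_str {g : SpecialLinearGroup (Fin 2) F} (hg : str g ^ 2 ≠ 4) :
    IsNonScalar g.1 := by
  by_contra hcon
  unfold IsNonScalar at hcon
  simp only [not_or, not_not] at hcon
  obtain ⟨h01, h10, h00⟩ := hcon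
  apply hg
  have hd := sl2_det' g
  unfold str
  linear_combination (g.1 0 0 - g.1 1 1) * h00 + 4 * hd + 4 * g.1 1 0 * h01

/-- the discriminant of `x + y g` -/
theorem disc_lin {g h : SpecialLinearGroup (Fin 2) F} {x y : F} (hh : h.1 = lin g.1 x y) :
    str h ^ 2 - 4 = y ^ 2 * (str g ^ 2 - 4) := by
  have hdg := sl2_det' g
  have hdh := sl2_det' h
  have h00 : h.1 0 0 = x + y * g.1 0 0 := by rw [hh]; simp [lin]
  have h01 : h.1 0 1 = y * g.1 0 1 := by rw [hh]; simp [lin]
  have h10 : h.1 1 0 = y * g.1 1 0 := by rw [hh]; simp [lin]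
  have h11 : h.1 1 1 = x + y * g.1 1 1 := by rw [hh]; simp [lin]
  unfold str
  rw [h00, h01, h10, h11] at hdh
  rw [h00, h11]
  linear_combination 4 * hdh - 4 * y ^ 2 * hdg

theorem commute_iff_of_lin {g h k : SpecialLinearGroup (Fin 2) F} {x y : F} (hy : y ≠ 0)
    (hh : h.1 = lin g.1 x y) : k * g = g * k ↔ k * h = h * k := by
  have e1 : k * g = g * k ↔ k.1 * g.1 = g.1 * k.1 :=
    ⟨fun h => congrArg Subtype.val h, fun h => Subtype.ext h⟩
  have e2 : k * h = h * k ↔ k.1 * h.1 = h.1 * k.1 :=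
    ⟨fun h => congrArg Subtype.val h, fun h => Subtype.ext h⟩
  rw [e1, e2, hh, lin_eq]
  simp only [mul_add, add_mul, Matrix.mul_smul, Matrix.smul_mul, Matrix.mul_one, Matrix.one_mul]
  constructor
  · intro h; rw [h]
  · intro h
    have h3 := add_left_cancel h
    have h4 := congrArg (fun M : Matrix (Fin 2) (Fin 2) F => y⁻¹ • M) h3
    simpa [smul_smul, inv_mul_cancel₀ hy] using h4

/-- an element of trace `±2` commuting with an element `g` with `(tr g)² ≠ 4` is scalar -/
theorem scalar_of_commute {g h : SpecialLinearGroup (Fin 2) F} (hg : str g ^ 2 ≠ 4)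
    (hh : str h ^ 2 = 4) (hc : h * g = g * h) :
    h.1 0 1 = 0 ∧ h.1 1 0 = 0 ∧ h.1 0 0 = h.1 1 1 := by
  have hc' : h.1 * g.1 = g.1 * h.1 := by
    have := congrArg (fun x : SpecialLinearGroup (Fin 2) F => x.1) hc
    simpa using this
  obtain ⟨x, y, hxy⟩ := commutant g.1 h.1 (isNonScalar_of_str hg) hc'
  have hd := disc_lin hxy
  rw [hh, sub_self] at hd
  have hy : y = 0 := by
    rcases mul_eq_zero.mp hd.symm with h1 | h1
    · exact pow_eq_zero_iff (two_ne_zero) |>.mp h1
    · exact absurd (sub_eq_zero.mp h1) hg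
  subst hy
  rw [hxy]
  simp [lin]

/-- a conjugate of `g` commuting with `g` is `g` or `g⁻¹` when `(tr g)² ≠ 4` -/
theorem conj_eq_or_inv (h2 : (2 : F) ≠ 0) {g n : SpecialLinearGroup (Fin 2) F}
    (hg : str g ^ 2 ≠ 4) (hc : (n * g * n⁻¹) * g = g * (n * g * n⁻¹)) :
    n * g * n⁻¹ = g ∨ n * g * n⁻¹ = g⁻¹ := by
  have hc' : (n * g * n⁻¹).1 * g.1 = g.1 * (n * g * n⁻¹).1 := by
    have := congrArg (fun x : SpecialLinearGroup (Fin 2) F => x.1) hc
    simpa using this
  obtain ⟨x, y, hxy⟩ := commutant g.1 (n * g * n⁻¹).1 (isNonScalar_of_str hg) hc'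
  have ht := str_conj n g
  have hd := sl2_det' (n * g * n⁻¹)
  have hdg := sl2_det' g
  have h00 : (n * g * n⁻¹).1 0 0 = x + y * g.1 0 0 := by rw [hxy]; simp [lin]
  have h01 : (n * g * n⁻¹).1 0 1 = y * g.1 0 1 := by rw [hxy]; simp [lin]
  have h10 : (n * g * n⁻¹).1 1 0 = y * g.1 1 0 := by rw [hxy]; simp [lin]
  have h11 : (n * g * n⁻¹).1 1 1 = x + y * g.1 1 1 := by rw [hxy]; simp [lin]
  rw [h00, h01, h10, h11] at hd
  unfold str at ht hg
  rw [h00, h11] at ht
  have hkey : (1 - y ^ 2) * ((g.1 0 0 + g.1 1 1) ^ 2 - 4) = 0 := by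
    linear_combination 4 * hd - 4 * y ^ 2 * hdg -
      (2 * x + (g.1 0 0 + g.1 1 1) + (g.1 0 0 + g.1 1 1) * y) * ht
  have hy2 : y ^ 2 = 1 := by
    rcases mul_eq_zero.mp hkey with h1 | h1
    · linear_combination -h1
    · exact absurd (sub_eq_zero.mp h1) hg
  have hy : (y - 1) * (y + 1) = 0 := by linear_combination hy2
  rcases mul_eq_zero.mp hy with hy1 | hy1
  · left
    have hy' : y = 1 := by linear_combination hy1
    subst hy'
    have hx : x = 0 := by
      have : 2 * x = 0 := by linear_combination ht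
      rcases mul_eq_zero.mp this with h | h
      · exact absurd h h2
      · exact h
    subst hx
    apply sl2_ext'
    · rw [h00]; ring
    · rw [h01]; ring
    · rw [h10]; ring
    · rw [h11]; ring
  · right
    have hy' : y = -1 := by linear_combination hy1
    subst hy'
    have hx : x = g.1 0 0 + g.1 1 1 := by
      have : 2 * (x - (g.1 0 0 + g.1 1 1)) = 0 := by linear_combination ht
      rcases mul_eq_zero.mp this with h | h
      · exact absurd h h2
      · exact sub_eq_zero.mp h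
    apply sl2_ext'
    · rw [h00, inv_val_00, hx]; ring
    · rw [h01, inv_val_01]; ring
    · rw [h10, inv_val_10]; ring
    · rw [h11, inv_val_11, hx]; ring

/-- `-1` in `SL₂` -/
def negOne (F : Type*) [Field F] : SpecialLinearGroup (Fin 2) F :=
  ⟨!![-1, 0; 0, -1], by simp [det_fin_two_of]⟩

@[simp] theorem negOne_val : (negOne F).1 = !![-1, 0; 0, -1] := rfl

theorem negOne_mul_self : negOne F * negOne F = 1 := by
  apply sl2_ext' <;> simp [mul_val_00, mul_val_01, mul_val_10, mul_val_11, one_val_00, one_val_01,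
    one_val_10, one_val_11]

theorem negOne_comm (g : SpecialLinearGroup (Fin 2) F) : negOne F * g = g * negOne F := by
  apply sl2_ext' <;> simp [mul_val_00, mul_val_01, mul_val_10, mul_val_11]

theorem negOne_inv : (negOne F)⁻¹ = negOne F :=
  inv_eq_of_mul_eq_one_right negOne_mul_self

theorem str_negOne_mul (g : SpecialLinearGroup (Fin 2) F) : str (negOne F * g) = - str g := by
  unfold str
  simp [mul_val_00, mul_val_11]
  ring

theorem negOne_ne_one (h2 : (2 : F) ≠ 0) : negOne F ≠ 1 := by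
  intro h
  have := congrArg (fun x : SpecialLinearGroup (Fin 2) F => x.1 0 0) h
  simp only [negOne_val, one_val_00] at this
  apply h2
  have h3 : (-1 : F) = 1 := by simpa using this
  linear_combination -h3

theorem eq_one_or_negOne {h : SpecialLinearGroup (Fin 2) F} (h01 : h.1 0 1 = 0) (h10 : h.1 1 0 = 0)
    (h00 : h.1 0 0 = h.1 1 1) : h = 1 ∨ h = negOne F := by
  have hd := sl2_det' h
  rw [h01, zero_mul, sub_zero, ← h00] at hd
  have h3 : (h.1 0 0 - 1) * (h.1 0 0 + 1) = 0 := by linear_combination hd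
  rcases mul_eq_zero.mp h3 with h4 | h4
  · left
    have h5 : h.1 0 0 = 1 := by linear_combination h4
    apply sl2_ext'
    · rw [h5, one_val_00]
    · rw [h01, one_val_01]
    · rw [h10, one_val_10]
    · rw [← h00, h5, one_val_11]
  · right
    have h5 : h.1 0 0 = -1 := by linear_combination h4
    apply sl2_ext'
    · rw [h5]; simp
    · rw [h01]; simp
    · rw [h10]; simp
    · rw [← h00, h5]; simp

variable (F) in
/-- the upper triangular subgroup of `SL₂` -/
def borel : Subgroup (SpecialLinearGroup (Fin 2) F) where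
  carrier := {g | g.1 1 0 = 0}
  mul_mem' := by
    intro a b ha hb
    rw [Set.mem_ofPred_eq] at ha hb ⊢
    rw [mul_val_10, ha, hb]; simp
  one_mem' := one_val_10
  inv_mem' := by
    intro a ha
    rw [Set.mem_ofPred_eq] at ha ⊢
    rw [inv_val_10, ha, neg_zero]

theorem mem_borel {g : SpecialLinearGroup (Fin 2) F} : g ∈ borel F ↔ g.1 1 0 = 0 := Iff.rfl

variable (F) in
/-- the upper unitriangular subgroup of `SL₂` -/
def unip : Subgroup (SpecialLinearGroup (Fin 2) F) where
  carrier := Set.range (uMat : F → SpecialLinearGroup (Fin 2) F)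
  mul_mem' := by
    rintro _ _ ⟨a, rfl⟩ ⟨b, rfl⟩
    exact ⟨a + b, (uMat_mul a b).symm⟩
  one_mem' := ⟨0, uMat_zero⟩
  inv_mem' := by
    rintro _ ⟨a, rfl⟩
    exact ⟨-a, (uMat_inv a).symm⟩

theorem mem_unip {g : SpecialLinearGroup (Fin 2) F} : g ∈ unip F ↔ ∃ μ : F, uMat μ = g := Iff.rfl

theorem uMat_mem_unip (μ : F) : uMat μ ∈ unip F := ⟨μ, rfl⟩

theorem mem_unip_iff {g : SpecialLinearGroup (Fin 2) F} :
    g ∈ unip F ↔ g.1 1 0 = 0 ∧ str g = 2 := by
  constructor
  · rintro ⟨μ, rfl⟩
    exact ⟨uMat_10 μ, str_uMat μ⟩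
  · rintro ⟨h1, h2⟩
    exact ⟨g.1 0 1, (eq_uMat_of_str h2 h1).symm⟩

theorem unip_le_borel : unip F ≤ borel F := fun _ hg => (mem_unip_iff.mp hg).1

theorem borel_00_ne_zero {g : SpecialLinearGroup (Fin 2) F} (hg : g ∈ borel F) : g.1 0 0 ≠ 0 := by
  intro h
  have hd := sl2_det' g
  rw [h, mem_borel.mp hg] at hd
  simp at hd

theorem borel_00_mul_11 {g : SpecialLinearGroup (Fin 2) F} (hg : g ∈ borel F) :
    g.1 0 0 * g.1 1 1 = 1 := by
  have hd := sl2_det' g
  rw [mem_borel.mp hg, mul_zero, sub_zero] at hd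
  exact hd

variable (F) in
/-- the diagonal entry, as a homomorphism on the upper triangular subgroup -/
def borelDiag : ↥(borel F) →* Fˣ where
  toFun g := Units.mk0 (g.1.1 0 0) (borel_00_ne_zero g.2)
  map_one' := by
    apply Units.ext
    simp [one_val_00]
  map_mul' := by
    intro a b
    apply Units.ext
    simp only [Units.val_mk0, Units.val_mul, Subgroup.coe_mul]
    rw [mul_val_00, mem_borel.mp b.2, mul_zero, add_zero]

theorem borelDiag_val (g : ↥(borel F)) : ((borelDiag F g : Fˣ) : F) = g.1.1 0 0 := rfl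

theorem borelDiag_eq_one_iff (g : ↥(borel F)) : borelDiag F g = 1 ↔ g.1 ∈ unip F := by
  rw [mem_unip_iff]
  constructor
  · intro h
    have h1 : g.1.1 0 0 = 1 := by
      have := congrArg (fun u : Fˣ => (u : F)) h
      simpa [borelDiag_val] using this
    have h2 := borel_00_mul_11 g.2
    rw [h1, one_mul] at h2
    refine ⟨mem_borel.mp g.2, ?_⟩
    unfold str
    rw [h1, h2]; norm_num
  · rintro ⟨_, h2⟩
    have h3 := borel_00_mul_11 g.2
    unfold str at h2
    have h4 : (g.1.1 0 0 - 1) ^ 2 = 0 := by linear_combination -h3 + g.1.1 0 0 * h2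
    have h5 : g.1.1 0 0 = 1 := sub_eq_zero.mp (pow_eq_zero_iff (two_ne_zero) |>.mp h4)
    apply Units.ext
    rw [borelDiag_val, h5]; rfl

theorem conj_uMat_of_borel {b : SpecialLinearGroup (Fin 2) F} (hb : b ∈ borel F) (μ : F) :
    b * uMat μ * b⁻¹ = uMat (b.1 0 0 ^ 2 * μ) := by
  have h1 := borel_00_mul_11 hb
  have h0 := mem_borel.mp hb
  apply sl2_ext'
  · simp only [mul_val_00, mul_val_01, mul_val_10, mul_val_11, inv_val_00, inv_val_01, inv_val_10,
      inv_val_11, uMat_00, uMat_01, uMat_10, uMat_11, h0]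
    linear_combination h1
  · simp only [mul_val_00, mul_val_01, mul_val_10, mul_val_11, inv_val_00, inv_val_01, inv_val_10,
      inv_val_11, uMat_00, uMat_01, uMat_10, uMat_11, h0]
    ring
  · simp only [mul_val_00, mul_val_01, mul_val_10, mul_val_11, inv_val_00, inv_val_01, inv_val_10,
      inv_val_11, uMat_00, uMat_01, uMat_10, uMat_11, h0]
    ring
  · simp only [mul_val_00, mul_val_01, mul_val_10, mul_val_11, inv_val_00, inv_val_01, inv_val_10,
      inv_val_11, uMat_00, uMat_01, uMat_10, uMat_11, h0]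
    linear_combination h1

variable (F) in
/-- the subgroup `{1, -1}` of `SL₂` -/
def pmOne : Subgroup (SpecialLinearGroup (Fin 2) F) where
  carrier := {g | g = 1 ∨ g = negOne F}
  mul_mem' := by
    rintro a b (rfl | rfl) (rfl | rfl)
    · left; simp
    · right; simp
    · right; simp
    · left; exact negOne_mul_self
  one_mem' := Or.inl rfl
  inv_mem' := by
    rintro a (rfl | rfl)
    · left; simp
    · right; exact negOne_inv

theorem mem_pmOne {g : SpecialLinearGroup (Fin 2) F} : g ∈ pmOne F ↔ g = 1 ∨ g = negOne F := Iff.rfl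

instance pmOne_normal : (pmOne F).Normal := by
  constructor
  rintro n (rfl | rfl) g
  · left; simp
  · right
    rw [← negOne_comm, mul_assoc, mul_inv_cancel, mul_one]

theorem str_sq_of_mem_pmOne {g : SpecialLinearGroup (Fin 2) F} (hg : g ∈ pmOne F) :
    str g ^ 2 = 4 := by
  rcases hg with rfl | rfl
  · rw [str_one]; norm_num
  · unfold str; simp; norm_num

theorem str_negOne : str (negOne F) = -2 := by
  unfold str; simp; norm_num

end

end Cfsg.Agent.Lib.helper14
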