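import Mathlib

/-!
# Generic counting lemmas for the class equation

* `card_dvd_of_free'` : a free action of a finite group: the order divides the size.
* `card_dvd_index_sub_one` : `|P| ∣ |Γ : B| - 1` when `P ≤ B` and no nontrivial element of `P` has a
  conjugate in `B` by an element outside `B`.
* `card_conjClass` : the number of the elements outside `Z` that are conjugate into `A`, when the
  conjugates of `A` intersect pairwise in `Z` ("TI modulo `Z`").
-/

set_option autoImplicit false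

namespace Cfsg.Agent.Lib.helper14

open Subgroup

section

variable {Γ : Type*} [Group Γ]

theorem card_dvd_of_free' {R X : Type*} [Group R] [MulAction R X]
    (h : ∀ x : X, MulAction.stabilizer R x = ⊥) : Nat.card R ∣ Nat.card X := by
  rw [Nat.card_congr (MulAction.selfEquivOrbitsQuotientProd h), Nat.card_prod]
  exact dvd_mul_left _ _

/-- `|P|` divides `|Γ : B| - 1` when `P ≤ B` and `P ∩ gBg⁻¹ = 1` for `g ∉ B` -/
theorem card_dvd_index_sub_one [Finite Γ] (P B : Subgroup Γ) (hPB : P ≤ B)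
    (hfree : ∀ g : Γ, g ∉ B → ∀ u ∈ P, g⁻¹ * u * g ∈ B → u = 1) :
    Nat.card P ∣ B.index - 1 := by
  let S : SubMulAction ↥P (Γ ⧸ B) :=
    { carrier := {c | c ≠ ((1 : Γ) : Γ ⧸ B)}
      smul_mem' := by
        rintro ⟨u, hu⟩ c hc
        induction c using QuotientGroup.induction_on with
        | H g =>
          intro h
          apply hc
          have h1 : ((u * g : Γ) : Γ ⧸ B) = ((1 : Γ) : Γ ⧸ B) := h
          rw [QuotientGroup.eq] at h1 ⊢
          have h2 : (u * g)⁻¹ * 1 ∈ B := h1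
          have h3 : g⁻¹ * 1 = (u * g)⁻¹ * 1 * u := by group
          rw [h3]
          exact B.mul_mem h2 (hPB hu) }
  have hfree' : ∀ x : S, MulAction.stabilizer ↥P x = ⊥ := by
    rintro ⟨c, hc⟩
    rw [eq_bot_iff]
    rintro ⟨u, hu⟩ hstab
    rw [Subgroup.mem_bot]
    apply Subtype.ext
    show u = 1
    induction c using QuotientGroup.induction_on with
    | H g =>
      have hgB : g ∉ B := by
        intro hg
        apply hc
        show ((g : Γ) : Γ ⧸ B) = ((1 : Γ) : Γ ⧸ B)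
        rw [QuotientGroup.eq]
        simpa using B.inv_mem hg
      have h1 : (⟨u, hu⟩ : ↥P) • (⟨(g : Γ ⧸ B), hc⟩ : S) = ⟨(g : Γ ⧸ B), hc⟩ := hstab
      have h2 : ((u * g : Γ) : Γ ⧸ B) = ((g : Γ) : Γ ⧸ B) := congrArg Subtype.val h1
      rw [QuotientGroup.eq] at h2
      apply hfree g hgB u hu
      have h3 : g⁻¹ * u * g = ((u * g)⁻¹ * g)⁻¹ := by group
      rw [h3]
      exact B.inv_mem h2
  have hdvd := card_dvd_of_free' hfree'
  have hcard : Nat.card S = B.index - 1 := by
    classical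
    have : Nat.card S = Nat.card {q : Γ ⧸ B // q ≠ ((1 : Γ) : Γ ⧸ B)} := rfl
    rw [this, Subgroup.index]
    have := Fintype.ofFinite (Γ ⧸ B)
    rw [Nat.card_eq_fintype_card, Nat.card_eq_fintype_card]
    simp [Fintype.card_subtype_compl]
  rwa [hcard] at hdvd

/-- the set of the elements outside `Z` that are conjugate into `A` -/
def conjClass (A Z : Subgroup Γ) : Set Γ := {h | h ∉ Z ∧ ∃ g : Γ, g⁻¹ * h * g ∈ A}

theorem card_conjClass [Finite Γ] (A Z : Subgroup Γ) [hZn : Z.Normal] (hZA : Z ≤ A)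
    (hTI : ∀ g : Γ, ∀ x ∈ A, x ∉ Z → g * x * g⁻¹ ∈ A → g ∈ Subgroup.normalizer (A : Set Γ)) :
    Nat.card (conjClass A Z) =
      (Subgroup.normalizer (A : Set Γ)).index * (Nat.card A - Nat.card Z) := by
  classical
  have hmem : ∀ (c : Γ ⧸ Subgroup.normalizer (A : Set Γ)) (a : {a : ↥A // (a : Γ) ∉ Z}),
      c.out * (a.1 : Γ) * c.out⁻¹ ∈ conjClass A Z := by
    intro c a
    refine ⟨?_, c.out, ?_⟩
    · intro h
      apply a.2
      have := hZn.conj_mem _ h c.out⁻¹
      simpa [mul_assoc] using this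
    · have : c.out⁻¹ * (c.out * (a.1 : Γ) * c.out⁻¹) * c.out = (a.1 : Γ) := by group
      rw [this]; exact a.1.2
  let f : (Γ ⧸ Subgroup.normalizer (A : Set Γ)) × {a : ↥A // (a : Γ) ∉ Z} → conjClass A Z :=
    fun x => ⟨x.1.out * (x.2.1 : Γ) * x.1.out⁻¹, hmem x.1 x.2⟩
  have hbij : Function.Bijective f := by
    constructor
    · rintro ⟨c, a⟩ ⟨c', a'⟩ h
      have h1 : c.out * (a.1 : Γ) * c.out⁻¹ = c'.out * (a'.1 : Γ) * c'.out⁻¹ :=
        congrArg Subtype.val h
      have h2 : (c.out⁻¹ * c'.out) * (a'.1 : Γ) * (c.out⁻¹ * c'.out)⁻¹ = (a.1 : Γ) := by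
        have e : (c.out⁻¹ * c'.out) * (a'.1 : Γ) * (c.out⁻¹ * c'.out)⁻¹ =
            c.out⁻¹ * (c'.out * (a'.1 : Γ) * c'.out⁻¹) * c.out := by group
        rw [e, ← h1]; group
      have h3 : c.out⁻¹ * c'.out ∈ Subgroup.normalizer (A : Set Γ) :=
        hTI _ _ a'.1.2 a'.2 (by rw [h2]; exact a.1.2)
      have hc : c = c' := by
        rw [← QuotientGroup.out_eq' c, ← QuotientGroup.out_eq' c']
        exact QuotientGroup.eq.mpr h3
      subst hc
      have h4 : (a.1 : Γ) = (a'.1 : Γ) := mul_left_cancel (mul_right_cancel h1)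
      have h5 : a = a' := Subtype.ext (Subtype.ext h4)
      rw [h5]
    · rintro ⟨h, hhZ, g, hg⟩
      obtain ⟨n, hn⟩ := QuotientGroup.mk_out_eq_mul (Subgroup.normalizer (A : Set Γ)) g
      have hmemA : (QuotientGroup.mk g : Γ ⧸ Subgroup.normalizer (A : Set Γ)).out⁻¹ * h *
          (QuotientGroup.mk g : Γ ⧸ Subgroup.normalizer (A : Set Γ)).out ∈ A := by
        rw [hn]
        have e : (g * (n : Γ))⁻¹ * h * (g * (n : Γ)) =
            (n : Γ)⁻¹ * (g⁻¹ * h * g) * ((n : Γ)⁻¹)⁻¹ := by group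
        rw [e]
        exact (Subgroup.mem_normalizer_iff.mp (Subgroup.inv_mem _ n.2) _).mp hg
      have hnZ : (QuotientGroup.mk g : Γ ⧸ Subgroup.normalizer (A : Set Γ)).out⁻¹ * h *
          (QuotientGroup.mk g : Γ ⧸ Subgroup.normalizer (A : Set Γ)).out ∉ Z := by
        intro hz
        apply hhZ
        have := hZn.conj_mem _ hz (QuotientGroup.mk g : Γ ⧸ Subgroup.normalizer (A : Set Γ)).out
        simpa [mul_assoc] using this
      refine ⟨(QuotientGroup.mk g, ⟨⟨_, hmemA⟩, hnZ⟩), ?_⟩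
      apply Subtype.ext
      show (QuotientGroup.mk g : Γ ⧸ Subgroup.normalizer (A : Set Γ)).out *
        ((QuotientGroup.mk g : Γ ⧸ Subgroup.normalizer (A : Set Γ)).out⁻¹ * h *
          (QuotientGroup.mk g : Γ ⧸ Subgroup.normalizer (A : Set Γ)).out) *
        (QuotientGroup.mk g : Γ ⧸ Subgroup.normalizer (A : Set Γ)).out⁻¹ = h
      group
  rw [← Nat.card_congr (Equiv.ofBijective f hbij), Nat.card_prod]
  congr 1
  have e1 : Nat.card {a : ↥A // (a : Γ) ∈ Z} = Nat.card Z :=
    Nat.card_congr (Subgroup.subgroupOfEquivOfLe hZA).toEquiv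
  have := Fintype.ofFinite ↥A
  rw [← e1, Nat.card_eq_fintype_card, Nat.card_eq_fintype_card, Nat.card_eq_fintype_card]
  exact Fintype.card_subtype_compl _

theorem conjClass_conj {A Z : Subgroup Γ} [hZn : Z.Normal] {h : Γ} (hh : h ∈ conjClass A Z)
    (y : Γ) : y * h * y⁻¹ ∈ conjClass A Z := by
  obtain ⟨h1, g, hg⟩ := hh
  refine ⟨?_, y * g, ?_⟩
  · intro hz
    apply h1
    have := hZn.conj_mem _ hz y⁻¹
    simpa [mul_assoc] using this
  · have e : (y * g)⁻¹ * (y * h * y⁻¹) * (y * g) = g⁻¹ * h * g := by group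
    rw [e]; exact hg

end

end Cfsg.Agent.Lib.helper14
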