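import Mathlib
import Cfsg.Prelude.Def_Transfer
import Cfsg.Prelude.Def_Local
import Cfsg.Prelude.Def_PLocal
import Cfsg.Agent.Lib.helper13.BestOff
import Cfsg.Agent.Lib.helper13.NilAct
import Cfsg.Agent.Lib.helper13.Offender
import Cfsg.Agent.Lib.helper13.SL2Section
import Cfsg.Agent.Lib.helper53.Comm
import Cfsg.Agent.Lib.helper62.ElemAbGL
import Cfsg.Agent.Lib.helper88.GL2Gen

/-!
helper14: failure-of-factorization structure theory (KS 9.3), part 1.

Setting `FFSet p V H Q`: `V` elementary abelian, `H ≤ N(V)` faithful on `V`, `Q ≤ H` a normal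
`p'`-subgroup of `H` with `C_H(Q) ≤ Q`.  A *root subgroup* is `A ≤ H` of order `p` with
`[V, A]` of order `p`.  Main result here: `pair_sl2` — for `x ∈ Q` not centralizing `A`,
`A ⊔ A^x ≅ SL₂(p)` acts faithfully on the plane `[V, A ⊔ A^x]`, and `p ∈ {2, 3}`.
-/

set_option autoImplicit false
open Cfsg

namespace Cfsg.Agent.Lib.helper14

open scoped commutatorElement

section FF

variable {G : Type*} [Group G]

/-- conjugate subgroup `x A x⁻¹` -/
abbrev cj (x : G) (A : Subgroup G) : Subgroup G := A.map (MulAut.conj x).toMonoidHom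

theorem mem_cj {x : G} {A : Subgroup G} {g : G} : g ∈ cj x A ↔ ∃ a ∈ A, x * a * x⁻¹ = g := by
  simp [cj, Subgroup.mem_map]

theorem conj_mem_cj {x : G} {A : Subgroup G} {a : G} (ha : a ∈ A) : x * a * x⁻¹ ∈ cj x A :=
  mem_cj.mpr ⟨a, ha, rfl⟩

theorem cj_eq_of_mem_normalizer {x : G} {A : Subgroup G}
    (hx : x ∈ Subgroup.normalizer (A : Set G)) : cj x A = A := by
  ext g
  rw [mem_cj]
  constructor
  · rintro ⟨a, ha, rfl⟩
    exact (Subgroup.mem_normalizer_iff.mp hx a).mp ha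
  · intro hg
    refine ⟨x⁻¹ * g * x, ?_, by group⟩
    have h1 := (Subgroup.mem_normalizer_iff.mp (Subgroup.inv_mem _ hx) g).mp hg
    simpa using h1

theorem cj_mul (x y : G) (A : Subgroup G) : cj x (cj y A) = cj (x * y) A := by
  ext g
  simp only [mem_cj]
  constructor
  · rintro ⟨b, ⟨a, ha, rfl⟩, rfl⟩
    exact ⟨a, ha, by group⟩
  · rintro ⟨a, ha, rfl⟩
    exact ⟨y * a * y⁻¹, ⟨a, ha, rfl⟩, by group⟩

theorem cj_one (A : Subgroup G) : cj 1 A = A := by
  ext g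
  simp

theorem cj_mono {x : G} {A B : Subgroup G} (h : A ≤ B) : cj x A ≤ cj x B :=
  Subgroup.map_mono h

theorem cj_le_of_mem {x : G} {A H : Subgroup G} (hA : A ≤ H) (hx : x ∈ H) : cj x A ≤ H := by
  intro g hg
  obtain ⟨a, ha, rfl⟩ := mem_cj.mp hg
  exact H.mul_mem (H.mul_mem hx (hA ha)) (H.inv_mem hx)

theorem card_cj (x : G) (A : Subgroup G) : Nat.card (cj x A) = Nat.card A :=
  Subgroup.card_map_of_injective (MulAut.conj x).injective

theorem cj_commutator (x : G) (A B : Subgroup G) : cj x ⁅A, B⁆ = ⁅cj x A, cj x B⁆ :=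
  Subgroup.map_commutator A B _

theorem cj_sup (x : G) (A B : Subgroup G) : cj x (A ⊔ B) = cj x A ⊔ cj x B :=
  Subgroup.map_sup A B _

theorem cj_inj {x : G} {A B : Subgroup G} (h : cj x A = cj x B) : A = B :=
  Subgroup.map_injective (MulAut.conj x).injective h

theorem cj_centralizer (x : G) (A : Subgroup G) :
    cj x (Subgroup.centralizer (A : Set G)) = Subgroup.centralizer ((cj x A : Subgroup G) : Set G) := by
  ext g
  rw [mem_cj, Subgroup.mem_centralizer_iff]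
  constructor
  · rintro ⟨c, hc, rfl⟩ h hh
    obtain ⟨a, ha, rfl⟩ := mem_cj.mp hh
    have := (Subgroup.mem_centralizer_iff.mp hc) a ha
    calc x * a * x⁻¹ * (x * c * x⁻¹) = x * (a * c) * x⁻¹ := by group
      _ = x * (c * a) * x⁻¹ := by rw [this]
      _ = x * c * x⁻¹ * (x * a * x⁻¹) := by group
  · intro hg
    refine ⟨x⁻¹ * g * x, ?_, by group⟩
    rw [Subgroup.mem_centralizer_iff]
    intro a ha
    have := hg (x * a * x⁻¹) (conj_mem_cj ha)
    calc a * (x⁻¹ * g * x) = x⁻¹ * (x * a * x⁻¹ * g) * x := by group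
      _ = x⁻¹ * (g * (x * a * x⁻¹)) * x := by rw [this]
      _ = x⁻¹ * g * x * a := by group

theorem cj_inf (x : G) (A B : Subgroup G) : cj x (A ⊓ B) = cj x A ⊓ cj x B :=
  Subgroup.map_inf A B _ (MulAut.conj x).injective

/-- Elements stabilizing the chain `V ≥ U ≥ 1` have `p`-th power centralizing `V`. -/
theorem pow_mem_centralizer_of_stab {p : ℕ} {V U : Subgroup G} (hVp : ∀ v ∈ V, v ^ p = 1)
    (hUV : U ≤ V) {x : G} (hxU : x ∈ Subgroup.centralizer (U : Set G))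
    (hxV : ∀ v ∈ V, x * v * x⁻¹ * v⁻¹ ∈ U) : x ^ p ∈ Subgroup.centralizer (V : Set G) := by
  rw [Subgroup.mem_centralizer_iff]
  intro v hv
  have hu := hxV v hv
  have hxu : (x * v * x⁻¹ * v⁻¹) * x = x * (x * v * x⁻¹ * v⁻¹) :=
    (Subgroup.mem_centralizer_iff.mp hxU) _ hu
  have key : ∀ n : ℕ, x ^ n * v = (x * v * x⁻¹ * v⁻¹) ^ n * v * x ^ n := by
    intro n
    induction n with
    | zero => simp
    | succ n ih =>
      have hc : Commute (x * v * x⁻¹ * v⁻¹) x := hxu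
      calc x ^ (n + 1) * v = x * (x ^ n * v) := by rw [pow_succ']; group
        _ = x * ((x * v * x⁻¹ * v⁻¹) ^ n * v * x ^ n) := by rw [ih]
        _ = (x * (x * v * x⁻¹ * v⁻¹) ^ n) * v * x ^ n := by group
        _ = ((x * v * x⁻¹ * v⁻¹) ^ n * x) * v * x ^ n := by rw [(hc.pow_left n).eq]
        _ = (x * v * x⁻¹ * v⁻¹) ^ n * (x * v * x⁻¹ * v⁻¹) * v * x * x ^ n := by group
        _ = (x * v * x⁻¹ * v⁻¹) ^ (n + 1) * v * x ^ (n + 1) := by
          rw [pow_succ, pow_succ']; group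
  have h1 := key p
  rw [hVp _ (hUV hu), one_mul] at h1
  exact h1.symm

theorem mem_normalizer_centralizer {W : Subgroup G} {g : G}
    (hg : g ∈ Subgroup.normalizer (W : Set G)) :
    g ∈ Subgroup.normalizer ((Subgroup.centralizer (W : Set G) : Subgroup G) : Set G) := by
  have key : ∀ g : G, g ∈ Subgroup.normalizer (W : Set G) → ∀ c ∈ Subgroup.centralizer (W : Set G),
      g * c * g⁻¹ ∈ Subgroup.centralizer (W : Set G) := by
    intro g hg c hc
    rw [Subgroup.mem_centralizer_iff]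
    intro w hw
    have h1 : g⁻¹ * w * g ∈ W := by
      have := (Subgroup.mem_normalizer_iff.mp (Subgroup.inv_mem _ hg) w).mp hw
      simpa using this
    have h2 := (Subgroup.mem_centralizer_iff.mp hc) _ h1
    calc w * (g * c * g⁻¹) = g * ((g⁻¹ * w * g) * c) * g⁻¹ := by group
      _ = g * (c * (g⁻¹ * w * g)) * g⁻¹ := by rw [h2]
      _ = g * c * g⁻¹ * w := by group
  rw [Subgroup.mem_normalizer_iff]
  intro c
  constructor
  · exact key g hg c
  · intro h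
    have := key g⁻¹ (Subgroup.inv_mem _ hg) _ h
    simpa [mul_assoc] using this

theorem mem_normalizer_inf {A B : Subgroup G} {g : G}
    (hA : g ∈ Subgroup.normalizer (A : Set G)) (hB : g ∈ Subgroup.normalizer (B : Set G)) :
    g ∈ Subgroup.normalizer ((A ⊓ B : Subgroup G) : Set G) := by
  rw [Subgroup.mem_normalizer_iff]
  intro c
  rw [Subgroup.mem_inf, Subgroup.mem_inf, ← Subgroup.mem_normalizer_iff.mp hA c,
    ← Subgroup.mem_normalizer_iff.mp hB c]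

/-- commutators of `Q ⊔ A` lie in `Q` when `A` is abelian and normalizes `Q` -/
theorem commutator_mem_of_mem_sup {Q A : Subgroup G}
    (hAQ : A ≤ Subgroup.normalizer (Q : Set G)) (hAc : ∀ a ∈ A, ∀ b ∈ A, a * b = b * a)
    {g₁ g₂ : G} (h₁ : g₁ ∈ Q ⊔ A) (h₂ : g₂ ∈ Q ⊔ A) : ⁅g₁, g₂⁆ ∈ Q := by
  obtain ⟨q₁, hq₁, a₁, ha₁, rfl⟩ := (Cfsg.Agent.Lib.helper53.mem_sup_of_le_normalizer hAQ).mp h₁
  obtain ⟨q₂, hq₂, a₂, ha₂, rfl⟩ := (Cfsg.Agent.Lib.helper53.mem_sup_of_le_normalizer hAQ).mp h₂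
  have e1 : a₁ * q₂ * a₁⁻¹ ∈ Q := (Subgroup.mem_normalizer_iff.mp (hAQ ha₁) q₂).mp hq₂
  have e2 : a₂ * q₁⁻¹ * a₂⁻¹ ∈ Q :=
    (Subgroup.mem_normalizer_iff.mp (hAQ ha₂) q₁⁻¹).mp (Q.inv_mem hq₁)
  have hc := hAc a₁ ha₁ a₂ ha₂
  have e3 : ⁅q₁ * a₁, q₂ * a₂⁆ = q₁ * (a₁ * q₂ * a₁⁻¹) * (a₂ * q₁⁻¹ * a₂⁻¹) * q₂⁻¹ := by
    rw [commutatorElement_def]
    have : a₁ * a₂ * a₁⁻¹ * a₂⁻¹ = 1 := by rw [hc]; group
    calc q₁ * a₁ * (q₂ * a₂) * (q₁ * a₁)⁻¹ * (q₂ * a₂)⁻¹
        = q₁ * (a₁ * q₂ * a₁⁻¹) * (a₁ * a₂ * a₁⁻¹ * a₂⁻¹) * (a₂ * q₁⁻¹ * a₂⁻¹) * q₂⁻¹ := by group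
      _ = q₁ * (a₁ * q₂ * a₁⁻¹) * (a₂ * q₁⁻¹ * a₂⁻¹) * q₂⁻¹ := by rw [this, mul_one]
  rw [e3]
  exact Q.mul_mem (Q.mul_mem (Q.mul_mem hq₁ e1) e2) (Q.inv_mem hq₂)

/-- The failure-of-factorization setting. -/
structure FFSet (p : ℕ) (V H Q : Subgroup G) : Prop where
  hV : Cfsg.IsElementaryAbelian p V
  hHV : H ≤ Subgroup.normalizer (V : Set G)
  hf : H ⊓ Subgroup.centralizer (V : Set G) = ⊥
  hQH : Q ≤ H
  hHQ : H ≤ Subgroup.normalizer (Q : Set G)
  hQp : (Nat.card Q).Coprime p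
  hcent : ∀ h ∈ H, (∀ k ∈ Q, h * k = k * h) → h ∈ Q

/-- Root subgroups: order `p` with commutator on `V` of order `p`. -/
structure IsRoot (p : ℕ) (V H A : Subgroup G) : Prop where
  le : A ≤ H
  card : Nat.card A = p
  cardc : Nat.card ↥(⁅V, A⁆) = p

namespace FFSet

variable {p : ℕ} {V H Q : Subgroup G}

theorem Vcomm (S : FFSet p V H Q) : ∀ u ∈ V, ∀ v ∈ V, u * v = v * u := by
  intro u hu v hv
  have : IsMulCommutative V := S.hV.1
  exact congrArg Subtype.val (mul_comm' (⟨u, hu⟩ : V) ⟨v, hv⟩)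

theorem Vpow (S : FFSet p V H Q) : ∀ v ∈ V, v ^ p = 1 := S.hV.2

theorem eq_one (S : FFSet p V H Q) {h : G} (hH : h ∈ H)
    (hc : h ∈ Subgroup.centralizer (V : Set G)) : h = 1 := by
  have : h ∈ H ⊓ Subgroup.centralizer (V : Set G) := ⟨hH, hc⟩
  rwa [S.hf, Subgroup.mem_bot] at this

theorem eq_of_conj_eq (S : FFSet p V H Q) {g h : G} (hg : g ∈ H) (hh : h ∈ H)
    (hc : ∀ v ∈ V, g * v * g⁻¹ = h * v * h⁻¹) : g = h := by
  have h1 : h⁻¹ * g ∈ Subgroup.centralizer (V : Set G) := by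
    rw [Subgroup.mem_centralizer_iff]
    intro v hv
    have := hc v hv
    calc v * (h⁻¹ * g) = h⁻¹ * (h * v * h⁻¹) * g := by group
      _ = h⁻¹ * (g * v * g⁻¹) * g := by rw [this]
      _ = h⁻¹ * g * v := by group
  have h2 := S.eq_one (H.mul_mem (H.inv_mem hh) hg) h1
  calc g = h * (h⁻¹ * g) := by group
    _ = h := by rw [h2, mul_one]

theorem cjV (S : FFSet p V H Q) {h : G} (hh : h ∈ H) : cj h V = V :=
  cj_eq_of_mem_normalizer (S.hHV hh)

theorem cjQ (S : FFSet p V H Q) {h : G} (hh : h ∈ H) : cj h Q = Q :=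
  cj_eq_of_mem_normalizer (S.hHQ hh)

theorem cjH (S : FFSet p V H Q) {h : G} (hh : h ∈ H) : cj h H = H :=
  cj_eq_of_mem_normalizer (Subgroup.le_normalizer hh)

theorem comm_le_V (S : FFSet p V H Q) {X : Subgroup G} (hX : X ≤ H) : ⁅V, X⁆ ≤ V :=
  Cfsg.Agent.Lib.helper13.commutator_le_of_le_normalizer (hX.trans S.hHV)

theorem isPGroup_V [Fact p.Prime] (S : FFSet p V H Q) : IsPGroup p V := by
  rintro ⟨v, hv⟩
  refine ⟨1, Subtype.ext ?_⟩
  simp only [pow_one, Subgroup.coe_pow, Subgroup.coe_one]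
  exact S.Vpow v hv

end FFSet

namespace IsRoot

variable {p : ℕ} {V H Q A : Subgroup G}

theorem cj (hA : IsRoot p V H A) (S : FFSet p V H Q) {h : G} (hh : h ∈ H) :
    IsRoot p V H (cj h A) := by
  refine ⟨cj_le_of_mem hA.le hh, (card_cj h A).trans hA.card, ?_⟩
  have h1 : ⁅V, Cfsg.Agent.Lib.helper14.cj h A⁆ = Cfsg.Agent.Lib.helper14.cj h ⁅V, A⁆ := by
    rw [cj_commutator, S.cjV hh]
  rw [h1, card_cj]
  exact hA.cardc

theorem pow_eq_one (hA : IsRoot p V H A) {a : G} (ha : a ∈ A) : a ^ p = 1 := by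
  have h1 : (⟨a, ha⟩ : A) ^ Nat.card A = 1 := pow_card_eq_one'
  rw [hA.card] at h1
  exact congrArg Subtype.val h1

theorem isPGroup (hA : IsRoot p V H A) : IsPGroup p A := by
  rintro ⟨a, ha⟩
  refine ⟨1, Subtype.ext ?_⟩
  simp only [pow_one, Subgroup.coe_pow, Subgroup.coe_one]
  exact hA.pow_eq_one ha

theorem ne_bot [hp : Fact p.Prime] (hA : IsRoot p V H A) : A ≠ ⊥ := by
  rintro rfl
  have := hA.card
  rw [Subgroup.card_bot] at this
  exact hp.out.one_lt.ne this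

theorem inf_Q (hA : IsRoot p V H A) (S : FFSet p V H Q) : A ⊓ Q = ⊥ := by
  apply disjoint_iff.mp
  apply Subgroup.disjoint_of_coprime_natCard
  rw [hA.card]
  exact S.hQp.symm

theorem comm (hA : IsRoot p V H A) [hp : Fact p.Prime] :
    ∀ a ∈ A, ∀ b ∈ A, a * b = b * a := by
  have hcyc : IsCyclic A := isCyclic_of_prime_card hA.card
  intro a ha b hb
  have : IsMulCommutative A := IsCyclic.isMulCommutative
  exact congrArg Subtype.val (mul_comm' (⟨a, ha⟩ : A) ⟨b, hb⟩)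

end IsRoot

theorem eq_of_le_of_card_prime {p : ℕ} [Finite G] {A B : Subgroup G} (hA : Nat.card A = p)
    (hB : Nat.card B = p) (h : A ≤ B) : A = B :=
  Subgroup.eq_of_le_of_card_ge h (by rw [hA, hB])

theorem inf_eq_bot_of_card_prime_of_ne {p : ℕ} [hp : Fact p.Prime] [Finite G] {A B : Subgroup G}
    (hA : Nat.card A = p) (hB : Nat.card B = p) (hne : A ≠ B) : A ⊓ B = ⊥ := by
  have hd : Nat.card ↥(A ⊓ B) ∣ p := hA ▸ Subgroup.card_dvd_of_le inf_le_left
  rcases (Nat.dvd_prime hp.out).mp hd with h | h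
  · exact Subgroup.card_eq_one.mp h
  · exfalso
    have h1 : A ⊓ B = A := eq_of_le_of_card_prime h hA inf_le_left
    have h2 : A ⊓ B = B := eq_of_le_of_card_prime h hB inf_le_right
    exact hne (h1.symm.trans h2)

section Root

variable [Finite G] {p : ℕ} [hp : Fact p.Prime] {V H Q A B : Subgroup G}

theorem IsRoot.zpowers_eq (hA : IsRoot p V H A) {a : G} (ha : a ∈ A) (ha1 : a ≠ 1) :
    Subgroup.zpowers a = A := by
  have hle : Subgroup.zpowers a ≤ A := (Subgroup.zpowers_le).mpr ha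
  apply Subgroup.eq_of_le_of_card_ge hle
  have h1 : Nat.card (Subgroup.zpowers a) ∣ p := by
    rw [← hA.card]; exact Subgroup.card_dvd_of_le hle
  rcases (Nat.dvd_prime hp.out).mp h1 with h2 | h2
  · exfalso
    rw [Subgroup.card_eq_one, Subgroup.zpowers_eq_bot] at h2
    exact ha1 h2
  · rw [hA.card, h2]

theorem IsRoot.exists_ne_one (hA : IsRoot p V H A) : ∃ a ∈ A, a ≠ 1 := by
  by_contra hcon
  push Not at hcon
  apply hA.ne_bot
  rw [eq_bot_iff]
  intro a ha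
  exact Subgroup.mem_bot.mpr (hcon a ha)

/-- root subgroups act quadratically -/
theorem IsRoot.le_centralizer_comm (hA : IsRoot p V H A) (S : FFSet p V H Q) :
    A ≤ Subgroup.centralizer ((⁅V, A⁆ : Subgroup G) : Set G) := by
  have hXV : ⁅V, A⁆ ≤ V := S.comm_le_V hA.le
  have hAX : A ≤ Subgroup.normalizer ((⁅V, A⁆ : Subgroup G) : Set G) :=
    Cfsg.Agent.Lib.helper53.le_normalizer_commutator_right V A
  have h1 : ⁅⁅V, A⁆, A⁆ ≤ ⁅V, A⁆ := Cfsg.Agent.Lib.helper13.commutator_le_of_le_normalizer hAX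
  have h2 : ⁅⁅V, A⁆, A⁆ ≠ ⁅V, A⁆ := by
    intro h
    have h3 := Cfsg.Agent.Lib.helper13.eq_bot_of_le_commutator V A ⁅V, A⁆ S.isPGroup_V
      (hA.le.trans S.hHV)
      (fun a ha => ⟨1, by rw [pow_one, hA.pow_eq_one ha]; exact Subgroup.one_mem _⟩) hXV h.ge
    have h4 := hA.cardc
    rw [h3, Subgroup.card_bot] at h4
    exact hp.out.one_lt.ne h4
  have h3 : ⁅⁅V, A⁆, A⁆ = ⊥ := by
    have hd : Nat.card ↥(⁅⁅V, A⁆, A⁆) ∣ p := hA.cardc ▸ Subgroup.card_dvd_of_le h1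
    rcases (Nat.dvd_prime hp.out).mp hd with h | h
    · exact Subgroup.card_eq_one.mp h
    · exact absurd (eq_of_le_of_card_prime h hA.cardc h1) h2
  rw [Subgroup.commutator_comm, Subgroup.commutator_eq_bot_iff_le_centralizer] at h3
  exact h3

theorem IsRoot.card_fix (hA : IsRoot p V H A) (S : FFSet p V H Q) :
    Nat.card ↥(V ⊓ Subgroup.centralizer (A : Set G)) * p = Nat.card V := by
  obtain ⟨a, ha, ha1⟩ := hA.exists_ne_one
  have hz := hA.zpowers_eq ha ha1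
  have h3 := Cfsg.Agent.Lib.helper13.card_commutator_zpowers_mul V S.Vcomm a (S.hHV (hA.le ha))
  rw [hz, hA.cardc] at h3
  rw [mul_comm]
  exact h3

/-- `p`-subgroups of `Q ⊔ A` have order dividing `p`. -/
theorem IsRoot.pgroup_card_dvd (hA : IsRoot p V H A) (S : FFSet p V H Q) {P : Subgroup G}
    (hP : P ≤ Q ⊔ A) (hPp : IsPGroup p P) : Nat.card P ∣ p := by
  have h1 : Nat.card P ∣ Nat.card ↥(Q ⊔ A) := Subgroup.card_dvd_of_le hP
  have h2 := Cfsg.Agent.Lib.helper13.card_sup_mul_card_inf' Q A (hA.le.trans S.hHQ)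
  rw [inf_comm, hA.inf_Q S, Subgroup.card_bot, mul_one, hA.card] at h2
  rw [h2] at h1
  obtain ⟨n, hn⟩ := hPp.exists_card_eq
  rw [hn] at h1 ⊢
  exact Nat.Coprime.dvd_of_dvd_mul_left (Nat.Coprime.pow_left n S.hQp.symm) h1

end Root

section Pair

variable [Finite G] {p : ℕ} [hp : Fact p.Prime] {V H Q A B : Subgroup G}

theorem pair_comm_eq (S : FFSet p V H Q) (hA : A ≤ H) (hB : B ≤ H) :
    ⁅V, A ⊔ B⁆ = ⁅V, A⁆ ⊔ ⁅V, B⁆ := by
  apply le_antisymm
  · exact Cfsg.Agent.Lib.helper53.commutator_sup_le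
      (sup_le (S.comm_le_V hA) (S.comm_le_V hB)) le_sup_left le_sup_right
  · exact sup_le (Subgroup.commutator_mono le_rfl le_sup_left)
      (Subgroup.commutator_mono le_rfl le_sup_right)

/-- `p`-subgroups of `A ⊔ B` normalized by ... : a subgroup of `Q ⊔ A` which is a `p`-group and
normalized by `A` lies in `A`. -/
theorem IsRoot.le_of_isPGroup_of_le_normalizer (hA : IsRoot p V H A) (S : FFSet p V H Q)
    {K : Subgroup G} (hK : K ≤ Q ⊔ A) (hKp : IsPGroup p K)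
    (hAK : A ≤ Subgroup.normalizer (K : Set G)) : K ≤ A := by
  have h1 : IsPGroup p (A ⊔ K : Subgroup G) := hA.isPGroup.to_sup_of_normal_right' hKp hAK
  have h2 : Nat.card ↥(A ⊔ K) ∣ p := hA.pgroup_card_dvd S (sup_le le_sup_right hK) h1
  have h3 : A = A ⊔ K := Subgroup.eq_of_le_of_card_ge le_sup_left
    (by rw [hA.card]; exact Nat.le_of_dvd hp.out.pos h2)
  rw [h3]
  exact le_sup_right

theorem pair_faithful (S : FFSet p V H Q) (hA : IsRoot p V H A) (hB : IsRoot p V H B)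
    (hBQA : B ≤ Q ⊔ A) (hne : A ≠ B) :
    (A ⊔ B) ⊓ Subgroup.centralizer ((⁅V, A ⊔ B⁆ : Subgroup G) : Set G) = ⊥ := by
  have hLH : A ⊔ B ≤ H := sup_le hA.le hB.le
  have hLQA : A ⊔ B ≤ Q ⊔ A := sup_le le_sup_right hBQA
  have hLQB : A ⊔ B ≤ Q ⊔ B := by
    -- `Q ⊔ A = Q ⊔ B` by orders
    have h1 : Q ⊔ B ≤ Q ⊔ A := sup_le le_sup_left hBQA
    have h2 := Cfsg.Agent.Lib.helper13.card_sup_mul_card_inf' Q A (hA.le.trans S.hHQ)
    have h3 := Cfsg.Agent.Lib.helper13.card_sup_mul_card_inf' Q B (hB.le.trans S.hHQ)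
    rw [inf_comm, hA.inf_Q S, Subgroup.card_bot, mul_one, hA.card] at h2
    rw [inf_comm, hB.inf_Q S, Subgroup.card_bot, mul_one, hB.card] at h3
    have h4 : Q ⊔ B = Q ⊔ A := Subgroup.eq_of_le_of_card_ge h1 (by rw [h2, h3])
    rw [h4]; exact hLQA
  have hWV : ⁅V, A ⊔ B⁆ ≤ V := S.comm_le_V hLH
  have hLW : A ⊔ B ≤ Subgroup.normalizer ((⁅V, A ⊔ B⁆ : Subgroup G) : Set G) :=
    Cfsg.Agent.Lib.helper53.le_normalizer_commutator_right V (A ⊔ B)
  have hKp : IsPGroup p ↥((A ⊔ B) ⊓ Subgroup.centralizer ((⁅V, A ⊔ B⁆ : Subgroup G) : Set G)) := by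
    rintro ⟨k, hkL, hkC⟩
    refine ⟨1, Subtype.ext ?_⟩
    simp only [pow_one, Subgroup.coe_pow, Subgroup.coe_one]
    apply S.eq_one (H.pow_mem (hLH hkL) p)
    apply pow_mem_centralizer_of_stab S.Vpow hWV hkC
    intro v hv
    have : ⁅k, v⁆ ∈ ⁅A ⊔ B, V⁆ := Subgroup.commutator_mem_commutator hkL hv
    rw [Subgroup.commutator_comm] at this
    rwa [commutatorElement_def] at this
  have hnorm : ∀ g ∈ A ⊔ B, g ∈ Subgroup.normalizer
      (((A ⊔ B) ⊓ Subgroup.centralizer ((⁅V, A ⊔ B⁆ : Subgroup G) : Set G) : Subgroup G) : Set G) :=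
    fun g hg => mem_normalizer_inf (Subgroup.le_normalizer hg)
      (mem_normalizer_centralizer (hLW hg))
  have h1 := hA.le_of_isPGroup_of_le_normalizer S (inf_le_left.trans hLQA) hKp
    (fun a ha => hnorm a (Subgroup.mem_sup_left ha))
  have h2 := hB.le_of_isPGroup_of_le_normalizer S (inf_le_left.trans hLQB) hKp
    (fun b hb => hnorm b (Subgroup.mem_sup_right hb))
  rw [eq_bot_iff, ← inf_eq_bot_of_card_prime_of_ne hA.card hB.card hne]
  exact le_inf h1 h2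

theorem pair_comm_ne (S : FFSet p V H Q) (hA : IsRoot p V H A) (hB : IsRoot p V H B)
    (hBQA : B ≤ Q ⊔ A) (hne : A ≠ B) : ⁅V, A⁆ ≠ ⁅V, B⁆ := by
  intro h
  have h1 := pair_comm_eq S hA.le hB.le
  rw [← h, sup_idem] at h1
  have h2 := pair_faithful S hA hB hBQA hne
  have h3 : A ⊔ B ≤ Subgroup.centralizer ((⁅V, A ⊔ B⁆ : Subgroup G) : Set G) := by
    rw [h1]
    refine sup_le (hA.le_centralizer_comm S) ?_
    rw [h]
    exact hB.le_centralizer_comm S
  have h4 : A ⊔ B = ⊥ := by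
    rw [eq_bot_iff, ← h2]; exact le_inf le_rfl h3
  exact hA.ne_bot (eq_bot_iff.mpr (h4 ▸ le_sup_left))

theorem pair_comm_inf (S : FFSet p V H Q) (hA : IsRoot p V H A) (hB : IsRoot p V H B)
    (hBQA : B ≤ Q ⊔ A) (hne : A ≠ B) : ⁅V, A⁆ ⊓ ⁅V, B⁆ = ⊥ :=
  inf_eq_bot_of_card_prime_of_ne hA.cardc hB.cardc (pair_comm_ne S hA hB hBQA hne)

theorem pair_comm_card (S : FFSet p V H Q) (hA : IsRoot p V H A) (hB : IsRoot p V H B)
    (hBQA : B ≤ Q ⊔ A) (hne : A ≠ B) : Nat.card ↥(⁅V, A ⊔ B⁆) = p ^ 2 := by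
  rw [pair_comm_eq S hA.le hB.le]
  have hn : ⁅V, A⁆ ≤ Subgroup.normalizer ((⁅V, B⁆ : Subgroup G) : Set G) := by
    intro u hu
    rw [Subgroup.mem_normalizer_iff]
    intro w
    have huV := S.comm_le_V hA.le hu
    constructor
    · intro hw
      have hwV := S.comm_le_V hB.le hw
      have : u * w * u⁻¹ = w := by rw [S.Vcomm u huV w hwV]; group
      rwa [this]
    · intro hw
      have hwV : w ∈ V := by
        have h1 := S.comm_le_V hB.le hw
        have h2 : w = u⁻¹ * (u * w * u⁻¹) * u := by group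
        rw [h2]
        exact V.mul_mem (V.mul_mem (V.inv_mem huV) h1) huV
      have : u * w * u⁻¹ = w := by rw [S.Vcomm u huV w hwV]; group
      rwa [this] at hw
  have h1 := Cfsg.Agent.Lib.helper13.card_sup_mul_card_inf ⁅V, A⁆ ⁅V, B⁆ hn
  rw [pair_comm_inf S hA hB hBQA hne, Subgroup.card_bot, mul_one, hA.cardc, hB.cardc] at h1
  rw [h1, sq]

/-- the non-orthogonality of distinct roots in `Q ⊔ A` -/
theorem pair_not_le (S : FFSet p V H Q) (hA : IsRoot p V H A) (hB : IsRoot p V H B)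
    (hBQA : B ≤ Q ⊔ A) (hne : A ≠ B) :
    ¬ ⁅V, A⁆ ≤ Subgroup.centralizer (B : Set G) := by
  intro h
  have h2 := pair_faithful S hA hB hBQA hne
  have h3 : B ≤ Subgroup.centralizer ((⁅V, A ⊔ B⁆ : Subgroup G) : Set G) := by
    rw [pair_comm_eq S hA.le hB.le, Cfsg.Agent.Lib.helper13.centralizer_sup_eq]
    exact le_inf (Subgroup.le_centralizer_iff.mp h) (hB.le_centralizer_comm S)
  have h4 : B ≤ ⊥ := by
    rw [← h2]; exact le_inf le_sup_right h3
  exact hB.ne_bot (eq_bot_iff.mpr h4)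

end Pair

section Iso

open Matrix

/-- A group `L = A ⊔ B` generated by two distinct subgroups of order `p`, with small
`p`-subgroups, acting faithfully on an elementary abelian group `W` of order `p²`, is `SL₂(p)`. -/
theorem iso_sl2_of_faithful_plane [Finite G] {p : ℕ} [hp : Fact p.Prime] (W L A B : Subgroup G)
    (hWc : ∀ u ∈ W, ∀ v ∈ W, u * v = v * u) (hWp : ∀ w ∈ W, w ^ p = 1)
    (hWcard : Nat.card W = p ^ 2)
    (hLW : L ≤ Subgroup.normalizer (W : Set G))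
    (hLf : L ⊓ Subgroup.centralizer (W : Set G) = ⊥)
    (hL : L = A ⊔ B) (hAp : ∀ a ∈ A, a ^ p = 1) (hBp : ∀ b ∈ B, b ^ p = 1)
    (hpg : ∀ P : Subgroup G, P ≤ L → IsPGroup p P → Nat.card P ∣ p)
    (hAB : A ≠ B) (hcA : Nat.card A = p) (hcB : Nat.card B = p) :
    Nonempty (↥L ≃* Matrix.SpecialLinearGroup (Fin 2) (ZMod p)) := by
  classical
  have hpp := hp.out
  have : NeZero p := ⟨hpp.ne_zero⟩
  have hAL : A ≤ L := hL ▸ le_sup_left
  have hBL : B ≤ L := hL ▸ le_sup_right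
  have hWN : W ≤ Subgroup.normalizer (W : Set G) := Subgroup.le_normalizer
  have hnorm : (W.subgroupOf (Subgroup.normalizer (W : Set G))).Normal :=
    Subgroup.normal_in_normalizer
  have hcomm : IsMulCommutative ↥(W.subgroupOf (Subgroup.normalizer (W : Set G))) :=
    Cfsg.Agent.Lib.helper13.isMulCommutative_of_forall_comm _ (by
      rintro ⟨a, ha⟩ haW ⟨b, hb⟩ hbW
      exact Subtype.ext (hWc a haW b hbW))
  have hexp : ∀ x ∈ W.subgroupOf (Subgroup.normalizer (W : Set G)), x ^ p = 1 := by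
    rintro ⟨x, hx⟩ hxW
    exact Subtype.ext (by simpa using hWp x hxW)
  have hcard : Nat.card ↥(W.subgroupOf (Subgroup.normalizer (W : Set G))) = p ^ 2 := by
    rw [Cfsg.Agent.Lib.helper13.card_subgroupOf_eq_card_inf, inf_eq_left.mpr hWN, hWcard]
  obtain ⟨φ, hφ⟩ := Cfsg.Agent.Lib.helper62.exists_hom_GL_ker_centralizer
    (W.subgroupOf (Subgroup.normalizer (W : Set G))) p 2 hexp hcard
  let Φ : ↥L →* GL (Fin 2) (ZMod p) := φ.comp (Subgroup.inclusion hLW)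
  have hΦ : Function.Injective Φ := by
    rw [injective_iff_map_eq_one]
    intro l hl
    have h1 : Subgroup.inclusion hLW l ∈ φ.ker := hl
    rw [hφ, Subgroup.mem_centralizer_iff] at h1
    have h2 : (l : G) ∈ L ⊓ Subgroup.centralizer (W : Set G) := by
      refine ⟨l.2, Subgroup.mem_centralizer_iff.mpr ?_⟩
      intro w hw
      have := h1 ⟨w, hWN hw⟩ (by exact hw)
      exact congrArg Subtype.val this
    rw [hLf, Subgroup.mem_bot] at h2
    exact Subtype.ext h2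
  have hAp' : IsPGroup p A := by
    rintro ⟨a, ha⟩
    refine ⟨1, Subtype.ext ?_⟩
    simpa using hAp a ha
  have hBp' : IsPGroup p B := by
    rintro ⟨a, ha⟩
    refine ⟨1, Subtype.ext ?_⟩
    simpa using hBp a ha
  have hex : ∃ a ∈ A, ∃ h ∈ L, h * a * h⁻¹ ∉ A := by
    by_contra hcon
    push Not at hcon
    have hBN : B ≤ Subgroup.normalizer (A : Set G) := by
      intro b hb
      rw [Subgroup.mem_normalizer_iff]
      intro a
      constructor
      · intro ha; exact hcon a ha b (hBL hb)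
      · intro ha
        have := hcon _ ha b⁻¹ (L.inv_mem (hBL hb))
        simpa [mul_assoc] using this
    have h1 : IsPGroup p (B ⊔ A : Subgroup G) := hBp'.to_sup_of_normal_right' hAp' hBN
    have h2 := hpg (B ⊔ A) (sup_le hBL hAL) h1
    have h3 : A = B ⊔ A := Subgroup.eq_of_le_of_card_ge le_sup_right
      (by rw [hcA]; exact Nat.le_of_dvd hpp.pos h2)
    have h4 : B ≤ A := by rw [h3]; exact le_sup_left
    exact hAB (eq_of_le_of_card_prime hcB hcA h4).symm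
  obtain ⟨a, ha, h, hh, hah⟩ := hex
  have hR : IsPGroup p ↥(A.subgroupOf L) := by
    rintro ⟨⟨x, hxL⟩, hxA⟩
    refine ⟨1, Subtype.ext (Subtype.ext ?_)⟩
    simpa using hAp x hxA
  obtain ⟨K, ⟨e⟩⟩ := Cfsg.Agent.Lib.helper88.exists_sl2_subgroup p Φ hΦ (A.subgroupOf L) hR
    ⟨a, hAL ha⟩ ⟨h, hh⟩ (by exact ha) (by intro hc; exact hah hc)
  have hdet : ∀ l : ↥L, Matrix.GeneralLinearGroup.det (Φ l) = 1 := by
    have hker : ∀ g : G, ∀ hg : g ∈ L, g ^ p = 1 →
        Matrix.GeneralLinearGroup.det (Φ ⟨g, hg⟩) = 1 := by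
      intro g hg hgp
      have h1 : Matrix.GeneralLinearGroup.det (Φ ⟨g, hg⟩) ^ p = 1 := by
        rw [← map_pow, ← map_pow]
        have : (⟨g, hg⟩ : ↥L) ^ p = 1 := Subtype.ext (by simpa using hgp)
        rw [this, map_one, map_one]
      have h2 : Matrix.GeneralLinearGroup.det (Φ ⟨g, hg⟩) ^ (p - 1) = 1 :=
        ZMod.units_pow_card_sub_one_eq_one p _
      have h3 : Matrix.GeneralLinearGroup.det (Φ ⟨g, hg⟩) ^ p =
          Matrix.GeneralLinearGroup.det (Φ ⟨g, hg⟩) ^ (p - 1) *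
            Matrix.GeneralLinearGroup.det (Φ ⟨g, hg⟩) := by
        rw [← pow_succ, Nat.sub_add_cancel hpp.one_le]
      rw [h1, h2, one_mul] at h3
      exact h3.symm
    have hS : L ≤ ((Matrix.GeneralLinearGroup.det.comp Φ).ker).map L.subtype := by
      refine hL.le.trans (sup_le ?_ ?_)
      · intro a ha
        exact ⟨⟨a, hAL ha⟩, hker a (hAL ha) (hAp a ha), rfl⟩
      · intro b hb
        exact ⟨⟨b, hBL hb⟩, hker b (hBL hb) (hBp b hb), rfl⟩
    intro l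
    obtain ⟨l', hl', hll'⟩ := hS l.2
    have : l' = l := Subtype.ext hll'
    subst this
    exact hl'
  have hrange : Φ.range ≤ (Matrix.SpecialLinearGroup.toGL :
      Matrix.SpecialLinearGroup (Fin 2) (ZMod p) →* GL (Fin 2) (ZMod p)).range := by
    rintro _ ⟨l, rfl⟩
    have h1 := hdet l
    have h2 : ((Φ l : GL (Fin 2) (ZMod p)) : Matrix (Fin 2) (Fin 2) (ZMod p)).det = 1 := by
      have := congrArg Units.val h1
      simpa using this
    refine ⟨⟨_, h2⟩, ?_⟩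
    apply Units.ext
    rfl
  have hc1 : Nat.card ↥L = Nat.card Φ.range := Nat.card_congr (MonoidHom.ofInjective hΦ).toEquiv
  have hc2 : Nat.card Φ.range ≤ Nat.card ((Matrix.SpecialLinearGroup.toGL :
      Matrix.SpecialLinearGroup (Fin 2) (ZMod p) →* GL (Fin 2) (ZMod p)).range) :=
    Subgroup.card_le_of_le hrange
  have hc3 : Nat.card ((Matrix.SpecialLinearGroup.toGL :
      Matrix.SpecialLinearGroup (Fin 2) (ZMod p) →* GL (Fin 2) (ZMod p)).range) =
      Nat.card (Matrix.SpecialLinearGroup (Fin 2) (ZMod p)) :=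
    (Nat.card_congr (MonoidHom.ofInjective Matrix.SpecialLinearGroup.toGL_injective).toEquiv).symm
  have hc4 : Nat.card K = Nat.card (Matrix.SpecialLinearGroup (Fin 2) (ZMod p)) :=
    Nat.card_congr e.toEquiv
  have hc5 : Nat.card K ≤ Nat.card ↥L := Subgroup.card_le_card_group K
  have hK : K = ⊤ := Subgroup.eq_top_of_card_eq K (by omega)
  subst hK
  exact ⟨Subgroup.topEquiv.symm.trans e⟩

theorem p23_of_iso [Finite G] {p : ℕ} [Fact p.Prime] (Q L : Subgroup G)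
    (hQp : (Nat.card Q).Coprime p) (hcomm : ∀ g₁ ∈ L, ∀ g₂ ∈ L, ⁅g₁, g₂⁆ ∈ Q)
    (e : ↥L ≃* Matrix.SpecialLinearGroup (Fin 2) (ZMod p)) : p = 2 ∨ p = 3 := by
  by_cases hp2 : p = 2
  · exact Or.inl hp2
  · right
    apply Cfsg.Agent.Lib.helper13.eq_three_of_forall_comm_pow p hp2 (Nat.card Q) hQp
    intro x y
    have h1 : ⁅x, y⁆ = e ⁅e.symm x, e.symm y⁆ := by
      rw [map_commutatorElement]; simp
    rw [h1, ← map_pow]
    have h2 : (⁅e.symm x, e.symm y⁆ : ↥L) ^ Nat.card Q = 1 := by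
      apply Subtype.ext
      have h3 : ((⁅e.symm x, e.symm y⁆ : ↥L) : G) =
          ⁅((e.symm x : ↥L) : G), ((e.symm y : ↥L) : G)⁆ := by
        simp [commutatorElement_def]
      have h4 := hcomm _ (e.symm x).2 _ (e.symm y).2
      rw [Subgroup.coe_pow, h3, Subgroup.coe_one]
      have h5 : (⟨_, h4⟩ : Q) ^ Nat.card Q = 1 := pow_card_eq_one'
      exact congrArg Subtype.val h5
    rw [h2, map_one]

variable [Finite G] {p : ℕ} [hp : Fact p.Prime] {V H Q A B : Subgroup G}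

theorem pair_iso (S : FFSet p V H Q) (hA : IsRoot p V H A) (hB : IsRoot p V H B)
    (hBQA : B ≤ Q ⊔ A) (hne : A ≠ B) :
    Nonempty (↥(A ⊔ B) ≃* Matrix.SpecialLinearGroup (Fin 2) (ZMod p)) := by
  have hLH : A ⊔ B ≤ H := sup_le hA.le hB.le
  have hWV : ⁅V, A ⊔ B⁆ ≤ V := S.comm_le_V hLH
  exact iso_sl2_of_faithful_plane ⁅V, A ⊔ B⁆ (A ⊔ B) A B
    (fun u hu v hv => S.Vcomm u (hWV hu) v (hWV hv)) (fun w hw => S.Vpow w (hWV hw))
    (pair_comm_card S hA hB hBQA hne)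
    (Cfsg.Agent.Lib.helper53.le_normalizer_commutator_right V (A ⊔ B))
    (pair_faithful S hA hB hBQA hne) rfl (fun a ha => hA.pow_eq_one ha)
    (fun b hb => hB.pow_eq_one hb)
    (fun P hP hPp => hA.pgroup_card_dvd S (hP.trans (sup_le le_sup_right hBQA)) hPp)
    hne hA.card hB.card

theorem pair_p23 (S : FFSet p V H Q) (hA : IsRoot p V H A) (hB : IsRoot p V H B)
    (hBQA : B ≤ Q ⊔ A) (hne : A ≠ B) : p = 2 ∨ p = 3 := by
  obtain ⟨e⟩ := pair_iso S hA hB hBQA hne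
  refine p23_of_iso Q (A ⊔ B) S.hQp ?_ e
  intro g₁ h₁ g₂ h₂
  have hLQA : A ⊔ B ≤ Q ⊔ A := sup_le le_sup_right hBQA
  exact commutator_mem_of_mem_sup (hA.le.trans S.hHQ) hA.comm (hLQA h₁) (hLQA h₂)

theorem cj_le_sup (S : FFSet p V H Q) (hA : A ≤ H) {x : G} (hx : x ∈ Q) : cj x A ≤ Q ⊔ A := by
  intro g hg
  obtain ⟨a, ha, rfl⟩ := mem_cj.mp hg
  have h1 : a * x⁻¹ * a⁻¹ ∈ Q :=
    (Subgroup.mem_normalizer_iff.mp (S.hHQ (hA ha)) x⁻¹).mp (Q.inv_mem hx)
  have : x * a * x⁻¹ = (x * (a * x⁻¹ * a⁻¹)) * a := by group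
  rw [this]
  exact Subgroup.mul_mem_sup (Q.mul_mem hx h1) ha

theorem ne_cj_of_not_mem_centralizer (S : FFSet p V H Q) (hA : IsRoot p V H A) {x : G}
    (hx : x ∈ Q) (hxA : x ∉ Subgroup.centralizer (A : Set G)) : A ≠ cj x A := by
  intro h
  apply hxA
  rw [Subgroup.mem_centralizer_iff]
  intro a ha
  have h1 : x * a * x⁻¹ ∈ A := by
    have : x * a * x⁻¹ ∈ cj x A := conj_mem_cj ha
    rwa [← h] at this
  have h3 : a * x⁻¹ * a⁻¹ ∈ Q :=
    (Subgroup.mem_normalizer_iff.mp (S.hHQ (hA.le ha)) x⁻¹).mp (Q.inv_mem hx)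
  have h2 : x * a * x⁻¹ * a⁻¹ ∈ A ⊓ Q := by
    refine ⟨A.mul_mem h1 (A.inv_mem ha), ?_⟩
    have : x * a * x⁻¹ * a⁻¹ = x * (a * x⁻¹ * a⁻¹) := by group
    rw [this]
    exact Q.mul_mem hx h3
  rw [hA.inf_Q S, Subgroup.mem_bot] at h2
  calc a * x = (x * a * x⁻¹ * a⁻¹)⁻¹ * x * a := by group
    _ = x * a := by rw [h2]; group

/-- `Q` does not centralize a root subgroup. -/
theorem exists_not_mem_centralizer (S : FFSet p V H Q) (hA : IsRoot p V H A) :
    ∃ x ∈ Q, x ∉ Subgroup.centralizer (A : Set G) := by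
  by_contra hcon
  push Not at hcon
  have h1 : A ≤ Q := by
    intro a ha
    apply S.hcent a (hA.le ha)
    intro k hk
    exact (Subgroup.mem_centralizer_iff.mp (hcon k hk)) a ha
  have h2 : A ≤ A ⊓ Q := le_inf le_rfl h1
  rw [hA.inf_Q S] at h2
  exact hA.ne_bot (eq_bot_iff.mpr h2)

end Iso

end FF

end Cfsg.Agent.Lib.helper14
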