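import Mathlib
import Cfsg.Agent.Lib.helper14.FF1

/-!
helper14: failure-of-factorization structure theory (KS 9.3), part 2.

For a root subgroup `A` (in the setting `FFSet p V H Q`) the subgroup `E = [Q, A] A` equals
`A ⊔ A^x` for every `x ∈ Q` not centralizing `A` (`comm_sup_eq_pair`), hence `E ≅ SL₂(p)` acts
faithfully on the plane `[V, E]`, `V = [V, E] × C_V(E)`, and `[Q, A]` has order `p² - 1`.
-/

set_option autoImplicit false
open Cfsg

namespace Cfsg.Agent.Lib.helper14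

open scoped commutatorElement

section FF2

variable {G : Type*} [Group G]

theorem le_normalizer_of_le_comm {V X Y : Subgroup G} (hVc : ∀ u ∈ V, ∀ v ∈ V, u * v = v * u)
    (hX : X ≤ V) (hY : Y ≤ V) : X ≤ Subgroup.normalizer (Y : Set G) := by
  intro u hu
  rw [Subgroup.mem_normalizer_iff]
  intro w
  have huV := hX hu
  constructor
  · intro hw
    have hwV := hY hw
    have : u * w * u⁻¹ = w := by rw [hVc u huV w hwV]; group
    rwa [this]
  · intro hw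
    have hwV : w ∈ V := by
      have h1 := hY hw
      have h2 : w = u⁻¹ * (u * w * u⁻¹) * u := by group
      rw [h2]
      exact V.mul_mem (V.mul_mem (V.inv_mem huV) h1) huV
    have : u * w * u⁻¹ = w := by rw [hVc u huV w hwV]; group
    rwa [this] at hw

variable [Finite G] {p : ℕ} [hp : Fact p.Prime] {V H Q A B : Subgroup G}

theorem zpowers_eq_of_card_prime {X : Subgroup G} (hX : Nat.card X = p) {u : G} (hu : u ∈ X)
    (hu1 : u ≠ 1) : Subgroup.zpowers u = X := by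
  have hle : Subgroup.zpowers u ≤ X := (Subgroup.zpowers_le).mpr hu
  apply Subgroup.eq_of_le_of_card_ge hle
  have h1 : Nat.card (Subgroup.zpowers u) ∣ p := by
    rw [← hX]; exact Subgroup.card_dvd_of_le hle
  rcases (Nat.dvd_prime hp.out).mp h1 with h2 | h2
  · exfalso
    rw [Subgroup.card_eq_one, Subgroup.zpowers_eq_bot] at h2
    exact hu1 h2
  · rw [hX, h2]

theorem sup_eq_of_le (S : FFSet p V H Q) (hA : IsRoot p V H A) (hB : IsRoot p V H B)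
    (hBQA : B ≤ Q ⊔ A) : Q ⊔ B = Q ⊔ A := by
  have h1 : Q ⊔ B ≤ Q ⊔ A := sup_le le_sup_left hBQA
  have h2 := Cfsg.Agent.Lib.helper13.card_sup_mul_card_inf' Q A (hA.le.trans S.hHQ)
  have h3 := Cfsg.Agent.Lib.helper13.card_sup_mul_card_inf' Q B (hB.le.trans S.hHQ)
  rw [inf_comm, hA.inf_Q S, Subgroup.card_bot, mul_one, hA.card] at h2
  rw [inf_comm, hB.inf_Q S, Subgroup.card_bot, mul_one, hB.card] at h3
  exact Subgroup.eq_of_le_of_card_ge h1 (by rw [h2, h3])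

/-- Every nontrivial element of the plane `[V, A ⊔ B]` lies in the centre `[V, P]` of a root
subgroup `P ≤ A ⊔ B`. -/
theorem points (S : FFSet p V H Q) (hA : IsRoot p V H A) (hB : IsRoot p V H B)
    (hBQA : B ≤ Q ⊔ A) (hne : A ≠ B) {z : G} (hz : z ∈ ⁅V, A ⊔ B⁆) (hz1 : z ≠ 1) :
    z ∈ ⁅V, B⁆ ∨ ∃ b ∈ B, z ∈ ⁅V, cj b A⁆ := by
  rw [pair_comm_eq S hA.le hB.le] at hz
  have hAV := S.comm_le_V hA.le
  have hBV := S.comm_le_V hB.le
  have hn : ⁅V, B⁆ ≤ Subgroup.normalizer ((⁅V, A⁆ : Subgroup G) : Set G) :=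
    le_normalizer_of_le_comm S.Vcomm hBV hAV
  obtain ⟨u, hu, w, hw, rfl⟩ := (Cfsg.Agent.Lib.helper53.mem_sup_of_le_normalizer hn).mp hz
  by_cases hu1 : u = 1
  · left
    simpa [hu1] using hw
  · right
    have huV : u ∈ V := hAV hu
    have hfmem : ∀ b ∈ B, b * u * b⁻¹ * u⁻¹ ∈ ⁅V, B⁆ := by
      intro b hb
      have : ⁅b, u⁆ ∈ ⁅B, V⁆ := Subgroup.commutator_mem_commutator hb huV
      rw [Subgroup.commutator_comm] at this
      rwa [commutatorElement_def] at this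
    have hinj : Function.Injective
        (fun b : ↥B => (⟨(b : G) * u * (b : G)⁻¹ * u⁻¹, hfmem b b.2⟩ : ↥(⁅V, B⁆))) := by
      intro b₁ b₂ h
      have h1 : (b₁ : G) * u * (b₁ : G)⁻¹ * u⁻¹ = b₂ * u * (b₂ : G)⁻¹ * u⁻¹ :=
        congrArg Subtype.val h
      by_contra hne12
      have hc : (b₂ : G)⁻¹ * b₁ ∈ B := B.mul_mem (B.inv_mem b₂.2) b₁.2
      have hc1 : (b₂ : G)⁻¹ * b₁ ≠ 1 := by
        intro h
        apply hne12
        apply Subtype.ext
        have : (b₁ : G) = b₂ * ((b₂ : G)⁻¹ * b₁) := by group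
        rw [this, h, mul_one]
      have hcu : Commute ((b₂ : G)⁻¹ * b₁) u := by
        have h2 : (b₁ : G) * u * (b₁ : G)⁻¹ = b₂ * u * (b₂ : G)⁻¹ := mul_right_cancel h1
        show (b₂ : G)⁻¹ * b₁ * u = u * ((b₂ : G)⁻¹ * b₁)
        calc (b₂ : G)⁻¹ * b₁ * u = (b₂ : G)⁻¹ * (b₁ * u * (b₁ : G)⁻¹) * b₁ := by group
          _ = (b₂ : G)⁻¹ * (b₂ * u * (b₂ : G)⁻¹) * b₁ := by rw [h2]
          _ = u * ((b₂ : G)⁻¹ * b₁) := by group
      have hzB := hB.zpowers_eq hc hc1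
      have hzu := zpowers_eq_of_card_prime hA.cardc hu hu1
      apply pair_not_le S hA hB hBQA hne
      rw [← hzu, ← hzB, Subgroup.zpowers_le, Subgroup.mem_centralizer_iff]
      intro h hh
      obtain ⟨k, rfl⟩ := Subgroup.mem_zpowers_iff.mp hh
      exact (hcu.zpow_left k).eq
    have hbij := hinj.bijective_of_nat_card_le (by rw [hB.card, hB.cardc])
    obtain ⟨b, hb⟩ := hbij.2 ⟨w, hw⟩
    refine ⟨b, b.2, ?_⟩
    have h2 : (b : G) * u * (b : G)⁻¹ * u⁻¹ = w := congrArg Subtype.val hb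
    have hbu : (b : G) * u * (b : G)⁻¹ ∈ V :=
      (Subgroup.mem_normalizer_iff.mp (S.hHV (hB.le b.2)) u).mp huV
    have h3 : u * w = b * u * (b : G)⁻¹ := by
      rw [← h2]
      have := S.Vcomm u huV _ hbu
      calc u * ((b : G) * u * (b : G)⁻¹ * u⁻¹) = (u * ((b : G) * u * (b : G)⁻¹)) * u⁻¹ := by group
        _ = ((b : G) * u * (b : G)⁻¹ * u) * u⁻¹ := by rw [this]
        _ = b * u * (b : G)⁻¹ := by group
    rw [h3]
    have : cj (b : G) ⁅V, A⁆ = ⁅V, cj (b : G) A⁆ := by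
      rw [cj_commutator, S.cjV (hB.le b.2)]
    rw [← this]
    exact conj_mem_cj hu

/-- all `Q`-conjugates of `A` lie in `A ⊔ A^x` -/
theorem cj_le_pair (S : FFSet p V H Q) (hA : IsRoot p V H A) {x : G} (hx : x ∈ Q)
    (hxA : x ∉ Subgroup.centralizer (A : Set G)) {y : G} (hy : y ∈ Q) :
    cj y A ≤ A ⊔ cj x A := by
  have hB : IsRoot p V H (cj x A) := hA.cj S (S.hQH hx)
  have hBQA : cj x A ≤ Q ⊔ A := cj_le_sup S hA.le hx
  have hne : A ≠ cj x A := ne_cj_of_not_mem_centralizer S hA hx hxA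
  have hC : IsRoot p V H (cj y A) := hA.cj S (S.hQH hy)
  have hCQA : cj y A ≤ Q ⊔ A := cj_le_sup S hA.le hy
  have hW2 := pair_comm_card S hA hB hBQA hne
  have hWV : ⁅V, A ⊔ cj x A⁆ ≤ V := S.comm_le_V (sup_le hA.le hB.le)
  have hfix := hC.card_fix S
  have hcnt := Cfsg.Agent.Lib.helper13.card_mul_card_le_sup_inf ⁅V, A ⊔ cj x A⁆
    (V ⊓ Subgroup.centralizer ((cj y A : Subgroup G) : Set G))
  have hsup : Nat.card ↥(⁅V, A ⊔ cj x A⁆ ⊔ (V ⊓ Subgroup.centralizer ((cj y A : Subgroup G) : Set G)))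
      ≤ Nat.card V := Subgroup.card_le_of_le (sup_le hWV inf_le_left)
  have hge : p ≤ Nat.card ↥(⁅V, A ⊔ cj x A⁆ ⊓
      (V ⊓ Subgroup.centralizer ((cj y A : Subgroup G) : Set G))) := by
    have hk : 0 < Nat.card ↥(V ⊓ Subgroup.centralizer ((cj y A : Subgroup G) : Set G)) :=
      Nat.card_pos
    rw [hW2] at hcnt
    rw [← hfix] at hsup
    have h1 := hcnt.trans (Nat.mul_le_mul_right _ hsup)
    have h2 : p ^ 2 * Nat.card ↥(V ⊓ Subgroup.centralizer ((cj y A : Subgroup G) : Set G)) =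
        (Nat.card ↥(V ⊓ Subgroup.centralizer ((cj y A : Subgroup G) : Set G)) * p) * p := by ring
    rw [h2] at h1
    exact Nat.le_of_mul_le_mul_left h1 (Nat.mul_pos hk hp.out.pos)
  obtain ⟨z, hz, hz1⟩ : ∃ z ∈ ⁅V, A ⊔ cj x A⁆ ⊓
      (V ⊓ Subgroup.centralizer ((cj y A : Subgroup G) : Set G)), z ≠ 1 := by
    by_contra hcon
    push Not at hcon
    have : ⁅V, A ⊔ cj x A⁆ ⊓ (V ⊓ Subgroup.centralizer ((cj y A : Subgroup G) : Set G)) = ⊥ :=
      eq_bot_iff.mpr (fun z hz => Subgroup.mem_bot.mpr (hcon z hz))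
    rw [this, Subgroup.card_bot] at hge
    exact absurd hge (not_le.mpr hp.out.one_lt)
  obtain ⟨P, hP, hPL, hPQA, hzP⟩ : ∃ P : Subgroup G, IsRoot p V H P ∧ P ≤ A ⊔ cj x A ∧
      P ≤ Q ⊔ A ∧ z ∈ ⁅V, P⁆ := by
    rcases points S hA hB hBQA hne hz.1 hz1 with h | ⟨b, hb, h⟩
    · exact ⟨cj x A, hB, le_sup_right, hBQA, h⟩
    · exact ⟨cj b A, hA.cj S (hB.le hb), cj_le_of_mem le_sup_left (Subgroup.mem_sup_right hb),
        cj_le_of_mem le_sup_right (hBQA hb), h⟩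
  have hPC : P = cj y A := by
    by_contra hne'
    have hCQP : cj y A ≤ Q ⊔ P := by rw [sup_eq_of_le S hA hP hPQA]; exact hCQA
    apply pair_not_le S hP hC hCQP hne'
    rw [← zpowers_eq_of_card_prime hP.cardc hzP hz1, Subgroup.zpowers_le]
    exact hz.2.2
  rw [← hPC]
  exact hPL

/-- `[Q, A] A = A ⊔ A^x`. -/
theorem comm_sup_eq_pair (S : FFSet p V H Q) (hA : IsRoot p V H A) {x : G} (hx : x ∈ Q)
    (hxA : x ∉ Subgroup.centralizer (A : Set G)) : ⁅Q, A⁆ ⊔ A = A ⊔ cj x A := by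
  apply le_antisymm
  · refine sup_le ?_ le_sup_left
    rw [Subgroup.commutator_le]
    intro q hq a ha
    have h1 : q * a * q⁻¹ ∈ A ⊔ cj x A := cj_le_pair S hA hx hxA hq (conj_mem_cj ha)
    rw [commutatorElement_def]
    exact Subgroup.mul_mem _ h1 (Subgroup.inv_mem _ (Subgroup.mem_sup_left ha))
  · refine sup_le le_sup_right ?_
    intro g hg
    obtain ⟨a, ha, rfl⟩ := mem_cj.mp hg
    have : x * a * x⁻¹ = ⁅x, a⁆ * a := by rw [commutatorElement_def]; group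
    rw [this]
    exact Subgroup.mul_mem _ (Subgroup.mem_sup_left (Subgroup.commutator_mem_commutator hx ha))
      (Subgroup.mem_sup_right ha)

/-! ### The subgroup `E = [Q, A] A` -/

theorem E_le (S : FFSet p V H Q) (hA : IsRoot p V H A) : ⁅Q, A⁆ ⊔ A ≤ H :=
  sup_le ((Subgroup.commutator_le).mpr (fun q hq a ha => by
    rw [commutatorElement_def]
    exact H.mul_mem (H.mul_mem (H.mul_mem (S.hQH hq) (hA.le ha)) (H.inv_mem (S.hQH hq)))
      (H.inv_mem (hA.le ha)))) hA.le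

theorem comm_QA_le (S : FFSet p V H Q) (hA : IsRoot p V H A) : ⁅Q, A⁆ ≤ Q :=
  Cfsg.Agent.Lib.helper53.commutator_le_left_of_le_normalizer (hA.le.trans S.hHQ)

theorem E_le_sup (S : FFSet p V H Q) (hA : IsRoot p V H A) : ⁅Q, A⁆ ⊔ A ≤ Q ⊔ A :=
  sup_le ((comm_QA_le S hA).trans le_sup_left) le_sup_right

theorem E_card_comm (S : FFSet p V H Q) (hA : IsRoot p V H A) :
    Nat.card ↥(⁅V, ⁅Q, A⁆ ⊔ A⁆) = p ^ 2 := by
  obtain ⟨x, hx, hxA⟩ := exists_not_mem_centralizer S hA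
  rw [comm_sup_eq_pair S hA hx hxA]
  exact pair_comm_card S hA (hA.cj S (S.hQH hx)) (cj_le_sup S hA.le hx)
    (ne_cj_of_not_mem_centralizer S hA hx hxA)

theorem E_faithful (S : FFSet p V H Q) (hA : IsRoot p V H A) :
    (⁅Q, A⁆ ⊔ A) ⊓ Subgroup.centralizer ((⁅V, ⁅Q, A⁆ ⊔ A⁆ : Subgroup G) : Set G) = ⊥ := by
  obtain ⟨x, hx, hxA⟩ := exists_not_mem_centralizer S hA
  rw [comm_sup_eq_pair S hA hx hxA]
  exact pair_faithful S hA (hA.cj S (S.hQH hx)) (cj_le_sup S hA.le hx)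
    (ne_cj_of_not_mem_centralizer S hA hx hxA)

theorem E_iso (S : FFSet p V H Q) (hA : IsRoot p V H A) :
    Nonempty (↥(⁅Q, A⁆ ⊔ A) ≃* Matrix.SpecialLinearGroup (Fin 2) (ZMod p)) := by
  obtain ⟨x, hx, hxA⟩ := exists_not_mem_centralizer S hA
  rw [comm_sup_eq_pair S hA hx hxA]
  exact pair_iso S hA (hA.cj S (S.hQH hx)) (cj_le_sup S hA.le hx)
    (ne_cj_of_not_mem_centralizer S hA hx hxA)

theorem E_p23 (S : FFSet p V H Q) (hA : IsRoot p V H A) : p = 2 ∨ p = 3 := by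
  obtain ⟨x, hx, hxA⟩ := exists_not_mem_centralizer S hA
  exact pair_p23 S hA (hA.cj S (S.hQH hx)) (cj_le_sup S hA.le hx)
    (ne_cj_of_not_mem_centralizer S hA hx hxA)

theorem E_points (S : FFSet p V H Q) (hA : IsRoot p V H A) {z : G}
    (hz : z ∈ ⁅V, ⁅Q, A⁆ ⊔ A⁆) (hz1 : z ≠ 1) :
    ∃ P : Subgroup G, IsRoot p V H P ∧ P ≤ ⁅Q, A⁆ ⊔ A ∧ z ∈ ⁅V, P⁆ := by
  obtain ⟨x, hx, hxA⟩ := exists_not_mem_centralizer S hA
  have hB := hA.cj S (S.hQH hx)
  rw [comm_sup_eq_pair S hA hx hxA] at hz ⊢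
  rcases points S hA hB (cj_le_sup S hA.le hx) (ne_cj_of_not_mem_centralizer S hA hx hxA) hz hz1
    with h | ⟨b, hb, h⟩
  · exact ⟨cj x A, hB, le_sup_right, h⟩
  · exact ⟨cj b A, hA.cj S (hB.le hb),
      cj_le_of_mem le_sup_left (Subgroup.mem_sup_right hb), h⟩

/-- the centre of a root subgroup of `E` is not centralized by `E` -/
theorem E_root_not_le (S : FFSet p V H Q) (hA : IsRoot p V H A) {P : Subgroup G}
    (hP : IsRoot p V H P) (hPE : P ≤ ⁅Q, A⁆ ⊔ A) :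
    ¬ ⁅V, P⁆ ≤ Subgroup.centralizer ((⁅Q, A⁆ ⊔ A : Subgroup G) : Set G) := by
  intro hle
  obtain ⟨x, hx, hxA⟩ := exists_not_mem_centralizer S hA
  have hB := hA.cj S (S.hQH hx)
  have hBQA := cj_le_sup S hA.le hx
  have hne := ne_cj_of_not_mem_centralizer S hA hx hxA
  have hPQA : P ≤ Q ⊔ A := hPE.trans (E_le_sup S hA)
  have hQP := sup_eq_of_le S hA hP hPQA
  rw [comm_sup_eq_pair S hA hx hxA] at hle
  by_cases hPA : P = A
  · have hPB : P ≠ cj x A := fun h => hne (hPA.symm.trans h)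
    exact pair_not_le S hP hB (by rw [hQP]; exact hBQA) hPB
      (hle.trans (Subgroup.centralizer_le (SetLike.coe_subset_coe.mpr le_sup_right)))
  · exact pair_not_le S hP hA (by rw [hQP]; exact le_sup_right) hPA
      (hle.trans (Subgroup.centralizer_le (SetLike.coe_subset_coe.mpr le_sup_left)))

theorem E_inf_fix (S : FFSet p V H Q) (hA : IsRoot p V H A) :
    ⁅V, ⁅Q, A⁆ ⊔ A⁆ ⊓ (V ⊓ Subgroup.centralizer ((⁅Q, A⁆ ⊔ A : Subgroup G) : Set G)) = ⊥ := by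
  rw [eq_bot_iff]
  intro z hz
  rw [Subgroup.mem_bot]
  by_contra hz1
  obtain ⟨P, hP, hPE, hzP⟩ := E_points S hA hz.1 hz1
  apply E_root_not_le S hA hP hPE
  rw [← zpowers_eq_of_card_prime hP.cardc hzP hz1, Subgroup.zpowers_le]
  exact hz.2.2

theorem E_sup_fix (S : FFSet p V H Q) (hA : IsRoot p V H A) :
    ⁅V, ⁅Q, A⁆ ⊔ A⁆ ⊔ (V ⊓ Subgroup.centralizer ((⁅Q, A⁆ ⊔ A : Subgroup G) : Set G)) = V := by
  have hWV : ⁅V, ⁅Q, A⁆ ⊔ A⁆ ≤ V := S.comm_le_V (E_le S hA)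
  have hle : ⁅V, ⁅Q, A⁆ ⊔ A⁆ ⊔ (V ⊓ Subgroup.centralizer ((⁅Q, A⁆ ⊔ A : Subgroup G) : Set G)) ≤ V :=
    sup_le hWV inf_le_left
  apply Subgroup.eq_of_le_of_card_ge hle
  have h1 := Cfsg.Agent.Lib.helper13.card_sup_mul_card_inf ⁅V, ⁅Q, A⁆ ⊔ A⁆
    (V ⊓ Subgroup.centralizer ((⁅Q, A⁆ ⊔ A : Subgroup G) : Set G))
    (le_normalizer_of_le_comm S.Vcomm hWV inf_le_left)
  rw [E_inf_fix S hA, Subgroup.card_bot, mul_one, E_card_comm S hA] at h1
  rw [h1]
  -- `|V| ≤ p² |C_V(E)|`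
  obtain ⟨x, hx, hxA⟩ := exists_not_mem_centralizer S hA
  have hB := hA.cj S (S.hQH hx)
  rw [comm_sup_eq_pair S hA hx hxA, Cfsg.Agent.Lib.helper13.centralizer_sup_eq]
  have hX := hA.card_fix S
  have hY := hB.card_fix S
  have h2 := Cfsg.Agent.Lib.helper13.card_mul_card_le_sup_inf
    (V ⊓ Subgroup.centralizer (A : Set G))
    (V ⊓ Subgroup.centralizer ((cj x A : Subgroup G) : Set G))
  have h3 : Nat.card ↥((V ⊓ Subgroup.centralizer (A : Set G)) ⊔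
      (V ⊓ Subgroup.centralizer ((cj x A : Subgroup G) : Set G))) ≤ Nat.card V :=
    Subgroup.card_le_of_le (sup_le inf_le_left inf_le_left)
  have h4 : (V ⊓ Subgroup.centralizer (A : Set G)) ⊓
      (V ⊓ Subgroup.centralizer ((cj x A : Subgroup G) : Set G)) =
      V ⊓ (Subgroup.centralizer (A : Set G) ⊓
        Subgroup.centralizer ((cj x A : Subgroup G) : Set G)) := by
    ext g
    simp only [Subgroup.mem_inf]
    tauto
  rw [h4] at h2
  have h5 := h2.trans (Nat.mul_le_mul_right _ h3)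
  have hVpos : 0 < Nat.card V := Nat.card_pos
  -- (|V|/p)² ≤ |V| |X ⊓ Y|
  have h6 : Nat.card V * Nat.card V ≤ Nat.card V * (p ^ 2 * Nat.card ↥(V ⊓
      (Subgroup.centralizer (A : Set G) ⊓
        Subgroup.centralizer ((cj x A : Subgroup G) : Set G)))) := by
    calc Nat.card V * Nat.card V
        = (Nat.card ↥(V ⊓ Subgroup.centralizer (A : Set G)) * p) *
          (Nat.card ↥(V ⊓ Subgroup.centralizer ((cj x A : Subgroup G) : Set G)) * p) := by
          rw [hX, hY]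
      _ = (Nat.card ↥(V ⊓ Subgroup.centralizer (A : Set G)) *
          Nat.card ↥(V ⊓ Subgroup.centralizer ((cj x A : Subgroup G) : Set G))) * p ^ 2 := by ring
      _ ≤ (Nat.card V * Nat.card ↥(V ⊓ (Subgroup.centralizer (A : Set G) ⊓
          Subgroup.centralizer ((cj x A : Subgroup G) : Set G)))) * p ^ 2 :=
          Nat.mul_le_mul_right _ h5
      _ = _ := by ring
  exact Nat.le_of_mul_le_mul_left h6 hVpos

theorem E_cj (S : FFSet p V H Q) {h : G} (hh : h ∈ H) (A : Subgroup G) :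
    cj h (⁅Q, A⁆ ⊔ A) = ⁅Q, cj h A⁆ ⊔ cj h A := by
  rw [cj_sup, cj_commutator, S.cjQ hh]

theorem card_comm_QA (S : FFSet p V H Q) (hA : IsRoot p V H A) :
    Nat.card ↥(⁅Q, A⁆) = p ^ 2 - 1 := by
  have hpp := hp.out
  have : NeZero p := ⟨hpp.ne_zero⟩
  obtain ⟨e⟩ := E_iso S hA
  have h1 := Cfsg.Agent.Lib.helper13.card_sup_mul_card_inf' ⁅Q, A⁆ A
    (Cfsg.Agent.Lib.helper53.le_normalizer_commutator_right Q A)
  have h2 : ⁅Q, A⁆ ⊓ A = ⊥ := by
    rw [eq_bot_iff, ← hA.inf_Q S, inf_comm]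
    exact inf_le_inf_left A (comm_QA_le S hA)
  rw [h2, Subgroup.card_bot, mul_one, hA.card, Nat.card_congr e.toEquiv,
    Cfsg.Agent.Lib.helper43.card_SL2, ZMod.card] at h1
  exact (Nat.eq_of_mul_eq_mul_right hpp.pos h1).symm

end FF2

/-! ### The structure of `[Q, A]` -/

/-- an element of order 4 in `SL₂(3)` -/
def ffQi : Matrix.SpecialLinearGroup (Fin 2) (ZMod 3) := ⟨!![0, -1; 1, 0], by decide⟩

/-- another element of order 4 in `SL₂(3)` -/
def ffQj : Matrix.SpecialLinearGroup (Fin 2) (ZMod 3) := ⟨!![1, 1; 1, -1], by decide⟩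

theorem ffQi_pow : ffQi ^ 4 = 1 := by decide

theorem ffQj_pow : ffQj ^ 4 = 1 := by decide

theorem ffQij : ffQi * ffQj ≠ ffQj * ffQi := by decide

theorem comm_QA_structure {G : Type*} [Group G] [Finite G] {p : ℕ} [hp : Fact p.Prime]
    {V H Q A : Subgroup G} (S : FFSet p V H Q) (hA : IsRoot p V H A) :
    (p = 2 ∧ IsPGroup 3 ↥(⁅Q, A⁆)) ∨
      (p = 3 ∧ IsPGroup 2 ↥(⁅Q, A⁆) ∧ ¬ IsMulCommutative ↥(⁅Q, A⁆)) := by
  have hcard := card_comm_QA S hA
  obtain ⟨e⟩ := E_iso S hA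
  rcases E_p23 S hA with h2 | h3
  · left
    subst h2
    exact ⟨rfl, IsPGroup.of_card (n := 1) (by rw [hcard]; norm_num)⟩
  · right
    subst h3
    refine ⟨rfl, IsPGroup.of_card (n := 3) (by rw [hcard]; norm_num), ?_⟩
    intro hcomm
    have hnorm : ((⁅Q, A⁆ : Subgroup G).subgroupOf (⁅Q, A⁆ ⊔ A)).Normal :=
      Subgroup.normal_subgroupOf_of_le_normalizer
        (sup_le Subgroup.le_normalizer (Cfsg.Agent.Lib.helper53.le_normalizer_commutator_right Q A))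
    have hidx : ((⁅Q, A⁆ : Subgroup G).subgroupOf (⁅Q, A⁆ ⊔ A)).index = 3 := by
      have h1 := Subgroup.card_mul_index ((⁅Q, A⁆ : Subgroup G).subgroupOf (⁅Q, A⁆ ⊔ A))
      rw [Cfsg.Agent.Lib.helper13.card_subgroupOf_eq_card_inf, inf_eq_left.mpr le_sup_left, hcard,
        Nat.card_congr e.toEquiv, Cfsg.Agent.Lib.helper43.card_SL2, ZMod.card] at h1
      omega
    have key : ∀ g : Matrix.SpecialLinearGroup (Fin 2) (ZMod 3), g ^ 4 = 1 →
        ((e.symm g : ↥(⁅Q, A⁆ ⊔ A)) : G) ∈ ⁅Q, A⁆ := by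
      intro g hg
      have h1 := Subgroup.pow_index_mem ((⁅Q, A⁆ : Subgroup G).subgroupOf (⁅Q, A⁆ ⊔ A)) (e.symm g)
      rw [hidx] at h1
      have h2 : (e.symm g) ^ 4 = 1 := by rw [← map_pow, hg, map_one]
      have h3 : e.symm g = ((e.symm g) ^ 3)⁻¹ := by
        rw [eq_inv_iff_mul_eq_one, ← pow_succ']
        exact h2
      have h4 := Subgroup.inv_mem _ h1
      rw [← h3] at h4
      exact h4
    have hi := key ffQi ffQi_pow
    have hj := key ffQj ffQj_pow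
    have h5 : ((e.symm ffQi : ↥(⁅Q, A⁆ ⊔ A)) : G) * ((e.symm ffQj : ↥(⁅Q, A⁆ ⊔ A)) : G) =
        ((e.symm ffQj : ↥(⁅Q, A⁆ ⊔ A)) : G) * ((e.symm ffQi : ↥(⁅Q, A⁆ ⊔ A)) : G) :=
      congrArg Subtype.val (mul_comm' (⟨_, hi⟩ : ↥(⁅Q, A⁆)) ⟨_, hj⟩)
    have h6 : e.symm ffQi * e.symm ffQj = e.symm ffQj * e.symm ffQi := Subtype.ext h5
    rw [← map_mul, ← map_mul] at h6
    exact ffQij (e.symm.injective h6)

end Cfsg.Agent.Lib.helper14
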