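import Mathlib
import Cfsg.Agent.Lib.helper14.FF2

/-!
helper14: failure-of-factorization structure theory (KS 9.3), part 3.

The dichotomy for two root subgroups `A₁, A₂` with `E_i = [Q, A_i] A_i`: either `E₁ = E₂`, or
`E₁` and `E₂` commute and each centralizes the plane of the other (`E_dichotomy`).
-/

set_option autoImplicit false
open Cfsg

namespace Cfsg.Agent.Lib.helper14

open scoped commutatorElement

section FF3

variable {G : Type*} [Group G]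

theorem mem_normalizer_of_cj_le {E : Subgroup G} {q : G} (h1 : cj q E ≤ E)
    (h2 : cj q⁻¹ E ≤ E) : q ∈ Subgroup.normalizer (E : Set G) := by
  rw [Subgroup.mem_normalizer_iff]
  intro g
  constructor
  · intro hg
    exact h1 (conj_mem_cj hg)
  · intro hg
    have := h2 (conj_mem_cj hg)
    simpa [mul_assoc] using this

/-- `Q` normalizes `[Q, A] A`. -/
theorem Q_le_normalizer_E (Q A : Subgroup G) :
    Q ≤ Subgroup.normalizer ((⁅Q, A⁆ ⊔ A : Subgroup G) : Set G) := by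
  have key : ∀ q ∈ Q, cj q (⁅Q, A⁆ ⊔ A) ≤ ⁅Q, A⁆ ⊔ A := by
    intro q hq
    rw [cj_sup]
    apply sup_le
    · rw [cj_eq_of_mem_normalizer
        (Cfsg.Agent.Lib.helper53.le_normalizer_commutator_left Q A hq)]
      exact le_sup_left
    · intro g hg
      obtain ⟨a, ha, rfl⟩ := mem_cj.mp hg
      have : q * a * q⁻¹ = ⁅q, a⁆ * a := by rw [commutatorElement_def]; group
      rw [this]
      exact Subgroup.mul_mem _
        (Subgroup.mem_sup_left (Subgroup.commutator_mem_commutator hq ha))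
        (Subgroup.mem_sup_right ha)
  intro q hq
  exact mem_normalizer_of_cj_le (key q hq) (key q⁻¹ (Q.inv_mem hq))

variable [Finite G] {p : ℕ} [hp : Fact p.Prime] {V H Q A A₁ A₂ : Subgroup G}

theorem W_Qinv (S : FFSet p V H Q) (A : Subgroup G) :
    Q ≤ Subgroup.normalizer ((⁅V, ⁅Q, A⁆ ⊔ A⁆ : Subgroup G) : Set G) := fun _ hq =>
  Cfsg.Agent.Lib.helper53.mem_normalizer_commutator (S.hHV (S.hQH hq)) (Q_le_normalizer_E Q A hq)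

/-- the plane `[V, E]` is irreducible under `Q` -/
theorem W_Qirr (S : FFSet p V H Q) (hA : IsRoot p V H A) {F : Subgroup G}
    (hF : F ≤ ⁅V, ⁅Q, A⁆ ⊔ A⁆) (hQF : Q ≤ Subgroup.normalizer (F : Set G)) (hF1 : F ≠ ⊥) :
    F = ⁅V, ⁅Q, A⁆ ⊔ A⁆ := by
  obtain ⟨z, hz, hz1⟩ : ∃ z ∈ F, z ≠ 1 := by
    by_contra hcon
    push Not at hcon
    exact hF1 (eq_bot_iff.mpr (fun z hz => Subgroup.mem_bot.mpr (hcon z hz)))
  obtain ⟨P, hP, hPE, hzP⟩ := E_points S hA (hF hz) hz1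
  have hzP' : ⁅V, P⁆ ≤ F := by
    rw [← zpowers_eq_of_card_prime hP.cardc hzP hz1, Subgroup.zpowers_le]
    exact hz
  obtain ⟨x, hx, hxP⟩ := exists_not_mem_centralizer S hP
  have hP' := hP.cj S (S.hQH hx)
  have h1 : ⁅V, cj x P⁆ ≤ F := by
    have h2 : cj x ⁅V, P⁆ = ⁅V, cj x P⁆ := by rw [cj_commutator, S.cjV (S.hQH hx)]
    rw [← h2, ← cj_eq_of_mem_normalizer (hQF hx)]
    exact cj_mono hzP'
  have h3 := pair_comm_card S hP hP' (cj_le_sup S hP.le hx)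
    (ne_cj_of_not_mem_centralizer S hP hx hxP)
  rw [pair_comm_eq S hP.le hP'.le] at h3
  have h4 : Nat.card ↥(⁅V, P⁆ ⊔ ⁅V, cj x P⁆) ≤ Nat.card F :=
    Subgroup.card_le_of_le (sup_le hzP' h1)
  exact Subgroup.eq_of_le_of_card_ge hF (by rw [E_card_comm S hA, ← h3]; exact h4)

theorem card_fix_E (S : FFSet p V H Q) (hA : IsRoot p V H A) :
    p ^ 2 * Nat.card ↥(V ⊓ Subgroup.centralizer ((⁅Q, A⁆ ⊔ A : Subgroup G) : Set G)) =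
      Nat.card V := by
  have hWV : ⁅V, ⁅Q, A⁆ ⊔ A⁆ ≤ V := S.comm_le_V (E_le S hA)
  have h1 := Cfsg.Agent.Lib.helper13.card_sup_mul_card_inf ⁅V, ⁅Q, A⁆ ⊔ A⁆
    (V ⊓ Subgroup.centralizer ((⁅Q, A⁆ ⊔ A : Subgroup G) : Set G))
    (le_normalizer_of_le_comm S.Vcomm hWV inf_le_left)
  rw [E_inf_fix S hA, Subgroup.card_bot, mul_one, E_card_comm S hA, E_sup_fix S hA] at h1
  exact h1.symm

/-- `C_V([Q, A]) = C_V(E)` -/
theorem fix_Q_eq (S : FFSet p V H Q) (hA : IsRoot p V H A) :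
    V ⊓ Subgroup.centralizer ((⁅Q, A⁆ : Subgroup G) : Set G) =
      V ⊓ Subgroup.centralizer ((⁅Q, A⁆ ⊔ A : Subgroup G) : Set G) := by
  apply le_antisymm
  · intro v hv
    have hv' : v ∈ ⁅V, ⁅Q, A⁆ ⊔ A⁆ ⊔
        (V ⊓ Subgroup.centralizer ((⁅Q, A⁆ ⊔ A : Subgroup G) : Set G)) := by
      rw [E_sup_fix S hA]; exact hv.1
    have hWV : ⁅V, ⁅Q, A⁆ ⊔ A⁆ ≤ V := S.comm_le_V (E_le S hA)
    obtain ⟨w, hw, c, hc, rfl⟩ := (Cfsg.Agent.Lib.helper53.mem_sup_of_le_normalizer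
      (le_normalizer_of_le_comm S.Vcomm (inf_le_left :
        V ⊓ Subgroup.centralizer ((⁅Q, A⁆ ⊔ A : Subgroup G) : Set G) ≤ V) hWV)).mp hv'
    have hcQ : c ∈ Subgroup.centralizer ((⁅Q, A⁆ : Subgroup G) : Set G) :=
      Subgroup.centralizer_le (SetLike.coe_subset_coe.mpr le_sup_left) hc.2
    have hwQ : w ∈ Subgroup.centralizer ((⁅Q, A⁆ : Subgroup G) : Set G) := by
      have : w = (w * c) * c⁻¹ := by group
      rw [this]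
      exact Subgroup.mul_mem _ hv.2 (Subgroup.inv_mem _ hcQ)
    -- `F = W ⊓ C(Q₁)` is `Q`-invariant
    have hQF : Q ≤ Subgroup.normalizer ((⁅V, ⁅Q, A⁆ ⊔ A⁆ ⊓
        Subgroup.centralizer ((⁅Q, A⁆ : Subgroup G) : Set G) : Subgroup G) : Set G) :=
      fun q hq => mem_normalizer_inf (W_Qinv S A hq)
        (mem_normalizer_centralizer
          (Cfsg.Agent.Lib.helper53.le_normalizer_commutator_left Q A hq))
    have hFbot : ⁅V, ⁅Q, A⁆ ⊔ A⁆ ⊓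
        Subgroup.centralizer ((⁅Q, A⁆ : Subgroup G) : Set G) = ⊥ := by
      by_contra hne
      have h1 := W_Qirr S hA inf_le_left hQF hne
      have h2 : ⁅V, ⁅Q, A⁆ ⊔ A⁆ ≤ Subgroup.centralizer ((⁅Q, A⁆ : Subgroup G) : Set G) := by
        rw [← h1]; exact inf_le_right
      have h3 : ⁅Q, A⁆ ≤ (⁅Q, A⁆ ⊔ A) ⊓
          Subgroup.centralizer ((⁅V, ⁅Q, A⁆ ⊔ A⁆ : Subgroup G) : Set G) :=
        le_inf le_sup_left (Subgroup.le_centralizer_iff.mp h2)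
      rw [E_faithful S hA] at h3
      have h4 := card_comm_QA S hA
      rw [eq_bot_iff.mpr h3, Subgroup.card_bot] at h4
      have := hp.out.two_le
      have h5 : 2 * 2 ≤ p ^ 2 := by nlinarith
      omega
    have hw1 : w = 1 := by
      have : w ∈ ⁅V, ⁅Q, A⁆ ⊔ A⁆ ⊓ Subgroup.centralizer ((⁅Q, A⁆ : Subgroup G) : Set G) :=
        ⟨hw, hwQ⟩
      rwa [hFbot, Subgroup.mem_bot] at this
    rw [hw1, one_mul]
    exact hc
  · exact inf_le_inf_left V (Subgroup.centralizer_le (SetLike.coe_subset_coe.mpr le_sup_left))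

/-- two root subgroups with the same centre and the same fixed points coincide -/
theorem roots_same_center (S : FFSet p V H Q) {P : Subgroup G} (hP : IsRoot p V H P)
    (hA₂ : IsRoot p V H A₂) (hc : ⁅V, P⁆ = ⁅V, A₂⁆)
    (hfix : V ⊓ Subgroup.centralizer (P : Set G) = V ⊓ Subgroup.centralizer (A₂ : Set G)) :
    P = A₂ := by
  have hpp := hp.out
  have hK := hP.card_fix S
  -- an element of `V` not fixed by `P`
  obtain ⟨v₀, hv₀, hv₀P⟩ : ∃ v₀ ∈ V, v₀ ∉ Subgroup.centralizer (P : Set G) := by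
    by_contra hcon
    push Not at hcon
    have h1 : V ⊓ Subgroup.centralizer (P : Set G) = V := inf_eq_left.mpr hcon
    rw [h1] at hK
    have hVpos : 0 < Nat.card V := Nat.card_pos
    have : Nat.card V * p = Nat.card V * 1 := by rw [hK, mul_one]
    have := Nat.eq_of_mul_eq_mul_left hVpos this
    exact hpp.one_lt.ne' this
  have hfmem : ∀ a ∈ P, a * v₀ * a⁻¹ * v₀⁻¹ ∈ ⁅V, P⁆ := by
    intro a ha
    have : ⁅a, v₀⁆ ∈ ⁅P, V⁆ := Subgroup.commutator_mem_commutator ha hv₀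
    rw [Subgroup.commutator_comm] at this
    rwa [commutatorElement_def] at this
  have hinj : Function.Injective
      (fun a : ↥P => (⟨(a : G) * v₀ * (a : G)⁻¹ * v₀⁻¹, hfmem a a.2⟩ : ↥(⁅V, P⁆))) := by
    intro a₁ a₂ h
    have h1 : (a₁ : G) * v₀ * (a₁ : G)⁻¹ * v₀⁻¹ = a₂ * v₀ * (a₂ : G)⁻¹ * v₀⁻¹ :=
      congrArg Subtype.val h
    by_contra hne12
    have hcP : (a₂ : G)⁻¹ * a₁ ∈ P := P.mul_mem (P.inv_mem a₂.2) a₁.2
    have hc1 : (a₂ : G)⁻¹ * a₁ ≠ 1 := by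
      intro h
      apply hne12
      apply Subtype.ext
      have : (a₁ : G) = a₂ * ((a₂ : G)⁻¹ * a₁) := by group
      rw [this, h, mul_one]
    have hcu : Commute ((a₂ : G)⁻¹ * a₁) v₀ := by
      have h2 : (a₁ : G) * v₀ * (a₁ : G)⁻¹ = a₂ * v₀ * (a₂ : G)⁻¹ := mul_right_cancel h1
      show (a₂ : G)⁻¹ * a₁ * v₀ = v₀ * ((a₂ : G)⁻¹ * a₁)
      calc (a₂ : G)⁻¹ * a₁ * v₀ = (a₂ : G)⁻¹ * (a₁ * v₀ * (a₁ : G)⁻¹) * a₁ := by group
        _ = (a₂ : G)⁻¹ * (a₂ * v₀ * (a₂ : G)⁻¹) * a₁ := by rw [h2]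
        _ = v₀ * ((a₂ : G)⁻¹ * a₁) := by group
    apply hv₀P
    rw [← hP.zpowers_eq hcP hc1, Subgroup.mem_centralizer_iff]
    intro h hh
    obtain ⟨k, rfl⟩ := Subgroup.mem_zpowers_iff.mp hh
    exact (hcu.zpow_left k).eq
  have hbij := hinj.bijective_of_nat_card_le (by rw [hP.card, hP.cardc])
  have hle : A₂ ≤ P := by
    intro a₂ ha₂
    have h1 : a₂ * v₀ * a₂⁻¹ * v₀⁻¹ ∈ ⁅V, P⁆ := by
      rw [hc]
      have : ⁅a₂, v₀⁆ ∈ ⁅A₂, V⁆ := Subgroup.commutator_mem_commutator ha₂ hv₀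
      rw [Subgroup.commutator_comm] at this
      rwa [commutatorElement_def] at this
    obtain ⟨a, ha⟩ := hbij.2 ⟨_, h1⟩
    have h2 : (a : G) * v₀ * (a : G)⁻¹ * v₀⁻¹ = a₂ * v₀ * a₂⁻¹ * v₀⁻¹ := congrArg Subtype.val ha
    have h3 : (a : G) * v₀ * (a : G)⁻¹ = a₂ * v₀ * a₂⁻¹ := mul_right_cancel h2
    -- `c = a⁻¹ a₂` centralizes `V`
    have hcH : (a : G)⁻¹ * a₂ ∈ H := H.mul_mem (H.inv_mem (hP.le a.2)) (hA₂.le ha₂)
    have hcv₀ : Commute ((a : G)⁻¹ * a₂) v₀ := by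
      show (a : G)⁻¹ * a₂ * v₀ = v₀ * ((a : G)⁻¹ * a₂)
      calc (a : G)⁻¹ * a₂ * v₀ = (a : G)⁻¹ * (a₂ * v₀ * a₂⁻¹) * a₂ := by group
        _ = (a : G)⁻¹ * (a * v₀ * (a : G)⁻¹) * a₂ := by rw [h3]
        _ = v₀ * ((a : G)⁻¹ * a₂) := by group
    have hKle : V ⊓ Subgroup.centralizer (P : Set G) ≤
        V ⊓ Subgroup.centralizer ((Subgroup.zpowers ((a : G)⁻¹ * a₂) : Subgroup G) : Set G) := by
      intro k hk
      refine ⟨hk.1, Subgroup.mem_centralizer_iff.mpr ?_⟩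
      intro h hh
      obtain ⟨n, rfl⟩ := Subgroup.mem_zpowers_iff.mp hh
      have hk2 : k ∈ V ⊓ Subgroup.centralizer (A₂ : Set G) := hfix ▸ hk
      have e1 : (a : G)⁻¹ * k = k * (a : G)⁻¹ :=
        (Subgroup.mem_centralizer_iff.mp hk.2) _ (P.inv_mem a.2)
      have e2 : a₂ * k = k * a₂ := (Subgroup.mem_centralizer_iff.mp hk2.2) _ ha₂
      have e3 : Commute ((a : G)⁻¹ * a₂) k := by
        show (a : G)⁻¹ * a₂ * k = k * ((a : G)⁻¹ * a₂)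
        calc (a : G)⁻¹ * a₂ * k = (a : G)⁻¹ * (a₂ * k) := by group
          _ = (a : G)⁻¹ * (k * a₂) := by rw [e2]
          _ = ((a : G)⁻¹ * k) * a₂ := by group
          _ = (k * (a : G)⁻¹) * a₂ := by rw [e1]
          _ = k * ((a : G)⁻¹ * a₂) := by group
      exact (e3.zpow_left n).eq
    have hv₀X : v₀ ∈ V ⊓
        Subgroup.centralizer ((Subgroup.zpowers ((a : G)⁻¹ * a₂) : Subgroup G) : Set G) := by
      refine ⟨hv₀, Subgroup.mem_centralizer_iff.mpr ?_⟩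
      intro h hh
      obtain ⟨n, rfl⟩ := Subgroup.mem_zpowers_iff.mp hh
      exact (hcv₀.zpow_left n).eq
    have hXV : V ⊓
        Subgroup.centralizer ((Subgroup.zpowers ((a : G)⁻¹ * a₂) : Subgroup G) : Set G) = V := by
      have r1 := Cfsg.Agent.Lib.helper13.relIndex_mul_card_of_le hKle
      have r2 := Cfsg.Agent.Lib.helper13.relIndex_mul_card_of_le (inf_le_left :
        V ⊓ Subgroup.centralizer ((Subgroup.zpowers ((a : G)⁻¹ * a₂) : Subgroup G) : Set G) ≤ V)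
      rw [← r1, ← hK] at r2
      have hKpos : 0 < Nat.card ↥(V ⊓ Subgroup.centralizer (P : Set G)) := Nat.card_pos
      have r3 : (V ⊓ Subgroup.centralizer ((Subgroup.zpowers ((a : G)⁻¹ * a₂) : Subgroup G) :
          Set G)).relIndex V * (V ⊓ Subgroup.centralizer (P : Set G)).relIndex (V ⊓
          Subgroup.centralizer ((Subgroup.zpowers ((a : G)⁻¹ * a₂) : Subgroup G) : Set G)) = p := by
        have : ((V ⊓ Subgroup.centralizer ((Subgroup.zpowers ((a : G)⁻¹ * a₂) : Subgroup G) :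
          Set G)).relIndex V * (V ⊓ Subgroup.centralizer (P : Set G)).relIndex (V ⊓
          Subgroup.centralizer ((Subgroup.zpowers ((a : G)⁻¹ * a₂) : Subgroup G) : Set G))) *
          Nat.card ↥(V ⊓ Subgroup.centralizer (P : Set G)) =
          p * Nat.card ↥(V ⊓ Subgroup.centralizer (P : Set G)) := by
          rw [mul_assoc, r2, mul_comm]
        exact Nat.eq_of_mul_eq_mul_right hKpos this
      have r4 : (V ⊓ Subgroup.centralizer (P : Set G)).relIndex (V ⊓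
          Subgroup.centralizer ((Subgroup.zpowers ((a : G)⁻¹ * a₂) : Subgroup G) : Set G)) ∣ p :=
        Dvd.intro_left _ r3
      rcases (Nat.dvd_prime hpp).mp r4 with h1' | h1'
      · exfalso
        rw [h1', one_mul] at r1
        have : V ⊓ Subgroup.centralizer (P : Set G) = V ⊓
            Subgroup.centralizer ((Subgroup.zpowers ((a : G)⁻¹ * a₂) : Subgroup G) : Set G) :=
          Subgroup.eq_of_le_of_card_ge hKle r1.symm.le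
        apply hv₀P
        have h5 : v₀ ∈ V ⊓ Subgroup.centralizer (P : Set G) := this ▸ hv₀X
        exact h5.2
      · rw [h1', mul_comm] at r3
        have r5 : (V ⊓ Subgroup.centralizer ((Subgroup.zpowers ((a : G)⁻¹ * a₂) : Subgroup G) :
            Set G)).relIndex V = 1 := by
          have : p * (V ⊓ Subgroup.centralizer ((Subgroup.zpowers ((a : G)⁻¹ * a₂) : Subgroup G) :
            Set G)).relIndex V = p * 1 := by rw [r3, mul_one]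
          exact Nat.eq_of_mul_eq_mul_left hpp.pos this
        have r6 := Cfsg.Agent.Lib.helper13.relIndex_mul_card_of_le (inf_le_left :
          V ⊓ Subgroup.centralizer ((Subgroup.zpowers ((a : G)⁻¹ * a₂) : Subgroup G) : Set G) ≤ V)
        rw [r5, one_mul] at r6
        exact Subgroup.eq_of_le_of_card_ge inf_le_left r6.symm.le
    have hcV : (a : G)⁻¹ * a₂ ∈ Subgroup.centralizer (V : Set G) := by
      rw [Subgroup.mem_centralizer_iff]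
      intro v hv
      have hv' : v ∈ V ⊓
          Subgroup.centralizer ((Subgroup.zpowers ((a : G)⁻¹ * a₂) : Subgroup G) : Set G) :=
        hXV.symm ▸ hv
      exact ((Subgroup.mem_centralizer_iff.mp hv'.2) _ (Subgroup.mem_zpowers _)).symm
    have hc1 := S.eq_one hcH hcV
    have : a₂ = a := by
      calc a₂ = a * ((a : G)⁻¹ * a₂) := by group
        _ = a := by rw [hc1, mul_one]
    rw [this]
    exact a.2
  exact (eq_of_le_of_card_prime hA₂.card hP.card hle).symm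

/-- fixed points of a root subgroup `P ≤ E` -/
theorem fix_root_eq (S : FFSet p V H Q) (hA : IsRoot p V H A) {P : Subgroup G}
    (hP : IsRoot p V H P) (hPE : P ≤ ⁅Q, A⁆ ⊔ A) :
    V ⊓ Subgroup.centralizer (P : Set G) =
      ⁅V, P⁆ ⊔ (V ⊓ Subgroup.centralizer ((⁅Q, A⁆ ⊔ A : Subgroup G) : Set G)) := by
  have hPV : ⁅V, P⁆ ≤ V := S.comm_le_V hP.le
  have hle : ⁅V, P⁆ ⊔ (V ⊓ Subgroup.centralizer ((⁅Q, A⁆ ⊔ A : Subgroup G) : Set G)) ≤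
      V ⊓ Subgroup.centralizer (P : Set G) := by
    apply sup_le
    · exact le_inf hPV (Subgroup.le_centralizer_iff.mp (hP.le_centralizer_comm S))
    · exact inf_le_inf_left V (Subgroup.centralizer_le (SetLike.coe_subset_coe.mpr hPE))
  symm
  apply Subgroup.eq_of_le_of_card_ge hle
  have h1 := Cfsg.Agent.Lib.helper13.card_sup_mul_card_inf ⁅V, P⁆
    (V ⊓ Subgroup.centralizer ((⁅Q, A⁆ ⊔ A : Subgroup G) : Set G))
    (le_normalizer_of_le_comm S.Vcomm hPV inf_le_left)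
  have h2 : ⁅V, P⁆ ⊓ (V ⊓ Subgroup.centralizer ((⁅Q, A⁆ ⊔ A : Subgroup G) : Set G)) = ⊥ := by
    rw [eq_bot_iff, ← E_inf_fix S hA]
    exact inf_le_inf_right _ (Subgroup.commutator_mono le_rfl hPE)
  rw [h2, Subgroup.card_bot, mul_one, hP.cardc] at h1
  have h3 := card_fix_E S hA
  have h4 := hP.card_fix S
  have h5 : Nat.card ↥(V ⊓ Subgroup.centralizer (P : Set G)) * p =
      Nat.card ↥(⁅V, P⁆ ⊔ (V ⊓ Subgroup.centralizer ((⁅Q, A⁆ ⊔ A : Subgroup G) : Set G))) * p := by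
    rw [h4, h1, ← h3]; ring
  exact (Nat.eq_of_mul_eq_mul_right hp.out.pos h5).le

theorem Q_le_normalizer_fixE (S : FFSet p V H Q) (A : Subgroup G) :
    Q ≤ Subgroup.normalizer ((V ⊓ Subgroup.centralizer ((⁅Q, A⁆ ⊔ A : Subgroup G) : Set G) :
      Subgroup G) : Set G) := fun _ hq =>
  mem_normalizer_inf (S.hHV (S.hQH hq)) (mem_normalizer_centralizer (Q_le_normalizer_E Q A hq))

theorem comm_VQ_le (S : FFSet p V H Q) (hA : IsRoot p V H A) :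
    ⁅V, ⁅Q, A⁆⁆ ≤ ⁅V, ⁅Q, A⁆ ⊔ A⁆ := Subgroup.commutator_mono le_rfl le_sup_left

/-- if the planes coincide, then so do the fixed points -/
theorem fixE_le_of_W_eq (S : FFSet p V H Q) (hA₁ : IsRoot p V H A₁) (hA₂ : IsRoot p V H A₂)
    (hW : ⁅V, ⁅Q, A₁⁆ ⊔ A₁⁆ = ⁅V, ⁅Q, A₂⁆ ⊔ A₂⁆) :
    V ⊓ Subgroup.centralizer ((⁅Q, A₁⁆ ⊔ A₁ : Subgroup G) : Set G) ≤
      V ⊓ Subgroup.centralizer ((⁅Q, A₂⁆ ⊔ A₂ : Subgroup G) : Set G) := by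
  rw [← fix_Q_eq S hA₂]
  intro c hc
  refine ⟨hc.1, Subgroup.mem_centralizer_iff.mpr ?_⟩
  intro q hq
  have hqQ : q ∈ Q := comm_QA_le S hA₂ hq
  -- `⁅c, q⁆ ∈ C_V(E₁) ⊓ W₁ = ⊥`
  have h1 : ⁅c, q⁆ ∈ V ⊓ Subgroup.centralizer ((⁅Q, A₁⁆ ⊔ A₁ : Subgroup G) : Set G) := by
    have h2 : q * c⁻¹ * q⁻¹ ∈ V ⊓ Subgroup.centralizer ((⁅Q, A₁⁆ ⊔ A₁ : Subgroup G) : Set G) :=
      (Subgroup.mem_normalizer_iff.mp (Q_le_normalizer_fixE S A₁ hqQ) c⁻¹).mp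
        (Subgroup.inv_mem _ hc)
    have h3 : ⁅c, q⁆ = c * (q * c⁻¹ * q⁻¹) := by rw [commutatorElement_def]; group
    rw [h3]
    exact Subgroup.mul_mem _ hc h2
  have h4 : ⁅c, q⁆ ∈ ⁅V, ⁅Q, A₁⁆ ⊔ A₁⁆ := by
    rw [hW]
    exact comm_VQ_le S hA₂ (Subgroup.commutator_mem_commutator hc.1 hq)
  have h5 : ⁅c, q⁆ ∈ ⁅V, ⁅Q, A₁⁆ ⊔ A₁⁆ ⊓
      (V ⊓ Subgroup.centralizer ((⁅Q, A₁⁆ ⊔ A₁ : Subgroup G) : Set G)) := ⟨h4, h1⟩
  rw [E_inf_fix S hA₁, Subgroup.mem_bot, commutatorElement_eq_one_iff_mul_comm] at h5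
  exact h5.symm

theorem E_le_of_W_eq (S : FFSet p V H Q) (hA₁ : IsRoot p V H A₁) (hA₂ : IsRoot p V H A₂)
    (hW : ⁅V, ⁅Q, A₁⁆ ⊔ A₁⁆ = ⁅V, ⁅Q, A₂⁆ ⊔ A₂⁆) : ⁅Q, A₂⁆ ⊔ A₂ ≤ ⁅Q, A₁⁆ ⊔ A₁ := by
  have hfix : V ⊓ Subgroup.centralizer ((⁅Q, A₁⁆ ⊔ A₁ : Subgroup G) : Set G) =
      V ⊓ Subgroup.centralizer ((⁅Q, A₂⁆ ⊔ A₂ : Subgroup G) : Set G) :=
    le_antisymm (fixE_le_of_W_eq S hA₁ hA₂ hW) (fixE_le_of_W_eq S hA₂ hA₁ hW.symm)
  have hA₂E : A₂ ≤ ⁅Q, A₁⁆ ⊔ A₁ := by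
    obtain ⟨z, hz, hz1⟩ : ∃ z ∈ ⁅V, A₂⁆, z ≠ 1 := by
      by_contra hcon
      push Not at hcon
      have h1 : ⁅V, A₂⁆ = ⊥ := eq_bot_iff.mpr (fun z hz => Subgroup.mem_bot.mpr (hcon z hz))
      have h2 := hA₂.cardc
      rw [h1, Subgroup.card_bot] at h2
      exact hp.out.one_lt.ne h2
    have hzW : z ∈ ⁅V, ⁅Q, A₁⁆ ⊔ A₁⁆ := by
      rw [hW]; exact Subgroup.commutator_mono le_rfl le_sup_right hz
    obtain ⟨P, hP, hPE, hzP⟩ := E_points S hA₁ hzW hz1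
    have hc : ⁅V, P⁆ = ⁅V, A₂⁆ := by
      rw [← zpowers_eq_of_card_prime hP.cardc hzP hz1,
        ← zpowers_eq_of_card_prime hA₂.cardc hz hz1]
    have hPA₂ : P = A₂ := by
      apply roots_same_center S hP hA₂ hc
      rw [fix_root_eq S hA₁ hP hPE, fix_root_eq S hA₂ hA₂ le_sup_right, hc, hfix]
    rw [← hPA₂]
    exact hPE
  refine sup_le ?_ hA₂E
  rw [Subgroup.commutator_le]
  intro q hq a ha
  have h1 : q * a * q⁻¹ ∈ ⁅Q, A₁⁆ ⊔ A₁ :=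
    (Subgroup.mem_normalizer_iff.mp (Q_le_normalizer_E Q A₁ hq) a).mp (hA₂E ha)
  rw [commutatorElement_def]
  exact Subgroup.mul_mem _ h1 (Subgroup.inv_mem _ (hA₂E ha))

/-- **Dichotomy** for the subgroups `E = [Q, A] A` of two root subgroups. -/
theorem E_dichotomy (S : FFSet p V H Q) (hA₁ : IsRoot p V H A₁) (hA₂ : IsRoot p V H A₂) :
    ⁅Q, A₁⁆ ⊔ A₁ = ⁅Q, A₂⁆ ⊔ A₂ ∨
      (⁅V, ⁅Q, A₁⁆ ⊔ A₁⁆ ≤ Subgroup.centralizer ((⁅Q, A₂⁆ ⊔ A₂ : Subgroup G) : Set G) ∧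
       ⁅V, ⁅Q, A₂⁆ ⊔ A₂⁆ ≤ Subgroup.centralizer ((⁅Q, A₁⁆ ⊔ A₁ : Subgroup G) : Set G) ∧
       ⁅Q, A₁⁆ ⊔ A₁ ≤ Subgroup.centralizer ((⁅Q, A₂⁆ ⊔ A₂ : Subgroup G) : Set G)) := by
  have hW₁V : ⁅V, ⁅Q, A₁⁆ ⊔ A₁⁆ ≤ V := S.comm_le_V (E_le S hA₁)
  have hW₂V : ⁅V, ⁅Q, A₂⁆ ⊔ A₂⁆ ≤ V := S.comm_le_V (E_le S hA₂)
  by_cases hZ : ⁅V, ⁅Q, A₁⁆ ⊔ A₁⁆ ⊓ ⁅V, ⁅Q, A₂⁆ ⊔ A₂⁆ = ⊥
  · right
    -- general claim: planes with trivial intersection are orthogonal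
    have key : ∀ (B₁ B₂ : Subgroup G), IsRoot p V H B₁ → IsRoot p V H B₂ →
        ⁅V, ⁅Q, B₁⁆ ⊔ B₁⁆ ⊓ ⁅V, ⁅Q, B₂⁆ ⊔ B₂⁆ = ⊥ →
        ⁅V, ⁅Q, B₁⁆ ⊔ B₁⁆ ≤ Subgroup.centralizer ((⁅Q, B₂⁆ ⊔ B₂ : Subgroup G) : Set G) := by
      intro B₁ B₂ hB₁ hB₂ hbot w hw
      have hwV : w ∈ V := S.comm_le_V (E_le S hB₁) hw
      have h1 : w ∈ V ⊓ Subgroup.centralizer ((⁅Q, B₂⁆ : Subgroup G) : Set G) := by
        refine ⟨hwV, Subgroup.mem_centralizer_iff.mpr ?_⟩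
        intro q hq
        have hqQ : q ∈ Q := comm_QA_le S hB₂ hq
        have h2 : ⁅w, q⁆ ∈ ⁅V, ⁅Q, B₁⁆ ⊔ B₁⁆ := by
          have h3 : q * w⁻¹ * q⁻¹ ∈ ⁅V, ⁅Q, B₁⁆ ⊔ B₁⁆ :=
            (Subgroup.mem_normalizer_iff.mp (W_Qinv S B₁ hqQ) w⁻¹).mp (Subgroup.inv_mem _ hw)
          have h4 : ⁅w, q⁆ = w * (q * w⁻¹ * q⁻¹) := by rw [commutatorElement_def]; group
          rw [h4]
          exact Subgroup.mul_mem _ hw h3
        have h5 : ⁅w, q⁆ ∈ ⁅V, ⁅Q, B₂⁆ ⊔ B₂⁆ :=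
          comm_VQ_le S hB₂ (Subgroup.commutator_mem_commutator hwV hq)
        have h6 : ⁅w, q⁆ ∈ ⁅V, ⁅Q, B₁⁆ ⊔ B₁⁆ ⊓ ⁅V, ⁅Q, B₂⁆ ⊔ B₂⁆ := ⟨h2, h5⟩
        rw [hbot, Subgroup.mem_bot, commutatorElement_eq_one_iff_mul_comm] at h6
        exact h6.symm
      rw [fix_Q_eq S hB₂] at h1
      exact h1.2
    have k1 := key A₁ A₂ hA₁ hA₂ hZ
    have k2 := key A₂ A₁ hA₂ hA₁ (by rw [inf_comm]; exact hZ)
    refine ⟨k1, k2, ?_⟩
    intro e₁ he₁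
    rw [Subgroup.mem_centralizer_iff]
    intro e₂ he₂
    have he₁H := E_le S hA₁ he₁
    have he₂H := E_le S hA₂ he₂
    apply S.eq_of_conj_eq (H.mul_mem he₂H he₁H) (H.mul_mem he₁H he₂H)
    intro v hv
    have hu₁ : e₁ * v * e₁⁻¹ * v⁻¹ ∈ ⁅V, ⁅Q, A₁⁆ ⊔ A₁⁆ := by
      have : ⁅e₁, v⁆ ∈ ⁅⁅Q, A₁⁆ ⊔ A₁, V⁆ := Subgroup.commutator_mem_commutator he₁ hv
      rw [Subgroup.commutator_comm] at this
      rwa [commutatorElement_def] at this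
    have hu₂ : e₂ * v * e₂⁻¹ * v⁻¹ ∈ ⁅V, ⁅Q, A₂⁆ ⊔ A₂⁆ := by
      have : ⁅e₂, v⁆ ∈ ⁅⁅Q, A₂⁆ ⊔ A₂, V⁆ := Subgroup.commutator_mem_commutator he₂ hv
      rw [Subgroup.commutator_comm] at this
      rwa [commutatorElement_def] at this
    -- `e₂` centralizes `u₁`, `e₁` centralizes `u₂`
    have c1 : (e₁ * v * e₁⁻¹ * v⁻¹) * e₂ = e₂ * (e₁ * v * e₁⁻¹ * v⁻¹) :=
      (Subgroup.mem_centralizer_iff.mp (k1 hu₁)) e₂ he₂ |>.symm
    have c2 : (e₂ * v * e₂⁻¹ * v⁻¹) * e₁ = e₁ * (e₂ * v * e₂⁻¹ * v⁻¹) :=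
      (Subgroup.mem_centralizer_iff.mp (k2 hu₂)) e₁ he₁ |>.symm
    have c3 : (e₁ * v * e₁⁻¹ * v⁻¹) * (e₂ * v * e₂⁻¹ * v⁻¹) =
        (e₂ * v * e₂⁻¹ * v⁻¹) * (e₁ * v * e₁⁻¹ * v⁻¹) :=
      S.Vcomm _ (hW₁V hu₁) _ (hW₂V hu₂)
    calc e₂ * e₁ * v * (e₂ * e₁)⁻¹
        = (e₂ * (e₁ * v * e₁⁻¹ * v⁻¹)) * e₂⁻¹ * (e₂ * v * e₂⁻¹ * v⁻¹) * v := by group
      _ = ((e₁ * v * e₁⁻¹ * v⁻¹) * e₂) * e₂⁻¹ * (e₂ * v * e₂⁻¹ * v⁻¹) * v := by rw [c1]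
      _ = ((e₁ * v * e₁⁻¹ * v⁻¹) * (e₂ * v * e₂⁻¹ * v⁻¹)) * v := by group
      _ = ((e₂ * v * e₂⁻¹ * v⁻¹) * (e₁ * v * e₁⁻¹ * v⁻¹)) * v := by rw [c3]
      _ = ((e₂ * v * e₂⁻¹ * v⁻¹) * e₁) * e₁⁻¹ * (e₁ * v * e₁⁻¹ * v⁻¹) * v := by group
      _ = (e₁ * (e₂ * v * e₂⁻¹ * v⁻¹)) * e₁⁻¹ * (e₁ * v * e₁⁻¹ * v⁻¹) * v := by rw [c2]
      _ = e₁ * e₂ * v * (e₁ * e₂)⁻¹ := by group
  · left
    have hQZ : Q ≤ Subgroup.normalizer ((⁅V, ⁅Q, A₁⁆ ⊔ A₁⁆ ⊓ ⁅V, ⁅Q, A₂⁆ ⊔ A₂⁆ : Subgroup G) :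
        Set G) := fun q hq => mem_normalizer_inf (W_Qinv S A₁ hq) (W_Qinv S A₂ hq)
    have h1 := W_Qirr S hA₁ inf_le_left hQZ hZ
    have h2 := W_Qirr S hA₂ inf_le_right hQZ hZ
    have hW : ⁅V, ⁅Q, A₁⁆ ⊔ A₁⁆ = ⁅V, ⁅Q, A₂⁆ ⊔ A₂⁆ := h1.symm.trans h2
    exact le_antisymm (E_le_of_W_eq S hA₂ hA₁ hW.symm) (E_le_of_W_eq S hA₁ hA₂ hW)

end FF3

end Cfsg.Agent.Lib.helper14
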