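import Mathlib
import Cfsg.Agent.Lib.helper14.FF1
import Cfsg.Agent.S0611

/-!
helper14: bridge from the hypotheses of the KS 9.3 statements (S0612–S0617) to the
`FFSet` / `IsRoot` setting of `FF1`.
-/

set_option autoImplicit false
open Cfsg

namespace Cfsg.Agent.Lib.helper14

open scoped commutatorElement

theorem ffSet_of_hyp {G : Type*} [Group G] [Finite G] {p : ℕ} [Fact p.Prime] (V H : Subgroup G)
    (hV : Cfsg.IsElementaryAbelian p V) (hHV : H ≤ Subgroup.normalizer (V : Set G))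
    (hf : H ⊓ Subgroup.centralizer (V : Set G) = ⊥)
    (hS1 : Subgroup.centralizer (Cfsg.pPrimeCore p ↥H : Set ↥H) ≤ Cfsg.pPrimeCore p ↥H) :
    FFSet p V H ((Cfsg.pPrimeCore p ↥H).map H.subtype) := by
  obtain ⟨hKH, hKn, hKcop⟩ := Cfsg.Agent.Lib.helper13.pPrimeCore_map_facts p H
  refine ⟨hV, hHV, hf, hKH, hKn, hKcop, ?_⟩
  intro h hh hcomm
  have h1 : (⟨h, hh⟩ : H) ∈ Subgroup.centralizer (Cfsg.pPrimeCore p ↥H : Set ↥H) := by
    rw [Subgroup.mem_centralizer_iff]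
    intro k hk
    apply Subtype.ext
    exact (hcomm k ⟨k, hk, rfl⟩).symm
  exact ⟨⟨h, hh⟩, hS1 h1, rfl⟩

theorem isRoot_of_min {G : Type*} [Group G] [Finite G] {p : ℕ} [Fact p.Prime] (V H : Subgroup G)
    (hV : Cfsg.IsElementaryAbelian p V) (hHV : H ≤ Subgroup.normalizer (V : Set G))
    (hf : H ⊓ Subgroup.centralizer (V : Set G) = ⊥)
    (hS1 : Subgroup.centralizer (Cfsg.pPrimeCore p ↥H : Set ↥H) ≤ Cfsg.pPrimeCore p ↥H)
    (hS3 : H = ⨆ A : {A : Subgroup G // A ≤ H ∧ Cfsg.IsBestOffenderOn p V A}, (A : Subgroup G))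
    (hH1 : H ≠ ⊥) (A : Subgroup G) (hAH : A ≤ H) (hA : Cfsg.IsBestOffenderOn p V A)
    (hAV : ⁅V, A⁆ ≠ ⊥)
    (hmin : ∀ B : Subgroup G, B ≤ A → Cfsg.IsBestOffenderOn p V B → ⁅V, B⁆ ≠ ⊥ → B = A) :
    IsRoot p V H A := by
  obtain ⟨h1, h2, -⟩ := Cfsg.Agent.S0611.result V H hV hHV hf hS1 hS3 hH1 A hAH hA hAV hmin
  exact ⟨hAH, h1, h2⟩

end Cfsg.Agent.Lib.helper14
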