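import Mathlib
import Cfsg.Agent.Lib.helper14.FF3
import Cfsg.Agent.Lib.helper14.FFBridge

/-!
helper14: failure-of-factorization structure theory (KS 9.3), part 4.

Every best offender normalizes `E = [Q, A] A` (`best_le_normalizer_E`), hence `E ⊴ H`, and
`H = E × C_H([V, E])` (`E_structure`).
-/

set_option autoImplicit false
open Cfsg

namespace Cfsg.Agent.Lib.helper14

open scoped commutatorElement

section FF4

open Matrix

variable {G : Type*} [Group G] [Finite G] {p : ℕ} [hp : Fact p.Prime]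

/-- best offenders in a faithful group are abelian -/
theorem best_comm {V H B : Subgroup G} (hf : H ⊓ Subgroup.centralizer (V : Set G) = ⊥)
    (hBH : B ≤ H) (hB : Cfsg.IsBestOffenderOn p V B) : ∀ a ∈ B, ∀ b ∈ B, a * b = b * a := by
  intro a ha b hb
  have h1 : ⁅a, b⁆ ∈ H ⊓ Subgroup.centralizer (V : Set G) := by
    refine ⟨?_, hB.2.1 (Subgroup.commutator_mem_commutator ha hb)⟩
    rw [commutatorElement_def]
    exact H.mul_mem (H.mul_mem (H.mul_mem (hBH ha) (hBH hb)) (H.inv_mem (hBH ha)))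
      (H.inv_mem (hBH hb))
  rw [hf, Subgroup.mem_bot, commutatorElement_eq_one_iff_mul_comm] at h1
  exact h1

/-- best offenders in a faithful group have exponent `p` -/
theorem best_pow {V H B : Subgroup G} (hf : H ⊓ Subgroup.centralizer (V : Set G) = ⊥)
    (hBH : B ≤ H) (hB : Cfsg.IsBestOffenderOn p V B) : ∀ a ∈ B, a ^ p = 1 := by
  intro a ha
  have h1 : a ^ p ∈ H ⊓ Subgroup.centralizer (V : Set G) :=
    ⟨H.pow_mem (hBH ha) p, hB.2.2 a ha⟩
  rwa [hf, Subgroup.mem_bot] at h1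

omit [Finite G] hp in
theorem isPGroup_of_pow {B : Subgroup G} (h : ∀ a ∈ B, a ^ p = 1) : IsPGroup p B := by
  rintro ⟨a, ha⟩
  refine ⟨1, Subtype.ext ?_⟩
  simpa using h a ha

/-- the action of the normalizer of a plane `W` on `W`, as a map to `GL₂(p)` -/
theorem exists_plane_hom (W : Subgroup G) (hWc : ∀ u ∈ W, ∀ v ∈ W, u * v = v * u)
    (hWp : ∀ w ∈ W, w ^ p = 1) (hWcard : Nat.card W = p ^ 2) :
    ∃ φ : ↥(Subgroup.normalizer (W : Set G)) →* GL (Fin 2) (ZMod p),
      ∀ g : ↥(Subgroup.normalizer (W : Set G)),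
        φ g = 1 ↔ (g : G) ∈ Subgroup.centralizer (W : Set G) := by
  have hWN : W ≤ Subgroup.normalizer (W : Set G) := Subgroup.le_normalizer
  have hnorm : (W.subgroupOf (Subgroup.normalizer (W : Set G))).Normal :=
    Subgroup.normal_in_normalizer
  have hcomm : IsMulCommutative ↥(W.subgroupOf (Subgroup.normalizer (W : Set G))) :=
    Cfsg.Agent.Lib.helper13.isMulCommutative_of_forall_comm _ (by
      rintro ⟨a, ha⟩ haW ⟨b, hb⟩ hbW
      exact Subtype.ext (hWc a haW b hbW))
  have hexp : ∀ x ∈ W.subgroupOf (Subgroup.normalizer (W : Set G)), x ^ p = 1 := by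
    rintro ⟨x, hx⟩ hxW
    exact Subtype.ext (by simpa using hWp x hxW)
  have hcard : Nat.card ↥(W.subgroupOf (Subgroup.normalizer (W : Set G))) = p ^ 2 := by
    rw [Cfsg.Agent.Lib.helper13.card_subgroupOf_eq_card_inf, inf_eq_left.mpr hWN, hWcard]
  obtain ⟨φ, hφ⟩ := Cfsg.Agent.Lib.helper62.exists_hom_GL_ker_centralizer
    (W.subgroupOf (Subgroup.normalizer (W : Set G))) p 2 hexp hcard
  refine ⟨φ, fun g => ?_⟩
  rw [← MonoidHom.mem_ker, hφ, Subgroup.mem_centralizer_iff, Subgroup.mem_centralizer_iff]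
  constructor
  · intro h w hw
    exact congrArg Subtype.val (h ⟨w, hWN hw⟩ (by exact hw))
  · rintro h ⟨w, hwN⟩ hw
    exact Subtype.ext (h w hw)

/-- a `p`-group acting on a plane has a subgroup of index at most `p` acting trivially -/
theorem card_le_of_plane (W B : Subgroup G) (hWc : ∀ u ∈ W, ∀ v ∈ W, u * v = v * u)
    (hWp : ∀ w ∈ W, w ^ p = 1) (hWcard : Nat.card W = p ^ 2)
    (hBW : B ≤ Subgroup.normalizer (W : Set G)) (hBp : IsPGroup p B) :
    Nat.card B ≤ p * Nat.card ↥(B ⊓ Subgroup.centralizer (W : Set G)) := by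
  have hpp := hp.out
  have : NeZero p := ⟨hpp.ne_zero⟩
  obtain ⟨φ, hφ⟩ := exists_plane_hom W hWc hWp hWcard
  have h1 := Subgroup.card_mul_index (φ.comp (Subgroup.inclusion hBW)).ker
  rw [Subgroup.index_ker] at h1
  have h2 : IsPGroup p ↥(φ.comp (Subgroup.inclusion hBW)).range :=
    hBp.of_surjective (φ.comp (Subgroup.inclusion hBW)).rangeRestrict
      (φ.comp (Subgroup.inclusion hBW)).rangeRestrict_surjective
  have h3 := Cfsg.Agent.Lib.helper88.card_dvd_of_isPGroup p _ h2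
  have h4 : ((φ.comp (Subgroup.inclusion hBW)).ker).map B.subtype =
      B ⊓ Subgroup.centralizer (W : Set G) := by
    ext g
    constructor
    · rintro ⟨b, hb, rfl⟩
      exact ⟨b.2, (hφ _).mp hb⟩
    · rintro ⟨hgB, hgC⟩
      exact ⟨⟨g, hgB⟩, (hφ ⟨g, hBW hgB⟩).mpr hgC, rfl⟩
  have h5 : Nat.card ↥(B ⊓ Subgroup.centralizer (W : Set G)) =
      Nat.card ↥(φ.comp (Subgroup.inclusion hBW)).ker := by
    rw [← h4]
    exact Subgroup.card_map_of_injective B.subtype_injective
  rw [← h1, h5, mul_comm]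
  exact Nat.mul_le_mul_right _ (Nat.le_of_dvd hpp.pos h3)

/-- The counting argument: a best offender cannot move a plane `W` to an independent plane. -/
theorem offender_count_contra {V B B' W W' : Subgroup G} {b : G}
    (hVc : ∀ u ∈ V, ∀ v ∈ V, u * v = v * u)
    (hWV : W ≤ V) (hW'V : W' ≤ V) (hVp : ∀ w ∈ V, w ^ p = 1)
    (hWcard : Nat.card W = p ^ 2)
    (hW' : W' = cj b W) (hWW' : W ⊓ W' = ⊥)
    (hb : b ∈ B) (hB'B : B' ≤ B) (hBc : ∀ a ∈ B, ∀ c ∈ B, a * c = c * a)
    (hB'p : IsPGroup p B')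
    (hB'W : B' ≤ Subgroup.normalizer (W : Set G))
    (hB'W' : B' ≤ Subgroup.normalizer (W' : Set G))
    (hfix : Nat.card ↥(V ⊓ Subgroup.centralizer (B' : Set G)) =
      p * Nat.card ↥(V ⊓ Subgroup.centralizer (B : Set G)))
    (hcard : Nat.card B = p * Nat.card B')
    (hbest : Nat.card ↥(B' ⊓ Subgroup.centralizer (W : Set G)) *
        Nat.card ↥(V ⊓ Subgroup.centralizer ((B' ⊓ Subgroup.centralizer (W : Set G) :
          Subgroup G) : Set G)) ≤
      Nat.card B * Nat.card ↥(V ⊓ Subgroup.centralizer (B : Set G))) : False := by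
  have hpp := hp.out
  have hcjB' : cj b B' = B' := by
    ext g
    rw [mem_cj]
    constructor
    · rintro ⟨a, ha, rfl⟩
      have : b * a * b⁻¹ = a := by rw [hBc b hb a (hB'B ha)]; group
      rwa [this]
    · intro hg
      refine ⟨g, hg, ?_⟩
      rw [hBc b hb g (hB'B hg)]; group
  -- (ii) `Z = C_W(B')` has order at most `p`
  have hZ : Nat.card ↥(W ⊓ Subgroup.centralizer (B' : Set G)) ≤ p := by
    have h1 : (W ⊓ Subgroup.centralizer (B' : Set G)) ⊓
        (V ⊓ Subgroup.centralizer (B : Set G)) = ⊥ := by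
      rw [eq_bot_iff]
      rintro z ⟨⟨hzW, -⟩, ⟨-, hzB⟩⟩
      have h2 : b * z * b⁻¹ = z := by
        have := (Subgroup.mem_centralizer_iff.mp hzB) b hb
        rw [this]; group
      have hz' : z ∈ W' := by
        rw [hW', ← h2]
        exact conj_mem_cj hzW
      have : z ∈ W ⊓ W' := ⟨hzW, hz'⟩
      rwa [hWW'] at this
    have h2 : (W ⊓ Subgroup.centralizer (B' : Set G)) ⊔ (V ⊓ Subgroup.centralizer (B : Set G)) ≤
        V ⊓ Subgroup.centralizer (B' : Set G) :=
      sup_le (inf_le_inf_right _ hWV)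
        (inf_le_inf_left _ (Subgroup.centralizer_le (SetLike.coe_subset_coe.mpr hB'B)))
    have h3 := Cfsg.Agent.Lib.helper13.card_sup_mul_card_inf
      (W ⊓ Subgroup.centralizer (B' : Set G)) (V ⊓ Subgroup.centralizer (B : Set G))
      (le_normalizer_of_le_comm hVc (inf_le_left.trans hWV) inf_le_left)
    rw [h1, Subgroup.card_bot, mul_one] at h3
    have h4 := Subgroup.card_le_of_le h2
    rw [h3, hfix] at h4
    exact Nat.le_of_mul_le_mul_right h4 Nat.card_pos
  -- (iii)
  have hiii := card_le_of_plane W B' (fun u hu v hv => hVc u (hWV hu) v (hWV hv))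
    (fun w hw => hVp w (hWV hw)) hWcard hB'W hB'p
  -- (iv)
  have hiv : W ⊔ W' ≤ V ⊓ Subgroup.centralizer ((B' ⊓ Subgroup.centralizer (W : Set G) :
      Subgroup G) : Set G) := by
    apply sup_le
    · exact le_inf hWV (Subgroup.le_centralizer_iff.mp inf_le_right)
    · refine le_inf hW'V ?_
      rw [hW']
      intro g hg
      obtain ⟨w, hw, rfl⟩ := mem_cj.mp hg
      rw [Subgroup.mem_centralizer_iff]
      rintro c ⟨hcB', hcW⟩
      have e1 : c * b = b * c := hBc c (hB'B hcB') b hb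
      have e2 : w * c = c * w := (Subgroup.mem_centralizer_iff.mp hcW) w hw
      have e3 : c * b⁻¹ = b⁻¹ * c := by
        calc c * b⁻¹ = b⁻¹ * (b * c) * b⁻¹ := by group
          _ = b⁻¹ * (c * b) * b⁻¹ := by rw [e1]
          _ = b⁻¹ * c := by group
      calc c * (b * w * b⁻¹) = (c * b) * w * b⁻¹ := by group
        _ = (b * c) * w * b⁻¹ := by rw [e1]
        _ = b * (c * w) * b⁻¹ := by group
        _ = b * (w * c) * b⁻¹ := by rw [e2]
        _ = b * w * (c * b⁻¹) := by group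
        _ = b * w * (b⁻¹ * c) := by rw [e3]
        _ = b * w * b⁻¹ * c := by group
  -- (v)
  have hW'card : Nat.card W' = p ^ 2 := by rw [hW', card_cj, hWcard]
  have hv : Nat.card ↥((W ⊔ W') ⊓ (V ⊓ Subgroup.centralizer (B' : Set G))) ≤ p ^ 2 := by
    have hsub : (W ⊔ W') ⊓ (V ⊓ Subgroup.centralizer (B' : Set G)) ≤
        (W ⊓ Subgroup.centralizer (B' : Set G)) ⊔ (W' ⊓ Subgroup.centralizer (B' : Set G)) := by
      rintro g ⟨hg, -, hgB⟩
      obtain ⟨w, hw, w', hw', rfl⟩ := (Cfsg.Agent.Lib.helper53.mem_sup_of_le_normalizer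
        (le_normalizer_of_le_comm hVc hW'V hWV)).mp hg
      have key : ∀ c ∈ B', c * w * c⁻¹ = w ∧ c * w' * c⁻¹ = w' := by
        intro c hc
        have h1 : c * w * c⁻¹ ∈ W := (Subgroup.mem_normalizer_iff.mp (hB'W hc) w).mp hw
        have h2 : c * w' * c⁻¹ ∈ W' := (Subgroup.mem_normalizer_iff.mp (hB'W' hc) w').mp hw'
        have h3 : c * (w * w') * c⁻¹ = w * w' := by
          have := (Subgroup.mem_centralizer_iff.mp hgB) c hc
          rw [this]; group
        have h4 : w⁻¹ * (c * w * c⁻¹) = w' * (c * w' * c⁻¹)⁻¹ := by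
          have : (c * w * c⁻¹) * (c * w' * c⁻¹) = w * w' := by rw [← h3]; group
          calc w⁻¹ * (c * w * c⁻¹) = w⁻¹ * ((c * w * c⁻¹) * (c * w' * c⁻¹)) * (c * w' * c⁻¹)⁻¹ := by
                group
            _ = w⁻¹ * (w * w') * (c * w' * c⁻¹)⁻¹ := by rw [this]
            _ = w' * (c * w' * c⁻¹)⁻¹ := by group
        have h5 : w⁻¹ * (c * w * c⁻¹) ∈ W ⊓ W' :=
          ⟨W.mul_mem (W.inv_mem hw) h1, h4 ▸ W'.mul_mem hw' (W'.inv_mem h2)⟩
        rw [hWW', Subgroup.mem_bot] at h5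
        have h6 : c * w * c⁻¹ = w := by
          calc c * w * c⁻¹ = w * (w⁻¹ * (c * w * c⁻¹)) := by group
            _ = w := by rw [h5, mul_one]
        refine ⟨h6, ?_⟩
        rw [h5] at h4
        calc c * w' * c⁻¹ = (w' * (c * w' * c⁻¹)⁻¹)⁻¹ * w' := by group
          _ = w' := by rw [← h4]; group
      have hwB : w ∈ Subgroup.centralizer (B' : Set G) := by
        rw [Subgroup.mem_centralizer_iff]
        intro c hc
        have := (key c hc).1
        calc c * w = (c * w * c⁻¹) * c := by group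
          _ = w * c := by rw [this]
      have hw'B : w' ∈ Subgroup.centralizer (B' : Set G) := by
        rw [Subgroup.mem_centralizer_iff]
        intro c hc
        have := (key c hc).2
        calc c * w' = (c * w' * c⁻¹) * c := by group
          _ = w' * c := by rw [this]
      exact Subgroup.mul_mem _ (Subgroup.mem_sup_left ⟨hw, hwB⟩)
        (Subgroup.mem_sup_right ⟨hw', hw'B⟩)
    have hZ' : Nat.card ↥(W' ⊓ Subgroup.centralizer (B' : Set G)) ≤ p := by
      have : W' ⊓ Subgroup.centralizer (B' : Set G) =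
          cj b (W ⊓ Subgroup.centralizer (B' : Set G)) := by
        rw [cj_inf, cj_centralizer, hcjB', hW']
      rw [this, card_cj]
      exact hZ
    have h1 := Cfsg.Agent.Lib.helper13.card_sup_mul_card_inf
      (W ⊓ Subgroup.centralizer (B' : Set G)) (W' ⊓ Subgroup.centralizer (B' : Set G))
      (le_normalizer_of_le_comm hVc (inf_le_left.trans hWV) (inf_le_left.trans hW'V))
    have h2 : 0 < Nat.card ↥((W ⊓ Subgroup.centralizer (B' : Set G)) ⊓
        (W' ⊓ Subgroup.centralizer (B' : Set G))) := Nat.card_pos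
    calc Nat.card ↥((W ⊔ W') ⊓ (V ⊓ Subgroup.centralizer (B' : Set G)))
        ≤ Nat.card ↥((W ⊓ Subgroup.centralizer (B' : Set G)) ⊔
          (W' ⊓ Subgroup.centralizer (B' : Set G))) := Subgroup.card_le_of_le hsub
      _ ≤ Nat.card ↥((W ⊓ Subgroup.centralizer (B' : Set G)) ⊔
          (W' ⊓ Subgroup.centralizer (B' : Set G))) *
          Nat.card ↥((W ⊓ Subgroup.centralizer (B' : Set G)) ⊓
          (W' ⊓ Subgroup.centralizer (B' : Set G))) := Nat.le_mul_of_pos_right _ h2
      _ = Nat.card ↥(W ⊓ Subgroup.centralizer (B' : Set G)) *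
          Nat.card ↥(W' ⊓ Subgroup.centralizer (B' : Set G)) := h1
      _ ≤ p * p := Nat.mul_le_mul hZ hZ'
      _ = p ^ 2 := (sq p).symm
  -- (vi)
  have hWW'card : Nat.card ↥(W ⊔ W') = p ^ 2 * p ^ 2 := by
    have h1 := Cfsg.Agent.Lib.helper13.card_sup_mul_card_inf W W'
      (le_normalizer_of_le_comm hVc hWV hW'V)
    rw [hWW', Subgroup.card_bot, mul_one, hWcard, hW'card] at h1
    exact h1
  have h5 := Cfsg.Agent.Lib.helper13.card_sup_mul_card_inf (W ⊔ W')
    (V ⊓ Subgroup.centralizer (B' : Set G))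
    (le_normalizer_of_le_comm hVc (sup_le hWV hW'V) inf_le_left)
  have h6 : (W ⊔ W') ⊔ (V ⊓ Subgroup.centralizer (B' : Set G)) ≤
      V ⊓ Subgroup.centralizer ((B' ⊓ Subgroup.centralizer (W : Set G) : Subgroup G) : Set G) :=
    sup_le hiv (inf_le_inf_left V
      (Subgroup.centralizer_le (SetLike.coe_subset_coe.mpr inf_le_left)))
  have h7 := Subgroup.card_le_of_le h6
  rw [hWW'card, hfix] at h5
  -- arithmetic
  have hc : 0 < Nat.card ↥(V ⊓ Subgroup.centralizer (B : Set G)) := Nat.card_pos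
  have hx : 0 < Nat.card ↥(B' ⊓ Subgroup.centralizer (W : Set G)) := Nat.card_pos
  have F1 : p ^ 2 * (p * Nat.card ↥(V ⊓ Subgroup.centralizer (B : Set G))) ≤
      Nat.card ↥(V ⊓ Subgroup.centralizer ((B' ⊓ Subgroup.centralizer (W : Set G) :
        Subgroup G) : Set G)) := by
    have h8 : p ^ 2 * p ^ 2 * (p * Nat.card ↥(V ⊓ Subgroup.centralizer (B : Set G))) ≤
        Nat.card ↥(V ⊓ Subgroup.centralizer ((B' ⊓ Subgroup.centralizer (W : Set G) :
          Subgroup G) : Set G)) * p ^ 2 := by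
      rw [← h5]
      exact Nat.mul_le_mul h7 hv
    have h9 : p ^ 2 * p ^ 2 * (p * Nat.card ↥(V ⊓ Subgroup.centralizer (B : Set G))) =
        (p ^ 2 * (p * Nat.card ↥(V ⊓ Subgroup.centralizer (B : Set G)))) * p ^ 2 := by ring
    rw [h9] at h8
    exact Nat.le_of_mul_le_mul_right h8 (pow_pos hpp.pos 2)
  rw [hcard] at hbest
  have G1 := Nat.mul_le_mul_left (Nat.card ↥(B' ⊓ Subgroup.centralizer (W : Set G))) F1
  have G2 := Nat.mul_le_mul_right (Nat.card ↥(V ⊓ Subgroup.centralizer (B : Set G)))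
    (Nat.mul_le_mul_left p hiii)
  have G3 := (G1.trans hbest).trans G2
  have G4 : p * (p ^ 2 * (Nat.card ↥(B' ⊓ Subgroup.centralizer (W : Set G)) *
      Nat.card ↥(V ⊓ Subgroup.centralizer (B : Set G)))) ≤
      1 * (p ^ 2 * (Nat.card ↥(B' ⊓ Subgroup.centralizer (W : Set G)) *
      Nat.card ↥(V ⊓ Subgroup.centralizer (B : Set G)))) := by
    calc p * (p ^ 2 * (Nat.card ↥(B' ⊓ Subgroup.centralizer (W : Set G)) *
          Nat.card ↥(V ⊓ Subgroup.centralizer (B : Set G))))
        = Nat.card ↥(B' ⊓ Subgroup.centralizer (W : Set G)) *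
          (p ^ 2 * (p * Nat.card ↥(V ⊓ Subgroup.centralizer (B : Set G)))) := by ring
      _ ≤ p * (p * Nat.card ↥(B' ⊓ Subgroup.centralizer (W : Set G))) *
          Nat.card ↥(V ⊓ Subgroup.centralizer (B : Set G)) := G3
      _ = _ := by ring
  have G5 := Nat.le_of_mul_le_mul_right G4
    (Nat.mul_pos (pow_pos hpp.pos 2) (Nat.mul_pos hx hc))
  exact absurd G5 (not_le.mpr hpp.one_lt)

end FF4

end Cfsg.Agent.Lib.helper14
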