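import Mathlib
import Cfsg.Agent.Lib.helper14.FF4

/-!
helper14: failure-of-factorization structure theory (KS 9.3), part 5.

Every best offender normalizes `E = [Q, A] A` (`best_le_normalizer_E`), hence `E ⊴ H`, and
`H = E × C_H([V, E])`.
-/

set_option autoImplicit false
open Cfsg

namespace Cfsg.Agent.Lib.helper14

open scoped commutatorElement

section FF5

open Matrix

variable {G : Type*} [Group G] [Finite G] {p : ℕ} [hp : Fact p.Prime]

/-- every best offender normalizes `E = [Q, A] A` for every root `A` -/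
theorem best_le_normalizer_E (V H : Subgroup G) (hV : Cfsg.IsElementaryAbelian p V)
    (hHV : H ≤ Subgroup.normalizer (V : Set G)) (hf : H ⊓ Subgroup.centralizer (V : Set G) = ⊥)
    (hS1 : Subgroup.centralizer (Cfsg.pPrimeCore p ↥H : Set ↥H) ≤ Cfsg.pPrimeCore p ↥H) :
    ∀ n : ℕ, ∀ B : Subgroup G, Nat.card B = n → B ≤ H → Cfsg.IsBestOffenderOn p V B →
      ∀ A : Subgroup G, IsRoot p V H A →
        B ≤ Subgroup.normalizer
          ((⁅(Cfsg.pPrimeCore p ↥H).map H.subtype, A⁆ ⊔ A : Subgroup G) : Set G) := by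
  have hpp := hp.out
  have S := ffSet_of_hyp V H hV hHV hf hS1
  generalize (Cfsg.pPrimeCore p ↥H).map H.subtype = Q at S ⊢
  intro n
  induction n using Nat.strong_induction_on with
  | _ n ih =>
    intro B hn hBH hB A hA
    by_cases hB1 : B = ⊥
    · rw [hB1]; exact bot_le
    obtain ⟨B', hB'B, hcard, hB', heq⟩ :=
      Cfsg.Agent.Lib.helper13.exists_hyperplane_best_offender V H hV hHV hf hS1 B hBH hB hB1
    have hlt : Nat.card B' < n := by
      rw [← hn, hcard]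
      have h1 : 0 < Nat.card B' := Nat.card_pos
      have h2 := hpp.one_lt
      nlinarith
    have IH : ∀ A : Subgroup G, IsRoot p V H A →
        B' ≤ Subgroup.normalizer ((⁅Q, A⁆ ⊔ A : Subgroup G) : Set G) :=
      fun A hA => ih (Nat.card B') hlt B' rfl (hB'B.trans hBH) hB' A hA
    have key : ∀ b ∈ B, cj b (⁅Q, A⁆ ⊔ A) = ⁅Q, A⁆ ⊔ A := by
      intro b hb
      have hbH := hBH hb
      have hA₂ : IsRoot p V H (cj b A) := hA.cj S hbH
      rw [E_cj S hbH A]
      rcases E_dichotomy S hA hA₂ with h | ⟨h1, h2, h3⟩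
      · exact h.symm
      · exfalso
        have hW' : ⁅V, ⁅Q, cj b A⁆ ⊔ cj b A⁆ = cj b ⁅V, ⁅Q, A⁆ ⊔ A⁆ := by
          rw [cj_commutator, S.cjV hbH, E_cj S hbH A]
        have hWV : ⁅V, ⁅Q, A⁆ ⊔ A⁆ ≤ V := S.comm_le_V (E_le S hA)
        have hW'V : ⁅V, ⁅Q, cj b A⁆ ⊔ cj b A⁆ ≤ V := S.comm_le_V (E_le S hA₂)
        have hWW' : ⁅V, ⁅Q, A⁆ ⊔ A⁆ ⊓ ⁅V, ⁅Q, cj b A⁆ ⊔ cj b A⁆ = ⊥ := by
          rw [eq_bot_iff, ← E_inf_fix S hA]
          exact inf_le_inf_left _ (le_inf hW'V h2)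
        have hfix : Nat.card ↥(V ⊓ Subgroup.centralizer (B' : Set G)) =
            p * Nat.card ↥(V ⊓ Subgroup.centralizer (B : Set G)) := by
          rw [hcard] at heq
          have h0 : 0 < Nat.card B' := Nat.card_pos
          have : Nat.card B' * Nat.card ↥(V ⊓ Subgroup.centralizer (B' : Set G)) =
              Nat.card B' * (p * Nat.card ↥(V ⊓ Subgroup.centralizer (B : Set G))) := by
            rw [heq]; ring
          exact Nat.eq_of_mul_eq_mul_left h0 this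
        exact offender_count_contra S.Vcomm hWV hW'V S.Vpow (E_card_comm S hA) hW' hWW' hb hB'B
          (best_comm hf hBH hB) (isPGroup_of_pow (best_pow hf (hB'B.trans hBH) hB'))
          (fun c hc => Cfsg.Agent.Lib.helper53.mem_normalizer_commutator
            (hHV (hBH (hB'B hc))) (IH A hA hc))
          (fun c hc => Cfsg.Agent.Lib.helper53.mem_normalizer_commutator
            (hHV (hBH (hB'B hc))) (IH _ hA₂ hc))
          hfix hcard (hB.1 _ (inf_le_left.trans hB'B))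
    intro b hb
    apply mem_normalizer_of_cj_le
    · exact (key b hb).le
    · exact (key b⁻¹ (B.inv_mem hb)).le

/-- `E = [Q, A] A` is normal in `H` -/
theorem H_le_normalizer_E (V H : Subgroup G) (hV : Cfsg.IsElementaryAbelian p V)
    (hHV : H ≤ Subgroup.normalizer (V : Set G)) (hf : H ⊓ Subgroup.centralizer (V : Set G) = ⊥)
    (hS1 : Subgroup.centralizer (Cfsg.pPrimeCore p ↥H : Set ↥H) ≤ Cfsg.pPrimeCore p ↥H)
    (hS3 : H = ⨆ A : {A : Subgroup G // A ≤ H ∧ Cfsg.IsBestOffenderOn p V A}, (A : Subgroup G))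
    (A : Subgroup G) (hA : IsRoot p V H A) :
    H ≤ Subgroup.normalizer
      ((⁅(Cfsg.pPrimeCore p ↥H).map H.subtype, A⁆ ⊔ A : Subgroup G) : Set G) := by
  refine hS3.le.trans (iSup_le ?_)
  rintro ⟨B, hBH, hB⟩
  exact best_le_normalizer_E V H hV hHV hf hS1 _ B rfl hBH hB A hA

/-- `H` is generated by elements of order dividing `p` -/
theorem H_le_closure_pow (V H : Subgroup G)
    (hf : H ⊓ Subgroup.centralizer (V : Set G) = ⊥)
    (hS3 : H = ⨆ A : {A : Subgroup G // A ≤ H ∧ Cfsg.IsBestOffenderOn p V A}, (A : Subgroup G)) :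
    H ≤ Subgroup.closure {h : G | h ∈ H ∧ h ^ p = 1} := by
  refine hS3.le.trans (iSup_le ?_)
  rintro ⟨B, hBH, hB⟩ b hb
  exact Subgroup.subset_closure ⟨hBH hb, best_pow hf hBH hB b hb⟩

theorem det_eq_one_of_pow (g : GL (Fin 2) (ZMod p)) (hg : g ^ p = 1) :
    Matrix.GeneralLinearGroup.det g = 1 := by
  have hpp := hp.out
  have h1 : (Matrix.GeneralLinearGroup.det g) ^ p = 1 := by rw [← map_pow, hg, map_one]
  have h2 : (Matrix.GeneralLinearGroup.det g) ^ (p - 1) = 1 :=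
    ZMod.units_pow_card_sub_one_eq_one p _
  have h4 : Nat.Coprime p (p - 1) :=
    (Nat.Prime.coprime_iff_not_dvd hpp).mpr
      (Nat.not_dvd_of_pos_of_lt (by have := hpp.two_le; omega) (by have := hpp.two_le; omega))
  exact (pow_eq_one_iff_of_coprime h4).mp ⟨h1, h2⟩

omit [Finite G] in
theorem mem_range_toGL (g : GL (Fin 2) (ZMod p)) (hg : Matrix.GeneralLinearGroup.det g = 1) :
    g ∈ (Matrix.SpecialLinearGroup.toGL :
      Matrix.SpecialLinearGroup (Fin 2) (ZMod p) →* GL (Fin 2) (ZMod p)).range := by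
  refine ⟨⟨(g : Matrix (Fin 2) (Fin 2) (ZMod p)), ?_⟩, Units.ext rfl⟩
  have := congrArg Units.val hg
  simpa using this

/-- A group `H` generated by elements of order `p`, acting on a plane `W` and containing a
faithfully acting copy `E` of `SL₂(p)`, is `E C_H(W)`. -/
theorem sup_centralizer_plane {H E W : Subgroup G}
    (hWc : ∀ u ∈ W, ∀ v ∈ W, u * v = v * u) (hWp : ∀ w ∈ W, w ^ p = 1)
    (hWcard : Nat.card W = p ^ 2)
    (hHW : H ≤ Subgroup.normalizer (W : Set G)) (hEH : E ≤ H)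
    (hEf : E ⊓ Subgroup.centralizer (W : Set G) = ⊥)
    (hE : Nonempty (↥E ≃* Matrix.SpecialLinearGroup (Fin 2) (ZMod p)))
    (hgen : H ≤ Subgroup.closure {h : G | h ∈ H ∧ h ^ p = 1}) :
    E ⊔ (H ⊓ Subgroup.centralizer (W : Set G)) = H := by
  have hpp := hp.out
  have : NeZero p := ⟨hpp.ne_zero⟩
  obtain ⟨φ, hφ⟩ := exists_plane_hom W hWc hWp hWcard
  apply le_antisymm (sup_le hEH inf_le_left)
  -- the image of `H` lies in `SL`
  have hdet : ∀ h (hh : h ∈ H), φ ⟨h, hHW hh⟩ ∈ (Matrix.SpecialLinearGroup.toGL :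
      Matrix.SpecialLinearGroup (Fin 2) (ZMod p) →* GL (Fin 2) (ZMod p)).range := by
    have hK : H ≤ ((Matrix.GeneralLinearGroup.det.comp φ).ker).map
        (Subgroup.normalizer (W : Set G)).subtype := by
      refine hgen.trans ((Subgroup.closure_le _).mpr ?_)
      rintro h ⟨hh, hhp⟩
      refine ⟨⟨h, hHW hh⟩, ?_, rfl⟩
      rw [SetLike.mem_coe, MonoidHom.mem_ker, MonoidHom.comp_apply]
      apply det_eq_one_of_pow
      rw [← map_pow]
      have : (⟨h, hHW hh⟩ : ↥(Subgroup.normalizer (W : Set G))) ^ p = 1 :=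
        Subtype.ext (by simpa using hhp)
      rw [this, map_one]
    intro h hh
    obtain ⟨x, hx, hxh⟩ := hK hh
    have hxe : x = ⟨h, hHW hh⟩ := Subtype.ext hxh
    rw [← hxe]
    exact mem_range_toGL _ (by simpa using hx)
  -- the image of `E`
  have hEN : E ≤ Subgroup.normalizer (W : Set G) := hEH.trans hHW
  have hinj : Function.Injective (φ.comp (Subgroup.inclusion hEN)) := by
    rw [← MonoidHom.ker_eq_bot_iff, eq_bot_iff]
    rintro ⟨x, hx⟩ hxk
    rw [MonoidHom.mem_ker, MonoidHom.comp_apply] at hxk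
    have h1 := (hφ _).mp hxk
    have h2 : x ∈ E ⊓ Subgroup.centralizer (W : Set G) := ⟨hx, h1⟩
    rw [hEf, Subgroup.mem_bot] at h2
    exact Subgroup.mem_bot.mpr (Subtype.ext h2)
  have hrange : (φ.comp (Subgroup.inclusion hEN)).range = (Matrix.SpecialLinearGroup.toGL :
      Matrix.SpecialLinearGroup (Fin 2) (ZMod p) →* GL (Fin 2) (ZMod p)).range := by
    apply Subgroup.eq_of_le_of_card_ge
    · rintro _ ⟨x, rfl⟩
      exact hdet x.1 (hEH x.2)
    · obtain ⟨e⟩ := hE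
      have h1 : Nat.card (φ.comp (Subgroup.inclusion hEN)).range = Nat.card E :=
        Nat.card_range_of_injective hinj
      have h2 : Nat.card (Matrix.SpecialLinearGroup.toGL :
          Matrix.SpecialLinearGroup (Fin 2) (ZMod p) →* GL (Fin 2) (ZMod p)).range =
          Nat.card (Matrix.SpecialLinearGroup (Fin 2) (ZMod p)) :=
        Nat.card_range_of_injective Matrix.SpecialLinearGroup.toGL_injective
      rw [h1, h2, Nat.card_congr e.toEquiv]
  intro h hh
  have h1 : φ ⟨h, hHW hh⟩ ∈ (φ.comp (Subgroup.inclusion hEN)).range := by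
    rw [hrange]; exact hdet h hh
  obtain ⟨e, he⟩ := h1
  have h2 : (e : G)⁻¹ * h ∈ Subgroup.centralizer (W : Set G) := by
    have h3 : φ ((⟨(e : G), hEN e.2⟩ : ↥(Subgroup.normalizer (W : Set G)))⁻¹ * ⟨h, hHW hh⟩) = 1 := by
      rw [map_mul, map_inv, ← he]
      exact inv_mul_cancel _
    exact (hφ _).mp h3
  have h3 : h = (e : G) * ((e : G)⁻¹ * h) := by group
  rw [h3]
  exact Subgroup.mul_mem _ (Subgroup.mem_sup_left e.2)
    (Subgroup.mem_sup_right ⟨H.mul_mem (H.inv_mem (hEH e.2)) hh, h2⟩)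

/-- the structure of `H` around `E = [Q, A] A`: `H = E × C_H([V, E])` -/
theorem E_direct (V H : Subgroup G) (hV : Cfsg.IsElementaryAbelian p V)
    (hHV : H ≤ Subgroup.normalizer (V : Set G)) (hf : H ⊓ Subgroup.centralizer (V : Set G) = ⊥)
    (hS1 : Subgroup.centralizer (Cfsg.pPrimeCore p ↥H : Set ↥H) ≤ Cfsg.pPrimeCore p ↥H)
    (hS3 : H = ⨆ A : {A : Subgroup G // A ≤ H ∧ Cfsg.IsBestOffenderOn p V A}, (A : Subgroup G))
    (A : Subgroup G) (hA : IsRoot p V H A) :
    ⁅⁅((Cfsg.pPrimeCore p ↥H).map H.subtype), A⁆ ⊔ A, H ⊓ Subgroup.centralizer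
        ((⁅V, ⁅((Cfsg.pPrimeCore p ↥H).map H.subtype), A⁆ ⊔ A⁆ : Subgroup G) : Set G)⁆ = ⊥ ∧
    (⁅((Cfsg.pPrimeCore p ↥H).map H.subtype), A⁆ ⊔ A) ⊓ (H ⊓ Subgroup.centralizer
        ((⁅V, ⁅((Cfsg.pPrimeCore p ↥H).map H.subtype), A⁆ ⊔ A⁆ : Subgroup G) : Set G)) = ⊥ ∧
    (⁅((Cfsg.pPrimeCore p ↥H).map H.subtype), A⁆ ⊔ A) ⊔ (H ⊓ Subgroup.centralizer
        ((⁅V, ⁅((Cfsg.pPrimeCore p ↥H).map H.subtype), A⁆ ⊔ A⁆ : Subgroup G) : Set G)) = H ∧
    ⁅V, H ⊓ Subgroup.centralizer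
        ((⁅V, ⁅((Cfsg.pPrimeCore p ↥H).map H.subtype), A⁆ ⊔ A⁆ : Subgroup G) : Set G)⁆ ≤
      V ⊓ Subgroup.centralizer
        ((⁅((Cfsg.pPrimeCore p ↥H).map H.subtype), A⁆ ⊔ A : Subgroup G) : Set G) := by
  have hN := H_le_normalizer_E V H hV hHV hf hS1 hS3 A hA
  have hgen := H_le_closure_pow V H hf hS3
  have S := ffSet_of_hyp V H hV hHV hf hS1
  generalize (Cfsg.pPrimeCore p ↥H).map H.subtype = Q at S hN ⊢
  have hEH : ⁅Q, A⁆ ⊔ A ≤ H := E_le S hA
  have hWV : ⁅V, ⁅Q, A⁆ ⊔ A⁆ ≤ V := S.comm_le_V hEH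
  have hHW : H ≤ Subgroup.normalizer ((⁅V, ⁅Q, A⁆ ⊔ A⁆ : Subgroup G) : Set G) := fun h hh =>
    Cfsg.Agent.Lib.helper53.mem_normalizer_commutator (hHV hh) (hN hh)
  have hinf : (⁅Q, A⁆ ⊔ A) ⊓ (H ⊓ Subgroup.centralizer
      ((⁅V, ⁅Q, A⁆ ⊔ A⁆ : Subgroup G) : Set G)) = ⊥ := by
    rw [eq_bot_iff, ← E_faithful S hA]
    exact inf_le_inf_left _ inf_le_right
  have hHD : H ≤ Subgroup.normalizer ((H ⊓ Subgroup.centralizer
      ((⁅V, ⁅Q, A⁆ ⊔ A⁆ : Subgroup G) : Set G) : Subgroup G) : Set G) := fun h hh =>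
    mem_normalizer_inf (Subgroup.le_normalizer hh) (mem_normalizer_centralizer (hHW hh))
  refine ⟨?_, hinf, ?_, ?_⟩
  · rw [eq_bot_iff, ← hinf]
    exact le_inf
      (Cfsg.Agent.Lib.helper53.commutator_le_left_of_le_normalizer (inf_le_left.trans hN))
      (Cfsg.Agent.Lib.helper53.commutator_le_right_of_le_normalizer (hEH.trans hHD))
  · exact sup_centralizer_plane (fun u hu v hv => S.Vcomm u (hWV hu) v (hWV hv))
      (fun w hw => S.Vpow w (hWV hw)) (E_card_comm S hA) hHW hEH (E_faithful S hA)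
      (E_iso S hA) hgen
  · rw [Subgroup.commutator_le]
    intro v hv d hd
    have hv' : v ∈ ⁅V, ⁅Q, A⁆ ⊔ A⁆ ⊔
        (V ⊓ Subgroup.centralizer ((⁅Q, A⁆ ⊔ A : Subgroup G) : Set G)) := by
      rw [E_sup_fix S hA]; exact hv
    obtain ⟨w, hw, c, hc, rfl⟩ := (Cfsg.Agent.Lib.helper53.mem_sup_of_le_normalizer
      (le_normalizer_of_le_comm S.Vcomm inf_le_left hWV)).mp hv'
    have hdw : d * w = w * d := ((Subgroup.mem_centralizer_iff.mp hd.2) w hw).symm
    have hdC : d * c⁻¹ * d⁻¹ ∈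
        V ⊓ Subgroup.centralizer ((⁅Q, A⁆ ⊔ A : Subgroup G) : Set G) :=
      (Subgroup.mem_normalizer_iff.mp (mem_normalizer_inf (hHV hd.1)
        (mem_normalizer_centralizer (hN hd.1))) c⁻¹).mp (Subgroup.inv_mem _ hc)
    have e1 : ⁅w * c, d⁆ = w * (c * (d * c⁻¹ * d⁻¹)) * w⁻¹ := by
      rw [commutatorElement_def]
      have h0 : w⁻¹ * d⁻¹ = d⁻¹ * w⁻¹ := by rw [← _root_.mul_inv_rev, ← _root_.mul_inv_rev, hdw]
      calc w * c * d * (w * c)⁻¹ * d⁻¹ = w * c * d * c⁻¹ * (w⁻¹ * d⁻¹) := by group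
        _ = w * c * d * c⁻¹ * (d⁻¹ * w⁻¹) := by rw [h0]
        _ = _ := by group
    have hx : c * (d * c⁻¹ * d⁻¹) ∈
        V ⊓ Subgroup.centralizer ((⁅Q, A⁆ ⊔ A : Subgroup G) : Set G) := Subgroup.mul_mem _ hc hdC
    have e2 : w * (c * (d * c⁻¹ * d⁻¹)) * w⁻¹ = c * (d * c⁻¹ * d⁻¹) := by
      have := S.Vcomm w (hWV hw) _ hx.1
      rw [this]; group
    rw [e1, e2]
    exact hx

omit [Finite G] hp in
/-- below a nontrivially acting best offender there is a minimal one -/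
theorem exists_min_offender [Finite G] (V : Subgroup G) : ∀ n : ℕ, ∀ B : Subgroup G,
    Nat.card B = n → Cfsg.IsBestOffenderOn p V B → ⁅V, B⁆ ≠ ⊥ →
    ∃ A : Subgroup G, A ≤ B ∧ Cfsg.IsBestOffenderOn p V A ∧ ⁅V, A⁆ ≠ ⊥ ∧
      ∀ C : Subgroup G, C ≤ A → Cfsg.IsBestOffenderOn p V C → ⁅V, C⁆ ≠ ⊥ → C = A := by
  intro n
  induction n using Nat.strong_induction_on with
  | _ n ih =>
    intro B hn hB hBV
    by_cases hmin : ∀ C : Subgroup G, C ≤ B → Cfsg.IsBestOffenderOn p V C → ⁅V, C⁆ ≠ ⊥ → C = B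
    · exact ⟨B, le_rfl, hB, hBV, hmin⟩
    · push Not at hmin
      obtain ⟨C, hCB, hC, hCV, hne⟩ := hmin
      have hlt : Nat.card C < n := by
        rw [← hn]
        by_contra hcon
        exact hne (Subgroup.eq_of_le_of_card_ge hCB (not_lt.mp hcon))
      obtain ⟨A, hAC, hA, hAV, hAmin⟩ := ih _ hlt C rfl hC hCV
      exact ⟨A, hAC.trans hCB, hA, hAV, hAmin⟩

/-- every best offender is a direct product of minimal nontrivially-acting best offenders -/
theorem best_decomp (V H : Subgroup G) (hV : Cfsg.IsElementaryAbelian p V)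
    (hHV : H ≤ Subgroup.normalizer (V : Set G)) (hf : H ⊓ Subgroup.centralizer (V : Set G) = ⊥)
    (hS1 : Subgroup.centralizer (Cfsg.pPrimeCore p ↥H : Set ↥H) ≤ Cfsg.pPrimeCore p ↥H)
    (hS3 : H = ⨆ A : {A : Subgroup G // A ≤ H ∧ Cfsg.IsBestOffenderOn p V A}, (A : Subgroup G))
    (hH1 : H ≠ ⊥) :
    ∀ n : ℕ, ∀ A : Subgroup G, Nat.card A = n → A ≤ H → Cfsg.IsBestOffenderOn p V A →
    ∃ (k : ℕ) (B : Fin k → Subgroup G), (∀ i, B i ≤ A ∧ Cfsg.IsBestOffenderOn p V (B i) ∧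
      ⁅V, B i⁆ ≠ ⊥ ∧ ∀ C : Subgroup G, C ≤ B i → Cfsg.IsBestOffenderOn p V C → ⁅V, C⁆ ≠ ⊥ →
        C = B i) ∧ iSupIndep B ∧ ⨆ i, B i = A := by
  have hpp := hp.out
  have S := ffSet_of_hyp V H hV hHV hf hS1
  have hNall : ∀ A₁ : Subgroup G, IsRoot p V H A₁ → H ≤ Subgroup.normalizer
      ((⁅(Cfsg.pPrimeCore p ↥H).map H.subtype, A₁⁆ ⊔ A₁ : Subgroup G) : Set G) :=
    fun A₁ hR => H_le_normalizer_E V H hV hHV hf hS1 hS3 A₁ hR
  generalize (Cfsg.pPrimeCore p ↥H).map H.subtype = Q at S hNall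
  intro n
  induction n using Nat.strong_induction_on with
  | _ n ih =>
    intro A hn hAH hA
    by_cases hA1 : A = ⊥
    · refine ⟨0, fun _ => ⊥, fun i => i.elim0, fun i => i.elim0, ?_⟩
      rw [hA1]; simp
    have hAV : ⁅V, A⁆ ≠ ⊥ := by
      intro h0
      apply hA1
      rw [eq_bot_iff, ← hf]
      exact le_inf hAH (Cfsg.Agent.Lib.helper53.commutator_eq_bot_iff_le_centralizer'.mp h0)
    obtain ⟨A₁, hA₁A, hA₁, hA₁V, hA₁min⟩ := exists_min_offender V _ A rfl hA hAV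
    have hR := isRoot_of_min V H hV hHV hf hS1 hS3 hH1 A₁ (hA₁A.trans hAH) hA₁ hA₁V hA₁min
    have hN := hNall A₁ hR
    have hEH : ⁅Q, A₁⁆ ⊔ A₁ ≤ H := E_le S hR
    have hWV : ⁅V, ⁅Q, A₁⁆ ⊔ A₁⁆ ≤ V := S.comm_le_V hEH
    have hWcard : Nat.card ↥(⁅V, ⁅Q, A₁⁆ ⊔ A₁⁆) = p ^ 2 := E_card_comm S hR
    have hEf := E_faithful S hR
    generalize hWdef : ⁅V, ⁅Q, A₁⁆ ⊔ A₁⁆ = W at hWV hWcard hEf
    have hHW : H ≤ Subgroup.normalizer (W : Set G) := fun h hh => by
      rw [← hWdef]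
      exact Cfsg.Agent.Lib.helper53.mem_normalizer_commutator (hHV hh) (hN hh)
    have hAc := best_comm hf hAH hA
    have hAp := best_pow hf hAH hA
    have hdisj : A₁ ⊓ (A ⊓ Subgroup.centralizer (W : Set G)) = ⊥ := by
      rw [eq_bot_iff, ← hEf]
      exact inf_le_inf le_sup_right inf_le_right
    have hle : Nat.card A ≤ p * Nat.card ↥(A ⊓ Subgroup.centralizer (W : Set G)) :=
      card_le_of_plane W A (fun u hu v hv => S.Vcomm u (hWV hu) v (hWV hv))
        (fun w hw => S.Vpow w (hWV hw)) hWcard (hAH.trans hHW) (isPGroup_of_pow hAp)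
    have hsupcard : Nat.card ↥(A₁ ⊔ (A ⊓ Subgroup.centralizer (W : Set G))) =
        p * Nat.card ↥(A ⊓ Subgroup.centralizer (W : Set G)) := by
      have := Cfsg.Agent.Lib.helper13.card_sup_mul_card_inf A₁
        (A ⊓ Subgroup.centralizer (W : Set G)) (le_normalizer_of_le_comm hAc hA₁A inf_le_left)
      rw [hdisj, Subgroup.card_bot, mul_one, hR.card] at this
      exact this
    have hsup : A₁ ⊔ (A ⊓ Subgroup.centralizer (W : Set G)) = A :=
      Subgroup.eq_of_le_of_card_ge (sup_le hA₁A inf_le_left) (by rw [hsupcard]; exact hle)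
    have hcardA : Nat.card A = p * Nat.card ↥(A ⊓ Subgroup.centralizer (W : Set G)) :=
      (congrArg (fun X : Subgroup G => Nat.card X) hsup).symm.trans hsupcard
    have hfixle : p * Nat.card ↥(V ⊓ Subgroup.centralizer (A : Set G)) ≤
        Nat.card ↥(V ⊓ Subgroup.centralizer
          ((A ⊓ Subgroup.centralizer (W : Set G) : Subgroup G) : Set G)) := by
      have hZ : Nat.card ↥(W ⊓ (V ⊓ Subgroup.centralizer (A : Set G))) ≤ p := by
        have hd : Nat.card ↥(W ⊓ (V ⊓ Subgroup.centralizer (A : Set G))) ∣ p ^ 2 := by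
          rw [← hWcard]; exact Subgroup.card_dvd_of_le inf_le_left
        obtain ⟨m, hm, hmeq⟩ := (Nat.dvd_prime_pow hpp).mp hd
        interval_cases m
        · rw [hmeq, pow_zero]; exact hpp.one_lt.le
        · rw [hmeq, pow_one]
        · exfalso
          have hWle : W ≤ W ⊓ (V ⊓ Subgroup.centralizer (A : Set G)) :=
            (Subgroup.eq_of_le_of_card_ge
              (inf_le_left : W ⊓ (V ⊓ Subgroup.centralizer (A : Set G)) ≤ W)
              (by rw [hmeq, hWcard])).ge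
          have hA₁le : A₁ ≤ (⁅Q, A₁⁆ ⊔ A₁) ⊓ Subgroup.centralizer (W : Set G) :=
            le_inf le_sup_right (fun a ha => Subgroup.mem_centralizer_iff.mpr (fun w hw =>
              ((Subgroup.mem_centralizer_iff.mp (hWle hw).2.2) a (hA₁A ha)).symm))
          rw [hEf] at hA₁le
          exact hR.ne_bot (eq_bot_iff.mpr hA₁le)
      have h1 := Cfsg.Agent.Lib.helper13.card_sup_mul_card_inf W
        (V ⊓ Subgroup.centralizer (A : Set G)) (le_normalizer_of_le_comm S.Vcomm hWV inf_le_left)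
      have h2 : W ⊔ (V ⊓ Subgroup.centralizer (A : Set G)) ≤ V ⊓ Subgroup.centralizer
          ((A ⊓ Subgroup.centralizer (W : Set G) : Subgroup G) : Set G) :=
        sup_le (le_inf hWV (Subgroup.le_centralizer_iff.mp inf_le_right))
          (inf_le_inf_left _ (Subgroup.centralizer_le (SetLike.coe_subset_coe.mpr inf_le_left)))
      have h3 := Subgroup.card_le_of_le h2
      rw [hWcard] at h1
      have h4 : p * (p * Nat.card ↥(V ⊓ Subgroup.centralizer (A : Set G))) ≤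
          p * Nat.card ↥(W ⊔ (V ⊓ Subgroup.centralizer (A : Set G))) := by
        calc p * (p * Nat.card ↥(V ⊓ Subgroup.centralizer (A : Set G)))
            = p ^ 2 * Nat.card ↥(V ⊓ Subgroup.centralizer (A : Set G)) := by ring
          _ = Nat.card ↥(W ⊔ (V ⊓ Subgroup.centralizer (A : Set G))) *
              Nat.card ↥(W ⊓ (V ⊓ Subgroup.centralizer (A : Set G))) := h1.symm
          _ ≤ Nat.card ↥(W ⊔ (V ⊓ Subgroup.centralizer (A : Set G))) * p :=
              Nat.mul_le_mul_left _ hZ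
          _ = _ := mul_comm _ _
      exact (Nat.le_of_mul_le_mul_left h4 hpp.pos).trans h3
    have hA₀best : Cfsg.IsBestOffenderOn p V (A ⊓ Subgroup.centralizer (W : Set G)) := by
      refine ⟨fun C hC => ?_, (Subgroup.commutator_mono inf_le_left inf_le_left).trans hA.2.1,
        fun a ha => hA.2.2 a ha.1⟩
      calc Nat.card C * Nat.card ↥(V ⊓ Subgroup.centralizer (C : Set G))
          ≤ Nat.card A * Nat.card ↥(V ⊓ Subgroup.centralizer (A : Set G)) :=
            hA.1 C (hC.trans inf_le_left)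
        _ = Nat.card ↥(A ⊓ Subgroup.centralizer (W : Set G)) *
            (p * Nat.card ↥(V ⊓ Subgroup.centralizer (A : Set G))) := by rw [hcardA]; ring
        _ ≤ _ := Nat.mul_le_mul_left _ hfixle
    have hlt : Nat.card ↥(A ⊓ Subgroup.centralizer (W : Set G)) < n := by
      rw [← hn, hcardA]
      have h1 : 0 < Nat.card ↥(A ⊓ Subgroup.centralizer (W : Set G)) := Nat.card_pos
      have h2 := hpp.one_lt
      nlinarith
    obtain ⟨k, B, hB, hind, hBsup⟩ := ih _ hlt (A ⊓ Subgroup.centralizer (W : Set G)) rfl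
      (inf_le_left.trans hAH) hA₀best
    refine ⟨k + 1, Fin.cons A₁ B, ?_, ?_, ?_⟩
    · intro i
      refine Fin.cases ?_ (fun j => ?_) i
      · rw [Fin.cons_zero]; exact ⟨hA₁A, hA₁, hA₁V, hA₁min⟩
      · rw [Fin.cons_succ]
        obtain ⟨h1, h2, h3, h4⟩ := hB j
        exact ⟨h1.trans inf_le_left, h2, h3, h4⟩
    · intro i
      refine Fin.cases ?_ (fun j => ?_) i
      · rw [Fin.cons_zero]
        have hle' : (⨆ (j : Fin (k + 1)) (_ : j ≠ 0),
            (Fin.cons A₁ B : Fin (k + 1) → Subgroup G) j) ≤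
            A ⊓ Subgroup.centralizer (W : Set G) := by
          refine iSup₂_le fun j hj => ?_
          obtain ⟨j', rfl⟩ := Fin.exists_succ_eq.mpr hj
          rw [Fin.cons_succ, ← hBsup]
          exact le_iSup B j'
        exact disjoint_iff.mpr (eq_bot_iff.mpr ((inf_le_inf_left _ hle').trans hdisj.le))
      · rw [Fin.cons_succ]
        have hle' : (⨆ (j' : Fin (k + 1)) (_ : j' ≠ j.succ),
            (Fin.cons A₁ B : Fin (k + 1) → Subgroup G) j') ≤
            A₁ ⊔ ⨆ (j' : Fin k) (_ : j' ≠ j), B j' := by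
          refine iSup₂_le fun j' => ?_
          refine Fin.cases ?_ (fun j'' => ?_) j'
          · intro _; rw [Fin.cons_zero]; exact le_sup_left
          · intro hj'; rw [Fin.cons_succ]
            exact le_sup_of_le_right (le_iSup₂_of_le j'' (fun h => hj' (congrArg Fin.succ h)) le_rfl)
        have hrestA : (⨆ (j' : Fin k) (_ : j' ≠ j), B j') ≤
            A ⊓ Subgroup.centralizer (W : Set G) := by
          refine iSup₂_le fun j' _ => ?_
          rw [← hBsup]; exact le_iSup B j'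
        rw [disjoint_iff, eq_bot_iff]
        intro x hx
        have hx2 := hle' hx.2
        obtain ⟨a, ha, y, hy, rfl⟩ := (Cfsg.Agent.Lib.helper53.mem_sup_of_le_normalizer
          (le_normalizer_of_le_comm hAc (hrestA.trans inf_le_left) hA₁A)).mp hx2
        have hxA₀ : a * y ∈ A ⊓ Subgroup.centralizer (W : Set G) := (hB j).1 hx.1
        have ha0 : a ∈ A₁ ⊓ (A ⊓ Subgroup.centralizer (W : Set G)) := ⟨ha, by
          have h0 : a = (a * y) * y⁻¹ := by group
          rw [h0]; exact Subgroup.mul_mem _ hxA₀ (Subgroup.inv_mem _ (hrestA hy))⟩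
        rw [hdisj, Subgroup.mem_bot] at ha0
        rw [ha0, one_mul] at hx ⊢
        have h5 := hind j
        rw [disjoint_iff] at h5
        rw [← h5]
        exact ⟨hx.1, hy⟩
    · apply le_antisymm
      · refine iSup_le fun i => ?_
        refine Fin.cases ?_ (fun j => ?_) i
        · rw [Fin.cons_zero]; exact hA₁A
        · rw [Fin.cons_succ]; exact (hB j).1.trans inf_le_left
      · refine hsup.ge.trans (sup_le ?_ ?_)
        · exact le_iSup_of_le 0 (by rw [Fin.cons_zero])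
        · rw [← hBsup]
          exact iSup_le fun j => le_iSup_of_le j.succ (by rw [Fin.cons_succ])

end FF5

end Cfsg.Agent.Lib.helper14
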