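import Mathlib
import Cfsg.Agent.Lib.helper14.FF5

/-!
helper14: failure-of-factorization structure theory (KS 9.3), part 6: the global structure theorem.
-/

set_option autoImplicit false
open Cfsg

namespace Cfsg.Agent.Lib.helper14

open scoped commutatorElement

section FF6

variable {G : Type*} [Group G]

/-- decomposition of an abelian group along a family of "plane/fixed-point" splittings -/
theorem plane_decomp {ι : Type*} {V : Subgroup G} (hVc : ∀ u ∈ V, ∀ v ∈ V, u * v = v * u)
    (W E : ι → Subgroup G) (hWV : ∀ i, W i ≤ V)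
    (h1 : ∀ i, W i ⊓ (V ⊓ Subgroup.centralizer (E i : Set G)) = ⊥)
    (h2 : ∀ i, W i ⊔ (V ⊓ Subgroup.centralizer (E i : Set G)) = V)
    (h3 : ∀ i j, i ≠ j → W j ≤ Subgroup.centralizer (E i : Set G)) (s : Finset ι) :
    (∀ x ∈ ⨆ i ∈ s, W i, (∀ i ∈ s, x ∈ Subgroup.centralizer (E i : Set G)) → x = 1) ∧
    (∀ v ∈ V, ∃ u ∈ ⨆ i ∈ s, W i, ∃ c ∈ V,
      (∀ i ∈ s, c ∈ Subgroup.centralizer (E i : Set G)) ∧ v = u * c) := by
  classical
  induction s using Finset.induction_on with
  | empty =>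
    refine ⟨fun x hx _ => ?_, fun v hv => ⟨1, Subgroup.one_mem _, v, hv, ?_, (one_mul v).symm⟩⟩
    · simpa using hx
    · intro i hi; simp at hi
  | insert a s ha ih =>
    obtain ⟨ih1, ih2⟩ := ih
    have hUV : (⨆ i ∈ s, W i) ≤ V := iSup₂_le fun i _ => hWV i
    have hUa : (⨆ i ∈ s, W i) ≤ Subgroup.centralizer (E a : Set G) :=
      iSup₂_le fun i hi => h3 a i (fun h => ha (h ▸ hi))
    constructor
    · intro x hx hxc
      rw [Finset.iSup_insert] at hx
      obtain ⟨w, hw, y, hy, rfl⟩ := (Cfsg.Agent.Lib.helper53.mem_sup_of_le_normalizer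
        (le_normalizer_of_le_comm hVc hUV (hWV a))).mp hx
      have hwc : w ∈ Subgroup.centralizer (E a : Set G) := by
        have h0 : w = (w * y) * y⁻¹ := by group
        rw [h0]
        exact Subgroup.mul_mem _ (hxc a (Finset.mem_insert_self a s))
          (Subgroup.inv_mem _ (hUa hy))
      have hw1 : w ∈ W a ⊓ (V ⊓ Subgroup.centralizer (E a : Set G)) := ⟨hw, hWV a hw, hwc⟩
      rw [h1, Subgroup.mem_bot] at hw1
      rw [hw1, one_mul] at hxc ⊢
      exact ih1 y hy (fun i hi => hxc i (Finset.mem_insert_of_mem hi))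
    · intro v hv
      obtain ⟨u, hu, c, hc, hcs, rfl⟩ := ih2 v hv
      have hcsup : c ∈ W a ⊔ (V ⊓ Subgroup.centralizer (E a : Set G)) := by rw [h2]; exact hc
      obtain ⟨w, hw, c', hc', rfl⟩ := (Cfsg.Agent.Lib.helper53.mem_sup_of_le_normalizer
        (le_normalizer_of_le_comm hVc inf_le_left (hWV a))).mp hcsup
      refine ⟨w * u, ?_, c', hc'.1, ?_, ?_⟩
      · rw [Finset.iSup_insert]
        exact Subgroup.mul_mem _ (Subgroup.mem_sup_left hw) (Subgroup.mem_sup_right hu)
      · intro i hi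
        rcases Finset.mem_insert.mp hi with rfl | hi
        · exact hc'.2
        · have hia : i ≠ a := fun h => ha (h ▸ hi)
          have h0 : c' = w⁻¹ * (w * c') := by group
          rw [h0]
          exact Subgroup.mul_mem _ (Subgroup.inv_mem _ (h3 i a hia hw)) (hcs i hi)
      · have h0 := hVc u (hUV hu) w (hWV a hw)
        calc u * (w * c') = (u * w) * c' := by group
          _ = w * u * c' := by rw [h0]

variable [Finite G] {p : ℕ} [hp : Fact p.Prime] {V H Q : Subgroup G}

/-- the global structure theorem, for a family of subgroups `E = [Q, A] A` described by a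
predicate `P` -/
theorem ff_structure (S : FFSet p V H Q) (P : Subgroup G → Prop)
    (hP : ∀ E, P E → ∃ A, IsRoot p V H A ∧ E = ⁅Q, A⁆ ⊔ A)
    (hN : ∀ A, IsRoot p V H A → H ≤ Subgroup.normalizer ((⁅Q, A⁆ ⊔ A : Subgroup G) : Set G))
    (hcover : H ≤ ⨆ E : {E : Subgroup G // P E}, (E : Subgroup G)) :
    (∀ E : {E : Subgroup G // P E}, H ≤ Subgroup.normalizer ((E : Subgroup G) : Set G) ∧
      Nonempty (↥(E : Subgroup G) ≃* Matrix.SpecialLinearGroup (Fin 2) (ZMod p)) ∧
      Nat.card ↥(⁅V, (E : Subgroup G)⁆) = p ^ 2) ∧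
    iSupIndep (fun E : {E : Subgroup G // P E} => (E : Subgroup G)) ∧
    (⨆ E : {E : Subgroup G // P E}, (E : Subgroup G)) = H ∧
    iSupIndep (fun o : Option {E : Subgroup G // P E} =>
      o.elim (V ⊓ Subgroup.centralizer (H : Set G)) (fun E => ⁅V, (E : Subgroup G)⁆)) ∧
    (V ⊓ Subgroup.centralizer (H : Set G)) ⊔
      (⨆ E : {E : Subgroup G // P E}, ⁅V, (E : Subgroup G)⁆) = V := by
  have hEH : ∀ E : {E : Subgroup G // P E}, (E : Subgroup G) ≤ H := by
    rintro ⟨E, hE⟩
    obtain ⟨A, hA, rfl⟩ := hP E hE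
    exact E_le S hA
  have hWV : ∀ E : {E : Subgroup G // P E}, ⁅V, (E : Subgroup G)⁆ ≤ V :=
    fun E => S.comm_le_V (hEH E)
  have hinf : ∀ E : {E : Subgroup G // P E}, ⁅V, (E : Subgroup G)⁆ ⊓
      (V ⊓ Subgroup.centralizer (((E : Subgroup G)) : Set G)) = ⊥ := by
    rintro ⟨E, hE⟩
    obtain ⟨A, hA, rfl⟩ := hP E hE
    exact E_inf_fix S hA
  have hsup : ∀ E : {E : Subgroup G // P E}, ⁅V, (E : Subgroup G)⁆ ⊔
      (V ⊓ Subgroup.centralizer (((E : Subgroup G)) : Set G)) = V := by
    rintro ⟨E, hE⟩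
    obtain ⟨A, hA, rfl⟩ := hP E hE
    exact E_sup_fix S hA
  have hfaith : ∀ E : {E : Subgroup G // P E}, (E : Subgroup G) ⊓
      Subgroup.centralizer ((⁅V, (E : Subgroup G)⁆ : Subgroup G) : Set G) = ⊥ := by
    rintro ⟨E, hE⟩
    obtain ⟨A, hA, rfl⟩ := hP E hE
    exact E_faithful S hA
  have hdich : ∀ E E' : {E : Subgroup G // P E}, E ≠ E' →
      ⁅V, (E' : Subgroup G)⁆ ≤ Subgroup.centralizer (((E : Subgroup G)) : Set G) := by
    rintro ⟨E, hE⟩ ⟨E', hE'⟩ hne
    obtain ⟨A, hA, rfl⟩ := hP E hE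
    obtain ⟨A', hA', rfl⟩ := hP E' hE'
    rcases E_dichotomy S hA hA' with h | ⟨-, h, -⟩
    · exact absurd (Subtype.ext h) hne
    · exact h
  have hcov : (⨆ E : {E : Subgroup G // P E}, (E : Subgroup G)) = H :=
    le_antisymm (iSup_le hEH) hcover
  have hfin : Finite {E : Subgroup G // P E} := inferInstance
  have : Fintype {E : Subgroup G // P E} := Fintype.ofFinite _
  have hpd := plane_decomp S.Vcomm (fun E : {E : Subgroup G // P E} => ⁅V, (E : Subgroup G)⁆)
    (fun E : {E : Subgroup G // P E} => (E : Subgroup G)) hWV hinf hsup hdich Finset.univ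
  have huniv : (⨆ E ∈ (Finset.univ : Finset {E : Subgroup G // P E}), ⁅V, (E : Subgroup G)⁆) =
      ⨆ E : {E : Subgroup G // P E}, ⁅V, (E : Subgroup G)⁆ := by simp
  rw [huniv] at hpd
  obtain ⟨hpd1, hpd2⟩ := hpd
  have hcH : ∀ c : G, (∀ E : {E : Subgroup G // P E},
      c ∈ Subgroup.centralizer (((E : Subgroup G)) : Set G)) →
      c ∈ Subgroup.centralizer (H : Set G) := by
    intro c hc
    have h0 : H ≤ Subgroup.centralizer ((Subgroup.zpowers c : Subgroup G) : Set G) := by
      rw [← hcov]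
      refine iSup_le fun E => ?_
      rw [Subgroup.le_centralizer_iff, Subgroup.zpowers_le]
      exact hc E
    exact (Subgroup.le_centralizer_iff.mp h0) (Subgroup.mem_zpowers c)
  refine ⟨?_, ?_, hcov, ?_, ?_⟩
  · rintro ⟨E, hE⟩
    obtain ⟨A, hA, rfl⟩ := hP E hE
    exact ⟨hN A hA, E_iso S hA, E_card_comm S hA⟩
  · intro E
    have hle : (⨆ (E' : {E : Subgroup G // P E}) (_ : E' ≠ E), (E' : Subgroup G)) ≤
        Subgroup.centralizer ((⁅V, (E : Subgroup G)⁆ : Subgroup G) : Set G) := by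
      refine iSup₂_le fun E' hne => ?_
      rw [Subgroup.le_centralizer_iff]
      exact hdich E' E hne
    exact disjoint_iff.mpr (eq_bot_iff.mpr ((inf_le_inf_left _ hle).trans (hfaith E).le))
  · intro o
    cases o with
    | none =>
      have hle : (⨆ (j : Option {E : Subgroup G // P E}) (_ : j ≠ none),
          j.elim (V ⊓ Subgroup.centralizer (H : Set G)) (fun E => ⁅V, (E : Subgroup G)⁆)) ≤
          ⨆ E : {E : Subgroup G // P E}, ⁅V, (E : Subgroup G)⁆ := by
        refine iSup₂_le fun j hj => ?_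
        cases j with
        | none => exact absurd rfl hj
        | some E => exact le_iSup (fun E : {E : Subgroup G // P E} => ⁅V, (E : Subgroup G)⁆) E
      rw [disjoint_iff, eq_bot_iff]
      intro x hx
      rw [Subgroup.mem_bot]
      refine hpd1 x (hle hx.2) (fun E _ => ?_)
      exact Subgroup.centralizer_le (SetLike.coe_subset_coe.mpr (hEH E)) hx.1.2
    | some E =>
      have hle : (⨆ (j : Option {E : Subgroup G // P E}) (_ : j ≠ some E),
          j.elim (V ⊓ Subgroup.centralizer (H : Set G)) (fun E => ⁅V, (E : Subgroup G)⁆)) ≤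
          V ⊓ Subgroup.centralizer (((E : Subgroup G)) : Set G) := by
        refine iSup₂_le fun j hj => ?_
        cases j with
        | none =>
          exact inf_le_inf_left _ (Subgroup.centralizer_le (SetLike.coe_subset_coe.mpr (hEH E)))
        | some E' =>
          exact le_inf (hWV E') (hdich E E' (fun h => hj (congrArg some h.symm)))
      exact disjoint_iff.mpr (eq_bot_iff.mpr ((inf_le_inf_left _ hle).trans (hinf E).le))
  · apply le_antisymm
    · exact sup_le inf_le_left (iSup_le hWV)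
    · intro v hv
      obtain ⟨u, hu, c, hc, hcs, rfl⟩ := hpd2 v hv
      have hcH' := hcH c (fun E => hcs E (Finset.mem_univ E))
      have hUV : (⨆ E : {E : Subgroup G // P E}, ⁅V, (E : Subgroup G)⁆) ≤ V := iSup_le hWV
      have h0 := S.Vcomm u (hUV hu) c hc
      rw [h0]
      exact Subgroup.mul_mem _ (Subgroup.mem_sup_left ⟨hc, hcH'⟩) (Subgroup.mem_sup_right hu)

end FF6

end Cfsg.Agent.Lib.helper14
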