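import Mathlib
import Cfsg.Agent.Lib.helper14.FF6

/-!
helper14: failure-of-factorization structure theory, part 7: coprime operator groups.

`X` normalizes `V`, `H`, `Q` and has order coprime to `|H|`.  Products of `X`-conjugates
(`dgl`) give `X`-fixed "diagonal" elements; the diagonal plane `diagPlane V E X` is a plane of
fixed points of `X` on which fixed points of `X` in `H` induce `SL₂(p)`.
-/

set_option autoImplicit false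
open Cfsg

namespace Cfsg.Agent.Lib.helper14

open scoped commutatorElement

section Diag

variable {G : Type*} [Group G]

/-- product of the conjugates of `a` by the elements of a list -/
def dgl (l : List G) (a : G) : G := (l.map (fun x => x * a * x⁻¹)).prod

theorem dgl_mem {l : List G} {a : G} {T : Subgroup G} (h : ∀ x ∈ l, x * a * x⁻¹ ∈ T) :
    dgl l a ∈ T := by
  apply Subgroup.list_prod_mem
  intro g hg
  obtain ⟨x, hx, rfl⟩ := List.mem_map.mp hg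
  exact h x hx

theorem dgl_commute {l : List G} {a g : G} (h : ∀ x ∈ l, Commute (x * a * x⁻¹) g) :
    Commute (dgl l a) g := by
  apply Commute.list_prod_left
  intro y hy
  obtain ⟨x, hx, rfl⟩ := List.mem_map.mp hy
  exact h x hx

theorem dgl_commute_dgl {l : List G} {a b : G}
    (h : ∀ x ∈ l, ∀ y ∈ l, Commute (x * a * x⁻¹) (y * b * y⁻¹)) :
    Commute (dgl l a) (dgl l b) := by
  apply dgl_commute
  intro x hx
  apply Commute.list_prod_right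
  intro g hg
  obtain ⟨y, hy, rfl⟩ := List.mem_map.mp hg
  exact h x hx y hy

theorem dgl_conj {X : Subgroup G} {l : List G} (hl : l.Nodup) (hmem : ∀ x, x ∈ l ↔ x ∈ X) {a : G}
    (hc : ∀ x ∈ X, ∀ y ∈ X, Commute (x * a * x⁻¹) (y * a * y⁻¹)) {y : G} (hy : y ∈ X) :
    y * dgl l a * y⁻¹ = dgl l a := by
  have h1 : y * dgl l a * y⁻¹ = dgl (l.map (fun x => y * x)) a := by
    have h2 := map_list_prod (MulAut.conj y) (l.map (fun x => x * a * x⁻¹))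
    rw [MulAut.conj_apply] at h2
    unfold dgl
    rw [h2, List.map_map, List.map_map]
    congr 1
    apply List.map_congr_left
    intro x _
    simp only [Function.comp, MulAut.conj_apply]
    group
  rw [h1]
  have hperm : (l.map (fun x => y * x)).Perm l := by
    rw [List.perm_ext_iff_of_nodup (hl.map (mul_right_injective y)) hl]
    intro x
    rw [List.mem_map, hmem]
    constructor
    · rintro ⟨z, hz, rfl⟩
      exact X.mul_mem hy ((hmem z).mp hz)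
    · intro hx
      exact ⟨y⁻¹ * x, (hmem _).mpr (X.mul_mem (X.inv_mem hy) hx), by group⟩
  unfold dgl
  apply List.Perm.prod_eq' (hperm.map _)
  apply List.pairwise_of_forall_mem_list
  intro g hg h hh
  obtain ⟨x, hx, rfl⟩ := List.mem_map.mp hg
  obtain ⟨z, hz, rfl⟩ := List.mem_map.mp hh
  obtain ⟨x', hx', rfl⟩ := List.mem_map.mp hx
  obtain ⟨z', hz', rfl⟩ := List.mem_map.mp hz
  exact hc _ (X.mul_mem hy ((hmem _).mp hx')) _ (X.mul_mem hy ((hmem _).mp hz'))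

theorem dgl_split [Finite G] {X Y : Subgroup G} {l : List G} (hl : l.Nodup)
    (hmem : ∀ x, x ∈ l ↔ x ∈ X) (hYX : Y ≤ X) {a : G} (T : Subgroup G)
    (hc : ∀ x ∈ X, ∀ y ∈ X, Commute (x * a * x⁻¹) (y * a * y⁻¹))
    (hY : ∀ x ∈ Y, x * a * x⁻¹ = a) (hT : ∀ x ∈ X, x ∉ Y → x * a * x⁻¹ ∈ T) :
    ∃ r ∈ T, dgl l a = a ^ Nat.card Y * r := by
  classical
  have hperm := List.filter_append_perm (fun x => decide (x ∈ Y)) l
  have hpw : ((l.filter (fun x => decide (x ∈ Y)) ++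
      l.filter (fun x => !decide (x ∈ Y))).map (fun x => x * a * x⁻¹)).Pairwise Commute := by
    apply List.pairwise_of_forall_mem_list
    intro g hg h hh
    obtain ⟨x, hx, rfl⟩ := List.mem_map.mp hg
    obtain ⟨z, hz, rfl⟩ := List.mem_map.mp hh
    exact hc _ ((hmem _).mp (hperm.subset hx)) _ ((hmem _).mp (hperm.subset hz))
  have h1 : dgl l a = ((l.filter (fun x => decide (x ∈ Y)) ++
      l.filter (fun x => !decide (x ∈ Y))).map (fun x => x * a * x⁻¹)).prod := by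
    unfold dgl
    exact (List.Perm.prod_eq' (hperm.map _) hpw).symm
  have hlen : (l.filter (fun x => decide (x ∈ Y))).length = Nat.card Y := by
    have hset : (↑(l.filter (fun x => decide (x ∈ Y))).toFinset : Set G) = (Y : Set G) := by
      ext x
      simp only [List.coe_toFinset, Set.mem_ofPred_eq, List.mem_filter, decide_eq_true_eq,
        SetLike.mem_coe, hmem]
      exact ⟨fun h => h.2, fun h => ⟨hYX h, h⟩⟩
    rw [show Nat.card Y = (Y : Set G).ncard from Nat.card_coe_set_eq _, ← hset,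
      Set.ncard_coe_finset, List.toFinset_card_of_nodup (hl.filter _)]
  rw [h1, List.map_append, List.prod_append]
  refine ⟨((l.filter (fun x => !decide (x ∈ Y))).map (fun x => x * a * x⁻¹)).prod, ?_, ?_⟩
  · apply Subgroup.list_prod_mem
    intro g hg
    obtain ⟨x, hx, rfl⟩ := List.mem_map.mp hg
    rw [List.mem_filter] at hx
    apply hT x ((hmem x).mp hx.1)
    simpa using hx.2
  · congr 1
    rw [List.prod_eq_pow_card _ a, List.length_map, hlen]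
    intro g hg
    obtain ⟨x, hx, rfl⟩ := List.mem_map.mp hg
    rw [List.mem_filter] at hx
    apply hY x
    simpa using hx.2

theorem list_prod_pow_eq_one {n : ℕ} : ∀ (l : List G), (∀ g ∈ l, ∀ h ∈ l, Commute g h) →
    (∀ g ∈ l, g ^ n = 1) → l.prod ^ n = 1
  | [], _, _ => by simp
  | (g :: l), hc, hp => by
    rw [List.prod_cons]
    have h1 : Commute g l.prod := Commute.list_prod_right _ _
      (fun x hx => hc g List.mem_cons_self x (List.mem_cons_of_mem _ hx))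
    rw [h1.mul_pow, hp g List.mem_cons_self, one_mul]
    exact list_prod_pow_eq_one l
      (fun a ha b hb => hc a (List.mem_cons_of_mem _ ha) b (List.mem_cons_of_mem _ hb))
      (fun a ha => hp a (List.mem_cons_of_mem _ ha))

theorem dgl_pow_eq_one {X : Subgroup G} {l : List G} (hmem : ∀ x, x ∈ l ↔ x ∈ X) {a : G} {n : ℕ}
    (hc : ∀ x ∈ X, ∀ y ∈ X, Commute (x * a * x⁻¹) (y * a * y⁻¹)) (ha : a ^ n = 1) :
    dgl l a ^ n = 1 := by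
  unfold dgl
  apply list_prod_pow_eq_one
  · intro g hg h hh
    obtain ⟨x, hx, rfl⟩ := List.mem_map.mp hg
    obtain ⟨z, hz, rfl⟩ := List.mem_map.mp hh
    exact hc _ ((hmem _).mp hx) _ ((hmem _).mp hz)
  · intro g hg
    obtain ⟨x, hx, rfl⟩ := List.mem_map.mp hg
    rw [conj_pow, ha]
    group

theorem exists_list_of_subgroup [Finite G] (X : Subgroup G) :
    ∃ l : List G, l.Nodup ∧ ∀ x, x ∈ l ↔ x ∈ X := by
  obtain ⟨l, hl, hmem⟩ := Finite.exists_univ_list ↥X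
  refine ⟨l.map Subtype.val, hl.map Subtype.val_injective, ?_⟩
  intro x
  rw [List.mem_map]
  constructor
  · rintro ⟨y, -, rfl⟩
    exact y.2
  · intro hx
    exact ⟨⟨x, hx⟩, hmem _, rfl⟩

theorem commute_conj {g h : G} (y : G) (hc : Commute g h) :
    Commute (y * g * y⁻¹) (y * h * y⁻¹) := by
  have h1 : g * h = h * g := hc
  show y * g * y⁻¹ * (y * h * y⁻¹) = y * h * y⁻¹ * (y * g * y⁻¹)
  calc y * g * y⁻¹ * (y * h * y⁻¹) = y * (g * h) * y⁻¹ := by group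
    _ = y * (h * g) * y⁻¹ := by rw [h1]
    _ = y * h * y⁻¹ * (y * g * y⁻¹) := by group

theorem mem_normalizer_of_cj_eq {E : Subgroup G} {x : G} (h : cj x E = E) :
    x ∈ Subgroup.normalizer (E : Set G) := by
  apply mem_normalizer_of_cj_le h.le
  have h1 : cj x⁻¹ E = cj x⁻¹ (cj x E) := by rw [h]
  rw [h1, cj_mul, inv_mul_cancel, cj_one]

theorem mem_normalizer_iSup {ι : Sort*} {A : ι → Subgroup G} {g : G}
    (h : ∀ i, g ∈ Subgroup.normalizer ((A i : Subgroup G) : Set G)) :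
    g ∈ Subgroup.normalizer ((⨆ i, A i : Subgroup G) : Set G) := by
  apply mem_normalizer_of_cj_eq
  show (⨆ i, A i).map (MulAut.conj g).toMonoidHom = ⨆ i, A i
  rw [Subgroup.map_iSup]
  congr 1
  funext i
  exact cj_eq_of_mem_normalizer (h i)

end Diag

section XActSec

variable {G : Type*} [Group G] [Finite G] {p : ℕ} [hp : Fact p.Prime] {V H Q A X : Subgroup G}

/-- a group of operators normalizing the failure-of-factorization configuration, of order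
coprime to `|H|`. -/
structure XAct (V H Q X : Subgroup G) : Prop where
  hXV : X ≤ Subgroup.normalizer (V : Set G)
  hXH : X ≤ Subgroup.normalizer (H : Set G)
  hXQ : X ≤ Subgroup.normalizer (Q : Set G)
  hco : (Nat.card X).Coprime (Nat.card H)

theorem isRoot_cj (hA : IsRoot p V H A) {x : G} (hxV : x ∈ Subgroup.normalizer (V : Set G))
    (hxH : x ∈ Subgroup.normalizer (H : Set G)) : IsRoot p V H (cj x A) := by
  refine ⟨?_, (card_cj x A).trans hA.card, ?_⟩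
  · have := cj_mono (x := x) hA.le
    rwa [cj_eq_of_mem_normalizer hxH] at this
  · have h1 : ⁅V, cj x A⁆ = cj x ⁅V, A⁆ := by
      rw [cj_commutator, cj_eq_of_mem_normalizer hxV]
    rw [h1, card_cj]
    exact hA.cardc

theorem E_cj' {x : G} (hxQ : x ∈ Subgroup.normalizer (Q : Set G)) (A : Subgroup G) :
    cj x (⁅Q, A⁆ ⊔ A) = ⁅Q, cj x A⁆ ⊔ cj x A := by
  rw [cj_sup, cj_commutator, cj_eq_of_mem_normalizer hxQ]

theorem W_cj' {x : G} (hxV : x ∈ Subgroup.normalizer (V : Set G)) (E : Subgroup G) :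
    cj x ⁅V, E⁆ = ⁅V, cj x E⁆ := by
  rw [cj_commutator, cj_eq_of_mem_normalizer hxV]

theorem XAct.coprime_p (XA : XAct V H Q X) (hA : IsRoot p V H A) : (Nat.card X).Coprime p := by
  have h1 : p ∣ Nat.card H := hA.card ▸ Subgroup.card_dvd_of_le hA.le
  exact Nat.Coprime.coprime_dvd_right h1 XA.hco

theorem XAct.coprime_GL (XA : XAct V H Q X) (S : FFSet p V H Q) (hA : IsRoot p V H A) :
    (Nat.card X).Coprime (p * ((p ^ 2 - 1) * (p - 1))) := by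
  have h1 : p ∣ Nat.card H := hA.card ▸ Subgroup.card_dvd_of_le hA.le
  have h2 : (p ^ 2 - 1) ∣ Nat.card H := by
    rw [← card_comm_QA S hA]
    exact Subgroup.card_dvd_of_le ((comm_QA_le S hA).trans S.hQH)
  have h3 : (p - 1) ∣ (p ^ 2 - 1) := by
    obtain ⟨k, rfl⟩ := Nat.exists_eq_succ_of_ne_zero hp.out.ne_zero
    refine ⟨k + 2, ?_⟩
    simp only [Nat.succ_eq_add_one, Nat.add_sub_cancel]
    have : (k + 1) ^ 2 = k * (k + 2) + 1 := by ring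
    omega
  exact Nat.Coprime.mul_right (Nat.Coprime.coprime_dvd_right h1 XA.hco)
    (Nat.Coprime.mul_right (Nat.Coprime.coprime_dvd_right h2 XA.hco)
      (Nat.Coprime.coprime_dvd_right (h3.trans h2) XA.hco))

/-- the stabilizer in `X` of `E = [Q, A] A` centralizes `E` and its plane -/
theorem stab_centralizes (S : FFSet p V H Q) (hA : IsRoot p V H A) (XA : XAct V H Q X) {x : G}
    (hx : x ∈ X) (hxE : x ∈ Subgroup.normalizer ((⁅Q, A⁆ ⊔ A : Subgroup G) : Set G)) :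
    x ∈ Subgroup.centralizer ((⁅V, ⁅Q, A⁆ ⊔ A⁆ : Subgroup G) : Set G) ∧
      x ∈ Subgroup.centralizer ((⁅Q, A⁆ ⊔ A : Subgroup G) : Set G) := by
  have hpp := hp.out
  have : NeZero p := ⟨hpp.ne_zero⟩
  have hWV : ⁅V, ⁅Q, A⁆ ⊔ A⁆ ≤ V := S.comm_le_V (E_le S hA)
  have hxW : x ∈ Subgroup.normalizer ((⁅V, ⁅Q, A⁆ ⊔ A⁆ : Subgroup G) : Set G) :=
    Cfsg.Agent.Lib.helper53.mem_normalizer_commutator (XA.hXV hx) hxE
  obtain ⟨φ, hφ⟩ := exists_plane_hom (p := p) ⁅V, ⁅Q, A⁆ ⊔ A⁆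
    (fun u hu v hv => S.Vcomm u (hWV hu) v (hWV hv)) (fun w hw => S.Vpow w (hWV hw))
    (E_card_comm S hA)
  have hxC : x ∈ Subgroup.centralizer ((⁅V, ⁅Q, A⁆ ⊔ A⁆ : Subgroup G) : Set G) := by
    rw [← hφ ⟨x, hxW⟩, ← orderOf_eq_one_iff]
    have h1 : orderOf (φ ⟨x, hxW⟩) ∣ Nat.card X := by
      refine (orderOf_map_dvd φ _).trans ?_
      rw [Subgroup.orderOf_mk]
      exact Subgroup.orderOf_dvd_natCard X hx
    have h2 : orderOf (φ ⟨x, hxW⟩) ∣ p * ((p ^ 2 - 1) * (p - 1)) := by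
      rw [← Cfsg.Agent.Lib.helper88.card_GL2_zmod p]
      exact orderOf_dvd_natCard _
    exact Nat.eq_one_of_dvd_coprimes (XA.coprime_GL S hA) h1 h2
  refine ⟨hxC, ?_⟩
  have hEW : ⁅Q, A⁆ ⊔ A ≤ Subgroup.normalizer ((⁅V, ⁅Q, A⁆ ⊔ A⁆ : Subgroup G) : Set G) :=
    Cfsg.Agent.Lib.helper53.le_normalizer_commutator_right V (⁅Q, A⁆ ⊔ A)
  rw [Subgroup.mem_centralizer_iff]
  intro e he
  have hc1 : x * e * x⁻¹ * e⁻¹ ∈ ⁅Q, A⁆ ⊔ A :=
    Subgroup.mul_mem _ ((Subgroup.mem_normalizer_iff.mp hxE e).mp he) (Subgroup.inv_mem _ he)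
  have hc2 : x * e * x⁻¹ * e⁻¹ ∈ Subgroup.centralizer ((⁅V, ⁅Q, A⁆ ⊔ A⁆ : Subgroup G) : Set G) := by
    rw [Subgroup.mem_centralizer_iff]
    intro w hw
    have hw' : e⁻¹ * w * e ∈ ⁅V, ⁅Q, A⁆ ⊔ A⁆ := by
      have := (Subgroup.mem_normalizer_iff.mp (hEW (Subgroup.inv_mem _ he)) w).mp hw
      simpa using this
    have h1 : (e⁻¹ * w * e) * x = x * (e⁻¹ * w * e) := Subgroup.mem_centralizer_iff.mp hxC _ hw'
    have h2 : w * x = x * w := Subgroup.mem_centralizer_iff.mp hxC _ hw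
    symm
    calc (x * e * x⁻¹ * e⁻¹) * w = x * e * (x⁻¹ * ((e⁻¹ * w * e) * x)) * x⁻¹ * e⁻¹ := by group
      _ = x * e * (x⁻¹ * (x * (e⁻¹ * w * e))) * x⁻¹ * e⁻¹ := by rw [h1]
      _ = (x * w) * e * x⁻¹ * e⁻¹ := by group
      _ = (w * x) * e * x⁻¹ * e⁻¹ := by rw [h2]
      _ = w * (x * e * x⁻¹ * e⁻¹) := by group
  have hc3 : x * e * x⁻¹ * e⁻¹ ∈ (⁅Q, A⁆ ⊔ A) ⊓
      Subgroup.centralizer ((⁅V, ⁅Q, A⁆ ⊔ A⁆ : Subgroup G) : Set G) := ⟨hc1, hc2⟩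
  rw [E_faithful S hA, Subgroup.mem_bot] at hc3
  calc e * x = (x * e * x⁻¹ * e⁻¹)⁻¹ * x * e := by group
    _ = x * e := by rw [hc3]; group

theorem X_dichotomy (S : FFSet p V H Q) (hA : IsRoot p V H A) (XA : XAct V H Q X) {z : G}
    (hz : z ∈ X) :
    (z ∈ Subgroup.centralizer ((⁅V, ⁅Q, A⁆ ⊔ A⁆ : Subgroup G) : Set G) ∧
      z ∈ Subgroup.centralizer ((⁅Q, A⁆ ⊔ A : Subgroup G) : Set G)) ∨
    (z ∉ Subgroup.normalizer ((⁅Q, A⁆ ⊔ A : Subgroup G) : Set G) ∧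
      ⁅V, ⁅Q, A⁆ ⊔ A⁆ ≤ Subgroup.centralizer ((cj z (⁅Q, A⁆ ⊔ A) : Subgroup G) : Set G) ∧
      cj z ⁅V, ⁅Q, A⁆ ⊔ A⁆ ≤ Subgroup.centralizer ((⁅Q, A⁆ ⊔ A : Subgroup G) : Set G) ∧
      cj z (⁅Q, A⁆ ⊔ A) ≤ Subgroup.centralizer ((⁅Q, A⁆ ⊔ A : Subgroup G) : Set G)) := by
  by_cases hzE : z ∈ Subgroup.normalizer ((⁅Q, A⁆ ⊔ A : Subgroup G) : Set G)
  · exact Or.inl (stab_centralizes S hA XA hz hzE)
  · right
    have hA' := isRoot_cj hA (XA.hXV hz) (XA.hXH hz)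
    have hE' := E_cj' (Q := Q) (XA.hXQ hz) A
    have hW' := W_cj' (V := V) (XA.hXV hz) (⁅Q, A⁆ ⊔ A)
    rcases E_dichotomy S hA hA' with h | ⟨h1, h2, h3⟩
    · exact absurd (mem_normalizer_of_cj_eq (hE'.trans h.symm)) hzE
    · rw [hW', hE']
      exact ⟨hzE, h1, h2, Subgroup.le_centralizer_iff.mp h3⟩

theorem commute_conj_E (S : FFSet p V H Q) (hA : IsRoot p V H A) (XA : XAct V H Q X) {e : G}
    (he : e ∈ ⁅Q, A⁆ ⊔ A) :
    ∀ x ∈ X, ∀ y ∈ X, Commute (x * e * x⁻¹) (y * e * y⁻¹) := by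
  intro x hx y hy
  have key : Commute ((y⁻¹ * x) * e * (y⁻¹ * x)⁻¹) e := by
    rcases X_dichotomy S hA XA (X.mul_mem (X.inv_mem hy) hx) with ⟨-, h⟩ | ⟨-, -, -, h⟩
    · have h1 := Subgroup.mem_centralizer_iff.mp h e he
      have h2 : (y⁻¹ * x) * e * (y⁻¹ * x)⁻¹ = e := by rw [← h1]; group
      rw [h2]
    · have h2 : (y⁻¹ * x) * e * (y⁻¹ * x)⁻¹ ∈ cj (y⁻¹ * x) (⁅Q, A⁆ ⊔ A) := conj_mem_cj he
      exact (Subgroup.mem_centralizer_iff.mp (h h2) e he).symm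
  have h3 := commute_conj y key
  have h4 : y * ((y⁻¹ * x) * e * (y⁻¹ * x)⁻¹) * y⁻¹ = x * e * x⁻¹ := by group
  rwa [h4] at h3

theorem commute_conj_V (S : FFSet p V H Q) (XA : XAct V H Q X) {u : G} (hu : u ∈ V) :
    ∀ x ∈ X, ∀ y ∈ X, Commute (x * u * x⁻¹) (y * u * y⁻¹) := by
  intro x hx y hy
  exact S.Vcomm _ ((Subgroup.mem_normalizer_iff.mp (XA.hXV hx) u).mp hu) _
    ((Subgroup.mem_normalizer_iff.mp (XA.hXV hy) u).mp hu)

theorem commute_conj_root (S : FFSet p V H Q) (hA : IsRoot p V H A) (XA : XAct V H Q X) {a u : G}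
    (ha : a ∈ A) (hu : u ∈ ⁅V, A⁆) :
    ∀ x ∈ X, ∀ y ∈ X, Commute (x * a * x⁻¹) (y * u * y⁻¹) := by
  intro x hx y hy
  have haE : a ∈ ⁅Q, A⁆ ⊔ A := Subgroup.mem_sup_right ha
  have huW : u ∈ ⁅V, ⁅Q, A⁆ ⊔ A⁆ := Subgroup.commutator_mono le_rfl le_sup_right hu
  have key : Commute ((y⁻¹ * x) * a * (y⁻¹ * x)⁻¹) u := by
    rcases X_dichotomy S hA XA (X.mul_mem (X.inv_mem hy) hx) with ⟨-, h⟩ | ⟨-, h, -, -⟩
    · have h1 := Subgroup.mem_centralizer_iff.mp h a haE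
      have h2 : (y⁻¹ * x) * a * (y⁻¹ * x)⁻¹ = a := by rw [← h1]; group
      rw [h2]
      exact (Subgroup.mem_centralizer_iff.mp (hA.le_centralizer_comm S ha) u hu).symm
    · have h2 : (y⁻¹ * x) * a * (y⁻¹ * x)⁻¹ ∈ cj (y⁻¹ * x) (⁅Q, A⁆ ⊔ A) := conj_mem_cj haE
      exact Subgroup.mem_centralizer_iff.mp (h huW) _ h2
  have h3 := commute_conj y key
  have h4 : y * ((y⁻¹ * x) * a * (y⁻¹ * x)⁻¹) * y⁻¹ = x * a * x⁻¹ := by group
  rwa [h4] at h3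

theorem mem_centralizer_of_conj {X : Subgroup G} {d : G} (h : ∀ y ∈ X, y * d * y⁻¹ = d) :
    d ∈ Subgroup.centralizer (X : Set G) := by
  rw [Subgroup.mem_centralizer_iff]
  intro y hy
  calc y * d = (y * d * y⁻¹) * y := by group
    _ = d * y := by rw [h y hy]

theorem diag_E (S : FFSet p V H Q) (hA : IsRoot p V H A) (XA : XAct V H Q X) {l : List G}
    (hl : l.Nodup) (hmem : ∀ x, x ∈ l ↔ x ∈ X) {e : G} (he : e ∈ ⁅Q, A⁆ ⊔ A) :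
    dgl l e ∈ H ⊓ Subgroup.centralizer (X : Set G) ∧
    ∃ r ∈ H ⊓ Subgroup.centralizer ((⁅Q, A⁆ ⊔ A : Subgroup G) : Set G) ⊓
        Subgroup.centralizer ((⁅V, ⁅Q, A⁆ ⊔ A⁆ : Subgroup G) : Set G),
      dgl l e = e ^ Nat.card ↥(X ⊓ Subgroup.normalizer ((⁅Q, A⁆ ⊔ A : Subgroup G) : Set G)) * r := by
  have hc := commute_conj_E S hA XA he
  have hH : ∀ x ∈ X, x * e * x⁻¹ ∈ H := fun x hx =>
    (Subgroup.mem_normalizer_iff.mp (XA.hXH hx) e).mp (E_le S hA he)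
  refine ⟨⟨dgl_mem (fun x hx => hH x ((hmem x).mp hx)),
    mem_centralizer_of_conj (fun y hy => dgl_conj hl hmem hc hy)⟩, ?_⟩
  apply dgl_split hl hmem inf_le_left _ hc
  · intro x hx
    have h1 := (stab_centralizes S hA XA hx.1 hx.2).2
    have h2 := Subgroup.mem_centralizer_iff.mp h1 e he
    rw [← h2]; group
  · intro x hx hxY
    have hxE : x ∉ Subgroup.normalizer ((⁅Q, A⁆ ⊔ A : Subgroup G) : Set G) := fun h => hxY ⟨hx, h⟩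
    rcases X_dichotomy S hA XA hx with ⟨-, h⟩ | ⟨-, h1, -, h3⟩
    · exact absurd (Subgroup.centralizer_le_normalizer _ h) hxE
    · have hm : x * e * x⁻¹ ∈ cj x (⁅Q, A⁆ ⊔ A) := conj_mem_cj he
      exact ⟨⟨hH x hx, h3 hm⟩, Subgroup.le_centralizer_iff.mp h1 hm⟩

/-- the diagonal plane: fixed points of `X` on the sum of the `X`-conjugates of `[V, E]` -/
def diagPlane (V E X : Subgroup G) : Subgroup G :=
  (⨆ x : ↥X, cj (x : G) ⁅V, E⁆) ⊓ Subgroup.centralizer (X : Set G)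

theorem diag_W (S : FFSet p V H Q) (hA : IsRoot p V H A) (XA : XAct V H Q X) {l : List G}
    (hl : l.Nodup) (hmem : ∀ x, x ∈ l ↔ x ∈ X) {u : G} (hu : u ∈ ⁅V, ⁅Q, A⁆ ⊔ A⁆) :
    dgl l u ∈ diagPlane V (⁅Q, A⁆ ⊔ A) X ∧
    ∃ c ∈ V ⊓ Subgroup.centralizer ((⁅Q, A⁆ ⊔ A : Subgroup G) : Set G),
      dgl l u = u ^ Nat.card ↥(X ⊓ Subgroup.normalizer ((⁅Q, A⁆ ⊔ A : Subgroup G) : Set G)) * c := by
  have huV : u ∈ V := S.comm_le_V (E_le S hA) hu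
  have hc := commute_conj_V S XA huV
  have hV : ∀ x ∈ X, x * u * x⁻¹ ∈ V := fun x hx =>
    (Subgroup.mem_normalizer_iff.mp (XA.hXV hx) u).mp huV
  refine ⟨⟨dgl_mem (fun x hx => ?_), mem_centralizer_of_conj (fun y hy => dgl_conj hl hmem hc hy)⟩, ?_⟩
  · exact le_iSup (fun x : ↥X => cj (x : G) ⁅V, ⁅Q, A⁆ ⊔ A⁆) ⟨x, (hmem x).mp hx⟩ (conj_mem_cj hu)
  apply dgl_split hl hmem inf_le_left _ hc
  · intro x hx
    have h1 := (stab_centralizes S hA XA hx.1 hx.2).1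
    have h2 := Subgroup.mem_centralizer_iff.mp h1 u hu
    rw [← h2]; group
  · intro x hx hxY
    have hxE : x ∉ Subgroup.normalizer ((⁅Q, A⁆ ⊔ A : Subgroup G) : Set G) := fun h => hxY ⟨hx, h⟩
    rcases X_dichotomy S hA XA hx with ⟨-, h⟩ | ⟨-, -, h2, -⟩
    · exact absurd (Subgroup.centralizer_le_normalizer _ h) hxE
    · exact ⟨hV x hx, h2 (conj_mem_cj hu)⟩

theorem diagPlane_le_V (S : FFSet p V H Q) (hA : IsRoot p V H A) (XA : XAct V H Q X) :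
    diagPlane V (⁅Q, A⁆ ⊔ A) X ≤ V := by
  refine inf_le_left.trans (iSup_le fun x => ?_)
  have h1 : cj (x : G) ⁅V, ⁅Q, A⁆ ⊔ A⁆ ≤ cj (x : G) V := cj_mono (S.comm_le_V (E_le S hA))
  rwa [cj_eq_of_mem_normalizer (XA.hXV x.2)] at h1

theorem orbit_root (hA : IsRoot p V H A) (XA : XAct V H Q X)
    (E' : Subgroup G) (h : ∃ x ∈ X, E' = cj x (⁅Q, A⁆ ⊔ A)) :
    ∃ A', IsRoot p V H A' ∧ E' = ⁅Q, A'⁆ ⊔ A' := by
  obtain ⟨x, hx, rfl⟩ := h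
  exact ⟨cj x A, isRoot_cj hA (XA.hXV hx) (XA.hXH hx), E_cj' (XA.hXQ hx) A⟩

theorem diagPlane_inf_fix (S : FFSet p V H Q) (hA : IsRoot p V H A) (XA : XAct V H Q X) :
    diagPlane V (⁅Q, A⁆ ⊔ A) X ⊓ Subgroup.centralizer ((⁅Q, A⁆ ⊔ A : Subgroup G) : Set G) = ⊥ := by
  classical
  rw [eq_bot_iff]
  intro g hg
  rw [Subgroup.mem_bot]
  obtain ⟨⟨hg1, hg2⟩, hg3⟩ := hg
  let ι := {E' : Subgroup G // ∃ x ∈ X, E' = cj x (⁅Q, A⁆ ⊔ A)}
  have : Fintype ι := Fintype.ofFinite ι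
  have key : ∀ i : ι, ∃ A', IsRoot p V H A' ∧ (i : Subgroup G) = ⁅Q, A'⁆ ⊔ A' :=
    fun i => orbit_root hA XA i.1 i.2
  have hd := (plane_decomp S.Vcomm (fun i : ι => ⁅V, (i : Subgroup G)⁆)
    (fun i : ι => (i : Subgroup G))
    (fun i => by
      obtain ⟨A', hA', hi⟩ := key i
      show ⁅V, (i : Subgroup G)⁆ ≤ V
      rw [hi]; exact S.comm_le_V (E_le S hA'))
    (fun i => by
      obtain ⟨A', hA', hi⟩ := key i
      show ⁅V, (i : Subgroup G)⁆ ⊓ (V ⊓ Subgroup.centralizer (((i : Subgroup G)) : Set G)) = ⊥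
      rw [hi]; exact E_inf_fix S hA')
    (fun i => by
      obtain ⟨A', hA', hi⟩ := key i
      show ⁅V, (i : Subgroup G)⁆ ⊔ (V ⊓ Subgroup.centralizer (((i : Subgroup G)) : Set G)) = V
      rw [hi]; exact E_sup_fix S hA')
    (fun i j hij => by
      obtain ⟨Ai, hAi, hi⟩ := key i
      obtain ⟨Aj, hAj, hj⟩ := key j
      show ⁅V, (j : Subgroup G)⁆ ≤ Subgroup.centralizer (((i : Subgroup G)) : Set G)
      rcases E_dichotomy S hAi hAj with h | ⟨-, h2, -⟩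
      · exact absurd (Subtype.ext (hi.trans (h.trans hj.symm))) hij
      · rw [hi, hj]; exact h2)
    Finset.univ).1
  apply hd g
  · have hle : (⨆ x : ↥X, cj (x : G) ⁅V, ⁅Q, A⁆ ⊔ A⁆) ≤
        ⨆ i ∈ (Finset.univ : Finset ι), ⁅V, (i : Subgroup G)⁆ := by
      refine iSup_le fun x => ?_
      refine le_iSup₂_of_le (⟨cj (x : G) (⁅Q, A⁆ ⊔ A), x, x.2, rfl⟩ : ι) (Finset.mem_univ _) ?_
      rw [W_cj' (XA.hXV x.2)]
    exact hle hg1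
  · intro i _
    obtain ⟨x, hx, hi⟩ := i.2
    show g ∈ Subgroup.centralizer (((i : Subgroup G)) : Set G)
    rw [hi, ← cj_centralizer]
    have h1 : x * g * x⁻¹ = g := by
      have := Subgroup.mem_centralizer_iff.mp hg2 x hx
      rw [this]; group
    rw [← h1]
    exact conj_mem_cj hg3

theorem diagPlane_sup_fix (S : FFSet p V H Q) (hA : IsRoot p V H A) (XA : XAct V H Q X) :
    diagPlane V (⁅Q, A⁆ ⊔ A) X ⊔
      (V ⊓ Subgroup.centralizer ((⁅Q, A⁆ ⊔ A : Subgroup G) : Set G)) = V := by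
  apply le_antisymm (sup_le (diagPlane_le_V S hA XA) inf_le_left)
  intro v hv
  obtain ⟨l, hl, hmem⟩ := exists_list_of_subgroup X
  have hWV : ⁅V, ⁅Q, A⁆ ⊔ A⁆ ≤ V := S.comm_le_V (E_le S hA)
  have h1 : v ∈ ⁅V, ⁅Q, A⁆ ⊔ A⁆ ⊔
      (V ⊓ Subgroup.centralizer ((⁅Q, A⁆ ⊔ A : Subgroup G) : Set G)) := by
    rw [E_sup_fix S hA]; exact hv
  obtain ⟨u, hu, c, hc, rfl⟩ := (Cfsg.Agent.Lib.helper53.mem_sup_of_le_normalizer
    (le_normalizer_of_le_comm S.Vcomm inf_le_left hWV)).mp h1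
  have hm : (Nat.card ↥(⁅V, ⁅Q, A⁆ ⊔ A⁆)).Coprime
      (Nat.card ↥(X ⊓ Subgroup.normalizer ((⁅Q, A⁆ ⊔ A : Subgroup G) : Set G))) := by
    rw [E_card_comm S hA]
    apply Nat.Coprime.pow_left
    exact (Nat.Coprime.coprime_dvd_left (Subgroup.card_dvd_of_le inf_le_left)
      (XA.coprime_p hA)).symm
  obtain ⟨u', hu'⟩ := (powCoprime hm).surjective ⟨u, hu⟩
  have hu'' : (u' : G) ^ Nat.card ↥(X ⊓ Subgroup.normalizer ((⁅Q, A⁆ ⊔ A : Subgroup G) : Set G))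
      = u := congrArg Subtype.val hu'
  obtain ⟨hd1, c', hc', hd2⟩ := diag_W S hA XA hl hmem u'.2
  rw [hu''] at hd2
  have h3 : u * c = dgl l (u' : G) * (c'⁻¹ * c) := by rw [hd2]; group
  rw [h3]
  exact Subgroup.mul_mem_sup hd1 (Subgroup.mul_mem _ (Subgroup.inv_mem _ hc') hc)

theorem card_diagPlane (S : FFSet p V H Q) (hA : IsRoot p V H A) (XA : XAct V H Q X) :
    Nat.card ↥(diagPlane V (⁅Q, A⁆ ⊔ A) X) = p ^ 2 := by
  have h1 := Cfsg.Agent.Lib.helper13.card_sup_mul_card_inf (diagPlane V (⁅Q, A⁆ ⊔ A) X)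
    (V ⊓ Subgroup.centralizer ((⁅Q, A⁆ ⊔ A : Subgroup G) : Set G))
    (le_normalizer_of_le_comm S.Vcomm (diagPlane_le_V S hA XA) inf_le_left)
  have h2 : diagPlane V (⁅Q, A⁆ ⊔ A) X ⊓
      (V ⊓ Subgroup.centralizer ((⁅Q, A⁆ ⊔ A : Subgroup G) : Set G)) = ⊥ := by
    rw [eq_bot_iff, ← diagPlane_inf_fix S hA XA]
    exact inf_le_inf_left _ inf_le_right
  rw [diagPlane_sup_fix S hA XA, h2, Subgroup.card_bot, mul_one, ← card_fix_E S hA] at h1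
  have hpos : 0 < Nat.card ↥(V ⊓ Subgroup.centralizer ((⁅Q, A⁆ ⊔ A : Subgroup G) : Set G)) :=
    Nat.card_pos
  exact (Nat.eq_of_mul_eq_mul_right hpos h1).symm

theorem diagPlane_normalizer (S : FFSet p V H Q) (hA : IsRoot p V H A) (XA : XAct V H Q X)
    (hN : ∀ A, IsRoot p V H A → H ≤ Subgroup.normalizer ((⁅Q, A⁆ ⊔ A : Subgroup G) : Set G)) :
    H ⊓ Subgroup.centralizer (X : Set G) ≤
      Subgroup.normalizer ((diagPlane V (⁅Q, A⁆ ⊔ A) X : Subgroup G) : Set G) := by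
  rintro d ⟨hdH, hdX⟩
  unfold diagPlane
  apply mem_normalizer_inf
  · apply mem_normalizer_iSup
    intro x
    rw [W_cj' (XA.hXV x.2), E_cj' (XA.hXQ x.2)]
    exact Cfsg.Agent.Lib.helper53.mem_normalizer_commutator (S.hHV hdH)
      (hN _ (isRoot_cj hA (XA.hXV x.2) (XA.hXH x.2)) hdH)
  · exact Subgroup.le_normalizer hdX

theorem W_inf_fix_root (S : FFSet p V H Q) (hA : IsRoot p V H A) {P : Subgroup G}
    (hP : IsRoot p V H P) (hPE : P ≤ ⁅Q, A⁆ ⊔ A) :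
    ⁅V, ⁅Q, A⁆ ⊔ A⁆ ⊓ Subgroup.centralizer (P : Set G) ≤ ⁅V, P⁆ := by
  rintro g ⟨hg1, hg2⟩
  have hWV : ⁅V, ⁅Q, A⁆ ⊔ A⁆ ≤ V := S.comm_le_V (E_le S hA)
  have hPW : ⁅V, P⁆ ≤ ⁅V, ⁅Q, A⁆ ⊔ A⁆ := Subgroup.commutator_mono le_rfl hPE
  have h1 : g ∈ V ⊓ Subgroup.centralizer (P : Set G) := ⟨hWV hg1, hg2⟩
  rw [fix_root_eq S hA hP hPE] at h1
  obtain ⟨t, ht, c, hc, rfl⟩ := (Cfsg.Agent.Lib.helper53.mem_sup_of_le_normalizer
    (le_normalizer_of_le_comm S.Vcomm inf_le_left (hPW.trans hWV))).mp h1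
  have h2 : c ∈ ⁅V, ⁅Q, A⁆ ⊔ A⁆ ⊓
      (V ⊓ Subgroup.centralizer ((⁅Q, A⁆ ⊔ A : Subgroup G) : Set G)) := by
    refine ⟨?_, hc⟩
    have : c = t⁻¹ * (t * c) := by group
    rw [this]
    exact Subgroup.mul_mem _ (Subgroup.inv_mem _ (hPW ht)) hg1
  rw [E_inf_fix S hA, Subgroup.mem_bot] at h2
  rw [h2, mul_one]
  exact ht

theorem diag_core (S : FFSet p V H Q) (hA : IsRoot p V H A)
    (hN : ∀ A, IsRoot p V H A → H ≤ Subgroup.normalizer ((⁅Q, A⁆ ⊔ A : Subgroup G) : Set G))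
    {α β u r₁ r₂ c₀ : G} (hαE : α ∈ ⁅Q, A⁆ ⊔ A) (hβE : β ∈ ⁅Q, A⁆ ⊔ A)
    (huW : u ∈ ⁅V, ⁅Q, A⁆ ⊔ A⁆)
    (hr₁ : r₁ ∈ H ⊓ Subgroup.centralizer ((⁅Q, A⁆ ⊔ A : Subgroup G) : Set G) ⊓
        Subgroup.centralizer ((⁅V, ⁅Q, A⁆ ⊔ A⁆ : Subgroup G) : Set G))
    (hr₂ : r₂ ∈ H ⊓ Subgroup.centralizer ((⁅Q, A⁆ ⊔ A : Subgroup G) : Set G) ⊓
        Subgroup.centralizer ((⁅V, ⁅Q, A⁆ ⊔ A⁆ : Subgroup G) : Set G))
    (hc₀ : c₀ ∈ V ⊓ Subgroup.centralizer ((⁅Q, A⁆ ⊔ A : Subgroup G) : Set G))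
    (hcon : (α * r₁) * ((β * r₂)⁻¹ * (u * c₀) * (β * r₂)) * (α * r₁)⁻¹ =
      (β * r₂)⁻¹ * (u * c₀) * (β * r₂)) :
    α * (β⁻¹ * u * β) * α⁻¹ = β⁻¹ * u * β := by
  have hEH : ⁅Q, A⁆ ⊔ A ≤ H := E_le S hA
  have hEW : ⁅Q, A⁆ ⊔ A ≤ Subgroup.normalizer ((⁅V, ⁅Q, A⁆ ⊔ A⁆ : Subgroup G) : Set G) :=
    Cfsg.Agent.Lib.helper53.le_normalizer_commutator_right V (⁅Q, A⁆ ⊔ A)
  obtain ⟨z, hzd⟩ : ∃ z, z = β⁻¹ * u * β := ⟨_, rfl⟩
  have hz : z ∈ ⁅V, ⁅Q, A⁆ ⊔ A⁆ := by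
    have := (Subgroup.mem_normalizer_iff.mp (hEW (Subgroup.inv_mem _ hβE)) u).mp huW
    rw [hzd]
    simpa using this
  have hz' : α * z * α⁻¹ ∈ ⁅V, ⁅Q, A⁆ ⊔ A⁆ :=
    (Subgroup.mem_normalizer_iff.mp (hEW hαE) _).mp hz
  have hd₁H : α * r₁ ∈ H := H.mul_mem (hEH hαE) hr₁.1.1
  have hd₂H : β * r₂ ∈ H := H.mul_mem (hEH hβE) hr₂.1.1
  have hFn : ∀ d ∈ H, d ∈ Subgroup.normalizer
      ((V ⊓ Subgroup.centralizer ((⁅Q, A⁆ ⊔ A : Subgroup G) : Set G) : Subgroup G) : Set G) :=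
    fun d hd => mem_normalizer_inf (S.hHV hd) (mem_normalizer_centralizer (hN A hA hd))
  obtain ⟨c₁, hc₁d⟩ : ∃ c₁, c₁ = (β * r₂)⁻¹ * c₀ * (β * r₂) := ⟨_, rfl⟩
  have hc₁ : c₁ ∈ V ⊓ Subgroup.centralizer ((⁅Q, A⁆ ⊔ A : Subgroup G) : Set G) := by
    have := (Subgroup.mem_normalizer_iff.mp (hFn _ (H.inv_mem hd₂H)) c₀).mp hc₀
    rw [hc₁d]
    simpa using this
  obtain ⟨c₂, hc₂d⟩ : ∃ c₂, c₂ = (α * r₁) * c₁ * (α * r₁)⁻¹ := ⟨_, rfl⟩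
  have hc₂ : c₂ ∈ V ⊓ Subgroup.centralizer ((⁅Q, A⁆ ⊔ A : Subgroup G) : Set G) := by
    rw [hc₂d]
    exact (Subgroup.mem_normalizer_iff.mp (hFn _ hd₁H) _).mp hc₁
  have hr₁W : r₁ * z * r₁⁻¹ = z := by
    have := Subgroup.mem_centralizer_iff.mp hr₁.2 z hz
    rw [← this]; group
  have hr₂W : r₂⁻¹ * z * r₂ = z := by
    have := Subgroup.mem_centralizer_iff.mp hr₂.2 z hz
    rw [mul_assoc, this]; group
  have e1 : (β * r₂)⁻¹ * (u * c₀) * (β * r₂) = z * c₁ := by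
    calc (β * r₂)⁻¹ * (u * c₀) * (β * r₂)
        = (r₂⁻¹ * (β⁻¹ * u * β) * r₂) * ((β * r₂)⁻¹ * c₀ * (β * r₂)) := by group
      _ = z * c₁ := by rw [← hzd, hr₂W, ← hc₁d]
  have e2 : (α * r₁) * (z * c₁) * (α * r₁)⁻¹ = (α * z * α⁻¹) * c₂ := by
    calc (α * r₁) * (z * c₁) * (α * r₁)⁻¹
        = (α * (r₁ * z * r₁⁻¹) * α⁻¹) * ((α * r₁) * c₁ * (α * r₁)⁻¹) := by group
      _ = (α * z * α⁻¹) * c₂ := by rw [hr₁W, ← hc₂d]
  rw [e1, e2] at hcon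
  have h4 : z⁻¹ * (α * z * α⁻¹) ∈ ⁅V, ⁅Q, A⁆ ⊔ A⁆ ⊓
      (V ⊓ Subgroup.centralizer ((⁅Q, A⁆ ⊔ A : Subgroup G) : Set G)) := by
    refine ⟨Subgroup.mul_mem _ (Subgroup.inv_mem _ hz) hz', ?_⟩
    have h5 : z⁻¹ * (α * z * α⁻¹) = c₁ * c₂⁻¹ := by
      calc z⁻¹ * (α * z * α⁻¹) = z⁻¹ * ((α * z * α⁻¹) * c₂) * c₂⁻¹ := by group
        _ = z⁻¹ * (z * c₁) * c₂⁻¹ := by rw [hcon]
        _ = c₁ * c₂⁻¹ := by group
    rw [h5]
    exact Subgroup.mul_mem _ hc₁ (Subgroup.inv_mem _ hc₂)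
  rw [E_inf_fix S hA, Subgroup.mem_bot] at h4
  rw [← hzd]
  calc α * z * α⁻¹ = z * (z⁻¹ * (α * z * α⁻¹)) := by group
    _ = z := by rw [h4, mul_one]

/-- **Diagonal `SL₂(p)`**: the fixed points of `X` contain a plane `Wt ≤ V` and elements
`d₁, d₂` of `H` inducing `SL₂(p)` on it. -/
theorem diag_sl2 (S : FFSet p V H Q) (hA : IsRoot p V H A) (XA : XAct V H Q X)
    (hN : ∀ A, IsRoot p V H A → H ≤ Subgroup.normalizer ((⁅Q, A⁆ ⊔ A : Subgroup G) : Set G)) :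
    ∃ Wt : Subgroup G, Wt ≤ V ∧ Wt ≤ Subgroup.centralizer (X : Set G) ∧ Nat.card Wt = p ^ 2 ∧
      H ⊓ Subgroup.centralizer (X : Set G) ≤ Subgroup.normalizer (Wt : Set G) ∧
      ∃ d₁ d₂ w : G, d₁ ∈ H ⊓ Subgroup.centralizer (X : Set G) ∧
        d₂ ∈ H ⊓ Subgroup.centralizer (X : Set G) ∧ w ∈ Wt ∧ d₁ * w * d₁⁻¹ = w ∧
        d₁ * (d₂⁻¹ * w * d₂) * d₁⁻¹ ≠ d₂⁻¹ * w * d₂ ∧ d₁ ^ p = 1 := by
  obtain ⟨l, hl, hmem⟩ := exists_list_of_subgroup X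
  refine ⟨diagPlane V (⁅Q, A⁆ ⊔ A) X, diagPlane_le_V S hA XA, inf_le_right, card_diagPlane S hA XA,
    diagPlane_normalizer S hA XA hN, ?_⟩
  have hWV : ⁅V, ⁅Q, A⁆ ⊔ A⁆ ≤ V := S.comm_le_V (E_le S hA)
  obtain ⟨a, ha, ha1⟩ := hA.exists_ne_one
  obtain ⟨x₀, hx₀, hx₀A⟩ := exists_not_mem_centralizer S hA
  have hA₂ : IsRoot p V H (cj x₀ A) := hA.cj S (S.hQH hx₀)
  have hne : A ≠ cj x₀ A := ne_cj_of_not_mem_centralizer S hA hx₀ hx₀A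
  have hBQA : cj x₀ A ≤ Q ⊔ A := cj_le_sup S hA.le hx₀
  have hE : ⁅Q, A⁆ ⊔ A = A ⊔ cj x₀ A := comm_sup_eq_pair S hA hx₀ hx₀A
  have ha₂ : x₀ * a * x₀⁻¹ ∈ cj x₀ A := conj_mem_cj ha
  have haE : a ∈ ⁅Q, A⁆ ⊔ A := Subgroup.mem_sup_right ha
  have ha₂E : x₀ * a * x₀⁻¹ ∈ ⁅Q, A⁆ ⊔ A := by rw [hE]; exact Subgroup.mem_sup_right ha₂
  obtain ⟨u₀, hu₀, hu₀1⟩ : ∃ u ∈ ⁅V, A⁆, u ≠ 1 := by
    by_contra hcon
    push Not at hcon
    have h1 : ⁅V, A⁆ = ⊥ := by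
      rw [eq_bot_iff]; intro u hu; exact Subgroup.mem_bot.mpr (hcon u hu)
    have h2 := hA.cardc
    rw [h1, Subgroup.card_bot] at h2
    exact hp.out.one_lt.ne h2
  have hu₀W : u₀ ∈ ⁅V, ⁅Q, A⁆ ⊔ A⁆ := Subgroup.commutator_mono le_rfl le_sup_right hu₀
  have hmp : (Nat.card ↥(X ⊓ Subgroup.normalizer ((⁅Q, A⁆ ⊔ A : Subgroup G) : Set G))).Coprime p :=
    Nat.Coprime.coprime_dvd_left (Subgroup.card_dvd_of_le inf_le_left) (XA.coprime_p hA)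
  obtain ⟨hd₁, r₁, hr₁, hd₁e⟩ := diag_E S hA XA hl hmem haE
  obtain ⟨hd₂, r₂, hr₂, hd₂e⟩ := diag_E S hA XA hl hmem ha₂E
  obtain ⟨hw, c₀, hc₀, hwe⟩ := diag_W S hA XA hl hmem hu₀W
  refine ⟨dgl l a, dgl l (x₀ * a * x₀⁻¹), dgl l u₀, hd₁, hd₂, hw, ?_, ?_, ?_⟩
  · have hc : Commute (dgl l a) (dgl l u₀) := dgl_commute_dgl (fun x hx y hy =>
      commute_conj_root S hA XA ha hu₀ x ((hmem x).mp hx) y ((hmem y).mp hy))
    have h1 : dgl l a * dgl l u₀ = dgl l u₀ * dgl l a := hc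
    rw [h1]; group
  · intro hcon
    rw [hd₁e, hd₂e, hwe] at hcon
    generalize hm : Nat.card ↥(X ⊓ Subgroup.normalizer ((⁅Q, A⁆ ⊔ A : Subgroup G) : Set G)) = m
      at hcon hmp
    have h5 := diag_core S hA hN (Subgroup.pow_mem _ haE m) (Subgroup.pow_mem _ ha₂E m)
      (Subgroup.pow_mem _ hu₀W m) hr₁ hr₂ hc₀ hcon
    -- `a ^ m` generates `A`
    have hα1 : a ^ m ≠ 1 := fun h =>
      ha1 ((pow_eq_one_iff_of_coprime hmp).mp ⟨h, hA.pow_eq_one ha⟩)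
    have hβ1 : (x₀ * a * x₀⁻¹) ^ m ≠ 1 := by
      intro h
      have h3 := (pow_eq_one_iff_of_coprime hmp).mp ⟨h, hA₂.pow_eq_one ha₂⟩
      apply ha1
      calc a = x₀⁻¹ * (x₀ * a * x₀⁻¹) * x₀ := by group
        _ = 1 := by rw [h3]; group
    have hu1 : u₀ ^ m ≠ 1 := fun h =>
      hu₀1 ((pow_eq_one_iff_of_coprime hmp).mp ⟨h, S.Vpow u₀ (S.comm_le_V hA.le hu₀)⟩)
    obtain ⟨z, hzd⟩ : ∃ z, z = ((x₀ * a * x₀⁻¹) ^ m)⁻¹ * u₀ ^ m * (x₀ * a * x₀⁻¹) ^ m := ⟨_, rfl⟩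
    rw [← hzd] at h5
    have hEW : ⁅Q, A⁆ ⊔ A ≤ Subgroup.normalizer ((⁅V, ⁅Q, A⁆ ⊔ A⁆ : Subgroup G) : Set G) :=
      Cfsg.Agent.Lib.helper53.le_normalizer_commutator_right V (⁅Q, A⁆ ⊔ A)
    have hzW : z ∈ ⁅V, ⁅Q, A⁆ ⊔ A⁆ := by
      have := (Subgroup.mem_normalizer_iff.mp
        (hEW (Subgroup.inv_mem _ (Subgroup.pow_mem _ ha₂E m))) (u₀ ^ m)).mp
        (Subgroup.pow_mem _ hu₀W m)
      rw [hzd]
      simpa using this
    have hcz : Commute (a ^ m) z := by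
      show a ^ m * z = z * a ^ m
      calc a ^ m * z = (a ^ m * z * (a ^ m)⁻¹) * a ^ m := by group
        _ = z * a ^ m := by rw [h5]
    have hzA : z ∈ Subgroup.centralizer (A : Set G) := by
      rw [Subgroup.mem_centralizer_iff]
      intro h hh
      rw [← hA.zpowers_eq (Subgroup.pow_mem _ ha m) hα1] at hh
      obtain ⟨k, rfl⟩ := Subgroup.mem_zpowers_iff.mp hh
      exact (hcz.zpow_left k).eq
    have hzVA : z ∈ ⁅V, A⁆ := W_inf_fix_root S hA hA le_sup_right ⟨hzW, hzA⟩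
    -- the commutator `[b, u]`
    have hb : ((x₀ * a * x₀⁻¹) ^ m)⁻¹ ∈ cj x₀ A := Subgroup.inv_mem _ (Subgroup.pow_mem _ ha₂ m)
    have hb1 : ((x₀ * a * x₀⁻¹) ^ m)⁻¹ ≠ 1 := fun h => hβ1 (inv_eq_one.mp h)
    have huA : u₀ ^ m ∈ ⁅V, A⁆ := Subgroup.pow_mem _ hu₀ m
    have hcomm1 : ⁅((x₀ * a * x₀⁻¹) ^ m)⁻¹, u₀ ^ m⁆ ∈ ⁅V, cj x₀ A⁆ := by
      rw [Subgroup.commutator_comm]
      exact Subgroup.commutator_mem_commutator hb (S.comm_le_V hA.le huA)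
    have hcomm2 : ⁅((x₀ * a * x₀⁻¹) ^ m)⁻¹, u₀ ^ m⁆ ∈ ⁅V, A⁆ := by
      have : ⁅((x₀ * a * x₀⁻¹) ^ m)⁻¹, u₀ ^ m⁆ = z * (u₀ ^ m)⁻¹ := by
        rw [commutatorElement_def, hzd, inv_inv]
      rw [this]
      exact Subgroup.mul_mem _ hzVA (Subgroup.inv_mem _ huA)
    have hcomm3 : ⁅((x₀ * a * x₀⁻¹) ^ m)⁻¹, u₀ ^ m⁆ ∈ ⁅V, A⁆ ⊓ ⁅V, cj x₀ A⁆ := ⟨hcomm2, hcomm1⟩
    rw [pair_comm_inf S hA hA₂ hBQA hne, Subgroup.mem_bot, commutatorElement_eq_one_iff_commute]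
      at hcomm3
    apply pair_not_le S hA hA₂ hBQA hne
    intro g hg
    rw [Subgroup.mem_centralizer_iff]
    intro h hh
    rw [← zpowers_eq_of_card_prime hA.cardc huA hu1] at hg
    rw [← hA₂.zpowers_eq hb hb1] at hh
    obtain ⟨i, rfl⟩ := Subgroup.mem_zpowers_iff.mp hg
    obtain ⟨j, rfl⟩ := Subgroup.mem_zpowers_iff.mp hh
    exact (hcomm3.zpow_zpow j i).eq
  · exact dgl_pow_eq_one hmem (commute_conj_E S hA XA haE) (hA.pow_eq_one ha)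

/-- `E = [Q, A] A` is generated by `A` and fixed points of `X` in `H`. -/
theorem E_le_sup_fix (S : FFSet p V H Q) (hA : IsRoot p V H A) (XA : XAct V H Q X) :
    ⁅Q, A⁆ ⊔ A ≤ A ⊔ (H ⊓ Subgroup.centralizer (X : Set G)) := by
  obtain ⟨l, hl, hmem⟩ := exists_list_of_subgroup X
  obtain ⟨a, ha, ha1⟩ := hA.exists_ne_one
  obtain ⟨x₀, hx₀, hx₀A⟩ := exists_not_mem_centralizer S hA
  have hA₂ : IsRoot p V H (cj x₀ A) := hA.cj S (S.hQH hx₀)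
  have hne : A ≠ cj x₀ A := ne_cj_of_not_mem_centralizer S hA hx₀ hx₀A
  have hBQA : cj x₀ A ≤ Q ⊔ A := cj_le_sup S hA.le hx₀
  have hE : ⁅Q, A⁆ ⊔ A = A ⊔ cj x₀ A := comm_sup_eq_pair S hA hx₀ hx₀A
  have ha₂ : x₀ * a * x₀⁻¹ ∈ cj x₀ A := conj_mem_cj ha
  have ha₂E : x₀ * a * x₀⁻¹ ∈ ⁅Q, A⁆ ⊔ A := by rw [hE]; exact Subgroup.mem_sup_right ha₂
  have hAE : A ≤ ⁅Q, A⁆ ⊔ A := le_sup_right
  have hmp : (Nat.card ↥(X ⊓ Subgroup.normalizer ((⁅Q, A⁆ ⊔ A : Subgroup G) : Set G))).Coprime p :=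
    Nat.Coprime.coprime_dvd_left (Subgroup.card_dvd_of_le inf_le_left) (XA.coprime_p hA)
  obtain ⟨hd, r, hr, hde⟩ := diag_E S hA XA hl hmem ha₂E
  generalize hm : Nat.card ↥(X ⊓ Subgroup.normalizer ((⁅Q, A⁆ ⊔ A : Subgroup G) : Set G)) = m
    at hde hmp
  have hβ1 : (x₀ * a * x₀⁻¹) ^ m ≠ 1 := by
    intro h
    have h3 := (pow_eq_one_iff_of_coprime hmp).mp ⟨h, hA₂.pow_eq_one ha₂⟩
    apply ha1
    calc a = x₀⁻¹ * (x₀ * a * x₀⁻¹) * x₀ := by group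
      _ = 1 := by rw [h3]; group
  have hβ : (x₀ * a * x₀⁻¹) ^ m ∈ cj x₀ A := Subgroup.pow_mem _ ha₂ m
  have hPeq : cj (dgl l (x₀ * a * x₀⁻¹)) A = cj ((x₀ * a * x₀⁻¹) ^ m) A := by
    rw [hde, ← cj_mul]
    congr 1
    exact cj_eq_of_mem_normalizer (Subgroup.centralizer_le_normalizer _
      (Subgroup.centralizer_le (fun _ h => hAE h) hr.1.2))
  have hP : IsRoot p V H (cj (dgl l (x₀ * a * x₀⁻¹)) A) := hA.cj S hd.1
  have hPE : cj (dgl l (x₀ * a * x₀⁻¹)) A ≤ ⁅Q, A⁆ ⊔ A := by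
    rw [hPeq]; exact cj_le_of_mem hAE (Subgroup.pow_mem _ ha₂E m)
  have hPne : A ≠ cj (dgl l (x₀ * a * x₀⁻¹)) A := by
    intro h
    rw [hPeq] at h
    have h1 : (x₀ * a * x₀⁻¹) ^ m ∈ Subgroup.normalizer (A : Set G) :=
      mem_normalizer_of_cj_eq h.symm
    have h2 : cj x₀ A ≤ Subgroup.normalizer (A : Set G) := by
      rw [← hA₂.zpowers_eq hβ hβ1, Subgroup.zpowers_le]; exact h1
    have h3 : A ≤ Q ⊔ cj x₀ A := by rw [sup_eq_of_le S hA hA₂ hBQA]; exact le_sup_right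
    have h4 := hA₂.le_of_isPGroup_of_le_normalizer S h3 hA.isPGroup h2
    exact hne (eq_of_le_of_card_prime hA.card hA₂.card h4)
  have hsup : A ⊔ cj (dgl l (x₀ * a * x₀⁻¹)) A = ⁅Q, A⁆ ⊔ A := by
    apply Subgroup.eq_of_le_of_card_ge (sup_le hAE hPE)
    obtain ⟨e1⟩ := pair_iso S hA hP (hPE.trans (E_le_sup S hA)) hPne
    obtain ⟨e2⟩ := E_iso S hA
    rw [Nat.card_congr e1.toEquiv, Nat.card_congr e2.toEquiv]
  rw [← hsup]
  exact sup_le le_sup_left (cj_le_of_mem le_sup_left (Subgroup.mem_sup_right hd))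

end XActSec

end Cfsg.Agent.Lib.helper14
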