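import Mathlib

/-!
# S3571 piece BLK (helper14): a transitive group with a non-trivial block on `m` points
has no element of prime order `p > m / 2`.
-/

set_option autoImplicit false

namespace Cfsg.Agent.Lib.helper14.AD

open scoped Pointwise
open Equiv MulAction

/-- An element of prime order `p` fixes every point whose `⟨h⟩`-orbit lies in a set with fewer
than `p` elements. -/
theorem helper14_fix_of_orbit_lt {K α : Type*} [Group K] [MulAction K α] (h : K) (p : ℕ)
    (hp : p.Prime) (ho : orderOf h = p) (a : α) (S : Set α) (hS : S.Finite)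
    (hmem : ∀ j : ℕ, h ^ j • a ∈ S) (hlt : S.ncard < p) : h • a = a := by
  by_contra hne
  have key : ∀ j k : ℕ, j < k → k < p → h ^ j • a = h ^ k • a → False := by
    intro j k hjk hkp heq
    have hd : h ^ (k - j) • a = a := by
      have : h ^ k = h ^ j * h ^ (k - j) := by rw [← pow_add]; congr 1; omega
      rw [this, mul_smul] at heq
      exact (smul_left_cancel _ heq).symm
    have hcop : Nat.Coprime (k - j) p := by
      apply Nat.Coprime.symm
      rw [Nat.Prime.coprime_iff_not_dvd hp]
      intro hdvd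
      have := Nat.le_of_dvd (by omega) hdvd
      omega
    obtain ⟨u, -, hu⟩ := Nat.exists_mul_mod_eq_one_of_coprime hcop hp.one_lt
    have hst : h ^ (k - j) ∈ MulAction.stabilizer K a := MulAction.mem_stabilizer_iff.2 hd
    have h1 := Subgroup.pow_mem _ hst u
    rw [← pow_mul, ← pow_mod_orderOf, ho, hu, pow_one] at h1
    exact hne (MulAction.mem_stabilizer_iff.1 h1)
  have hinj : Function.Injective (fun j : Fin p => h ^ (j : ℕ) • a) := by
    intro j k hjk
    by_contra hne'
    rcases lt_or_gt_of_ne hne' with hlt' | hlt'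
    · exact key j k hlt' k.2 hjk
    · exact key k j hlt' j.2 hjk.symm
  have hsub : (fun j : Fin p => h ^ (j : ℕ) • a) '' Set.univ ⊆ S := by
    rintro _ ⟨j, -, rfl⟩; exact hmem j
  have hc : ((fun j : Fin p => h ^ (j : ℕ) • a) '' Set.univ).ncard = p := by
    rw [Set.ncard_image_of_injective _ hinj, Set.ncard_univ, Nat.card_fin]
  have := Set.ncard_le_ncard hsub hS
  omega

/-- BLK -/
theorem no_large_prime_of_block (m : ℕ) (H : Subgroup (Perm (Fin m)))
    (htr : IsPretransitive H (Fin m)) (B : Set (Fin m)) (hB : IsBlock H B)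
    (hB1 : B.Nontrivial) (hB2 : B ≠ Set.univ) (p : ℕ) (hp : p.Prime) (hpm : m < 2 * p)
    (h : Perm (Fin m)) (hh : h ∈ H) : orderOf h ≠ p := by
  intro ho
  have hne : B.Nonempty := hB1.nonempty
  have key := hB.ncard_block_mul_ncard_orbit_eq hne
  rw [Nat.card_fin] at key
  have hB2' : 2 ≤ B.ncard := by
    have := (Set.one_lt_ncard_iff_nontrivial (s := B)).2 hB1
    omega
  have hk2 : 2 ≤ (orbit H B).ncard := by
    by_contra hlt
    apply hB2
    apply hB.eq_univ_of_card_lt
    rw [Nat.card_fin]
    have : (orbit (↥H) B).ncard < 2 := by omega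
    nlinarith
  have hBp : B.ncard < p := by nlinarith
  have hkp : (orbit H B).ncard < p := by nlinarith
  let h' : ↥H := ⟨h, hh⟩
  have ho' : orderOf h' = p := by rw [← ho]; exact Subgroup.orderOf_mk h hh
  have h1 : ∀ g : ↥H, h' • (g • B) = g • B := by
    intro g
    apply helper14_fix_of_orbit_lt h' p hp ho' (g • B) (orbit H B) (Set.toFinite _) _ hkp
    intro j
    rw [← mul_smul]; exact MulAction.mem_orbit _ _
  have h2 : ∀ i : Fin m, h' • i = i := by
    intro i
    obtain ⟨b, hb⟩ := hne
    obtain ⟨g, hg⟩ := MulAction.exists_smul_eq H b i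
    apply helper14_fix_of_orbit_lt h' p hp ho' i (g • B) (Set.toFinite _) _
      (by rwa [Set.ncard_smul_set])
    intro j
    have hst : h' ∈ MulAction.stabilizer (↥H) (g • B) := MulAction.mem_stabilizer_iff.2 (h1 g)
    have hj := MulAction.mem_stabilizer_iff.1 (Subgroup.pow_mem _ hst j)
    rw [← hj]
    exact Set.smul_mem_smul_set (hg ▸ Set.smul_mem_smul_set hb)
  have h3 : h = 1 := by
    ext i
    have := h2 i
    exact congrArg Fin.val this
  rw [h3, orderOf_one] at ho
  exact hp.one_lt.ne ho

end Cfsg.Agent.Lib.helper14.AD
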