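import Mathlib

/-!
# S3571 piece X1 (helper14): an even permutation of prime order `r` of `Fin m`
with exactly `m % r` fixed points.
-/

set_option autoImplicit false

namespace Cfsg.Agent.Lib.helper14.AD

open scoped Pointwise
open Equiv MulAction

/-- X1 -/
theorem exists_prime_perm (m r : ℕ) (hr : r.Prime) (hrm : r ≤ m) (h4 : r = 2 → 4 ∣ m) :
    ∃ x : Perm (Fin m), x ∈ alternatingGroup (Fin m) ∧ orderOf x = r ∧
      (Finset.univ.filter (fun i : Fin m => x i = i)).card = m % r := by
  classical
  obtain ⟨n, rfl⟩ : ∃ n, r = n + 2 := ⟨r - 2, by have := hr.two_le; omega⟩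
  set q := m / (n + 2) with hq
  have hq1 : 1 ≤ q := by
    rw [hq]; exact (Nat.one_le_div_iff (by omega)).2 hrm
  have hcard : Fintype.card (Fin m) =
      Fintype.card ((Fin q × Fin (n + 2)) ⊕ Fin (m % (n + 2))) := by
    simp only [Fintype.card_fin, Fintype.card_sum, Fintype.card_prod]
    rw [hq]; exact (Nat.div_add_mod' m (n + 2)).symm
  let e : Fin m ≃ (Fin q × Fin (n + 2)) ⊕ Fin (m % (n + 2)) := Fintype.equivOfCardEq hcard
  let τ : Perm (Fin q × Fin (n + 2)) := Equiv.prodCongrRight (fun _ => finRotate (n + 2))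
  let σ : Perm ((Fin q × Fin (n + 2)) ⊕ Fin (m % (n + 2))) := Equiv.sumCongr τ (Equiv.refl _)
  let x : Perm (Fin m) := e.symm.permCongr σ
  have hxapp : ∀ i, x i = e.symm (σ (e i)) := fun i => rfl
  have hσpow : ∀ k : ℕ, ∀ y, (σ ^ k) y =
      Sum.map (Prod.map id (⇑(finRotate (n + 2) ^ k))) id y := by
    intro k
    induction k with
    | zero => intro y; rcases y with ⟨a, b⟩ | c <;> rfl
    | succ k ih =>
      intro y
      rw [pow_succ', Equiv.Perm.mul_apply, ih]
      rcases y with ⟨a, b⟩ | c
      · have hb : (finRotate (n + 2) ^ (k + 1)) b =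
            finRotate (n + 2) ((finRotate (n + 2) ^ k) b) := by
          rw [pow_succ']; rfl
        show Sum.inl (a, finRotate (n + 2) ((finRotate (n + 2) ^ k) b)) =
          Sum.inl (a, (finRotate (n + 2) ^ (k + 1)) b)
        rw [hb]
      · rfl
  have hrot : finRotate (n + 2) ^ (n + 2) = 1 := by
    have h1 : orderOf (finRotate (n + 2)) = n + 2 := by
      rw [(isCycle_finRotate (n := n)).orderOf, support_finRotate]; simp
    have h2 := pow_orderOf_eq_one (finRotate (n + 2))
    rwa [h1] at h2
  have hσr : σ ^ (n + 2) = 1 := by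
    ext y
    rw [hσpow, hrot]
    rcases y with ⟨a, b⟩ | c <;> rfl
  have hfixrot : ∀ b : Fin (n + 2), finRotate (n + 2) b ≠ b := by
    intro b
    have : b ∈ (finRotate (n + 2)).support := by rw [support_finRotate]; exact Finset.mem_univ _
    exact Equiv.Perm.mem_support.1 this
  have hxpow : ∀ k : ℕ, ∀ i, (x ^ k) i = e.symm ((σ ^ k) (e i)) := by
    intro k
    induction k with
    | zero => intro i; simp
    | succ k ih =>
      intro i
      rw [pow_succ', Equiv.Perm.mul_apply, ih, hxapp, pow_succ', Equiv.Perm.mul_apply]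
      simp
  have hxr : x ^ (n + 2) = 1 := by
    ext i
    rw [hxpow, hσr]; simp
  have hx1 : x ≠ 1 := by
    intro h
    have h0 : x (e.symm (Sum.inl (⟨0, hq1⟩, 0))) = e.symm (Sum.inl (⟨0, hq1⟩, 0)) := by
      rw [h]; rfl
    rw [hxapp] at h0
    have h1 := e.symm.injective h0
    rw [Equiv.apply_symm_apply] at h1
    have h2 : σ (Sum.inl (⟨0, hq1⟩, 0)) = Sum.inl (⟨0, hq1⟩, finRotate (n + 2) 0) := rfl
    rw [h2] at h1
    have h3 := Sum.inl_injective h1
    exact hfixrot 0 (congrArg Prod.snd h3)
  have hfact : Fact (n + 2).Prime := ⟨hr⟩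
  refine ⟨x, ?_, orderOf_eq_prime hxr hx1, ?_⟩
  · rw [Equiv.Perm.mem_alternatingGroup]
    have hs1 : Equiv.Perm.sign x = Equiv.Perm.sign σ := Equiv.Perm.sign_permCongr _ _
    have hs2 : Equiv.Perm.sign σ = Equiv.Perm.sign τ * Equiv.Perm.sign (Equiv.refl _) :=
      Equiv.Perm.sign_sumCongr _ _
    have hs3 : Equiv.Perm.sign τ = ∏ _k : Fin q, Equiv.Perm.sign (finRotate (n + 2)) :=
      Equiv.Perm.sign_prodCongrRight _
    rw [hs1, hs2, hs3, Equiv.Perm.sign_refl, mul_one, Finset.prod_const, Finset.card_univ,
      Fintype.card_fin, sign_finRotate, ← pow_mul]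
    have hev : Even ((n + 2 - 1) * q) := by
      rcases Nat.even_or_odd n with hn | hn
      · -- n even: r = n + 2 even and prime, so n = 0
        have h2 : n + 2 = 2 := by
          have hev2 : Even (n + 2) := by
            rcases hn with ⟨k, hk⟩; exact ⟨k + 1, by omega⟩
          exact (Nat.Prime.eq_one_or_self_of_dvd hr 2 hev2.two_dvd).resolve_left (by norm_num) |>.symm
        have hm4 := h4 h2
        have hn0 : n = 0 := by omega
        subst hn0
        have : q = m / 2 := hq
        obtain ⟨c, hc⟩ := hm4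
        refine Even.mul_left ?_ _
        exact ⟨c, by omega⟩
      · refine Even.mul_right ?_ _
        rcases hn with ⟨k, hk⟩
        exact ⟨k + 1, by omega⟩
    exact Even.neg_one_pow hev
  · have hset : (Finset.univ.filter (fun i : Fin m => x i = i)) =
        Finset.univ.map ⟨fun c : Fin (m % (n + 2)) => e.symm (Sum.inr c),
          fun a b hab => Sum.inr_injective (e.symm.injective hab)⟩ := by
      ext i
      simp only [Finset.mem_filter, Finset.mem_univ, true_and, Finset.mem_map]
      constructor
      · intro hi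
        rw [hxapp] at hi
        have h1 : σ (e i) = e i := by
          have := congrArg e hi
          simpa using this
        rcases hei : e i with ⟨a, b⟩ | c
        · rw [hei] at h1
          have h2 : σ (Sum.inl (a, b)) = Sum.inl (a, finRotate (n + 2) b) := rfl
          rw [h2] at h1
          exact absurd (congrArg Prod.snd (Sum.inl_injective h1)) (hfixrot b)
        · refine ⟨c, ?_⟩
          show e.symm (Sum.inr c) = i
          rw [← hei]; simp
      · rintro ⟨c, rfl⟩
        show x (e.symm (Sum.inr c)) = e.symm (Sum.inr c)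
        rw [hxapp, Equiv.apply_symm_apply]; rfl
    rw [hset, Finset.card_map, Finset.card_univ, Fintype.card_fin]

end Cfsg.Agent.Lib.helper14.AD
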