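import Mathlib

/-!
# S3571 piece X2 (helper14): an invariant set of an element of prime order `r`
with exactly `m % r` fixed points has `|s| % r ≤ m % r`.
-/

set_option autoImplicit false

namespace Cfsg.Agent.Lib.helper14.AD

open scoped Pointwise
open Equiv MulAction

/-- X2 -/
theorem card_mod_le_of_invariant (m r : ℕ) (hr : r.Prime) (x : Perm (Fin m))
    (hx : orderOf x = r)
    (hfix : (Finset.univ.filter (fun i : Fin m => x i = i)).card = m % r)
    (s : Set (Fin m)) (hs : x ∈ stabilizer (Perm (Fin m)) s) : s.ncard % r ≤ m % r := by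
  classical
  haveI : Fact r.Prime := ⟨hr⟩
  rw [MulAction.mem_stabilizer_set] at hs
  let f : Function.End ↥s := fun i => ⟨x i, (hs i).2 i.2⟩
  have hpow : ∀ n : ℕ, ∀ i : ↥s, ((f ^ n) i : Fin m) = (x ^ n) i := by
    intro n
    induction n with
    | zero => intro i; rfl
    | succ n ih =>
      intro i
      rw [pow_succ', pow_succ']
      have : (f * f ^ n) i = f ((f ^ n) i) := rfl
      rw [this]
      show x ((f ^ n) i : Fin m) = _
      rw [ih]; rfl
  have hf : f ^ r ^ 1 = 1 := by
    funext i
    apply Subtype.ext
    rw [pow_one, hpow, ← hx, pow_orderOf_eq_one]; rfl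
  have h1 := Equiv.Perm.card_fixedPoints_modEq (p := r) (n := 1) hf
  have h2 : Fintype.card ↥s = s.ncard := by
    rw [← Nat.card_eq_fintype_card, Nat.card_coe_set_eq]
  have h3 : Fintype.card ↥(Function.fixedPoints f) ≤ m % r := by
    rw [← hfix, ← Fintype.card_coe]
    apply Fintype.card_le_of_injective
      (fun i : ↥(Function.fixedPoints f) => (⟨(i : ↥s), by
        have h := i.2
        have h' : f (i : ↥s) = (i : ↥s) := h
        have h'' := congrArg Subtype.val h'
        simpa using h''⟩ :
        {j // j ∈ Finset.univ.filter (fun i : Fin m => x i = i)}))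
    intro a b hab
    have := congrArg Subtype.val hab
    exact Subtype.ext (Subtype.ext this)
  have h4 : s.ncard % r = Fintype.card ↥(Function.fixedPoints f) % r := by
    rw [← h2]; exact h1
  rw [h4]
  exact (Nat.mod_le _ _).trans h3

end Cfsg.Agent.Lib.helper14.AD
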