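import Cfsg.Agent.Lib.helper95.APDefs

/-!
# S2276, piece PRIM (racing copy by helper14)

A subgroup of `Perm (Fin (p^e))` containing the rotation and a permutation `b` which does not
respect congruence modulo `p` on two points congruent modulo `p^(e-1)` is primitive.
-/

set_option autoImplicit false

namespace Cfsg.Agent.Lib.helper95.AP

open Equiv
open scoped Pointwise

/-- value of a power of the rotation -/
theorem h14_rot_pow (N : ℕ) (j : ℕ) (z : Fin N) :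
    (((finRotate N) ^ j) z : ℕ) = ((z : ℕ) + j) % N := by
  rcases N with _ | k
  · exact z.elim0
  induction j with
  | zero => simp [Nat.mod_eq_of_lt z.isLt]
  | succ j ih =>
    rw [pow_succ', Perm.mul_apply, finRotate_apply, Fin.val_add, ih]
    simp [Nat.add_mod, ← add_assoc]

/-- the rotation moves `u` to `v` in `v + (N - u)` steps -/
theorem h14_rot_to {N : ℕ} (H : Subgroup (Perm (Fin N))) (ha : finRotate N ∈ H) (u v : Fin N) :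
    ((⟨finRotate N, ha⟩ : H) ^ ((v : ℕ) + (N - (u : ℕ)))) • u = v := by
  apply Fin.ext
  show (((((⟨finRotate N, ha⟩ : H) ^ ((v : ℕ) + (N - (u : ℕ))) : H) : Perm (Fin N))) u : ℕ) = v
  rw [Subgroup.coe_pow, h14_rot_pow]
  have h1 := u.isLt
  have h2 := v.isLt
  rw [show (u : ℕ) + ((v : ℕ) + (N - (u : ℕ))) = v + N by omega, Nat.add_mod_right,
    Nat.mod_eq_of_lt v.isLt]

/-- the integers `k` with `a^k B = B` -/
def h14_S {N : ℕ} (H : Subgroup (Perm (Fin N))) (A : H) (B : Set (Fin N)) : AddSubgroup ℤ where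
  carrier := {k | (A ^ k) • B = B}
  zero_mem' := by simp
  add_mem' := by
    intro j k hj hk
    simp only [Set.mem_ofPred_eq] at *
    rw [zpow_add, mul_smul, hk, hj]
  neg_mem' := by
    intro k hk
    simp only [Set.mem_ofPred_eq] at *
    rw [zpow_neg, inv_smul_eq_iff, hk]

theorem h14_S_N {N : ℕ} (H : Subgroup (Perm (Fin N))) (ha : finRotate N ∈ H) (B : Set (Fin N)) :
    (N : ℤ) ∈ h14_S H ⟨finRotate N, ha⟩ B := by
  show ((⟨finRotate N, ha⟩ : H) ^ (N : ℤ)) • B = B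
  have h1 : ((⟨finRotate N, ha⟩ : H) ^ (N : ℤ)) = 1 := by
    rw [zpow_natCast]
    apply Subtype.ext
    rw [Subgroup.coe_pow]
    ext z
    simp [h14_rot_pow, Nat.mod_eq_of_lt z.isLt]
  rw [h1, one_smul]

theorem h14_S_sub {N : ℕ} (H : Subgroup (Perm (Fin N))) (ha : finRotate N ∈ H) (B : Set (Fin N))
    (hB : MulAction.IsBlock H B) (u v : Fin N) (hu : u ∈ B) (hv : v ∈ B) :
    ((v : ℕ) : ℤ) - ((u : ℕ) : ℤ) ∈ h14_S H ⟨finRotate N, ha⟩ B := by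
  have hj : (((v : ℕ) + (N - (u : ℕ)) : ℕ) : ℤ) ∈ h14_S H ⟨finRotate N, ha⟩ B := by
    show ((⟨finRotate N, ha⟩ : H) ^ (((v : ℕ) + (N - (u : ℕ)) : ℕ) : ℤ)) • B = B
    rw [zpow_natCast]
    apply hB.smul_eq_of_mem hu
    rw [h14_rot_to H ha u v]; exact hv
  have hN := h14_S_N H ha B
  have h3 := (h14_S H ⟨finRotate N, ha⟩ B).sub_mem hj hN
  have h4 : ((v : ℕ) : ℤ) - ((u : ℕ) : ℤ) = (((v : ℕ) + (N - (u : ℕ)) : ℕ) : ℤ) - (N : ℤ) := by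
    have := u.isLt
    push_cast [Nat.cast_sub this.le]
    ring
  rw [h4]; exact h3

theorem h14_S_mem {N : ℕ} (H : Subgroup (Perm (Fin N))) (ha : finRotate N ∈ H) (B : Set (Fin N))
    (u z : Fin N) (hu : u ∈ B)
    (hz : ((z : ℕ) : ℤ) - ((u : ℕ) : ℤ) ∈ h14_S H ⟨finRotate N, ha⟩ B) : z ∈ B := by
  have hj : (((z : ℕ) + (N - (u : ℕ)) : ℕ) : ℤ) ∈ h14_S H ⟨finRotate N, ha⟩ B := by
    have h3 := (h14_S H ⟨finRotate N, ha⟩ B).add_mem hz (h14_S_N H ha B)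
    have h4 : (((z : ℕ) + (N - (u : ℕ)) : ℕ) : ℤ) = ((z : ℕ) : ℤ) - ((u : ℕ) : ℤ) + (N : ℤ) := by
      have := u.isLt
      push_cast [Nat.cast_sub this.le]
      ring
    rw [h4]; exact h3
  have h1 : ((⟨finRotate N, ha⟩ : H) ^ ((z : ℕ) + (N - (u : ℕ)))) • B = B := by
    have h5 : ((⟨finRotate N, ha⟩ : H) ^ (((z : ℕ) + (N - (u : ℕ)) : ℕ) : ℤ)) • B = B := hj
    rwa [zpow_natCast] at h5
  have h2 := h14_rot_to H ha u z
  have h9 : ((⟨finRotate N, ha⟩ : H) ^ ((z : ℕ) + (N - (u : ℕ)))) • u ∈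
      ((⟨finRotate N, ha⟩ : H) ^ ((z : ℕ) + (N - (u : ℕ)))) • B := Set.smul_mem_smul_set hu
  rw [h2, h1] at h9
  exact h9

/-- in a block which is not everything all differences are divisible by `p` -/
theorem h14_block_dvd (p : ℕ) (hp : p.Prime) (e : ℕ) {N : ℕ} (hN : N = p ^ e)
    (H : Subgroup (Perm (Fin N))) (ha : finRotate N ∈ H) (B : Set (Fin N))
    (hB : MulAction.IsBlock H B) (hne : B ≠ Set.univ) (u v : Fin N) (hu : u ∈ B) (hv : v ∈ B) :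
    (p : ℤ) ∣ ((v : ℕ) : ℤ) - ((u : ℕ) : ℤ) := by
  by_contra hnd
  apply hne
  have hNe : ((p : ℤ) ^ e) = (N : ℤ) := by rw [hN]; push_cast; rfl
  have hk := h14_S_sub H ha B hB u v hu hv
  have hcop : IsCoprime ((p : ℤ) ^ e) (((v : ℕ) : ℤ) - ((u : ℕ) : ℤ)) := by
    apply IsCoprime.pow_left
    exact (Nat.prime_iff_prime_int.mp hp).coprime_iff_not_dvd.mpr hnd
  obtain ⟨s, t, hst⟩ := hcop
  have h1 : (1 : ℤ) ∈ h14_S H ⟨finRotate N, ha⟩ B := by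
    rw [← hst]
    apply AddSubgroup.add_mem
    · have h2 := (h14_S H ⟨finRotate N, ha⟩ B).zsmul_mem (h14_S_N H ha B) s
      rwa [smul_eq_mul, ← hNe] at h2
    · have h2 := (h14_S H ⟨finRotate N, ha⟩ B).zsmul_mem hk t
      rwa [smul_eq_mul] at h2
  refine Set.eq_univ_of_forall fun z => h14_S_mem H ha B u z hu ?_
  have h2 := (h14_S H ⟨finRotate N, ha⟩ B).zsmul_mem h1 (((z : ℕ) : ℤ) - ((u : ℕ) : ℤ))
  rwa [smul_eq_mul, mul_one] at h2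

theorem h14_prim_core (p : ℕ) (hp : p.Prime) (e : ℕ) (he : 1 ≤ e) (N : ℕ) (hN : N = p ^ e)
    (H : Subgroup (Perm (Fin N)))
    (ha : finRotate N ∈ H) (b : Perm (Fin N)) (hb : b ∈ H)
    (x y : Fin N) (hxy : ((p ^ (e - 1) : ℕ) : ℤ) ∣ ((x : ℕ) : ℤ) - ((y : ℕ) : ℤ))
    (hbxy : ¬ (p : ℤ) ∣ (((b x : Fin N) : ℕ) : ℤ) - (((b y : Fin N) : ℕ) : ℤ)) :
    MulAction.IsPreprimitive ↥H (Fin N) := by
  have hNe : ((p : ℤ) ^ e) = (N : ℤ) := by rw [hN]; push_cast; rfl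
  have hpt : MulAction.IsPretransitive ↥H (Fin N) := by
    constructor
    intro u v
    exact ⟨(⟨finRotate N, ha⟩ : H) ^ ((v : ℕ) + (N - (u : ℕ))), h14_rot_to H ha u v⟩
  constructor
  intro B hB
  by_contra htriv
  rw [MulAction.IsTrivialBlock, not_or] at htriv
  obtain ⟨hsub, hne⟩ := htriv
  rw [Set.not_subsingleton_iff] at hsub
  obtain ⟨u, hu, v, hv, huv⟩ := hsub
  have hk := h14_S_sub H ha B hB u v hu hv
  have hNk : ¬ ((N : ℤ) ∣ ((v : ℕ) : ℤ) - ((u : ℕ) : ℤ)) := by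
    intro hd
    have h0 := Int.eq_zero_of_abs_lt_dvd hd (by
      have := u.isLt; have := v.isLt
      rw [abs_lt]; constructor <;> omega)
    apply huv
    apply Fin.ext
    omega
  have hNmem : ((p : ℤ) ^ e) ∈ h14_S H ⟨finRotate N, ha⟩ B := by
    rw [hNe]; exact h14_S_N H ha B
  have hg : ((Int.gcd (((v : ℕ) : ℤ) - ((u : ℕ) : ℤ)) ((p : ℤ) ^ e) : ℕ) : ℤ) ∈
      h14_S H ⟨finRotate N, ha⟩ B := by
    rw [Int.gcd_eq_gcd_ab]
    apply AddSubgroup.add_mem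
    · have h2 := (h14_S H ⟨finRotate N, ha⟩ B).zsmul_mem hk
        (Int.gcdA (((v : ℕ) : ℤ) - ((u : ℕ) : ℤ)) ((p : ℤ) ^ e))
      rwa [smul_eq_mul, mul_comm] at h2
    · have h2 := (h14_S H ⟨finRotate N, ha⟩ B).zsmul_mem hNmem
        (Int.gcdB (((v : ℕ) : ℤ) - ((u : ℕ) : ℤ)) ((p : ℤ) ^ e))
      rwa [smul_eq_mul, mul_comm] at h2
  have hgd : Int.gcd (((v : ℕ) : ℤ) - ((u : ℕ) : ℤ)) ((p : ℤ) ^ e) ∣ p ^ e := by
    have h2 := Int.gcd_dvd_right (((v : ℕ) : ℤ) - ((u : ℕ) : ℤ)) ((p : ℤ) ^ e)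
    exact_mod_cast h2
  obtain ⟨j, hj, hgj⟩ := (Nat.dvd_prime_pow hp).1 hgd
  have hje : j ≠ e := by
    intro hje
    apply hNk
    have h2 := Int.gcd_dvd_left (((v : ℕ) : ℤ) - ((u : ℕ) : ℤ)) ((p : ℤ) ^ e)
    rw [hgj, hje] at h2
    rw [← hNe]; exact_mod_cast h2
  have hpe1 : ((p ^ (e - 1) : ℕ) : ℤ) ∈ h14_S H ⟨finRotate N, ha⟩ B := by
    have hdvd : p ^ j ∣ p ^ (e - 1) := pow_dvd_pow p (by omega)
    obtain ⟨c, hc⟩ := hdvd
    rw [hgj] at hg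
    have h2 := (h14_S H ⟨finRotate N, ha⟩ B).zsmul_mem hg (c : ℤ)
    rw [smul_eq_mul] at h2
    rw [hc]; push_cast; push_cast at h2; rwa [mul_comm]
  have hyx : ((y : ℕ) : ℤ) - ((x : ℕ) : ℤ) ∈ h14_S H ⟨finRotate N, ha⟩ B := by
    obtain ⟨c, hc⟩ := hxy
    have h2 := (h14_S H ⟨finRotate N, ha⟩ B).zsmul_mem hpe1 (-c)
    rw [smul_eq_mul] at h2
    have h3 : ((y : ℕ) : ℤ) - ((x : ℕ) : ℤ) = -c * ((p ^ (e - 1) : ℕ) : ℤ) := by linarith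
    rw [h3]; exact h2
  have hx1 : ((⟨finRotate N, ha⟩ : H) ^ ((x : ℕ) + (N - (u : ℕ)))) • u = x := h14_rot_to H ha u x
  obtain ⟨z, hyz⟩ : ∃ z : Fin N, ((⟨finRotate N, ha⟩ : H) ^ ((x : ℕ) + (N - (u : ℕ)))) • z = y :=
    ⟨((⟨finRotate N, ha⟩ : H) ^ ((x : ℕ) + (N - (u : ℕ))))⁻¹ • y, smul_inv_smul _ _⟩
  have hzB : z ∈ B := by
    apply h14_S_mem H ha B u z hu
    have h3 : ((y : ℕ)) = ((z : ℕ) + ((x : ℕ) + (N - (u : ℕ)))) % N := by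
      rw [← h14_rot_pow, ← hyz]; rfl
    have h4 := Nat.div_add_mod ((z : ℕ) + ((x : ℕ) + (N - (u : ℕ)))) N
    rw [← h3] at h4
    generalize ((z : ℕ) + ((x : ℕ) + (N - (u : ℕ)))) / N = c at h4
    have h5 : ((z : ℕ) : ℤ) - ((u : ℕ) : ℤ) = (((y : ℕ) : ℤ) - ((x : ℕ) : ℤ)) +
        ((c : ℤ) - 1) * (N : ℤ) := by
      have h6 := u.isLt
      have h7 := congrArg (Nat.cast : ℕ → ℤ) h4
      push_cast [Nat.cast_sub h6.le] at h7
      linarith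
    rw [h5]
    apply AddSubgroup.add_mem _ hyx
    have h8 := (h14_S H ⟨finRotate N, ha⟩ B).zsmul_mem (h14_S_N H ha B) ((c : ℤ) - 1)
    rwa [smul_eq_mul] at h8
  have hB'' : MulAction.IsBlock H
      (((⟨b, hb⟩ : H) * (⟨finRotate N, ha⟩ : H) ^ ((x : ℕ) + (N - (u : ℕ)))) • B) :=
    hB.translate _
  have hne'' : ((⟨b, hb⟩ : H) * (⟨finRotate N, ha⟩ : H) ^ ((x : ℕ) + (N - (u : ℕ)))) • B ≠
      Set.univ := by
    intro h
    apply hne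
    have h2 : B = ((⟨b, hb⟩ : H) * (⟨finRotate N, ha⟩ : H) ^ ((x : ℕ) + (N - (u : ℕ))))⁻¹ •
        (Set.univ : Set (Fin N)) := by rw [← h, inv_smul_smul]
    rw [h2, Set.smul_set_univ]
  have hbx : b x ∈ ((⟨b, hb⟩ : H) * (⟨finRotate N, ha⟩ : H) ^ ((x : ℕ) + (N - (u : ℕ)))) • B := by
    have h2 : b x = ((⟨b, hb⟩ : H) * (⟨finRotate N, ha⟩ : H) ^ ((x : ℕ) + (N - (u : ℕ)))) • u := by
      rw [mul_smul, hx1]; rfl
    rw [h2]; exact Set.smul_mem_smul_set hu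
  have hby : b y ∈ ((⟨b, hb⟩ : H) * (⟨finRotate N, ha⟩ : H) ^ ((x : ℕ) + (N - (u : ℕ)))) • B := by
    have h2 : b y = ((⟨b, hb⟩ : H) * (⟨finRotate N, ha⟩ : H) ^ ((x : ℕ) + (N - (u : ℕ)))) • z := by
      rw [mul_smul, hyz]; rfl
    rw [h2]; exact Set.smul_mem_smul_set hzB
  exact hbxy (h14_block_dvd p hp e hN H ha _ hB'' hne'' (b y) (b x) hby hbx)

/-- [PRIM] (racing copy) verbatim Skel statement of `prim` -/
theorem h14_prim (p : ℕ) (hp : p.Prime) (e : ℕ) (he : 1 ≤ e) (H : Subgroup (Perm (Fin (p ^ e))))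
    (ha : finRotate (p ^ e) ∈ H) (b : Perm (Fin (p ^ e))) (hb : b ∈ H)
    (x y : Fin (p ^ e)) (hxy : ((p ^ (e - 1) : ℕ) : ℤ) ∣ ((x : ℕ) : ℤ) - ((y : ℕ) : ℤ))
    (hbxy : ¬ (p : ℤ) ∣ (((b x : Fin (p ^ e)) : ℕ) : ℤ) - (((b y : Fin (p ^ e)) : ℕ) : ℤ)) :
    MulAction.IsPreprimitive ↥H (Fin (p ^ e)) :=
  h14_prim_core p hp e he (p ^ e) rfl H ha b hb x y hxy hbxy

end Cfsg.Agent.Lib.helper95.AP
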