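import Mathlib
import Cfsg.Prelude.Def_Characters
import Cfsg.Prelude.Def_Blocks
import Cfsg.Agent.Lib.helper84.BrDefs

/-!
# S4700 (Brauer–Reynolds, the number of Sylow `p`-subgroups): shared vocabulary

`III n p` : the third alternative of S4700.
`Ctx0 G p P e n` : helper84's `Br.Ctx` without the bound `2 n ≤ p + 1`.
`Data0 G p P e` : the principal block data for a Sylow `p`-subgroup `P` of order `p`, WITHOUT the
assumption `C_G(P) = P` (normalised so that the trivial character lies in `X`).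
`Cfg D n` : the "configuration" forced by the failure of `III n p`.
-/

set_option autoImplicit false

namespace Cfsg.Agent.Lib.helper14.BR

open Cfsg Cfsg.Agent.Lib.helper81 Cfsg.Agent.Lib.helper84.Br

universe u

/-- The third alternative of S4700: `n = (h u p + u² + u + h) / (u + 1)` with `h, u > 0`. -/
def III (n p : ℕ) : Prop :=
  ∃ h u : ℕ, 0 < h ∧ 0 < u ∧ n * (u + 1) = h * u * p + u ^ 2 + u + h

/-- helper84's `Br.Ctx` without the bound `2 n ≤ p + 1`. -/
structure Ctx0 (G : Type u) [Group G] (p : ℕ) [Fact p.Prime] (P : Sylow p G) (e n : ℕ) : Prop where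
  hP : Nat.card P = p
  hC : Subgroup.centralizer ((P : Subgroup G) : Set G) = (P : Subgroup G)
  he : Nat.card (Subgroup.normalizer ((P : Subgroup G) : Set G)) = e * p
  hn : Nat.card (Sylow p G) = 1 + n * p
  hp2 : p ≠ 2
  he2 : 2 ≤ e
  hep : e ∣ p - 1
  hn1 : 1 ≤ n

/-- The normalised principal-block data, for a Sylow `p`-subgroup of order `p` with arbitrary
centraliser (`e = |N_G(P) : C_G(P)|`). -/
structure Data0 (G : Type u) [Group G] (p : ℕ) [Fact p.Prime] (P : Sylow p G) (e : ℕ) where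
  X : Finset (IrrCharacter G)
  Y : Finset (IrrCharacter G)
  δ : IrrCharacter G → ℤ
  ε : ℤ
  disj : Disjoint X Y
  cardX : X.card = e
  cardY : Y.card * e = p - 1
  one_mem : trivChar G ∈ X
  δ_sq : ∀ χ ∈ X, δ χ = 1 ∨ δ χ = -1
  deg_X : ∀ χ ∈ X, (charDegree (χ : G → ℂ) : ℤ) ≡ δ χ [ZMOD p]
  val_X : ∀ χ ∈ X, ∀ x : G, x ∈ (P : Subgroup G) → x ≠ 1 →
    ∀ y : G, y ∈ Subgroup.centralizer ((P : Subgroup G) : Set G) → ¬ p ∣ orderOf y →
      (χ : G → ℂ) (x * y) = (δ χ : ℂ)
  ε_sq : ε = 1 ∨ ε = -1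
  deg_Y : ∀ θ ∈ Y, (charDegree (θ : G → ℂ) : ℤ) ≡ ε * (e : ℤ) [ZMOD p]
  agree : ∀ θ ∈ Y, ∀ θ' ∈ Y, ∀ g : G, ¬ p ∣ orderOf g → (θ : G → ℂ) g = (θ' : G → ℂ) g
  rel : ∀ θ ∈ Y, ∀ g : G, ¬ p ∣ orderOf g →
    (ε : ℂ) * (θ : G → ℂ) g = ∑ χ ∈ X, (δ χ : ℂ) * (χ : G → ℂ) g
  orth_Y : ∀ x : G, x ∈ (P : Subgroup G) → x ≠ 1 → ∑ θ ∈ Y, (θ : G → ℂ) x = -(ε : ℂ)
  vanish : Subgroup.centralizer ((P : Subgroup G) : Set G) = (P : Subgroup G) →
    ∀ ψ : IrrCharacter G, ψ ∉ X → ψ ∉ Y → ∀ x : G, x ∈ (P : Subgroup G) → x ≠ 1 →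
      (ψ : G → ℂ) x = 0

variable {G : Type u} [Group G] {p : ℕ} [Fact p.Prime] {P : Sylow p G} {e : ℕ}

/-- Once `C_G(P) = P` is known, `Data0` is helper84's `Data`. -/
def Data0.toData (D : Data0 G p P e)
    (hC : Subgroup.centralizer ((P : Subgroup G) : Set G) = (P : Subgroup G)) : Data G p P e where
  X := D.X
  Y := D.Y
  δ := D.δ
  ε := D.ε
  disj := D.disj
  cardX := D.cardX
  cardY := D.cardY
  one_mem := D.one_mem
  δ_sq := D.δ_sq
  deg_X := D.deg_X
  val_X := fun χ hχ x hx hx1 => by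
    have h := D.val_X χ hχ x hx hx1 1 (Subgroup.one_mem _)
      (by
        rw [orderOf_one]
        exact fun hd => (Fact.out : p.Prime).one_lt.ne' (Nat.dvd_one.mp hd))
    rwa [mul_one] at h
  ε_sq := D.ε_sq
  deg_Y := D.deg_Y
  agree := D.agree
  rel := D.rel
  vanish := D.vanish hC

open Classical in
/-- The non-trivial characters of `X` of sign `+1`. -/
noncomputable def Data0.A (D : Data0 G p P e) : Finset (IrrCharacter G) :=
  D.X.filter (fun χ => χ ≠ trivChar G ∧ D.δ χ = 1)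

open Classical in
/-- The characters of `X` of sign `-1`. -/
noncomputable def Data0.B (D : Data0 G p P e) : Finset (IrrCharacter G) :=
  D.X.filter (fun χ => D.δ χ = -1)

theorem Data0.mem_A (D : Data0 G p P e) (χ : IrrCharacter G) :
    χ ∈ D.A ↔ χ ∈ D.X ∧ χ ≠ trivChar G ∧ D.δ χ = 1 := by
  simp [Data0.A]

theorem Data0.mem_B (D : Data0 G p P e) (χ : IrrCharacter G) :
    χ ∈ D.B ↔ χ ∈ D.X ∧ D.δ χ = -1 := by
  simp [Data0.B]

theorem Data0.toData_A (D : Data0 G p P e)
    (hC : Subgroup.centralizer ((P : Subgroup G) : Set G) = (P : Subgroup G)) :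
    (D.toData hC).A = D.A := by
  ext χ
  rw [Data.mem_A, Data0.mem_A]
  rfl

theorem Data0.toData_B (D : Data0 G p P e)
    (hC : Subgroup.centralizer ((P : Subgroup G) : Set G) = (P : Subgroup G)) :
    (D.toData hC).B = D.B := by
  ext χ
  rw [Data.mem_B, Data0.mem_B]
  rfl

/-- The sign of the trivial character is `+1` (needs a non-identity element of `P`). -/
theorem Data0.δ_triv (D : Data0 G p P e) (x : G) (hx : x ∈ (P : Subgroup G)) (hx1 : x ≠ 1) :
    D.δ (trivChar G) = 1 := by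
  have h := D.val_X _ D.one_mem x hx hx1 1 (Subgroup.one_mem _)
    (by
      rw [orderOf_one]
      exact fun hd => (Fact.out : p.Prime).one_lt.ne' (Nat.dvd_one.mp hd))
  rw [mul_one] at h
  simp only [trivChar_apply] at h
  exact_mod_cast h.symm

/-- `1 + |A| + |B| = e`. -/
theorem Data0.card_split (D : Data0 G p P e) (hδ1 : D.δ (trivChar G) = 1) :
    1 + D.A.card + D.B.card = e := by
  classical
  have h2 : D.X = insert (trivChar G) (D.A ∪ D.B) := by
    ext χ
    simp only [Finset.mem_insert, Finset.mem_union, D.mem_A, D.mem_B]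
    constructor
    · intro hχ
      by_cases h : χ = trivChar G
      · exact Or.inl h
      · rcases D.δ_sq χ hχ with h' | h'
        · exact Or.inr (Or.inl ⟨hχ, h, h'⟩)
        · exact Or.inr (Or.inr ⟨hχ, h'⟩)
    · rintro (h | h | h)
      · rw [h]; exact D.one_mem
      · exact h.1
      · exact h.1
  have hd2 : Disjoint D.A D.B := by
    rw [Finset.disjoint_left]
    intro χ hχ hχ'
    rw [D.mem_A] at hχ
    rw [D.mem_B] at hχ'
    omega
  have hd3 : trivChar G ∉ D.A ∪ D.B := by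
    simp only [Finset.mem_union, D.mem_A, D.mem_B, not_or]
    refine ⟨fun h => h.2.1 rfl, fun h => ?_⟩
    omega
  have := D.cardX
  rw [h2, Finset.card_insert_of_notMem hd3, Finset.card_union_of_disjoint hd2] at this
  omega

/-- Splitting a sum over `X` along `{1} ⊔ A ⊔ B`. -/
theorem Data0.sum_X_split (D : Data0 G p P e) (hδ1 : D.δ (trivChar G) = 1) {M : Type*}
    [AddCommMonoid M] (f : IrrCharacter G → M) :
    ∑ χ ∈ D.X, f χ = f (trivChar G) + ∑ χ ∈ D.A, f χ + ∑ χ ∈ D.B, f χ := by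
  classical
  have h2 : D.X = insert (trivChar G) (D.A ∪ D.B) := by
    ext χ
    simp only [Finset.mem_insert, Finset.mem_union, D.mem_A, D.mem_B]
    constructor
    · intro hχ
      by_cases h : χ = trivChar G
      · exact Or.inl h
      · rcases D.δ_sq χ hχ with h' | h'
        · exact Or.inr (Or.inl ⟨hχ, h, h'⟩)
        · exact Or.inr (Or.inr ⟨hχ, h'⟩)
    · rintro (h | h | h)
      · rw [h]; exact D.one_mem
      · exact h.1
      · exact h.1
  have hd2 : Disjoint D.A D.B := by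
    rw [Finset.disjoint_left]
    intro χ hχ hχ'
    rw [D.mem_A] at hχ
    rw [D.mem_B] at hχ'
    omega
  have hd3 : trivChar G ∉ D.A ∪ D.B := by
    simp only [Finset.mem_union, D.mem_A, D.mem_B, not_or]
    refine ⟨fun h => h.2.1 rfl, fun h => ?_⟩
    omega
  conv_lhs => rw [h2]
  rw [Finset.sum_insert hd3, Finset.sum_union hd2]
  abel

/-- The configuration forced by the failure of `III n p`: the characters of `A` have degree
`1 + n p`, those of `B` (non-empty) have degree `p - 1`, and the exceptional degree is `e`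
(`ε = 1`, `|B| = |A| n`) or `p σ - e` (`ε = -1`, `|B| = |A| n + σ`, `t σ = n + 1`). -/
structure Cfg (D : Data0 G p P e) (n : ℕ) : Prop where
  degA : ∀ χ ∈ D.A, charDegree (χ : G → ℂ) = 1 + n * p
  degB : ∀ χ ∈ D.B, charDegree (χ : G → ℂ) = p - 1
  posB : 1 ≤ D.B.card
  cases : (D.ε = 1 ∧ D.B.card = D.A.card * n ∧ ∀ θ ∈ D.Y, charDegree (θ : G → ℂ) = e) ∨
    (D.ε = -1 ∧ ∃ σ : ℕ, 1 ≤ σ ∧ D.B.card = D.A.card * n + σ ∧ D.Y.card * σ = n + 1 ∧
      ∀ θ ∈ D.Y, charDegree (θ : G → ℂ) + e = p * σ)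

end Cfsg.Agent.Lib.helper14.BR
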