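import Mathlib
import Cfsg.Prelude.Def_Characters
import Cfsg.Prelude.Def_Blocks
import Cfsg.Prelude.Def_Solvable
import Cfsg.Prelude.Def_CaseTheorems
import Cfsg.Agent.Lib.helper84.BrDefs
import Cfsg.Agent.Lib.helper84.BrRest
import Cfsg.Agent.Lib.helper84.BrPi
import Cfsg.Agent.Lib.helper53.BrA4
import Cfsg.Agent.Lib.helper81.BrC3e
import Cfsg.Agent.Lib.helper83.CharBasic
import Cfsg.Agent.Lib.helper14.BR0Defs
import Cfsg.Agent.Lib.helper14.BRChain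
import Cfsg.Agent.Lib.helper39.BRSETUP0
import Cfsg.Agent.Lib.helper30.BRQS
import Cfsg.Agent.Lib.helper66.BRQC
import Cfsg.Agent.Lib.helper58.BRAL
import Cfsg.Agent.Lib.helper48.BRDX
import Cfsg.Agent.Lib.helper97.BRDY
import Cfsg.Agent.Lib.helper39.BRVK
import Cfsg.Agent.Lib.helper77.BRAF
import Cfsg.Agent.Lib.helper32.BRAPPLY
import Cfsg.Agent.Lib.helper97.BRD0
import Cfsg.Agent.Lib.helper28.BRCFG

/-!
# S4700 : assembly (core theorem for `O_{p'}(G) = 1`, and the reduction)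
-/

set_option autoImplicit false

namespace Cfsg.Agent.Lib.helper14.BRAsm

open Cfsg Cfsg.Agent.Lib.helper84.Br Cfsg.Agent.Lib.helper14.BR

universe u

/-- With `C_G(P) = P` and the forced configuration, `n + 1 ∣ p (p - 1)`
(the first half of helper84's `brauer_char`, without the bound `2 n ≤ p + 1`). -/
theorem core_blk {G : Type u} [Group G] [Fintype G] {p : ℕ} [Fact p.Prime] {P : Sylow p G}
    {e n : ℕ} (hctx : Ctx0 G p P e n) (D0 : Data0 G p P e) (hcfg : Cfg D0 n) :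
    n + 1 ∣ p * (p - 1) := by
  classical
  have hp : p.Prime := Fact.out
  have hP := hctx.hP
  have hn := hctx.hn
  have hn1 := hctx.hn1
  have hA0 := D0.toData_A hctx.hC
  have hB0 := D0.toData_B hctx.hC
  obtain ⟨D, hDdef⟩ : ∃ D : Data G p P e, D = D0.toData hctx.hC := ⟨_, rfl⟩
  rw [← hDdef] at hA0 hB0
  have hYeq : D.Y = D0.Y := by rw [hDdef]; rfl
  have hεeq : D.ε = D0.ε := by rw [hDdef]; rfl
  let _ : Fintype (IrrCharacter G) := Fintype.ofFinite _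
  obtain ⟨x₀, hx₀, hx₀1⟩ : ∃ x : G, x ∈ (P : Subgroup G) ∧ x ≠ 1 := by
    have : Nontrivial (P : Subgroup G) := by
      rw [← Finite.one_lt_card_iff_nontrivial, hP]; exact hp.one_lt
    obtain ⟨x, hx⟩ := exists_ne (1 : (P : Subgroup G))
    exact ⟨x, x.2, fun h => hx (Subtype.ext h)⟩
  have hδ1 := D.δ_triv x₀ hx₀ hx₀1
  have hab := D.card_split hδ1
  have hte : D.Y.card * e = p - 1 := D.cardY
  have hA : ∀ χ ∈ D.A, charDegree (χ : G → ℂ) = 1 + n * p := by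
    intro χ hχ
    rw [hA0] at hχ
    exact hcfg.degA χ hχ
  have hB : ∀ χ ∈ D.B, charDegree (χ : G → ℂ) = p - 1 := by
    intro χ hχ
    rw [hB0] at hχ
    exact hcfg.degB χ hχ
  have ht1 : 1 ≤ D.Y.card := by
    rcases Nat.eq_zero_or_pos D.Y.card with h | h
    · rw [h] at hte
      have := hp.two_le
      have := hctx.hp2
      omega
    · exact h
  obtain ⟨θ₀, hθ₀⟩ : D.Y.Nonempty := Finset.card_pos.mp ht1
  have hθ₀' : θ₀ ∈ D0.Y := by rw [← hYeq]; exact hθ₀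
  -- the case distinction, in terms of `D`
  have hcase : (D.B.card = D.A.card * n ∧ charDegree (θ₀ : G → ℂ) = e) ∨
      (∃ σ : ℕ, 1 ≤ σ ∧ D.B.card = D.A.card * n + σ ∧ D.Y.card * σ = n + 1 ∧
        charDegree (θ₀ : G → ℂ) + e = p * σ) := by
    rw [hA0, hB0, hYeq]
    rcases hcfg.cases with ⟨-, h1, h2⟩ | ⟨-, σ, h1, h2, h3, h4⟩
    · exact Or.inl ⟨h1, h2 θ₀ hθ₀'⟩
    · exact Or.inr ⟨σ, h1, h2, h3, h4 θ₀ hθ₀'⟩
  have hYd : ∀ θ ∈ D.Y, charDegree (θ : G → ℂ) = charDegree (θ₀ : G → ℂ) := by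
    intro θ hθ
    have hθ' : θ ∈ D0.Y := by rw [← hYeq]; exact hθ
    rcases hcfg.cases with ⟨-, -, h2⟩ | ⟨-, σ, -, -, -, h4⟩
    · rw [h2 θ hθ', h2 θ₀ hθ₀']
    · have h5 := h4 θ hθ'
      have h6 := h4 θ₀ hθ₀'
      omega
  have hD : ∀ d ∈ D.Dset, p ∣ charDegree (d : G → ℂ) := fun d hd =>
    Cfsg.Agent.Lib.helper14.BRc.dvd_D hctx D d ((D.mem_Dset d).mp hd).1 ((D.mem_Dset d).mp hd).2
  have hsq := Cfsg.Agent.Lib.helper14.BRc.sq_split hctx D (charDegree (θ₀ : G → ℂ)) hA hB hYd hD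
  have hYs : ∀ θ ∈ D.Y, psum (P : Subgroup G) (θ : G → ℂ) = -(D.ε : ℂ) * (e : ℂ) :=
    fun θ hθ => Cfsg.Agent.Lib.helper14.BRc.psum_Y hctx D θ hθ
  obtain ⟨m, hm, hmle, hmsum, hnorm⟩ := Cfsg.Agent.Lib.helper14.BRc.pi_decomp hctx D hA hB hYs
    piChar_isCharacter (piChar_one hn) (piChar_P hP) piChar_triv (piChar_le hP)
  have hd1 : ∀ d ∈ D.Dset, 1 ≤ charDegree (d : G → ℂ) / p := fun d hd =>
    Nat.div_pos (Nat.le_of_dvd (Cfsg.Agent.Lib.helper83.charDegree_pos d) (hD d hd)) hp.pos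
  obtain ⟨hle, heq⟩ := Cfsg.Agent.Lib.helper53.Br.finset_sq D.Dset m
    (fun d => charDegree (d : G → ℂ) / p) hmle hd1
  have hRn : ∑ d ∈ D.Dset, (charDegree (d : G → ℂ) / p) ^ 2 = n :=
    Cfsg.Agent.Lib.helper58.BR.arith_R p e n D.A.card D.B.card D.Y.card (charDegree (θ₀ : G → ℂ)) _ hp hab hte hn1 hcase hsq
  have hmd : ∀ d ∈ D.Dset, m d = charDegree (d : G → ℂ) / p := heq (hmsum.trans hRn.symm)
  have hnorm' : classInner (piChar P) (piChar P) = ((n + 1 : ℕ) : ℂ) := by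
    rw [hnorm]
    congr 1
    rw [Finset.sum_congr rfl (fun d hd => by rw [hmd d hd]), hRn]
    ring
  have horb : Nat.card (MulAction.orbitRel.Quotient
        (Subgroup.normalizer ((P : Subgroup G) : Set G)) (Sylow p G)) = n + 1 := by
    have h1 := Cfsg.Agent.Lib.helper81.Br.piChar_norm (P := P)
    rw [hnorm'] at h1
    exact_mod_cast h1.symm
  have hK := (Cfsg.Agent.Lib.helper14.BRc.orbits_le hctx).2 horb
  exact Cfsg.Agent.Lib.helper14.BRc.blocks hctx hK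

/-- The core theorem: S4700 for groups with `O_{p'}(G) = 1`. -/
theorem core {G : Type u} [Group G] [Finite G] (hperf : commutator G = ⊤) (p : ℕ)
    [Fact p.Prime] (P : Sylow p G) (hP : Nat.card P = p) (n : ℕ)
    (hn : Nat.card (Sylow p G) = 1 + n * p) (hcore : Cfsg.pPrimeCore p G = ⊥) :
    (∃ (F : Type) (_ : Field F) (_ : Fintype F), Fintype.card F = p ∧ 3 < p ∧
      Nonempty (G ≃* Matrix.ProjectiveSpecialLinearGroup (Fin 2) F)) ∨
    (∃ (m : ℕ) (F : Type) (_ : Field F) (_ : Fintype F), Fintype.card F = 2 ^ m ∧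
      p = 2 ^ m + 1 ∧ 3 < p ∧ Nonempty (G ≃* Matrix.SpecialLinearGroup (Fin 2) F)) ∨
    III n p := by
  classical
  by_cases hIII : III n p
  · exact Or.inr (Or.inr hIII)
  let _ : Fintype G := Fintype.ofFinite G
  have hp : p.Prime := Fact.out
  obtain ⟨hp2, hn1, he2, hep⟩ := Cfsg.Agent.Lib.helper39.BR.setup0 hperf p P hP n hn
  obtain ⟨e, he⟩ : ∃ e : ℕ, (Subgroup.centralizer ((P : Subgroup G) : Set G)).relIndex
      (Subgroup.normalizer ((P : Subgroup G) : Set G)) = e := ⟨_, rfl⟩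
  rw [he] at he2 hep
  obtain ⟨D⟩ := Cfsg.Agent.Lib.helper97.BR.exists_data0 (P := P) (e := e) hperf hp2 hP he he2 hep
  have hX : ∀ χ ∈ D.X, charDegree (χ : G → ℂ) ∣ e * (1 + n * p) :=
    fun χ hχ => Cfsg.Agent.Lib.helper48.BR.dvd_X D hP he hn χ hχ
  have hY : ∀ θ ∈ D.Y, charDegree (θ : G → ℂ) ∣ e * (1 + n * p) :=
    fun θ hθ => Cfsg.Agent.Lib.helper97.BR.dvd_Y D hP he hn θ hθ
  have hcfg : Cfg D n := Cfsg.Agent.Lib.helper28.BR.config D hperf hp2 hP he2 hep hn1 hX hY hIII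
  obtain ⟨χ, hχB⟩ : D.B.Nonempty := Finset.card_pos.mp hcfg.posB
  have hC : Subgroup.centralizer ((P : Subgroup G) : Set G) = (P : Subgroup G) :=
    Cfsg.Agent.Lib.helper39.BR.cent_eq D hP hcore χ ((D.mem_B χ).mp hχB).1 ((D.mem_B χ).mp hχB).2 (hcfg.degB χ hχB)
  have hPN : (P : Subgroup G) ≤ Subgroup.normalizer ((P : Subgroup G) : Set G) :=
    Subgroup.le_normalizer
  have heN : Nat.card (Subgroup.normalizer ((P : Subgroup G) : Set G)) = e * p := by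
    have h1 := Subgroup.relIndex_mul_relIndex (⊥ : Subgroup G) (P : Subgroup G)
      (Subgroup.normalizer ((P : Subgroup G) : Set G)) bot_le hPN
    rw [Subgroup.relIndex_bot_left, Subgroup.relIndex_bot_left, hP] at h1
    rw [hC] at he
    rw [← h1, he, mul_comm]
  have hctx : Ctx0 G p P e n := ⟨hP, hC, heN, hn, hp2, he2, hep, hn1⟩
  have hblk := core_blk hctx D hcfg
  obtain ⟨x₀, hx₀, hx₀1⟩ : ∃ x : G, x ∈ (P : Subgroup G) ∧ x ≠ 1 := by
    have : Nontrivial (P : Subgroup G) := by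
      rw [← Finite.one_lt_card_iff_nontrivial, hP]; exact hp.one_lt
    obtain ⟨x, hx⟩ := exists_ne (1 : (P : Subgroup G))
    exact ⟨x, x.2, fun h => hx (Subtype.ext h)⟩
  have hδ1 := D.δ_triv x₀ hx₀ hx₀1
  have hab := D.card_split hδ1
  have hcase : D.B.card = D.A.card * n ∨
      ∃ σ : ℕ, 1 ≤ σ ∧ D.B.card = D.A.card * n + σ ∧ D.Y.card * σ = n + 1 := by
    rcases hcfg.cases with ⟨-, h1, -⟩ | ⟨-, σ, h1, h2, h3, -⟩
    · exact Or.inl h1
    · exact Or.inr ⟨σ, h1, h2, h3⟩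
  have hn2 : 2 * n ≤ p + 1 :=
    Cfsg.Agent.Lib.helper77.BR.arith_fin p e n D.A.card D.B.card D.Y.card hp hp2 he2 hab D.cardY hn1 hcase hblk
  rcases Cfsg.Agent.Lib.helper32.BR.apply_brauer hperf p P hP hC n hn hn2 with h | h
  · exact Or.inl h
  · exact Or.inr (Or.inl h)

/-- S4700. -/
theorem main {G : Type u} [Group G] [Finite G] (hperf : commutator G = ⊤) (p : ℕ)
    [Fact p.Prime] (P : Sylow p G) (hP : Nat.card P = p) (n : ℕ)
    (hn : Nat.card (Sylow p G) = 1 + n * p) :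
    (∃ (F : Type) (_ : Field F) (_ : Fintype F), Fintype.card F = p ∧ 3 < p ∧
      Nonempty (G ⧸ Cfsg.pPrimeCore p G ≃* Matrix.ProjectiveSpecialLinearGroup (Fin 2) F)) ∨
    (∃ (m : ℕ) (F : Type) (_ : Field F) (_ : Fintype F), Fintype.card F = 2 ^ m ∧
      p = 2 ^ m + 1 ∧ 3 < p ∧
      Nonempty (G ⧸ Cfsg.pPrimeCore p G ≃* Matrix.SpecialLinearGroup (Fin 2) F)) ∨
    (∃ h u : ℕ, 0 < h ∧ 0 < u ∧ n * (u + 1) = h * u * p + u ^ 2 + u + h) := by
  obtain ⟨hperf', hcore', hcop⟩ := Cfsg.Agent.Lib.helper66.BR.quot_core (G := G) hperf p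
  obtain ⟨Q, n', j, hQ, hn', hmul⟩ := Cfsg.Agent.Lib.helper30.BR.quot_sylow p (Cfsg.pPrimeCore p G) hcop P hP n hn
  rcases core hperf' p Q hQ n' hn' hcore' with h | h | h
  · exact Or.inl h
  · exact Or.inr (Or.inl h)
  · exact Or.inr (Or.inr (Cfsg.Agent.Lib.helper58.BR.III_lift p n n' j (Fact.out : p.Prime).pos hmul h))

end Cfsg.Agent.Lib.helper14.BRAsm
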