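import Mathlib
import Cfsg.Agent.Lib.helper14.BR0Defs
import Cfsg.Agent.Lib.helper20.BrC1
import Cfsg.Agent.Lib.helper20.BrC5
import Cfsg.Agent.Lib.helper20.BrPS
import Cfsg.Agent.Lib.helper6.BrC9
import Cfsg.Agent.Lib.helper6.BrDecomp
import Cfsg.Agent.Lib.helper66.BrBase
import Cfsg.Agent.Lib.helper66.BrG3
import Cfsg.Agent.Lib.helper66.BrG4
import Cfsg.Agent.Lib.helper72.BrC8
import Cfsg.Agent.Lib.helper81.CharOrtho
import Cfsg.Agent.Lib.helper81.CharTools
import Cfsg.Agent.Lib.helper82.CharQuot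
import Cfsg.Agent.Lib.helper83.CharBasic2
import Cfsg.Agent.Lib.helper84.BrDefs
import Cfsg.Prelude.Def_Blocks
import Cfsg.Prelude.Def_Characters

/-! S4700: the S0996 chain (orth_Y, psum_Y, dvd_D, sq_split, pi_decomp, orbits_le, blocks) under `Ctx0`
(helper84 `Br.Ctx` without the bound `2 n ≤ p + 1`); proofs copied verbatim from helper20 / helper72 /
helper6 / helper66. -/

set_option autoImplicit false

namespace Cfsg.Agent.Lib.helper14.BRc

open Cfsg.Agent.Lib.helper14.BR

universe u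

section cBrC1
open Cfsg.Agent.Lib.helper20.Br

open Cfsg Cfsg.Agent.Lib.helper81 Cfsg.Agent.Lib.helper84.Br
open scoped ComplexConjugate


variable {G : Type u} [Group G] [Fintype G] {p : ℕ} [Fact p.Prime] {P : Sylow p G} {e n : ℕ}

/-- C1 : a perfect group has no non-trivial linear character. -/
theorem lin_perfect (hperf : commutator G = ⊤) (χ : IrrCharacter G)
    (h : charDegree (χ : G → ℂ) = 1) : χ = trivChar G := by
  have h1 : (χ : G → ℂ) 1 = 1 := by
    rw [irr_one_eq_charDegree, h]; simp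
  apply Subtype.ext
  funext x
  have h2 := Cfsg.Agent.Lib.helper82.linear_commutator (irr_isCharacter χ) h1 x
    (by rw [hperf]; trivial)
  rw [h2, h1]
  rfl

/-- C5b (ORTH). -/
theorem orth_Y (hctx : Ctx0 G p P e n) (D : Data G p P e) (x : G) (hx : x ∈ (P : Subgroup G))
    (hx1 : x ≠ 1) : ∑ θ ∈ D.Y, (θ : G → ℂ) x = -(D.ε : ℂ) := by
  classical
  have hp : p.Prime := Fact.out
  have hYne : D.Y.Nonempty := by
    rw [← Finset.card_pos]
    by_contra h
    have h0 : D.Y.card = 0 := by omega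
    have h1 := D.cardY
    rw [h0, zero_mul] at h1
    have := hp.two_le
    omega
  obtain ⟨θ0, hθ0⟩ := hYne
  have hreg1 : ¬ p ∣ orderOf (1 : G) := by
    rw [orderOf_one]; exact fun hd => hp.one_lt.ne' (Nat.dvd_one.mp hd)
  have hcol := irr_col_orth x (1 : G)
  rw [if_neg (by rw [isConj_one_left]; exact hx1)] at hcol
  have h1 : ∑ ψ : IrrCharacter G, (ψ : G → ℂ) x * (ψ : G → ℂ) 1 = 0 := by
    rw [← hcol]
    refine Finset.sum_congr rfl fun ψ _ => ?_
    rw [irr_one_eq_charDegree, Complex.conj_natCast]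
  have h2 : ∑ ψ : IrrCharacter G, (ψ : G → ℂ) x * (ψ : G → ℂ) 1
      = ∑ ψ ∈ D.X ∪ D.Y, (ψ : G → ℂ) x * (ψ : G → ℂ) 1 := by
    symm
    apply Finset.sum_subset (Finset.subset_univ _)
    intro ψ _ hψ
    rw [Finset.mem_union, not_or] at hψ
    rw [D.vanish ψ hψ.1 hψ.2 x hx hx1, zero_mul]
  rw [h2, Finset.sum_union D.disj] at h1
  have h3 : ∑ χ ∈ D.X, (χ : G → ℂ) x * (χ : G → ℂ) 1 = (D.ε : ℂ) * (θ0 : G → ℂ) 1 := by
    rw [D.rel θ0 hθ0 1 hreg1]
    refine Finset.sum_congr rfl fun χ hχ => ?_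
    rw [D.val_X χ hχ x hx hx1]
  have h4 : ∑ θ ∈ D.Y, (θ : G → ℂ) x * (θ : G → ℂ) 1
      = (∑ θ ∈ D.Y, (θ : G → ℂ) x) * (θ0 : G → ℂ) 1 := by
    rw [Finset.sum_mul]
    refine Finset.sum_congr rfl fun θ hθ => ?_
    rw [D.agree θ hθ θ0 hθ0 1 hreg1]
  rw [h3, h4] at h1
  have h5 : (θ0 : G → ℂ) 1 ≠ 0 := irr_one_ne_zero θ0
  have h6 : ((D.ε : ℂ) + ∑ θ ∈ D.Y, (θ : G → ℂ) x) * (θ0 : G → ℂ) 1 = 0 := by
    linear_combination h1
  rcases mul_eq_zero.mp h6 with h | h
  · linear_combination h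
  · exact absurd h h5

end cBrC1

section cBrC5
open Cfsg.Agent.Lib.helper20.Br

open Cfsg Cfsg.Agent.Lib.helper81 Cfsg.Agent.Lib.helper84.Br
open scoped ComplexConjugate


variable {G : Type u} [Group G] [Fintype G] {p : ℕ} [Fact p.Prime] {P : Sylow p G} {e n : ℕ}

/-! ### `psum` toolkit -/

theorem helper20_psum_congr (H : Subgroup G) {f g : G → ℂ}
    (h : ∀ x : G, x ∈ H → x ≠ 1 → f x = g x) : psum H f = psum H g := by
  classical
  unfold psum
  refine Finset.sum_congr rfl fun x _ => ?_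
  split_ifs with hx
  · exact h x hx.1 hx.2
  · rfl

theorem helper20_psum_sum (H : Subgroup G) {ι : Type*} (s : Finset ι) (f : ι → G → ℂ) :
    psum H (fun g => ∑ i ∈ s, f i g) = ∑ i ∈ s, psum H (f i) := by
  classical
  unfold psum
  rw [Finset.sum_comm]
  refine Finset.sum_congr rfl fun x _ => ?_
  split_ifs with hx
  · rfl
  · simp

theorem helper20_psum_sub (H : Subgroup G) (f g : G → ℂ) :
    psum H (fun x => f x - g x) = psum H f - psum H g := by
  classical
  unfold psum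
  rw [← Finset.sum_sub_distrib]
  refine Finset.sum_congr rfl fun x _ => ?_
  split_ifs with hx
  · rfl
  · simp

theorem helper20_psum_mul_left (H : Subgroup G) (c : ℂ) (f : G → ℂ) :
    psum H (fun x => c * f x) = c * psum H f := by
  classical
  unfold psum
  rw [Finset.mul_sum]
  refine Finset.sum_congr rfl fun x _ => ?_
  split_ifs with hx
  · rfl
  · simp

theorem helper20_psum_conj (H : Subgroup G) (f : G → ℂ) :
    psum H (fun x => conj (f x)) = conj (psum H f) := by
  classical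
  unfold psum
  rw [map_sum]
  refine Finset.sum_congr rfl fun x _ => ?_
  split_ifs with hx
  · rfl
  · simp

theorem helper20_psum_const (H : Subgroup G) (c : ℂ) :
    psum H (fun _ => c) = ((Nat.card H : ℂ) - 1) * c := by
  classical
  unfold psum
  rw [← Finset.sum_filter, Finset.sum_const, nsmul_eq_mul]
  congr 1
  have h1 : (Finset.univ.filter (fun g : G => g ∈ H ∧ g ≠ 1)) =
      (Finset.univ.filter (fun g : G => g ∈ H)).erase 1 := by
    ext g
    simp only [Finset.mem_filter, Finset.mem_univ, true_and, Finset.mem_erase]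
    tauto
  rw [h1, Finset.card_erase_of_mem (by simp [H.one_mem])]
  have h2 : (Finset.univ.filter (fun g : G => g ∈ H)).card = Nat.card H := by
    rw [Nat.card_eq_fintype_card, Fintype.card_subtype]
  rw [h2, Nat.cast_sub Nat.card_pos]
  simp

/-- Splitting a sum over `G` into `p`-singular and `p`-regular parts, for a function vanishing
on the `p`-regular elements. -/
theorem helper20_sum_sing (f : G → ℂ) (hf : ∀ g : G, ¬ p ∣ orderOf g → f g = 0) :
    ∑ g : G, f g = ∑ g : G, if p ∣ orderOf g then f g else 0 := by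
  refine Finset.sum_congr rfl fun g _ => ?_
  split_ifs with h
  · rfl
  · exact hf g h

theorem helper20_card_syl_ne (hctx : Ctx0 G p P e n) : (Nat.card (Sylow p G) : ℂ) ≠ 0 := by
  rw [hctx.hn]
  exact_mod_cast Nat.succ_ne_zero _ ∘ (by omega : 1 + n * p = 0 → (n * p).succ = 0)

theorem helper20_card_G (hctx : Ctx0 G p P e n) :
    (Nat.card G : ℂ) = (Nat.card (Sylow p G) : ℂ) * ((e : ℂ) * (p : ℂ)) := by
  have h1 := Subgroup.card_mul_index (Subgroup.normalizer ((P : Subgroup G) : Set G))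
  have h0 : Nat.card (Sylow p G) = (Subgroup.normalizer ((P : Subgroup G) : Set G)).index :=
    Sylow.card_eq_index_normalizer P
  rw [← h0, hctx.he] at h1
  rw [← h1]
  push_cast
  ring

theorem helper20_Y_ne_triv (D : Data G p P e) (θ : IrrCharacter G) (hθ : θ ∈ D.Y) :
    θ ≠ trivChar G := by
  intro h
  exact Finset.disjoint_left.mp D.disj D.one_mem (h ▸ hθ)

theorem helper20_cardY_ne (D : Data G p P e) : (D.Y.card : ℂ) ≠ 0 := by
  have hp : p.Prime := Fact.out
  have h1 := D.cardY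
  have : D.Y.card ≠ 0 := by
    intro h0
    rw [h0, zero_mul] at h1
    have := hp.two_le
    omega
  exact_mod_cast this

theorem helper20_cardY_mul (D : Data G p P e) : (D.Y.card : ℂ) * (e : ℂ) = (p : ℂ) - 1 := by
  have hp : p.Prime := Fact.out
  have h1 := D.cardY
  have h2 : ((D.Y.card * e : ℕ) : ℂ) = ((p - 1 : ℕ) : ℂ) := by rw [h1]
  rw [Nat.cast_sub hp.pos] at h2
  push_cast at h2
  exact h2

/-- The sum of a non-trivial irreducible character over the group is zero. -/
theorem helper20_sum_irr_eq_zero (θ : IrrCharacter G) (hθ : θ ≠ trivChar G) :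
    ∑ g : G, (θ : G → ℂ) g = 0 := by
  have h := irr_classInner_ne hθ
  unfold classInner at h
  have hN : (Nat.card G : ℂ)⁻¹ ≠ 0 := inv_ne_zero card_ne_zero_complex
  rcases mul_eq_zero.mp h with h | h
  · exact absurd h hN
  · simpa using h

/-- The `p`-singular sums of two members of `Y` agree. -/
theorem helper20_sing_sum_Y (D : Data G p P e) (θ θ' : IrrCharacter G) (hθ : θ ∈ D.Y)
    (hθ' : θ' ∈ D.Y) :
    (∑ g : G, if p ∣ orderOf g then (θ : G → ℂ) g else 0) =
      ∑ g : G, if p ∣ orderOf g then (θ' : G → ℂ) g else 0 := by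
  have h1 := helper20_sum_irr_eq_zero θ (helper20_Y_ne_triv D θ hθ)
  have h2 := helper20_sum_irr_eq_zero θ' (helper20_Y_ne_triv D θ' hθ')
  have h3 : ∀ ψ : IrrCharacter G, ∑ g : G, (ψ : G → ℂ) g =
      (∑ g : G, if p ∣ orderOf g then (ψ : G → ℂ) g else 0) +
        ∑ g : G, if p ∣ orderOf g then 0 else (ψ : G → ℂ) g := by
    intro ψ
    rw [← Finset.sum_add_distrib]
    refine Finset.sum_congr rfl fun g _ => ?_
    split_ifs <;> simp
  have h4 : (∑ g : G, if p ∣ orderOf g then 0 else (θ : G → ℂ) g) =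
      ∑ g : G, if p ∣ orderOf g then 0 else (θ' : G → ℂ) g := by
    refine Finset.sum_congr rfl fun g _ => ?_
    split_ifs with h
    · rfl
    · exact D.agree θ hθ θ' hθ' g h
  rw [h3] at h1 h2
  rw [h4] at h1
  linear_combination h1 - h2

/-- C5c (PSUM-Y). -/
theorem psum_Y (hctx : Ctx0 G p P e n) (D : Data G p P e) (θ : IrrCharacter G) (hθ : θ ∈ D.Y) :
    psum (P : Subgroup G) (θ : G → ℂ) = -(D.ε : ℂ) * (e : ℂ) := by
  classical
  have hsyl := helper20_card_syl_ne hctx
  -- independence of `θ`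
  have hind : ∀ θ' ∈ D.Y, psum (P : Subgroup G) (θ' : G → ℂ) = psum (P : Subgroup G) (θ : G → ℂ) := by
    intro θ' hθ'
    have h1 := helper20_sing_sum_Y D θ' θ hθ' hθ
    rw [helper20_psing_sum hctx.hP hctx.hC _ (irr_classFun θ'),
      helper20_psing_sum hctx.hP hctx.hC _ (irr_classFun θ)] at h1
    exact mul_left_cancel₀ hsyl h1
  -- the total
  have htot : ∑ θ' ∈ D.Y, psum (P : Subgroup G) (θ' : G → ℂ) = -(D.ε : ℂ) * ((p : ℂ) - 1) := by
    rw [← helper20_psum_sum]
    rw [helper20_psum_congr (P : Subgroup G) (g := fun _ => -(D.ε : ℂ))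
      (fun x hx hx1 => orth_Y hctx D x hx hx1)]
    rw [helper20_psum_const, hctx.hP]
    ring
  rw [Finset.sum_congr rfl hind, Finset.sum_const, nsmul_eq_mul, ← helper20_cardY_mul D] at htot
  have hY := helper20_cardY_ne D
  have h5 : (D.Y.card : ℂ) * psum (P : Subgroup G) (θ : G → ℂ) =
      (D.Y.card : ℂ) * (-(D.ε : ℂ) * (e : ℂ)) := by
    linear_combination htot
  exact mul_left_cancel₀ hY h5

/-- C5d (PSUM-SQ-Y). -/
theorem psum_sq_Y (hctx : Ctx0 G p P e n) (D : Data G p P e) (θ : IrrCharacter G)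
    (hθ : θ ∈ D.Y) :
    psum (P : Subgroup G) (fun g => (θ : G → ℂ) g * conj ((θ : G → ℂ) g)) =
      (e : ℂ) * ((p : ℂ) - (e : ℂ)) := by
  classical
  have hsyl := helper20_card_syl_ne hctx
  have hN0 : (Nat.card G : ℂ) ≠ 0 := card_ne_zero_complex
  -- `Σ_g θ conj θ' = |G| [θ = θ']`
  have hinner : ∀ ψ ψ' : IrrCharacter G,
      ∑ g : G, (ψ : G → ℂ) g * conj ((ψ' : G → ℂ) g) = if ψ = ψ' then (Nat.card G : ℂ) else 0 := by
    intro ψ ψ'
    have h := irr_classInner ψ ψ'
    unfold classInner at h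
    have h2 : ∑ g : G, (ψ : G → ℂ) g * conj ((ψ' : G → ℂ) g) =
        (Nat.card G : ℂ) * (if ψ = ψ' then (1 : ℂ) else 0) := by
      rw [← h, ← mul_assoc, mul_inv_cancel₀ hN0, one_mul]
    rw [h2]
    split_ifs <;> simp
  -- the difference for `θ' ≠ θ`
  have hdiff : ∀ θ' ∈ D.Y, θ' ≠ θ →
      psum (P : Subgroup G) (fun g => (θ : G → ℂ) g * conj ((θ : G → ℂ) g)) -
        psum (P : Subgroup G) (fun g => (θ : G → ℂ) g * conj ((θ' : G → ℂ) g)) =
        (e : ℂ) * (p : ℂ) := by
    intro θ' hθ' hne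
    have h1 := hinner θ θ
    have h2 := hinner θ θ'
    rw [if_pos rfl] at h1
    rw [if_neg (Ne.symm hne)] at h2
    have h3 : ∑ g : G, ((θ : G → ℂ) g * conj ((θ : G → ℂ) g) -
        (θ : G → ℂ) g * conj ((θ' : G → ℂ) g)) = (Nat.card G : ℂ) := by
      rw [Finset.sum_sub_distrib, h1, h2, sub_zero]
    rw [helper20_sum_sing (p := p)] at h3
    · have hcf : IsClassFunction G (fun g => (θ : G → ℂ) g * conj ((θ : G → ℂ) g) -
          (θ : G → ℂ) g * conj ((θ' : G → ℂ) g)) := by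
        intro g h
        simp only [irr_classFun θ g h, irr_classFun θ' g h]
      rw [helper20_psing_sum hctx.hP hctx.hC _ hcf, helper20_card_G hctx,
        helper20_psum_sub] at h3
      exact mul_left_cancel₀ hsyl h3
    · intro g hg
      rw [D.agree θ' hθ' θ hθ g hg, sub_self]
  -- the sum over `θ'`
  have hsum : ∑ θ' ∈ D.Y, psum (P : Subgroup G) (fun g => (θ : G → ℂ) g * conj ((θ' : G → ℂ) g))
      = (e : ℂ) := by
    rw [← helper20_psum_sum]
    have h1 : psum (P : Subgroup G) (fun g => ∑ θ' ∈ D.Y, (θ : G → ℂ) g * conj ((θ' : G → ℂ) g))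
        = psum (P : Subgroup G) (fun g => -(D.ε : ℂ) * (θ : G → ℂ) g) := by
      apply helper20_psum_congr
      intro x hx hx1
      rw [← Finset.mul_sum, ← map_sum, orth_Y hctx D x hx hx1]
      simp only [map_neg, map_intCast]
      ring
    rw [h1, helper20_psum_mul_left, psum_Y hctx D θ hθ]
    rcases D.ε_sq with h | h <;> rw [h] <;> push_cast <;> ring
  -- total
  have htot : ∑ θ' ∈ D.Y, (psum (P : Subgroup G) (fun g => (θ : G → ℂ) g * conj ((θ : G → ℂ) g)) -
        psum (P : Subgroup G) (fun g => (θ : G → ℂ) g * conj ((θ' : G → ℂ) g))) =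
      ((D.Y.card : ℂ) - 1) * ((e : ℂ) * (p : ℂ)) := by
    rw [← Finset.add_sum_erase _ _ hθ, sub_self, zero_add]
    rw [Finset.sum_congr rfl (fun θ' hθ' => hdiff θ' (Finset.mem_of_mem_erase hθ')
      (Finset.ne_of_mem_erase hθ'))]
    rw [Finset.sum_const, nsmul_eq_mul, Finset.card_erase_of_mem hθ,
      Nat.cast_sub (Finset.card_pos.mpr ⟨θ, hθ⟩)]
    simp
  rw [Finset.sum_sub_distrib, hsum, Finset.sum_const, nsmul_eq_mul] at htot
  have hY := helper20_cardY_ne D
  have hYe := helper20_cardY_mul D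
  have h5 : (D.Y.card : ℂ) * psum (P : Subgroup G) (fun g => (θ : G → ℂ) g * conj ((θ : G → ℂ) g))
      = (D.Y.card : ℂ) * ((e : ℂ) * ((p : ℂ) - (e : ℂ))) := by
    linear_combination htot + (e : ℂ) * hYe
  exact mul_left_cancel₀ hY h5

/-- C6 (CONST). -/
theorem inner_const (hctx : Ctx0 G p P e n) (D : Data G p P e) (φ : G → ℂ)
    (hφ : IsClassFunction G φ) (c : ℂ)
    (hc : ∀ x : G, x ∈ (P : Subgroup G) → x ≠ 1 → φ x = c)
    (θ θ' : IrrCharacter G) (hθ : θ ∈ D.Y) (hθ' : θ' ∈ D.Y) :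
    classInner φ (θ : G → ℂ) = classInner φ (θ' : G → ℂ) := by
  classical
  unfold classInner
  congr 1
  rw [← sub_eq_zero, ← Finset.sum_sub_distrib]
  rw [helper20_sum_sing (p := p)]
  · have hcf : IsClassFunction G (fun g => φ g * conj ((θ : G → ℂ) g) -
        φ g * conj ((θ' : G → ℂ) g)) := by
      intro g h
      simp only [irr_classFun θ g h, irr_classFun θ' g h, hφ g h]
    rw [helper20_psing_sum hctx.hP hctx.hC _ hcf, helper20_psum_sub]
    have h1 : ∀ ψ : IrrCharacter G, psum (P : Subgroup G) (fun g => φ g * conj ((ψ : G → ℂ) g))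
        = c * conj (psum (P : Subgroup G) (ψ : G → ℂ)) := by
      intro ψ
      rw [← helper20_psum_conj, ← helper20_psum_mul_left]
      apply helper20_psum_congr
      intro x hx hx1
      rw [hc x hx hx1]
    rw [h1, h1, psum_Y hctx D θ hθ, psum_Y hctx D θ' hθ', sub_self, mul_zero]
  · intro g hg
    rw [D.agree θ hθ θ' hθ' g hg, sub_self]

end cBrC5

section cBrC8
open Cfsg.Agent.Lib.helper72.Br

open Cfsg Cfsg.Agent.Lib.helper81 Cfsg.Agent.Lib.helper84.Br
open scoped ComplexConjugate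


variable {G : Type u} [Group G] [Fintype G] {p : ℕ} [Fact p.Prime] {P : Sylow p G} {e n : ℕ}

/-- a non-identity element of `P` -/
theorem h72_exists_ne_one (hctx : Ctx0 G p P e n) : ∃ x : G, x ∈ (P : Subgroup G) ∧ x ≠ 1 := by
  have hp : p.Prime := Fact.out
  have h1 : 1 < Nat.card P := by rw [hctx.hP]; exact hp.one_lt
  have : Nontrivial P := (Finite.one_lt_card_iff_nontrivial).mp h1
  obtain ⟨x, hx⟩ := exists_ne (1 : P)
  exact ⟨x.1, x.2, fun h => hx (Subtype.ext h)⟩

omit [Fintype G] in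
theorem h72_charDegree_triv : charDegree (trivChar G : G → ℂ) = 1 := by
  simp [charDegree, trivChar_apply]

/-- C8 (DEG-SUM) : the sum of the squares of the degrees. -/
theorem sum_deg_sq (hctx : Ctx0 G p P e n) [Fintype (IrrCharacter G)] :
    ∑ ψ : IrrCharacter G, (charDegree (ψ : G → ℂ)) ^ 2 = e * p * (1 + n * p) := by
  have h1 := Cfsg.Agent.Lib.helper83.sum_charDegree_sq (G := G)
  rw [finsum_eq_sum_of_fintype] at h1
  have h2 : Nat.card (Sylow p G) =
      (Subgroup.normalizer ((P : Subgroup G) : Set G)).index := Sylow.card_eq_index_normalizer P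
  rw [h1, ← Subgroup.card_mul_index (Subgroup.normalizer ((P : Subgroup G) : Set G)), hctx.he,
    ← h2, hctx.hn]

/-- C8' (DVD-D). -/
theorem dvd_D (hctx : Ctx0 G p P e n) (D : Data G p P e) (d : IrrCharacter G) (hdX : d ∉ D.X)
    (hdY : d ∉ D.Y) : p ∣ charDegree (d : G → ℂ) := by
  classical
  have : Fintype (P : Subgroup G) := Fintype.ofFinite _
  obtain ⟨m, hm⟩ := sum_subgroup_char
    (Cfsg.Agent.Lib.helper83.isCharacter_of_irr d.2) (P : Subgroup G)
  have h1 : ∑ u : (P : Subgroup G), (d : G → ℂ) (u : G) = (d : G → ℂ) 1 := by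
    rw [Finset.sum_eq_single (1 : (P : Subgroup G))]
    · rfl
    · intro u _ hu
      exact D.vanish d hdX hdY u.1 u.2 (fun h => hu (Subtype.ext h))
    · intro h
      exact absurd (Finset.mem_univ _) h
  have hP : Nat.card (P : Subgroup G) = p := hctx.hP
  rw [h1, Cfsg.Agent.Lib.helper83.irr_one_eq_charDegree, hP] at hm
  refine ⟨m, ?_⟩
  exact_mod_cast hm

/-- C10 (SPLIT-SQ) : the sum of squares of degrees, split. -/
theorem sq_split (hctx : Ctx0 G p P e n) (D : Data G p P e) [Fintype (IrrCharacter G)] (y : ℕ)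
    (hA : ∀ χ ∈ D.A, charDegree (χ : G → ℂ) = 1 + n * p)
    (hB : ∀ χ ∈ D.B, charDegree (χ : G → ℂ) = p - 1)
    (hYd : ∀ θ ∈ D.Y, charDegree (θ : G → ℂ) = y)
    (hD : ∀ d ∈ D.Dset, p ∣ charDegree (d : G → ℂ)) :
    1 + D.A.card * (1 + n * p) ^ 2 + D.B.card * (p - 1) ^ 2 + D.Y.card * y ^ 2 +
      p ^ 2 * ∑ d ∈ D.Dset, (charDegree (d : G → ℂ) / p) ^ 2 = e * p * (1 + n * p) := by
  obtain ⟨x, hx, hx1⟩ := h72_exists_ne_one hctx
  have hδ1 := D.δ_triv x hx hx1
  rw [← sum_deg_sq hctx, D.sum_split hδ1 (fun ψ => (charDegree (ψ : G → ℂ)) ^ 2)]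
  have e1 : ∑ χ ∈ D.A, (charDegree (χ : G → ℂ)) ^ 2 = D.A.card * (1 + n * p) ^ 2 := by
    rw [Finset.sum_congr rfl (fun χ hχ => by rw [hA χ hχ]), Finset.sum_const, smul_eq_mul]
  have e2 : ∑ χ ∈ D.B, (charDegree (χ : G → ℂ)) ^ 2 = D.B.card * (p - 1) ^ 2 := by
    rw [Finset.sum_congr rfl (fun χ hχ => by rw [hB χ hχ]), Finset.sum_const, smul_eq_mul]
  have e3 : ∑ θ ∈ D.Y, (charDegree (θ : G → ℂ)) ^ 2 = D.Y.card * y ^ 2 := by
    rw [Finset.sum_congr rfl (fun θ hθ => by rw [hYd θ hθ]), Finset.sum_const, smul_eq_mul]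
  have e4 : ∑ d ∈ D.Dset, (charDegree (d : G → ℂ)) ^ 2 =
      p ^ 2 * ∑ d ∈ D.Dset, (charDegree (d : G → ℂ) / p) ^ 2 := by
    rw [Finset.mul_sum]
    refine Finset.sum_congr rfl fun d hd => ?_
    obtain ⟨k, hk⟩ := hD d hd
    have hp : 0 < p := (Fact.out : p.Prime).pos
    rw [hk, Nat.mul_div_cancel_left _ hp]
    ring
  rw [e1, e2, e3, e4, h72_charDegree_triv, one_pow]

/-- C11 (SPLIT-DEG) : the sum of the degrees, split and bounded. -/
theorem deg_split_le (hctx : Ctx0 G p P e n) (D : Data G p P e) [Fintype (IrrCharacter G)]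
    (y : ℕ)
    (hA : ∀ χ ∈ D.A, charDegree (χ : G → ℂ) = 1 + n * p)
    (hB : ∀ χ ∈ D.B, charDegree (χ : G → ℂ) = p - 1)
    (hYd : ∀ θ ∈ D.Y, charDegree (θ : G → ℂ) = y)
    (hD : ∀ d ∈ D.Dset, p ∣ charDegree (d : G → ℂ))
    (hR : ∑ d ∈ D.Dset, (charDegree (d : G → ℂ) / p) ^ 2 = n) :
    ∑ ψ : IrrCharacter G, charDegree (ψ : G → ℂ) ≤
      1 + D.A.card * (1 + n * p) + D.B.card * (p - 1) + D.Y.card * y + p * n := by
  obtain ⟨x, hx, hx1⟩ := h72_exists_ne_one hctx
  have hδ1 := D.δ_triv x hx hx1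
  rw [D.sum_split hδ1 (fun ψ => charDegree (ψ : G → ℂ))]
  have e1 : ∑ χ ∈ D.A, charDegree (χ : G → ℂ) = D.A.card * (1 + n * p) := by
    rw [Finset.sum_congr rfl (fun χ hχ => hA χ hχ), Finset.sum_const, smul_eq_mul]
  have e2 : ∑ χ ∈ D.B, charDegree (χ : G → ℂ) = D.B.card * (p - 1) := by
    rw [Finset.sum_congr rfl (fun χ hχ => hB χ hχ), Finset.sum_const, smul_eq_mul]
  have e3 : ∑ θ ∈ D.Y, charDegree (θ : G → ℂ) = D.Y.card * y := by
    rw [Finset.sum_congr rfl (fun θ hθ => hYd θ hθ), Finset.sum_const, smul_eq_mul]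
  have e4 : ∑ d ∈ D.Dset, charDegree (d : G → ℂ) ≤ p * n := by
    rw [← hR, Finset.mul_sum]
    refine Finset.sum_le_sum fun d hd => ?_
    obtain ⟨k, hk⟩ := hD d hd
    have hp : 0 < p := (Fact.out : p.Prime).pos
    rw [hk, Nat.mul_div_cancel_left _ hp]
    exact Nat.mul_le_mul_left _ (Nat.le_self_pow two_ne_zero k)
  rw [e1, e2, e3, h72_charDegree_triv]
  omega

end cBrC8

section cBrC9
open Cfsg.Agent.Lib.helper6.Br

open Cfsg Cfsg.Agent.Lib.helper81 Cfsg.Agent.Lib.helper84.Br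
open scoped ComplexConjugate


variable {G : Type u} [Group G] [Fintype G] {p : ℕ} [Fact p.Prime] {P : Sylow p G} {e n : ℕ}

/-- C9 (PI-DECOMP). -/
theorem pi_decomp (hctx : Ctx0 G p P e n) (D : Data G p P e) [Fintype (IrrCharacter G)]
    (hA : ∀ χ ∈ D.A, charDegree (χ : G → ℂ) = 1 + n * p)
    (hB : ∀ χ ∈ D.B, charDegree (χ : G → ℂ) = p - 1)
    (hY : ∀ θ ∈ D.Y, psum (P : Subgroup G) (θ : G → ℂ) = -(D.ε : ℂ) * (e : ℂ))
    (hπc : IsCharacter G (piChar P)) (hπ1 : piChar P 1 = ((1 + n * p : ℕ) : ℂ))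
    (hπx : ∀ x : G, x ∈ (P : Subgroup G) → x ≠ 1 → piChar P x = 1)
    (hπt : classInner (piChar P) (trivChar G : G → ℂ) = 1)
    (hπle : ∀ ψ : G → ℂ, IsCharacter G ψ → ∃ k l : ℕ, classInner (piChar P) ψ = k ∧
      ψ 1 + psum (P : Subgroup G) ψ = (p : ℂ) * l ∧ k ≤ l) :
    ∃ m : IrrCharacter G → ℕ, (∀ ψ : IrrCharacter G, classInner (piChar P) (ψ : G → ℂ) = m ψ) ∧
      (∀ d ∈ D.Dset, m d ≤ charDegree (d : G → ℂ) / p) ∧
      ∑ d ∈ D.Dset, m d * (charDegree (d : G → ℂ) / p) = n ∧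
      classInner (piChar P) (piChar P) = ((1 + ∑ d ∈ D.Dset, (m d) ^ 2 : ℕ) : ℂ) := by
  have hP := hctx.hP
  have hp2 : 2 ≤ p := (Fact.out : p.Prime).two_le
  obtain ⟨m, hm1, hdeg, hps, hnorm⟩ := helper6_decomp (n := n) hP D hA hB hY hπc
  have h1 : m (trivChar G) = 1 := by
    have h := hm1 (trivChar G)
    rw [hπt] at h
    exact_mod_cast h.symm
  have hdegN : 1 + n * p = m (trivChar G) + (∑ χ ∈ D.A, m χ) * (1 + n * p)
      + (∑ χ ∈ D.B, m χ) * (p - 1) + ∑ θ ∈ D.Y, m θ * charDegree (θ : G → ℂ)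
      + ∑ d ∈ D.Dset, m d * charDegree (d : G → ℂ) := by
    rw [hπ1] at hdeg
    exact_mod_cast hdeg
  have hA0 : ∑ χ ∈ D.A, m χ = 0 := by
    by_contra hne
    have h2 : 1 ≤ ∑ χ ∈ D.A, m χ := Nat.one_le_iff_ne_zero.mpr hne
    have h3 : 1 + n * p ≤ (∑ χ ∈ D.A, m χ) * (1 + n * p) := Nat.le_mul_of_pos_left _ (by omega)
    omega
  have hB0 : ∀ χ ∈ D.B, m χ = 0 := by
    intro χ hχ
    obtain ⟨k, l, hk, hl, hkl⟩ := hπle (χ : G → ℂ) (irr_isCharacter χ)
    rw [irr_one_eq_charDegree, hB χ hχ, helper6_psum_B hP D χ hχ, add_neg_cancel] at hl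
    have hl0 : l = 0 := by
      rcases mul_eq_zero.mp hl.symm with h | h
      · exfalso
        have : p = 0 := by exact_mod_cast h
        omega
      · exact_mod_cast h
    have h4 : (m χ : ℂ) = k := by rw [← hm1 χ, hk]
    have h5 : m χ = k := by exact_mod_cast h4
    omega
  have hB0' : ∑ χ ∈ D.B, m χ = 0 := Finset.sum_eq_zero hB0
  have hpsπ : psum (P : Subgroup G) (piChar P) = ((p - 1 : ℕ) : ℂ) := by
    rw [helper6_psum_const hP (piChar P) 1 hπx, mul_one]
  have hY0 : ∑ θ ∈ D.Y, m θ = 0 := by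
    rw [hpsπ, h1, hA0, hB0'] at hps
    simp only [Nat.cast_one, Nat.cast_zero] at hps
    have h2 : (D.ε : ℂ) * (e : ℂ) * ((∑ θ ∈ D.Y, m θ : ℕ) : ℂ) = 0 := by
      linear_combination hps
    have hε0 : (D.ε : ℂ) ≠ 0 := by
      rcases D.ε_sq with h | h <;> simp [h]
    have he0 : (e : ℂ) ≠ 0 := by
      have := hctx.he2
      exact_mod_cast (by omega : e ≠ 0)
    rcases mul_eq_zero.mp h2 with h | h
    · exact absurd h (mul_ne_zero hε0 he0)
    · exact_mod_cast h
  have hDl : ∀ d ∈ D.Dset, ∃ l : ℕ, charDegree (d : G → ℂ) = p * l ∧ m d ≤ l := by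
    intro d hd
    obtain ⟨k, l, hk, hl, hkl⟩ := hπle (d : G → ℂ) (irr_isCharacter d)
    rw [irr_one_eq_charDegree, helper6_psum_D hP D d hd, add_zero] at hl
    have h3 : charDegree (d : G → ℂ) = p * l := by exact_mod_cast hl
    have h4 : (m d : ℂ) = k := by rw [← hm1 d, hk]
    have h5 : m d = k := by exact_mod_cast h4
    exact ⟨l, h3, by omega⟩
  refine ⟨m, hm1, ?_, ?_, ?_⟩
  · intro d hd
    obtain ⟨l, h3, h4⟩ := hDl d hd
    rw [h3, Nat.mul_div_cancel_left l (by omega : 0 < p)]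
    exact h4
  · have h6 : ∑ d ∈ D.Dset, m d * charDegree (d : G → ℂ)
        = p * ∑ d ∈ D.Dset, m d * (charDegree (d : G → ℂ) / p) := by
      rw [Finset.mul_sum]
      refine Finset.sum_congr rfl fun d hd => ?_
      obtain ⟨l, h3, h4⟩ := hDl d hd
      rw [h3, Nat.mul_div_cancel_left l (by omega : 0 < p)]
      ring
    have hY0' : ∑ θ ∈ D.Y, m θ * charDegree (θ : G → ℂ) = 0 :=
      Finset.sum_eq_zero fun θ hθ => by
        rw [(Finset.sum_eq_zero_iff.mp hY0) θ hθ, zero_mul]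
    rw [h1, hA0, hB0', hY0', h6] at hdegN
    have h7 : p * n = p * ∑ d ∈ D.Dset, m d * (charDegree (d : G → ℂ) / p) := by
      rw [zero_mul, zero_mul] at hdegN
      rw [mul_comm p n]
      omega
    exact (Nat.eq_of_mul_eq_mul_left (by omega : 0 < p) h7).symm
  · have hA2 : ∑ χ ∈ D.A, m χ ^ 2 = 0 :=
      Finset.sum_eq_zero fun χ hχ => by simp [(Finset.sum_eq_zero_iff.mp hA0) χ hχ]
    have hB2 : ∑ χ ∈ D.B, m χ ^ 2 = 0 :=
      Finset.sum_eq_zero fun χ hχ => by simp [hB0 χ hχ]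
    have hY2 : ∑ θ ∈ D.Y, m θ ^ 2 = 0 :=
      Finset.sum_eq_zero fun θ hθ => by simp [(Finset.sum_eq_zero_iff.mp hY0) θ hθ]
    rw [hnorm, h1, hA2, hB2, hY2]
    norm_num

end cBrC9

section cBrG3
open Cfsg.Agent.Lib.helper66.Br

open Cfsg Cfsg.Agent.Lib.helper81 Cfsg.Agent.Lib.helper84.Br Subgroup
open scoped ComplexConjugate


section pieces

variable {G : Type u} [Group G] [Fintype G] {p : ℕ} [Fact p.Prime] {P : Sylow p G} {e n : ℕ}

/-- The stabilizer of `Q` in `N_G(P)` is `N_G(P) ⊓ N_G(Q)`. -/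
noncomputable def h66StabEquiv (P Q : Sylow p G) :
    ↥(MulAction.stabilizer ↥(Subgroup.normalizer ((P : Subgroup G) : Set G)) Q) ≃
      ↥(Subgroup.normalizer ((P : Subgroup G) : Set G) ⊓
          Subgroup.normalizer ((Q : Subgroup G) : Set G)) where
  toFun h := ⟨(h.1 : G), ⟨h.1.2, (h66_smul_eq_iff Q _).mp (by
    have h2 := MulAction.mem_stabilizer_iff.mp h.2
    rwa [Subgroup.smul_def] at h2)⟩⟩
  invFun k := ⟨⟨k.1, k.2.1⟩, by
    rw [MulAction.mem_stabilizer_iff, Subgroup.smul_def]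
    exact (h66_smul_eq_iff Q _).mpr k.2.2⟩
  left_inv h := rfl
  right_inv k := rfl

/-- G3 : the number of orbits of `N_G(P)` on the Sylow `p`-subgroups is at most `n + 1`, and in
case of equality all two-point stabilisers have order `e`. -/
theorem orbits_le (hctx : Ctx0 G p P e n) :
    Nat.card (MulAction.orbitRel.Quotient
        (Subgroup.normalizer ((P : Subgroup G) : Set G)) (Sylow p G)) ≤ n + 1 ∧
    (Nat.card (MulAction.orbitRel.Quotient
        (Subgroup.normalizer ((P : Subgroup G) : Set G)) (Sylow p G)) = n + 1 →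
      ∀ Q : Sylow p G, Q ≠ P →
        Nat.card ↥(Subgroup.normalizer ((P : Subgroup G) : Set G) ⊓
          Subgroup.normalizer ((Q : Subgroup G) : Set G)) = e) := by
  classical
  have hp : p.Prime := Fact.out
  have : Fintype (Sylow p G) := Fintype.ofFinite _
  have : Fintype (MulAction.orbitRel.Quotient
      (Subgroup.normalizer ((P : Subgroup G) : Set G)) (Sylow p G)) := Fintype.ofFinite _
  let π : Sylow p G → MulAction.orbitRel.Quotient
      (Subgroup.normalizer ((P : Subgroup G) : Set G)) (Sylow p G) := Quotient.mk''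
  have hπ : ∀ Q Q' : Sylow p G, π Q' = π Q ↔
      Q' ∈ MulAction.orbit ↥(Subgroup.normalizer ((P : Subgroup G) : Set G)) Q := by
    intro Q Q'
    rw [← MulAction.orbitRel_apply]
    exact Quotient.eq''
  have hcardQ : ∀ Q : Sylow p G, Nat.card Q = p := fun Q => (h66_card_sylow P Q).trans hctx.hP
  -- the fibre over the orbit of `P`
  have hfibP : ∀ Q : Sylow p G, π Q = π P → Q = P := by
    intro Q hQ
    obtain ⟨h, rfl⟩ := (hπ P Q).mp hQ
    show h • P = P
    rw [Subgroup.smul_def]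
    exact (h66_smul_eq_iff P _).mpr h.2
  -- `P` acts freely on the other Sylow subgroups
  have hfree : ∀ Q : Sylow p G, Q ≠ P → ∀ x ∈ (P : Subgroup G), x • Q = Q → x = 1 := by
    intro Q hQ x hx hxQ
    exact h66_free P hctx.hP Q hQ hx ((h66_smul_eq_iff Q x).mp hxQ)
  let F : MulAction.orbitRel.Quotient
      (Subgroup.normalizer ((P : Subgroup G) : Set G)) (Sylow p G) → ℕ :=
    fun ω => (Finset.univ.filter (fun Q : Sylow p G => π Q = ω)).card
  have hF : ∀ Q : Sylow p G, Q ≠ P → p ≤ F (π Q) := by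
    intro Q hQP
    have : Fintype ↥(P : Subgroup G) := Fintype.ofFinite _
    have hc : (Finset.univ : Finset ↥(P : Subgroup G)).card = p := by
      rw [Finset.card_univ, ← Nat.card_eq_fintype_card]; exact hctx.hP
    rw [← hc]
    apply Finset.card_le_card_of_injOn (fun x : ↥(P : Subgroup G) => (x : G) • Q)
    · intro x _
      simp only [Finset.coe_filter, Finset.mem_univ, true_and, Set.mem_ofPred_eq]
      rw [hπ]
      exact ⟨⟨(x : G), le_normalizer x.2⟩, rfl⟩
    · intro x _ y _ hxy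
      simp only at hxy
      have h1 : ((y : G)⁻¹ * (x : G)) • Q = Q := by
        rw [mul_smul, hxy, inv_smul_smul]
      have h2 := hfree Q hQP _ (mul_mem (inv_mem y.2) x.2) h1
      exact Subtype.ext (inv_mul_eq_one.mp h2).symm
  have hFP : F (π P) = 1 := by
    have : (Finset.univ.filter (fun Q : Sylow p G => π Q = π P)) = {P} := by
      ext Q
      simp only [Finset.mem_filter, Finset.mem_univ, true_and, Finset.mem_singleton]
      exact ⟨hfibP Q, fun h => by rw [h]⟩
    show (Finset.univ.filter (fun Q : Sylow p G => π Q = π P)).card = 1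
    rw [this, Finset.card_singleton]
  have hsum : Fintype.card (Sylow p G) = ∑ ω, F ω := by
    rw [← Finset.card_univ]
    exact Finset.card_eq_sum_card_fiberwise (fun _ _ => Finset.mem_coe.mpr (Finset.mem_univ _))
  have hΩ : Fintype.card (Sylow p G) = 1 + n * p := by
    rw [← Nat.card_eq_fintype_card]; exact hctx.hn
  have hsplit : F (π P) + ∑ ω ∈ Finset.univ.erase (π P), F ω = ∑ ω, F ω :=
    Finset.add_sum_erase _ _ (Finset.mem_univ _)
  have hge : ∀ ω ∈ Finset.univ.erase (π P), p ≤ F ω := by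
    intro ω hω
    obtain ⟨Q, rfl⟩ := Quotient.exists_rep ω
    have hQP : Q ≠ P := by
      rintro rfl
      exact (Finset.mem_erase.mp hω).1 rfl
    exact hF Q hQP
  have hcard_erase : (Finset.univ.erase (π P)).card = Fintype.card (MulAction.orbitRel.Quotient
      (Subgroup.normalizer ((P : Subgroup G) : Set G)) (Sylow p G)) - 1 := by
    rw [Finset.card_erase_of_mem (Finset.mem_univ _), Finset.card_univ]
  have hlow : (Finset.univ.erase (π P)).card * p ≤ ∑ ω ∈ Finset.univ.erase (π P), F ω := by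
    have h0 := Finset.card_nsmul_le_sum (Finset.univ.erase (π P)) F p hge
    rwa [smul_eq_mul] at h0
  have hsumE : ∑ ω ∈ Finset.univ.erase (π P), F ω = n * p := by
    have := hsplit
    rw [hFP, ← hsum, hΩ] at this
    omega
  have hcpos : 0 < Fintype.card (MulAction.orbitRel.Quotient
      (Subgroup.normalizer ((P : Subgroup G) : Set G)) (Sylow p G)) :=
    Fintype.card_pos_iff.mpr ⟨π P⟩
  rw [Nat.card_eq_fintype_card]
  constructor
  · rw [hsumE, hcard_erase] at hlow
    have := Nat.le_of_mul_le_mul_right hlow hp.pos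
    omega
  · intro heq Q hQP
    have hmem : π Q ∈ Finset.univ.erase (π P) :=
      Finset.mem_erase.mpr ⟨fun h => hQP (hfibP Q h), Finset.mem_univ _⟩
    have hsplit2 : F (π Q) + ∑ ω ∈ (Finset.univ.erase (π P)).erase (π Q), F ω =
        ∑ ω ∈ Finset.univ.erase (π P), F ω := Finset.add_sum_erase _ _ hmem
    have hge2 : ∀ ω ∈ (Finset.univ.erase (π P)).erase (π Q), p ≤ F ω :=
      fun ω hω => hge ω (Finset.mem_of_mem_erase hω)
    have hlow2 : (n + 1 - 1 - 1) * p ≤ ∑ ω ∈ (Finset.univ.erase (π P)).erase (π Q), F ω := by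
      have h0 := Finset.card_nsmul_le_sum ((Finset.univ.erase (π P)).erase (π Q)) F p hge2
      rwa [smul_eq_mul, Finset.card_erase_of_mem hmem, hcard_erase, heq] at h0
    have hFQ : F (π Q) = p := by
      have h1 := hF Q hQP
      have h2 : (n + 1 - 1 - 1) * p + p = n * p := by
        have hn1 := hctx.hn1
        obtain ⟨m, rfl⟩ : ∃ m, n = m + 1 := ⟨n - 1, by omega⟩
        simp only [Nat.add_sub_cancel]
        ring
      rw [hsumE] at hsplit2
      omega
    -- orbit-stabilizer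
    have : Fintype ↥(Subgroup.normalizer ((P : Subgroup G) : Set G)) := Fintype.ofFinite _
    have : Fintype ↥(MulAction.orbit ↥(Subgroup.normalizer ((P : Subgroup G) : Set G)) Q) :=
      Fintype.ofFinite _
    have : Fintype ↥(MulAction.stabilizer ↥(Subgroup.normalizer ((P : Subgroup G) : Set G)) Q) :=
      Fintype.ofFinite _
    have hos := MulAction.card_orbit_mul_card_stabilizer_eq_card_group
      ↥(Subgroup.normalizer ((P : Subgroup G) : Set G)) Q
    have horb : Fintype.card ↥(MulAction.orbit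
        ↥(Subgroup.normalizer ((P : Subgroup G) : Set G)) Q) = p := by
      have h4 : (MulAction.orbit ↥(Subgroup.normalizer ((P : Subgroup G) : Set G)) Q).toFinset =
          Finset.univ.filter (fun Q' : Sylow p G => π Q' = π Q) := by
        ext Q'
        simp only [Set.mem_toFinset, Finset.mem_filter, Finset.mem_univ, true_and]
        exact (hπ Q Q').symm
      calc Fintype.card ↥(MulAction.orbit
            ↥(Subgroup.normalizer ((P : Subgroup G) : Set G)) Q)
          = (MulAction.orbit ↥(Subgroup.normalizer ((P : Subgroup G) : Set G)) Q).toFinset.card :=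
            (Set.toFinset_card _).symm
        _ = F (π Q) := by rw [h4]
        _ = p := hFQ
    have hNc : Fintype.card ↥(Subgroup.normalizer ((P : Subgroup G) : Set G)) = e * p := by
      rw [← Nat.card_eq_fintype_card]; exact hctx.he
    rw [horb, hNc] at hos
    have hst : Fintype.card ↥(MulAction.stabilizer
        ↥(Subgroup.normalizer ((P : Subgroup G) : Set G)) Q) = e := by
      have h3 : p * Fintype.card ↥(MulAction.stabilizer
          ↥(Subgroup.normalizer ((P : Subgroup G) : Set G)) Q) = p * e := by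
        rw [hos, mul_comm]
      exact Nat.eq_of_mul_eq_mul_left hp.pos h3
    rw [← Nat.card_congr (h66StabEquiv P Q), Nat.card_eq_fintype_card]
    exact hst

end pieces

end cBrG3

section cBrG4
open Cfsg.Agent.Lib.helper66.Br
open Cfsg Cfsg.Agent.Lib.helper81 Cfsg.Agent.Lib.helper84.Br Subgroup
open scoped ComplexConjugate
section pieces

variable {G : Type u} [Group G] [Fintype G] {p : ℕ} [Fact p.Prime] {P : Sylow p G} {e n : ℕ}

theorem h66_sq_sub (a : ℕ) : (a + 1) * (a + 1) - (a + 1) = (a + 1) * a := by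
  rw [Nat.sub_eq_iff_eq_add (by nlinarith)]
  ring

/-- G4 (BLOCKS) : if all two-point stabilisers have order `e` then `n + 1 ∣ p (p - 1)`. -/
theorem blocks (hctx : Ctx0 G p P e n)
    (hK : ∀ Q : Sylow p G, Q ≠ P →
        Nat.card ↥(Subgroup.normalizer ((P : Subgroup G) : Set G) ⊓
          Subgroup.normalizer ((Q : Subgroup G) : Set G)) = e) :
    n + 1 ∣ p * (p - 1) := by
  classical
  have hp : p.Prime := Fact.out
  have : Fintype (Sylow p G) := Fintype.ofFinite _
  have hΩ : Fintype.card (Sylow p G) = 1 + n * p := by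
    rw [← Nat.card_eq_fintype_card]; exact hctx.hn
  have hbP : H66BH P e := ⟨hctx.hP, hctx.he, hK⟩
  have hb : ∀ R : Sylow p G, H66BH R e := fun R => h66_transfer P hbP R
  have hfc : ∀ Q Q' : Sylow p G, Q ≠ Q' →
      (Finset.univ.filter (fun Q'' : Sylow p G =>
        normalizer ((Q : Subgroup G) : Set G) ⊓ normalizer ((Q' : Subgroup G) : Set G) ≤
          normalizer ((Q'' : Subgroup G) : Set G))).card = n + 1 :=
    fun Q Q' h => h66_fixcount P hctx.hP hctx.hC (hb Q) hctx.he2 hΩ Q' (Ne.symm h)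
  let κ : Sylow p G × Sylow p G → Subgroup G :=
    fun q => normalizer ((q.1 : Subgroup G) : Set G) ⊓ normalizer ((q.2 : Subgroup G) : Set G)
  let T : Finset (Sylow p G × Sylow p G) := (Finset.univ : Finset (Sylow p G)).offDiag
  have hT : T.card = (n * p + 1) * (n * p) := by
    show (Finset.univ : Finset (Sylow p G)).offDiag.card = _
    rw [Finset.offDiag_card, Finset.card_univ, hΩ, add_comm 1 (n * p), h66_sq_sub]
  have hfw : T.card = ∑ K ∈ T.image κ, (T.filter (fun q => κ q = K)).card :=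
    Finset.card_eq_sum_card_fiberwise
      (fun q hq => Finset.mem_coe.mpr (Finset.mem_image_of_mem κ (Finset.mem_coe.mp hq)))
  have hfib : ∀ K ∈ T.image κ, (T.filter (fun q => κ q = K)).card = (n + 1) * n := by
    intro K hK'
    obtain ⟨⟨Q, Q'⟩, hq, rfl⟩ := Finset.mem_image.mp hK'
    have hQQ' : Q ≠ Q' := (Finset.mem_offDiag.mp hq).2.2
    have hset : T.filter (fun q => κ q = κ (Q, Q')) =
        (Finset.univ.filter (fun Q'' : Sylow p G =>
          normalizer ((Q : Subgroup G) : Set G) ⊓ normalizer ((Q' : Subgroup G) : Set G) ≤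
            normalizer ((Q'' : Subgroup G) : Set G))).offDiag := by
      ext ⟨Q₁, Q₂⟩
      simp only [Finset.mem_filter, Finset.mem_offDiag, Finset.mem_univ, true_and, T, κ]
      constructor
      · rintro ⟨hne, heq⟩
        refine ⟨?_, ?_, hne⟩
        · rw [← heq]; exact inf_le_left
        · rw [← heq]; exact inf_le_right
      · rintro ⟨h1, h2, hne⟩
        refine ⟨hne, ?_⟩
        symm
        apply Subgroup.eq_of_le_of_card_ge (le_inf h1 h2)
        rw [(hb Q₁).hK Q₂ (Ne.symm hne), (hb Q).hK Q' (Ne.symm hQQ')]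
    rw [hset, Finset.offDiag_card, hfc Q Q' hQQ', h66_sq_sub]
  rw [Finset.sum_congr rfl hfib, Finset.sum_const, smul_eq_mul, hT] at hfw
  -- hfw : (n p + 1) (n p) = b ((n + 1) n)
  have hn1 := hctx.hn1
  have hE : (n * p + 1) * p = (n + 1) * (T.image κ).card := by
    have h1 : ((n * p + 1) * p) * n = ((n + 1) * (T.image κ).card) * n := by
      calc ((n * p + 1) * p) * n = (n * p + 1) * (n * p) := by ring
        _ = (T.image κ).card * ((n + 1) * n) := hfw
        _ = ((n + 1) * (T.image κ).card) * n := by ring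
    exact Nat.eq_of_mul_eq_mul_right (by omega) h1
  have h2 : n + 1 ∣ (n + 1) * (p * p) - (n * p + 1) * p :=
    Nat.dvd_sub (dvd_mul_right _ _) ⟨_, hE⟩
  have h3 : (n + 1) * (p * p) - (n * p + 1) * p = p * (p - 1) := by
    obtain ⟨q, rfl⟩ : ∃ q, p = q + 1 := ⟨p - 1, by have := hp.pos; omega⟩
    simp only [Nat.add_sub_cancel]
    rw [Nat.sub_eq_iff_eq_add (by nlinarith)]
    ring
  rw [h3] at h2
  exact h2

end pieces

end cBrG4

end Cfsg.Agent.Lib.helper14.BRc
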