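import Mathlib
import Cfsg.Agent.Lib.helper14.FF7
import Cfsg.Agent.Lib.helper13.FaithModel
import Cfsg.Agent.Lib.helper13.ThompsonQuot
import Cfsg.Agent.Lib.helper13.Thompson2

/-!
helper14: generic lemmas for the coprime-operator statements (KS 9.3.8–9.3.10):
transport of best offenders along injective maps, characteristic `⟨Ω₁(Z(S))⟩`, coprime fixed
points, Frattini argument for `J(S)`, `SL₂(p)` sections from two generators.
-/

set_option autoImplicit false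
open Cfsg

namespace Cfsg.Agent.Lib.helper14

open scoped commutatorElement

section Generic

theorem ff8_map_inf_centralizer {G H : Type*} [Group G] [Group H] (f : G →* H)
    (hf : Function.Injective f) (V B : Subgroup G) :
    V.map f ⊓ Subgroup.centralizer ((B.map f : Subgroup H) : Set H) =
      (V ⊓ Subgroup.centralizer (B : Set G)).map f := by
  ext y
  rw [Subgroup.mem_inf, Subgroup.mem_map, Subgroup.mem_map]
  constructor
  · rintro ⟨⟨v, hv, rfl⟩, hc⟩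
    refine ⟨v, Subgroup.mem_inf.mpr ⟨hv, ?_⟩, rfl⟩
    rw [Subgroup.mem_centralizer_iff]
    intro b hb
    apply hf
    rw [map_mul, map_mul]
    exact Subgroup.mem_centralizer_iff.mp hc (f b) (Subgroup.mem_map_of_mem f hb)
  · rintro ⟨v, hv', rfl⟩
    obtain ⟨hv, hc⟩ := Subgroup.mem_inf.mp hv'
    refine ⟨⟨v, hv, rfl⟩, ?_⟩
    rw [Subgroup.mem_centralizer_iff]
    rintro _ ⟨b, hb, rfl⟩
    rw [← map_mul, ← map_mul, Subgroup.mem_centralizer_iff.mp hc b hb]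

theorem isBestOffenderOn_map_injective {G H : Type*} [Group G] [Group H] {p : ℕ} (f : G →* H)
    (hf : Function.Injective f) {V A : Subgroup G} (hA : IsBestOffenderOn p V A) :
    IsBestOffenderOn p (V.map f) (A.map f) := by
  obtain ⟨h1, h2, h3⟩ := hA
  refine ⟨?_, ?_, ?_⟩
  · intro B' hB'
    have hB'r : B' ≤ f.range := hB'.trans (Subgroup.map_le_range f A)
    obtain ⟨B, rfl⟩ : ∃ B : Subgroup G, B' = B.map f :=
      ⟨B'.comap f, (Subgroup.map_comap_eq_self hB'r).symm⟩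
    have hBA : B ≤ A := (Subgroup.map_le_map_iff_of_injective hf).mp hB'
    have := h1 B hBA
    rw [ff8_map_inf_centralizer f hf, ff8_map_inf_centralizer f hf,
      Subgroup.card_map_of_injective hf, Subgroup.card_map_of_injective hf,
      Subgroup.card_map_of_injective hf, Subgroup.card_map_of_injective hf]
    exact this
  · rw [← Subgroup.map_commutator]
    rintro _ ⟨c, hc, rfl⟩
    have hc' := h2 hc
    rw [Subgroup.mem_centralizer_iff]
    rintro _ ⟨v, hv, rfl⟩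
    rw [← map_mul, ← map_mul, Subgroup.mem_centralizer_iff.mp hc' v hv]
  · rintro _ ⟨a, ha, rfl⟩
    have ha' := h3 a ha
    rw [← map_pow, Subgroup.mem_centralizer_iff]
    rintro _ ⟨v, hv, rfl⟩
    rw [← map_mul, ← map_mul, Subgroup.mem_centralizer_iff.mp ha' v hv]

theorem omegaZ_characteristic (p : ℕ) [Fact p.Prime] (K : Type*) [Group K] [Finite K] :
    (⨆ S : Sylow p K, Cfsg.omegaOne p ((S : Subgroup K) ⊓
      Subgroup.centralizer ((S : Subgroup K) : Set K))).Characteristic := by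
  rw [Subgroup.characteristic_iff_map_le]
  intro φ
  rw [Subgroup.map_iSup]
  apply iSup_le
  intro S
  have h1 := Cfsg.Agent.Lib.helper13.omegaOne_center_map_of_injOn (p := p) φ.toMonoidHom
    (S : Subgroup K) (φ.injective.injOn)
  rw [← h1, ← Sylow.coe_mapSurjective (f := φ.toMonoidHom) φ.surjective S]
  exact le_iSup (fun S : Sylow p K => Cfsg.omegaOne p ((S : Subgroup K) ⊓
    Subgroup.centralizer ((S : Subgroup K) : Set K))) (S.mapSurjective φ.surjective)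

theorem pCore_map_eq_bot {K M : Type*} [Group K] [Group M] [Finite M] {p : ℕ} [Fact p.Prime]
    (ρ : K →* M) (J : Subgroup K) [hJ : J.Normal]
    (hD : ∀ D : Subgroup K, D.Normal → ρ.ker ≤ D → (∃ k : ℕ, ρ.ker.relIndex D = p ^ k) →
      D = ρ.ker) :
    Cfsg.pCore p ↥(J.map ρ) = ⊥ := by
  have hR'p : IsPGroup p ((Cfsg.pCore p ↥(J.map ρ)).map (J.map ρ).subtype) :=
    Cfsg.Agent.Lib.helper27.map_pCore_isPGroup p (J.map ρ)
  have hR'H : (Cfsg.pCore p ↥(J.map ρ)).map (J.map ρ).subtype ≤ J.map ρ :=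
    Subgroup.map_subtype_le _
  generalize hR : (Cfsg.pCore p ↥(J.map ρ)).map (J.map ρ).subtype = R at hR'p hR'H
  have hnorm : ∀ k : K, ρ k ∈ Subgroup.normalizer (R : Set M) := by
    intro k
    rw [← hR]
    apply Cfsg.Agent.Lib.helper27.normalizer_le_normalizer_map_subtype_of_characteristic
      (J.map ρ) (Cfsg.pCore p ↥(J.map ρ))
    apply Subgroup.le_normalizer_map ρ
    refine ⟨k, ?_, rfl⟩
    rw [SetLike.mem_coe, Subgroup.mem_normalizer_iff]
    intro h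
    exact ⟨fun hh => hJ.conj_mem h hh k, fun hh => by
      have := hJ.conj_mem _ hh k⁻¹
      have e : k⁻¹ * (k * h * k⁻¹) * k⁻¹⁻¹ = h := by group
      rwa [e] at this⟩
  have hDn : (R.comap ρ).Normal := by
    constructor
    intro d hd k
    rw [Subgroup.mem_comap] at hd ⊢
    rw [map_mul, map_mul, map_inv]
    exact (Subgroup.mem_normalizer_iff.mp (hnorm k) _).mp hd
  have hker : ρ.ker ≤ R.comap ρ := by
    intro c hc
    rw [Subgroup.mem_comap, MonoidHom.mem_ker.mp hc]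
    exact R.one_mem
  have hmap : (R.comap ρ).map ρ = R :=
    Subgroup.map_comap_eq_self (hR'H.trans (Subgroup.map_le_range ρ J))
  have h1 := hD _ hDn hker (by
    obtain ⟨k, hk⟩ := hR'p.exists_card_eq
    exact ⟨k, by rw [Subgroup.relIndex_ker, hmap, hk]⟩)
  have hRbot : R = ⊥ := by
    rw [← hmap, h1, eq_bot_iff]
    rintro _ ⟨c, hc, rfl⟩
    exact Subgroup.mem_bot.mpr (MonoidHom.mem_ker.mp hc)
  rw [← hR] at hRbot
  exact (Subgroup.map_eq_bot_iff_of_injective _ (Subgroup.subtype_injective _)).mp hRbot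

theorem exists_fixed_of_coprime {G : Type*} [Group G] {q : ℕ} [Fact q.Prime]
    (X : Subgroup G) (hXq : IsPGroup q X) (Ω : Set G)
    (hΩ : ∀ x ∈ X, ∀ g ∈ Ω, x * g * x⁻¹ ∈ Ω) (hcard : ¬ q ∣ Nat.card Ω) :
    ∃ g ∈ Ω, ∀ x ∈ X, x * g * x⁻¹ = g := by
  let _ : MulAction ↥X ↥Ω :=
    { smul := fun x g => ⟨(x : G) * g * (x : G)⁻¹, hΩ x x.2 g g.2⟩
      one_smul := fun g => Subtype.ext (by
        show ((1 : ↥X) : G) * g * ((1 : ↥X) : G)⁻¹ = g
        simp)
      mul_smul := fun x y g => Subtype.ext (by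
        show ((x * y : ↥X) : G) * g * ((x * y : ↥X) : G)⁻¹ =
          (x : G) * ((y : G) * g * (y : G)⁻¹) * (x : G)⁻¹
        simp only [Subgroup.coe_mul]; group) }
  obtain ⟨g, hg⟩ := hXq.nonempty_fixed_point_of_prime_not_dvd_card ↥Ω hcard
  refine ⟨g, g.2, fun x hx => ?_⟩
  have := hg ⟨x, hx⟩
  exact congrArg Subtype.val this

theorem frattini_thompson {K : Type*} [Group K] [Finite K] {p : ℕ} [Fact p.Prime]
    (N : Subgroup K) [hN : N.Normal] (hJN : Cfsg.thompsonSubgroup p K ≤ N) (S : Sylow p K) :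
    Subgroup.normalizer (Cfsg.thompsonSubgroupOf p (S : Subgroup K) : Set K) ⊔ N = ⊤ := by
  have hRp : IsPGroup p ↥(((S : Subgroup K) ⊓ N).subgroupOf N) := by
    rintro ⟨n, hn⟩
    obtain ⟨k, hk⟩ := S.isPGroup' ⟨(n : K), (Subgroup.mem_subgroupOf.mp hn).1⟩
    refine ⟨k, ?_⟩
    apply Subtype.ext; apply Subtype.ext
    have := congrArg Subtype.val hk
    simpa using this
  obtain ⟨P, hP⟩ := hRp.exists_le_sylow
  have hRpG : IsPGroup p ↥((P : Subgroup N).map N.subtype) := P.isPGroup'.map N.subtype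
  obtain ⟨g, hg⟩ := Cfsg.Agent.Lib.helper13.exists_conj_map_le_sylow hRpG S
  have hRN : (P : Subgroup N).map N.subtype ≤ N := Subgroup.map_subtype_le _
  have h1 : ((P : Subgroup N).map N.subtype).map (MulAut.conj g).toMonoidHom ≤
      (S : Subgroup K) ⊓ N := by
    refine le_inf hg ?_
    rintro _ ⟨r, hr, rfl⟩
    exact hN.conj_mem r (hRN hr) g
  have h2 : (S : Subgroup K) ⊓ N ≤ (P : Subgroup N).map N.subtype := by
    have := Subgroup.map_mono (f := N.subtype) hP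
    rwa [Subgroup.map_subgroupOf_eq_of_le inf_le_right] at this
  have h3 : (S : Subgroup K) ⊓ N = (P : Subgroup N).map N.subtype := by
    apply Subgroup.eq_of_le_of_card_ge h2
    rw [← card_cj g ((P : Subgroup N).map N.subtype)]
    exact Subgroup.card_le_of_le h1
  have h4 := Sylow.normalizer_sup_eq_top P
  rw [← h3] at h4
  have hJS : Cfsg.thompsonSubgroupOf p (S : Subgroup K) ≤ (S : Subgroup K) ⊓ N := by
    refine le_inf (Cfsg.Agent.Lib.helper13.thompsonSubgroupOf_le_self _) (le_trans ?_ hJN)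
    rw [Cfsg.Agent.Lib.helper13.thompsonSubgroup_eq_iSup_sylow]
    exact le_iSup (fun S : Sylow p K => Cfsg.thompsonSubgroupOf p (S : Subgroup K)) S
  have h5 := Cfsg.Agent.Lib.helper13.normalizer_le_normalizer_thompsonSubgroupOf p
    ((S : Subgroup K) ⊓ N)
  rw [Cfsg.Agent.Lib.helper13.thompsonSubgroupOf_eq_of_le inf_le_left hJS] at h5
  rw [eq_top_iff, ← h4]
  exact sup_le_sup_right h5 N

theorem isPGroup_zpowers {G : Type*} [Group G] {p : ℕ} {x : G} {a : ℕ} (hx : x ^ p ^ a = 1) :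
    IsPGroup p (Subgroup.zpowers x) := by
  rintro ⟨y, hy⟩
  obtain ⟨k, rfl⟩ := Subgroup.mem_zpowers_iff.mp hy
  refine ⟨a, Subtype.ext ?_⟩
  simp only [Subgroup.coe_pow, Subgroup.coe_one]
  rw [← zpow_natCast, ← zpow_mul, mul_comm, zpow_mul, zpow_natCast, hx, one_zpow]

theorem exists_pElement_lift {K M : Type*} [Group K] [Finite K] [Group M] {p : ℕ}
    [hp : Fact p.Prime] (ρ : K →* M) {j : K} (hj : ρ j ^ p = 1) :
    ∃ k : K, IsPGroup p ↥(Subgroup.zpowers k) ∧ ρ k = ρ j := by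
  obtain ⟨a, n', hn', hn⟩ := Nat.exists_eq_pow_mul_and_not_dvd (orderOf_pos j).ne' p hp.out.ne_one
  have hcop : (Nat.card ↥(Subgroup.zpowers (ρ j))).Coprime n' := by
    rw [Nat.card_zpowers]
    exact Nat.Coprime.coprime_dvd_left (orderOf_dvd_of_pow_eq_one hj)
      ((Nat.Prime.coprime_iff_not_dvd hp.out).mpr hn')
  obtain ⟨y, hy⟩ := (powCoprime hcop).surjective ⟨ρ j, Subgroup.mem_zpowers _⟩
  have hy' : (y : M) ^ n' = ρ j := congrArg Subtype.val hy
  obtain ⟨s, hs⟩ := Subgroup.mem_zpowers_iff.mp y.2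
  refine ⟨(j ^ s) ^ n', isPGroup_zpowers (a := a) ?_, ?_⟩
  · rw [← pow_mul, ← zpow_natCast, ← zpow_mul, mul_comm, zpow_mul, zpow_natCast, mul_comm, ← hn,
      pow_orderOf_eq_one, one_zpow]
  · rw [map_pow, map_zpow, hs, hy']

open Matrix in
theorem sl2_section_of_gens {G : Type*} [Group G] [Finite G] {p : ℕ} [hp : Fact p.Prime]
    (W T : Subgroup G) (hWc : ∀ u ∈ W, ∀ v ∈ W, u * v = v * u) (hWp : ∀ w ∈ W, w ^ p = 1)
    (hWcard : Nat.card W = p ^ 2) (hTW : T ≤ Subgroup.normalizer (W : Set G)) {g₁ g₂ w : G}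
    (hg₁ : g₁ ∈ T) (hg₂ : g₂ ∈ T) (hw : w ∈ W) (h1 : g₁ * w * g₁⁻¹ = w)
    (h2 : g₁ * (g₂⁻¹ * w * g₂) * g₁⁻¹ ≠ g₂⁻¹ * w * g₂)
    (h3 : g₁ ^ p ∈ Subgroup.centralizer (W : Set G)) :
    ∃ D : Subgroup G, D ≤ T ∧ ∃ hn : ((Subgroup.centralizer (W : Set G)).subgroupOf D).Normal,
      Nonempty ((↥D ⧸ (Subgroup.centralizer (W : Set G)).subgroupOf D) ≃*
        Matrix.SpecialLinearGroup (Fin 2) (ZMod p)) := by
  have : NeZero p := ⟨hp.out.ne_zero⟩
  obtain ⟨φ, hφ⟩ := exists_plane_hom (p := p) W hWc hWp hWcard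
  obtain ⟨ψ, hψd⟩ : ∃ ψ : ↥T →* GL (Fin 2) (ZMod p), ψ = φ.comp (Subgroup.inclusion hTW) :=
    ⟨_, rfl⟩
  have hψ1 : ∀ t : ↥T, ψ t = 1 ↔ (t : G) ∈ Subgroup.centralizer (W : Set G) := fun t => by
    rw [hψd]; exact hφ _
  have hSL : (Matrix.SpecialLinearGroup.toGL :
      Matrix.SpecialLinearGroup (Fin 2) (ZMod p) →* GL (Fin 2) (ZMod p)).range ≤ ψ.range := by
    have hx : ψ ⟨g₁, hg₁⟩ ^ p = 1 := by
      rw [← map_pow, hψ1]; exact h3
    apply Cfsg.Agent.Lib.helper88.sl_range_le_of_pgroup p ψ.range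
      (Subgroup.zpowers (ψ ⟨g₁, hg₁⟩)) (isPGroup_zpowers (a := 1) (by rw [pow_one]; exact hx))
      (Subgroup.zpowers_le.mpr ⟨_, rfl⟩) (ψ ⟨g₁, hg₁⟩) (ψ ⟨g₂, hg₂⟩) (Subgroup.mem_zpowers _)
      ⟨_, rfl⟩
    intro hmem
    obtain ⟨k, hk⟩ := Subgroup.mem_zpowers_iff.mp hmem
    have hc : ψ ((⟨g₂, hg₂⟩ : ↥T) * ⟨g₁, hg₁⟩ * (⟨g₂, hg₂⟩ : ↥T)⁻¹ * ((⟨g₁, hg₁⟩ : ↥T) ^ k)⁻¹) = 1 := by
      rw [map_mul, map_mul, map_mul, map_inv, map_inv, map_zpow, ← hk]; group
    rw [hψ1] at hc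
    have hc' : g₂ * g₁ * g₂⁻¹ * (g₁ ^ k)⁻¹ ∈ Subgroup.centralizer (W : Set G) := by
      simpa using hc
    have e1 : w * (g₂ * g₁ * g₂⁻¹ * (g₁ ^ k)⁻¹) = (g₂ * g₁ * g₂⁻¹ * (g₁ ^ k)⁻¹) * w :=
      Subgroup.mem_centralizer_iff.mp hc' w hw
    have e2 : Commute g₁ w := by
      show g₁ * w = w * g₁
      calc g₁ * w = (g₁ * w * g₁⁻¹) * g₁ := by group
        _ = w * g₁ := by rw [h1]
    have e3 : (g₁ ^ k) * w = w * (g₁ ^ k) := (e2.zpow_left k).eq
    apply h2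
    have e4 : (g₂ * g₁ * g₂⁻¹) * w = w * (g₂ * g₁ * g₂⁻¹) := by
      calc (g₂ * g₁ * g₂⁻¹) * w = (g₂ * g₁ * g₂⁻¹ * (g₁ ^ k)⁻¹) * ((g₁ ^ k) * w) := by group
        _ = (g₂ * g₁ * g₂⁻¹ * (g₁ ^ k)⁻¹) * (w * (g₁ ^ k)) := by rw [e3]
        _ = ((g₂ * g₁ * g₂⁻¹ * (g₁ ^ k)⁻¹) * w) * (g₁ ^ k) := by group
        _ = (w * (g₂ * g₁ * g₂⁻¹ * (g₁ ^ k)⁻¹)) * (g₁ ^ k) := by rw [e1]
        _ = w * (g₂ * g₁ * g₂⁻¹) := by group
    calc g₁ * (g₂⁻¹ * w * g₂) * g₁⁻¹ = g₂⁻¹ * ((g₂ * g₁ * g₂⁻¹) * w) * g₂ * g₁⁻¹ := by group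
      _ = g₂⁻¹ * (w * (g₂ * g₁ * g₂⁻¹)) * g₂ * g₁⁻¹ := by rw [e4]
      _ = g₂⁻¹ * w * g₂ := by group
  have hDT : ((Matrix.SpecialLinearGroup.toGL :
      Matrix.SpecialLinearGroup (Fin 2) (ZMod p) →* GL (Fin 2) (ZMod p)).range.comap ψ).map
      T.subtype ≤ T := Subgroup.map_subtype_le _
  generalize hDd : ((Matrix.SpecialLinearGroup.toGL :
      Matrix.SpecialLinearGroup (Fin 2) (ZMod p) →* GL (Fin 2) (ZMod p)).range.comap ψ).map
      T.subtype = D at hDT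
  have hDN : D ≤ Subgroup.normalizer (W : Set G) := hDT.trans hTW
  have hker : (φ.comp (Subgroup.inclusion hDN)).ker =
      (Subgroup.centralizer (W : Set G)).subgroupOf D := by
    ext d
    rw [MonoidHom.mem_ker, Subgroup.mem_subgroupOf]
    exact hφ _
  have hrange : (φ.comp (Subgroup.inclusion hDN)).range =
      (Matrix.SpecialLinearGroup.toGL :
        Matrix.SpecialLinearGroup (Fin 2) (ZMod p) →* GL (Fin 2) (ZMod p)).range := by
    ext s
    constructor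
    · rintro ⟨d, rfl⟩
      have hd : (d : G) ∈ ((Matrix.SpecialLinearGroup.toGL :
          Matrix.SpecialLinearGroup (Fin 2) (ZMod p) →* GL (Fin 2) (ZMod p)).range.comap ψ).map
          T.subtype := by
        rw [hDd]; exact d.2
      obtain ⟨t, ht, htd⟩ := hd
      have e : (φ.comp (Subgroup.inclusion hDN)) d = ψ t := by
        rw [hψd]
        show φ _ = φ _
        congr 1
        exact Subtype.ext htd.symm
      rw [e]
      exact ht
    · intro hs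
      obtain ⟨t, rfl⟩ := hSL hs
      have htD : (t : G) ∈ D := by
        rw [← hDd]
        exact ⟨t, hs, rfl⟩
      refine ⟨⟨(t : G), htD⟩, ?_⟩
      rw [hψd]
      rfl
  have hn : ((Subgroup.centralizer (W : Set G)).subgroupOf D).Normal :=
    hker ▸ (φ.comp (Subgroup.inclusion hDN)).normal_ker
  refine ⟨D, hDT, hn, ⟨?_⟩⟩
  exact ((QuotientGroup.quotientMulEquivOfEq hker.symm).trans
    (QuotientGroup.quotientKerEquivRange (φ.comp (Subgroup.inclusion hDN)))).trans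
    ((MulEquiv.subgroupCongr hrange).trans
      (MonoidHom.ofInjective Matrix.SpecialLinearGroup.toGL_injective).symm)

end Generic

end Cfsg.Agent.Lib.helper14
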