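import Mathlib
import Cfsg.Prelude.Def_Solvable
import Cfsg.Prelude.Def_Amalgam
import Cfsg.Agent.Lib.helper14.PConstrained2
import Cfsg.Agent.Lib.helper14.FF8
import Cfsg.Agent.Lib.helper60.HallHigman
import Cfsg.Agent.Lib.helper1.Coprime
import Cfsg.Agent.Lib.helper40.Cores2

/-!
# Core control for centralizers under coprime action (Flavell type)

`core_ctl`: `H = O_{p'}(G)`, `P` a Sylow `p`-subgroup, `[H, P]` solvable, `z` a `q`-element of
`C_H(P)`. Then `(O_{q'}(C_H(z)) ∩ O_{q'}(C_H(P))) [O_{q'}(C_H(z)), P] ≤ O_{q'}(H)`.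
-/

set_option autoImplicit false

namespace Cfsg.Agent.Lib.helper14

open Subgroup Cfsg.Agent.Lib.helper40

universe u

theorem cc_inf_eq_bot {X : Type*} [Group X] [Finite X] {q : ℕ} [Fact q.Prime]
    {K Q : Subgroup X} (hK : (Nat.card K).Coprime q) (hQ : IsPGroup q Q) : K ⊓ Q = ⊥ := by
  obtain ⟨n, hn⟩ := hQ.exists_card_eq
  have h : (Nat.card K).Coprime (Nat.card Q) := by rw [hn]; exact Nat.Coprime.pow_right n hK
  exact disjoint_iff.mp (Subgroup.disjoint_of_coprime_natCard h)

theorem cc_coprime_of_pow {X : Type*} [Group X] [Finite X] {q : ℕ} [hq : Fact q.Prime]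
    {A : Subgroup X} (m : ℕ) (hm : m.Coprime q) (h : ∀ x ∈ A, x ^ m = 1) :
    (Nat.card A).Coprime q := by
  rw [Nat.coprime_comm, Nat.Prime.coprime_iff_not_dvd hq.out]
  intro hdvd
  obtain ⟨x, hx⟩ := exists_prime_orderOf_dvd_card' (G := ↥A) q hdvd
  have h1 : (x : X) ^ m = 1 := h x x.2
  have h2 : x ^ m = 1 := Subtype.ext (by simpa using h1)
  have h3 : q ∣ m := by rw [← hx]; exact orderOf_dvd_of_pow_eq_one h2
  exact (Nat.Prime.coprime_iff_not_dvd hq.out).mp hm.symm h3

/-- The abstract statement in a group in which `O_{q'}(H) = 1`. -/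
theorem core_ctl_aux {X : Type u} [Group X] [Finite X] {p q : ℕ} [hp : Fact p.Prime]
    [hq : Fact q.Prime]
    (H P : Subgroup X) [hHn : H.Normal] (hHp : (Nat.card H).Coprime p) (hP : IsPGroup p P)
    (hsol : Group.IsSolvable ↥(⁅H, P⁆ : Subgroup X))
    (hO : ∀ N : Subgroup X, N ≤ H → H ≤ normalizer (N : Set X) → (Nat.card N).Coprime q → N = ⊥)
    (z : X) (hzH : z ∈ H) (hz : IsPGroup q (zpowers z))
    (K Y : Subgroup X) (hKH : K ≤ H) (hKq : (Nat.card K).Coprime q)
    (hKz : ∀ k ∈ K, k * z = z * k)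
    (hKn : H ⊓ centralizer ({z} : Set X) ≤ normalizer (K : Set X))
    (hKP : P ≤ normalizer (K : Set X))
    (hYH : Y ≤ H) (hYq : (Nat.card Y).Coprime q)
    (hYn : H ⊓ centralizer (P : Set X) ≤ normalizer (Y : Set X)) :
    K ⊓ Y = ⊥ ∧ ⁅K, P⁆ = ⊥ := by
  set R : Subgroup X := ⁅H, P⁆ with hRdef
  have hRH : R ≤ H := Subgroup.commutator_le_left H P
  have hHR : H ≤ normalizer (R : Set X) :=
    Cfsg.Agent.Lib.helper1.left_le_normalizer_commutator H P
  have hPH : P ≤ normalizer (H : Set X) := by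
    rw [Subgroup.normalizer_eq_top_iff.mpr hHn]; exact le_top
  have hPR : P ≤ normalizer (R : Set X) :=
    Cfsg.Agent.Lib.helper1.right_le_normalizer_commutator hPH
  have hOR : Cfsg.pPrimeCore q ↥R = ⊥ := by
    have h1 := hO ((Cfsg.pPrimeCore q ↥R).map R.subtype) ((Subgroup.map_subtype_le _).trans hRH)
      (hHR.trans (normalizer_le_normalizer_pPrimeCore_map_subtype q R))
      (pPrimeCore_map_subtype_card_coprime q R)
    exact (Subgroup.map_eq_bot_iff_of_injective _ R.subtype_injective).mp h1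
  set Q : Subgroup X := Cfsg.pCoreOf q R with hQdef
  have hQR : Q ≤ R := Subgroup.map_subtype_le _
  have hQq : IsPGroup q Q := (pCore_isPGroup q ↥R).map _
  have hCQ : R ⊓ centralizer (Q : Set X) ≤ Q := by
    haveI := hsol
    have h1 := Cfsg.Agent.Lib.helper60.centralizer_pCore_le (G := ↥R) q hOR
    intro x hx
    have hxR : x ∈ R := hx.1
    have h2 : (⟨x, hxR⟩ : ↥R) ∈ centralizer (Cfsg.pCore q ↥R : Set ↥R) := by
      rw [Subgroup.mem_centralizer_iff]
      intro y hy
      apply Subtype.ext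
      exact Subgroup.mem_centralizer_iff.mp hx.2 (y : X) ⟨y, hy, rfl⟩
    exact ⟨⟨x, hxR⟩, h1 h2, rfl⟩
  have hNQ : normalizer (R : Set X) ≤ normalizer (Q : Set X) :=
    Cfsg.Agent.Lib.helper54.normalizer_le_normalizer_pCoreOf q R
  have hHQ : H ≤ normalizer (Q : Set X) := hHR.trans hNQ
  have hPQ : P ≤ normalizer (Q : Set X) := hPR.trans hNQ
  have hKQ : K ⊓ Q = ⊥ := cc_inf_eq_bot hKq hQq
  -- `K` centralizes `Q`
  have hKcQ : ∀ k ∈ K, ∀ u ∈ Q, k * u = u * k := by
    intro k hk
    apply Cfsg.Agent.Lib.helper54.thompson_AxB (zpowers z) hz k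
      (Nat.Coprime.coprime_dvd_left (Subgroup.orderOf_dvd_natCard K hk) hKq) _ Q hQq
      (by rw [Subgroup.zpowers_le]; exact hHQ hzH) (hHQ (hKH hk))
    · intro u hu hcu
      have huH : u ∈ H := hRH (hQR hu)
      have huz : u ∈ centralizer ({z} : Set X) := by
        rw [Subgroup.mem_centralizer_iff]
        intro y hy
        rw [Set.mem_singleton_iff] at hy
        subst hy
        exact hcu y (Subgroup.mem_zpowers y)
      have huK : u ∈ normalizer (K : Set X) := hKn ⟨huH, huz⟩
      have h1 : u * k⁻¹ * u⁻¹ ∈ K :=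
        (Subgroup.mem_normalizer_iff.mp huK _).mp (Subgroup.inv_mem _ hk)
      have h2 : k * u * k⁻¹ ∈ Q := (Subgroup.mem_normalizer_iff.mp (hHQ (hKH hk)) _).mp hu
      have h3 : k * u * k⁻¹ * u⁻¹ ∈ K ⊓ Q := by
        refine ⟨?_, Subgroup.mul_mem _ h2 (Subgroup.inv_mem _ hu)⟩
        have e : k * u * k⁻¹ * u⁻¹ = k * (u * k⁻¹ * u⁻¹) := by group
        rw [e]; exact Subgroup.mul_mem _ hk h1
      rw [hKQ, Subgroup.mem_bot] at h3
      calc k * u = (k * u * k⁻¹ * u⁻¹) * (u * k) := by group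
        _ = u * k := by rw [h3, one_mul]
    · intro x hx
      obtain ⟨i, rfl⟩ := Subgroup.mem_zpowers_iff.mp hx
      exact (Commute.zpow_right (hKz k hk) i)
  have hKC : K ≤ centralizer (Q : Set X) := by
    intro k hk
    rw [Subgroup.mem_centralizer_iff]
    intro u hu
    exact (hKcQ k hk u hu).symm
  have hKR : K ⊓ R = ⊥ := by
    rw [eq_bot_iff]
    intro x hx
    have hxQ : x ∈ Q := hCQ ⟨hx.2, hKC hx.1⟩
    have h1 : x ∈ K ⊓ Q := ⟨hx.1, hxQ⟩
    rwa [hKQ] at h1
  refine ⟨?_, ?_⟩
  · -- `K ⊓ Y = ⊥`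
    set D : Subgroup X := H ⊓ centralizer (Q : Set X) with hDdef
    have hDH : D ≤ H := inf_le_left
    have hND : ∀ g : X, g ∈ normalizer (Q : Set X) → g ∈ normalizer (D : Set X) := by
      intro g hg
      apply mem_normalizer_inf
      · rw [Subgroup.normalizer_eq_top_iff.mpr hHn]; exact Subgroup.mem_top g
      · exact mem_normalizer_centralizer hg
    have hPD : P ≤ normalizer (D : Set X) := fun g hg => hND g (hPQ hg)
    have hHD : H ≤ normalizer (D : Set X) := fun g hg => hND g (hHQ hg)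
    have hcop : (Nat.card P).Coprime (Nat.card D) := by
      obtain ⟨n, hn⟩ := hP.exists_card_eq
      rw [hn]
      exact Nat.Coprime.pow_left n
        (Nat.Coprime.coprime_dvd_left (Subgroup.card_dvd_of_le hDH) hHp).symm
    have hPsol : Group.IsSolvable ↥P := by
      haveI := hP.isNilpotent
      exact IsNilpotent.to_isSolvable
    have hdec := Cfsg.Agent.Lib.helper1.commutator_sup_fixed P D hPD hcop (Or.inl hPsol)
    have hDPQ : ⁅D, P⁆ ≤ Q := by
      intro x hx
      have h1 : x ∈ D := Cfsg.Agent.Lib.helper1.commutator_le_of_le_normalizer hPD hx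
      have h2 : x ∈ R := Subgroup.commutator_mono hDH le_rfl hx
      exact hCQ ⟨h2, h1.2⟩
    set W : Subgroup X := Y ⊓ D with hWdef
    have hQW : Q ≤ normalizer (W : Set X) := by
      intro c hc
      apply Subgroup.centralizer_le_normalizer
      rw [Subgroup.mem_centralizer_iff]
      intro w hw
      have hwC : w ∈ centralizer (Q : Set X) := hw.2.2
      exact (Subgroup.mem_centralizer_iff.mp hwC c hc).symm
    have hDW : D ≤ normalizer (W : Set X) := by
      rw [← hdec]
      apply sup_le (hDPQ.trans hQW)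
      intro g hg
      apply mem_normalizer_inf
      · exact hYn ⟨hDH hg.1, hg.2⟩
      · exact Subgroup.le_normalizer hg.1
    have hWq : (Nat.card W).Coprime q :=
      Nat.Coprime.coprime_dvd_left (Subgroup.card_dvd_of_le inf_le_left) hYq
    have hW1 : W ≤ (Cfsg.pPrimeCore q ↥D).map D.subtype :=
      le_pPrimeCore_map_subtype inf_le_right hDW hWq
    have hN' : (Cfsg.pPrimeCore q ↥D).map D.subtype = ⊥ :=
      hO _ ((Subgroup.map_subtype_le _).trans hDH)
        (hHD.trans (normalizer_le_normalizer_pPrimeCore_map_subtype q D))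
        (pPrimeCore_map_subtype_card_coprime q D)
    rw [eq_bot_iff]
    intro x hx
    have hxW : x ∈ W := ⟨hx.2, hKH hx.1, hKC hx.1⟩
    have := hW1 hxW
    rwa [hN'] at this
  · -- `⁅K, P⁆ = ⊥`
    rw [eq_bot_iff, ← hKR]
    exact le_inf (Cfsg.Agent.Lib.helper1.commutator_le_of_le_normalizer hKP)
      (Subgroup.commutator_mono hKH le_rfl)


theorem core_ctl {G : Type u} [Group G] [Finite G] {p : ℕ} [Fact p.Prime]
    (P : Sylow p G)
    (hsol : Group.IsSolvable ↥⁅Cfsg.pPrimeCore p G, (P : Subgroup G)⁆)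
    {q : ℕ} [Fact q.Prime] (z : G) (hzH : z ∈ Cfsg.pPrimeCore p G)
    (hzP : z ∈ Subgroup.centralizer ((P : Subgroup G) : Set G))
    (hz : ∃ k : ℕ, orderOf z = q ^ k) :
    ((Cfsg.pPrimeCore q ↥(Cfsg.pPrimeCore p G ⊓ Subgroup.centralizer ({z} : Set G))).map
        (Cfsg.pPrimeCore p G ⊓ Subgroup.centralizer ({z} : Set G)).subtype ⊓
      (Cfsg.pPrimeCore q ↥(Cfsg.pPrimeCore p G ⊓ Subgroup.centralizer ((P : Subgroup G) : Set G))).map
        (Cfsg.pPrimeCore p G ⊓ Subgroup.centralizer ((P : Subgroup G) : Set G)).subtype) ⊔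
    ⁅(Cfsg.pPrimeCore q ↥(Cfsg.pPrimeCore p G ⊓ Subgroup.centralizer ({z} : Set G))).map
        (Cfsg.pPrimeCore p G ⊓ Subgroup.centralizer ({z} : Set G)).subtype, (P : Subgroup G)⁆ ≤
    (Cfsg.pPrimeCore q ↥(Cfsg.pPrimeCore p G)).map (Cfsg.pPrimeCore p G).subtype := by
  set H : Subgroup G := Cfsg.pPrimeCore p G with hHdef
  haveI hHn : H.Normal := pPrimeCore_normal' p G
  have hHp : (Nat.card H).Coprime p := pPrimeCore_card_coprime p G
  set Cz : Subgroup G := H ⊓ Subgroup.centralizer ({z} : Set G) with hCzdef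
  set CP : Subgroup G := H ⊓ Subgroup.centralizer ((P : Subgroup G) : Set G) with hCPdef
  set K : Subgroup G := (Cfsg.pPrimeCore q ↥Cz).map Cz.subtype with hKdef
  set Y : Subgroup G := (Cfsg.pPrimeCore q ↥CP).map CP.subtype with hYdef
  set O : Subgroup G := (Cfsg.pPrimeCore q ↥H).map H.subtype with hOdef
  have hOH : O ≤ H := Subgroup.map_subtype_le _
  haveI hOn : O.Normal := by
    rw [← Subgroup.normalizer_eq_top_iff, eq_top_iff]
    refine le_trans ?_ (normalizer_le_normalizer_pPrimeCore_map_subtype q H)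
    rw [Subgroup.normalizer_eq_top_iff.mpr hHn]
  have hOq : (Nat.card O).Coprime q := pPrimeCore_map_subtype_card_coprime q H
  have hOp : (Nat.card O).Coprime p :=
    Nat.Coprime.coprime_dvd_left (Subgroup.card_dvd_of_le hOH) hHp
  have hKCz : K ≤ Cz := Subgroup.map_subtype_le _
  have hYCP : Y ≤ CP := Subgroup.map_subtype_le _
  have hKq : (Nat.card K).Coprime q := pPrimeCore_map_subtype_card_coprime q Cz
  have hYq : (Nat.card Y).Coprime q := pPrimeCore_map_subtype_card_coprime q CP
  obtain ⟨kz, hkz⟩ := hz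
  have hzpow : z ^ q ^ kz = 1 := by rw [← hkz]; exact pow_orderOf_eq_one z
  have hzq : IsPGroup q (zpowers z) := isPGroup_zpowers hzpow
  set π : G →* G ⧸ O := QuotientGroup.mk' O with hπdef
  have hπs : Function.Surjective π := QuotientGroup.mk'_surjective O
  have hker : ∀ x : G, π x = 1 ↔ x ∈ O := fun x => QuotientGroup.eq_one_iff x
  -- lifting an element of `π H` to `H`
  have hlift : ∀ c : G, π c ∈ H.map π → c ∈ H := by
    intro c hc
    obtain ⟨h, hh, hhc⟩ := hc
    have h1 : π (h⁻¹ * c) = 1 := by rw [map_mul, map_inv, hhc, inv_mul_cancel]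
    have h2 : h⁻¹ * c ∈ H := hOH ((hker _).mp h1)
    have e : c = h * (h⁻¹ * c) := by group
    rw [e]; exact Subgroup.mul_mem _ hh h2
  haveI hH'n : (H.map π).Normal := Subgroup.Normal.map hHn π hπs
  have hsol' : Group.IsSolvable ↥(⁅H.map π, (P : Subgroup G).map π⁆ : Subgroup (G ⧸ O)) := by
    rw [← Subgroup.map_commutator]
    haveI := hsol
    exact Group.isSolvable_of_surjective
      (MonoidHom.subgroupMap_surjective π (⁅H, (P : Subgroup G)⁆ : Subgroup G))
  have hO' : ∀ N : Subgroup (G ⧸ O), N ≤ H.map π → H.map π ≤ normalizer (N : Set (G ⧸ O)) →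
      (Nat.card N).Coprime q → N = ⊥ := by
    intro N hNH hNn hNq
    set N₀ : Subgroup G := N.comap π ⊓ H with hN₀def
    have h1 : H ≤ normalizer (N₀ : Set G) := by
      intro h hh
      apply mem_normalizer_inf
      · apply Subgroup.le_normalizer_comap π
        exact hNn (Subgroup.mem_map_of_mem π hh)
      · exact Subgroup.le_normalizer hh
    have h2 : (Nat.card N₀).Coprime q := by
      apply cc_coprime_of_pow (Nat.card N * Nat.card O) (Nat.Coprime.mul_left hNq hOq)
      intro x hx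
      have hx1 : π x ∈ N := hx.1
      have hx2 : (π x) ^ Nat.card N = 1 := by
        have := pow_card_eq_one' (G := ↥N) (x := ⟨π x, hx1⟩)
        exact congrArg Subtype.val this
      have hx3 : x ^ Nat.card N ∈ O := by rw [← hker, map_pow]; exact hx2
      have hx4 : (x ^ Nat.card N) ^ Nat.card O = 1 := by
        have := pow_card_eq_one' (G := ↥O) (x := ⟨x ^ Nat.card N, hx3⟩)
        exact congrArg Subtype.val this
      rw [pow_mul]; exact hx4
    have h3 : N₀ ≤ O := le_pPrimeCore_map_subtype inf_le_right h1 h2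
    rw [eq_bot_iff]
    intro y hy
    obtain ⟨h, hh, rfl⟩ := hNH hy
    have : h ∈ N₀ := ⟨hy, hh⟩
    exact (hker h).mpr (h3 this)
  have hPnCz : (P : Subgroup G) ≤ normalizer (Cz : Set G) := by
    intro x hx
    apply mem_normalizer_inf
    · rw [Subgroup.normalizer_eq_top_iff.mpr hHn]; exact Subgroup.mem_top x
    · apply Subgroup.le_normalizer
      rw [Subgroup.mem_centralizer_iff]
      intro y hy
      rw [Set.mem_singleton_iff] at hy
      subst hy
      exact (Subgroup.mem_centralizer_iff.mp hzP x hx).symm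
  have hPK : (P : Subgroup G) ≤ normalizer (K : Set G) :=
    hPnCz.trans (normalizer_le_normalizer_pPrimeCore_map_subtype q Cz)
  have hmain := core_ctl_aux (X := G ⧸ O) (p := p) (q := q) (H.map π) ((P : Subgroup G).map π)
    (Nat.Coprime.coprime_dvd_left (Subgroup.card_map_dvd H π) hHp) (P.2.map π) hsol' hO'
    (π z) (Subgroup.mem_map_of_mem π hzH)
    (isPGroup_zpowers (a := kz) (by rw [← map_pow, hzpow, map_one]))
    (K.map π) (Y.map π) (Subgroup.map_mono (hKCz.trans inf_le_left))
    (Nat.Coprime.coprime_dvd_left (Subgroup.card_map_dvd K π) hKq)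
    (by
      rintro _ ⟨k, hk, rfl⟩
      have hkc : k ∈ Subgroup.centralizer ({z} : Set G) := (hKCz hk).2
      have := Subgroup.mem_centralizer_iff.mp hkc z (Set.mem_singleton z)
      rw [← map_mul, ← map_mul, this])
    (by
      intro y hy
      have hyc : y ∈ Subgroup.centralizer (((zpowers z).map π : Subgroup (G ⧸ O)) : Set (G ⧸ O)) := by
        rw [Subgroup.mem_centralizer_iff]
        rintro _ ⟨w, hw, rfl⟩
        obtain ⟨i, rfl⟩ := Subgroup.mem_zpowers_iff.mp hw
        have h1 : π z * y = y * π z :=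
          Subgroup.mem_centralizer_iff.mp hy.2 (π z) (Set.mem_singleton _)
        rw [map_zpow]
        exact (Commute.zpow_left h1 i)
      rw [← map_centralizer_of_coprime O hOq (zpowers z) hzq] at hyc
      obtain ⟨c, hc, rfl⟩ := hyc
      have hcH : c ∈ H := hlift c hy.1
      have hcz : c ∈ Subgroup.centralizer ({z} : Set G) := by
        rw [Subgroup.mem_centralizer_iff]
        intro w hw
        rw [Set.mem_singleton_iff] at hw
        subst hw
        exact Subgroup.mem_centralizer_iff.mp hc w (Subgroup.mem_zpowers w)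
      have hcK : c ∈ normalizer (K : Set G) :=
        le_normalizer_pPrimeCore_map_subtype q Cz ⟨hcH, hcz⟩
      exact Subgroup.le_normalizer_map π (Subgroup.mem_map_of_mem π hcK))
    ((Subgroup.map_mono hPK).trans (Subgroup.le_normalizer_map π))
    (Subgroup.map_mono (hYCP.trans inf_le_left))
    (Nat.Coprime.coprime_dvd_left (Subgroup.card_map_dvd Y π) hYq)
    (by
      intro y hy
      have hyc := hy.2
      rw [← map_centralizer_of_coprime O hOp (P : Subgroup G) P.2] at hyc
      obtain ⟨c, hc, rfl⟩ := hyc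
      have hcH : c ∈ H := hlift c hy.1
      have hcY : c ∈ normalizer (Y : Set G) :=
        le_normalizer_pPrimeCore_map_subtype q CP ⟨hcH, hc⟩
      exact Subgroup.le_normalizer_map π (Subgroup.mem_map_of_mem π hcY))
  apply sup_le
  · intro x hx
    have h1 : π x ∈ K.map π ⊓ Y.map π :=
      ⟨Subgroup.mem_map_of_mem π hx.1, Subgroup.mem_map_of_mem π hx.2⟩
    rw [hmain.1, Subgroup.mem_bot] at h1
    exact (hker x).mp h1
  · have h1 : (⁅K, (P : Subgroup G)⁆).map π = ⊥ := by
      rw [Subgroup.map_commutator]; exact hmain.2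
    have h2 := (Subgroup.map_eq_bot_iff _).mp h1
    rw [hπdef, QuotientGroup.ker_mk'] at h2
    exact h2

end Cfsg.Agent.Lib.helper14
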