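import Mathlib

/-!
# The arithmetic of the class equation of a subgroup of `SL₂(F)`

Pure counting: no groups here.
-/

set_option autoImplicit false

namespace Cfsg.Agent.Lib.helper14

/-- every class has at least a quarter of the elements -/
theorem class_weight {α : Type*} (X : α → Set α) (A : α → ℕ) (T : ℕ) (g : α)
    (hcls : ∃ m ε aa : ℕ, (ε = 1 ∨ ε = 2) ∧ 4 ≤ aa ∧ Even aa ∧ m * ε * aa = T ∧ aa = A g ∧
      (X g).ncard = m * (aa - 2)) : T ≤ 4 * (X g).ncard := by
  obtain ⟨m, ε, aa, hε, haa4, -, hmT, -, hX⟩ := hcls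
  have hX' : (X g).ncard + 2 * m = m * aa := by
    rw [hX]
    have : aa - 2 + 2 = aa := by omega
    calc m * (aa - 2) + 2 * m = m * (aa - 2 + 2) := by ring
      _ = m * aa := by rw [this]
  have h4 : 4 * m ≤ m * aa := by nlinarith
  rcases hε with rfl | rfl
  · have : m * aa = T := by rw [← hmT]; ring
    omega
  · have : 2 * (m * aa) = T := by rw [← hmT]; ring
    omega

theorem class_arith_core {α : Type*} [Finite α] (Sg W : Set α) (X : α → Set α) (A : α → ℕ)
    (T n pm db : ℕ) (hpm : 3 ≤ pm) (hn : 2 ≤ n) (hdb : 1 ≤ db)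
    (hT : T = n * (2 * pm * db))
    (hS : Sg.ncard + 2 * (1 + n * (pm - 1)) = T)
    (hsub : ∀ g ∈ Sg, X g ⊆ Sg)
    (hdisj : ∀ g ∈ Sg, ∀ h ∈ Sg, h ∉ X g → Disjoint (X g) (X h))
    (hcls : ∀ g ∈ Sg, ∃ m ε aa : ℕ, (ε = 1 ∨ ε = 2) ∧ 4 ≤ aa ∧ Even aa ∧ m * ε * aa = T ∧
      aa = A g ∧ (X g).ncard = m * (aa - 2))
    (hW1 : W ⊆ Sg) (hW2 : W.ncard + n * pm = n * pm * db)
    (hW3 : ∀ h ∈ Sg, h ∉ W → Disjoint W (X h)) :
    ∃ m ab : ℕ, 2 * m = 2 + (pm - 2) * n ∧ 2 * m * ab = n * pm * db := by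
  obtain ⟨q, rfl⟩ : ∃ q, pm = q + 3 := ⟨pm - 3, by omega⟩
  have e1 : q + 3 - 1 = q + 2 := rfl
  have e2 : q + 3 - 2 = q + 1 := rfl
  rw [e1] at hS
  rw [e2]
  -- atoms
  have hT' : T = 2 * (n * (q + 3) * db) := by rw [hT]; ring
  have hP : n * (q + 2) + n = n * (q + 3) := by ring
  have hP3 : 3 * n ≤ n * (q + 3) := by nlinarith
  have hDP : n * (q + 3) ≤ n * (q + 3) * db := Nat.le_mul_of_pos_right _ (by omega)
  have hq : (q + 1) * n + 2 * n = n * (q + 3) := by ring
  have hne : ∃ h ∈ Sg, h ∉ W := by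
    by_contra hcon
    push Not at hcon
    have := Set.ncard_le_ncard (s := Sg) (t := W) hcon
    omega
  obtain ⟨h, hh, hhW⟩ := hne
  obtain ⟨m, ε, aa, hε, haa4, haae, hmT, -, hX⟩ := hcls h hh
  have hd := hW3 h hh hhW
  have hle : W.ncard + (X h).ncard ≤ Sg.ncard := by
    rw [← Set.ncard_union_eq hd]
    exact Set.ncard_le_ncard (Set.union_subset hW1 (hsub h hh))
  obtain ⟨ab, rfl⟩ : ∃ ab, aa = 2 * ab := by
    obtain ⟨r, hr⟩ := haae
    exact ⟨r, by omega⟩
  have hX' : (X h).ncard + 2 * m = m * (2 * ab) := by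
    rw [hX]
    have : 2 * ab - 2 + 2 = 2 * ab := by omega
    calc m * (2 * ab - 2) + 2 * m = m * (2 * ab - 2 + 2) := by ring
      _ = m * (2 * ab) := by rw [this]
  have h4 : 4 * m ≤ m * (2 * ab) := by nlinarith
  rcases hε with rfl | rfl
  · exfalso
    have : m * (2 * ab) = T := by rw [← hmT]; ring
    omega
  · have hmT' : 2 * (m * (2 * ab)) = T := by rw [← hmT]; ring
    have hall : Sg ⊆ W ∪ X h := by
      by_contra hnot
      obtain ⟨h', hh', hn'⟩ := Set.not_subset.mp hnot
      rw [Set.mem_union, not_or] at hn'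
      have hd1 := hW3 h' hh' hn'.1
      have hd2 := hdisj h hh h' hh' hn'.2
      have hle3 : W.ncard + (X h).ncard + (X h').ncard ≤ Sg.ncard := by
        rw [← Set.ncard_union_eq hd,
          ← Set.ncard_union_eq (Set.disjoint_union_left.mpr ⟨hd1, hd2⟩)]
        exact Set.ncard_le_ncard
          (Set.union_subset (Set.union_subset hW1 (hsub h hh)) (hsub h' hh'))
      have w1 := class_weight X A T h (hcls h hh)
      have w2 := class_weight X A T h' (hcls h' hh')
      omega
    have heq : W.ncard + (X h).ncard = Sg.ncard :=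
      le_antisymm hle (by rw [← Set.ncard_union_eq hd]; exact Set.ncard_le_ncard hall)
    refine ⟨m, ab, ?_, ?_⟩
    · omega
    · have : 2 * m * ab = m * (2 * ab) := by ring
      omega

theorem class_arith {α : Type*} [Finite α] (Sg : Set α) (X : α → Set α) (A : α → ℕ)
    (T n pm db : ℕ) (hpm : 3 ≤ pm) (hn : 2 ≤ n) (hdb : 1 ≤ db)
    (hT : T = n * (2 * pm * db))
    (hS : Sg.ncard + 2 * (1 + n * (pm - 1)) = T)
    (hsub : ∀ g ∈ Sg, X g ⊆ Sg)
    (hdisj : ∀ g ∈ Sg, ∀ h ∈ Sg, h ∉ X g → Disjoint (X g) (X h))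
    (hcls : ∀ g ∈ Sg, ∃ m ε aa : ℕ, (ε = 1 ∨ ε = 2) ∧ 4 ≤ aa ∧ Even aa ∧ m * ε * aa = T ∧
      aa = A g ∧ (X g).ncard = m * (aa - 2))
    (hK : 1 < db → ∃ g ∈ Sg, A g = 2 * db) :
    ∃ m ab : ℕ, 2 * m = 2 + (pm - 2) * n ∧ 2 * m * ab = n * pm * db := by
  by_cases hdb1 : db = 1
  · subst hdb1
    exact class_arith_core Sg ∅ X A T n pm 1 hpm hn le_rfl hT hS hsub hdisj hcls
      (Set.empty_subset _) (by simp) (fun h _ _ => Set.empty_disjoint _)
  · obtain ⟨g, hg, hAg⟩ := hK (by omega)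
    obtain ⟨m, ε, aa, hε, haa4, -, hmT, haaA, hX⟩ := hcls g hg
    rw [hAg] at haaA
    subst haaA
    have hX' : (X g).ncard + 2 * m = m * (2 * db) := by
      rw [hX]
      have : 2 * db - 2 + 2 = 2 * db := by omega
      calc m * (2 * db - 2) + 2 * m = m * (2 * db - 2 + 2) := by ring
        _ = m * (2 * db) := by rw [this]
    have hT' : T = 2 * (n * pm * db) := by rw [hT]; ring
    obtain ⟨q, rfl⟩ : ∃ q, pm = q + 3 := ⟨pm - 3, by omega⟩
    have e1 : q + 3 - 1 = q + 2 := rfl
    have hP : n * (q + 2) + n = n * (q + 3) := by ring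
    have hP3 : 3 * n ≤ n * (q + 3) := by nlinarith
    have hDP : 2 * (n * (q + 3)) ≤ n * (q + 3) * db := by nlinarith
    have hε2 : ε = 2 := by
      rcases hε with rfl | rfl
      · exfalso
        have hm : m = n * (q + 3) := by
          have h1 : m * (2 * db) = (n * (q + 3)) * (2 * db) := by
            rw [hT] at hmT
            calc m * (2 * db) = m * 1 * (2 * db) := by ring
              _ = n * (2 * (q + 3) * db) := hmT
              _ = (n * (q + 3)) * (2 * db) := by ring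
          exact Nat.eq_of_mul_eq_mul_right (by omega) h1
        have hmd : m * (2 * db) = 2 * (n * (q + 3) * db) := by rw [hm]; ring
        have hne : ∃ h ∈ Sg, h ∉ X g := by
          by_contra hcon
          push Not at hcon
          have := Set.ncard_le_ncard (s := Sg) (t := X g) hcon
          rw [e1] at hS
          omega
        obtain ⟨h, hh, hhW⟩ := hne
        have hd := hdisj g hg h hh hhW
        have hle : (X g).ncard + (X h).ncard ≤ Sg.ncard := by
          rw [← Set.ncard_union_eq hd]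
          exact Set.ncard_le_ncard (Set.union_subset (hsub g hg) (hsub h hh))
        have w1 := class_weight X A T h (hcls h hh)
        rw [e1] at hS
        omega
      · rfl
    subst hε2
    refine class_arith_core Sg (X g) X A T n (q + 3) db hpm hn hdb hT hS hsub hdisj hcls
      (hsub g hg) ?_ (fun h hh hhW => hdisj g hg h hh hhW)
    have h1 : 2 * (m * (2 * db)) = T := by rw [← hmT]; ring
    have h2 : 2 * m = n * (q + 3) := by
      have h3 : (2 * m) * (2 * db) = (n * (q + 3)) * (2 * db) := by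
        rw [hT'] at h1
        calc (2 * m) * (2 * db) = 2 * (m * (2 * db)) := by ring
          _ = 2 * (n * (q + 3) * db) := h1
          _ = (n * (q + 3)) * (2 * db) := by ring
      exact Nat.eq_of_mul_eq_mul_right (by omega) h3
    have h4 : m * (2 * db) = n * (q + 3) * db := by
      calc m * (2 * db) = (2 * m) * db := by ring
        _ = n * (q + 3) * db := by rw [h2]
    omega

/-- the final arithmetic -/
theorem final_arith (n pm db m ab : ℕ) (hpm : 3 ≤ pm) (hodd : Odd pm) (hdvd : pm ∣ n - 1)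
    (hn : 2 ≤ n) (hdb1 : 1 ≤ db) (hdb : db ≤ pm - 1)
    (h1 : 2 * m = 2 + (pm - 2) * n) (h2 : 2 * m * ab = n * pm * db) :
    n = pm + 1 ∨ (pm = 3 ∧ n = 10) := by
  obtain ⟨q, rfl⟩ : ∃ q, pm = q + 2 := ⟨pm - 2, by omega⟩
  have e2 : q + 2 - 2 = q := rfl
  have e1 : q + 2 - 1 = q + 1 := rfl
  rw [e2] at h1
  rw [e1] at hdb
  obtain ⟨k, hk⟩ := hdvd
  have hnk : n = (q + 2) * k + 1 := by omega
  have hk1 : 1 ≤ k := by
    rcases Nat.eq_zero_or_pos k with h | h
    · subst h; omega
    · exact h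
  have hq1 : 1 ≤ q := by omega
  have hqodd : Odd q := by
    obtain ⟨r, hr⟩ := hodd
    exact ⟨r - 1, by omega⟩
  -- `ab (2 + q n) = n pm db`
  have h3 : ab * (2 + q * n) = n * (q + 2) * db := by rw [← h2, h1]; ring
  have hab : 1 ≤ ab := by
    rcases Nat.eq_zero_or_pos ab with h | h
    · subst h
      have : 0 < n * (q + 2) * db := by positivity
      omega
    · exact h
  -- `n ∣ 2 ab`
  have hdiv : n ∣ 2 * ab := by
    have h4 : n ∣ ab * (2 + q * n) := ⟨(q + 2) * db, by rw [h3]; ring⟩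
    have h5 : ab * (2 + q * n) = 2 * ab + n * (ab * q) := by ring
    rw [h5] at h4
    exact (Nat.dvd_add_left (dvd_mul_right n _)).mp h4
  obtain ⟨m', hm'⟩ := hdiv
  have h6 : m' * (2 + q * n) = 2 * (q + 2) * db := by
    have h7 : n * (m' * (2 + q * n)) = n * (2 * (q + 2) * db) := by
      calc n * (m' * (2 + q * n)) = (n * m') * (2 + q * n) := by ring
        _ = 2 * (ab * (2 + q * n)) := by rw [← hm']; ring
        _ = n * (2 * (q + 2) * db) := by rw [h3]; ring
    exact Nat.eq_of_mul_eq_mul_left (by omega) h7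
  have hm'1 : 1 ≤ m' := by
    rcases Nat.eq_zero_or_pos m' with h | h
    · subst h; omega
    · exact h
  -- `2 + q n ≥ (q+2)(q+1)`
  have hk' : (q + 2) * 1 ≤ (q + 2) * k := Nat.mul_le_mul_left _ hk1
  have h8 : (q + 2) * (q + 1) ≤ 2 + q * n := by
    rw [hnk]
    have h80 : q * ((q + 2) * 1 + 1) ≤ q * ((q + 2) * k + 1) := Nat.mul_le_mul_left _ (by omega)
    calc (q + 2) * (q + 1) = 2 + q * ((q + 2) * 1 + 1) := by ring
      _ ≤ 2 + q * ((q + 2) * k + 1) := by omega
  have h9 : 2 * (q + 2) * db ≤ 2 * ((q + 2) * (q + 1)) := by nlinarith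
  have hm'2 : m' ≤ 2 := by
    by_contra hcon
    push Not at hcon
    have : 3 * (2 + q * n) ≤ m' * (2 + q * n) := Nat.mul_le_mul_right _ hcon
    nlinarith
  interval_cases m'
  · -- `m' = 1`
    rw [one_mul, hnk] at h6
    -- `2 + q ((q+2) k + 1) = 2 (q+2) db`, so `1 + q k = 2 db`
    have h10 : 1 + q * k = 2 * db := by
      have h11 : (q + 2) * (1 + q * k) = (q + 2) * (2 * db) := by
        calc (q + 2) * (1 + q * k) = 2 + q * ((q + 2) * k + 1) := by ring
          _ = 2 * (q + 2) * db := h6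
          _ = (q + 2) * (2 * db) := by ring
      exact Nat.eq_of_mul_eq_mul_left (by omega) h11
    have hkodd : Odd k := by
      by_contra hke
      rw [Nat.not_odd_iff_even] at hke
      obtain ⟨r, hr⟩ := hke
      have : q * k = 2 * (q * r) := by rw [hr]; ring
      omega
    have h12 : q * k ≤ 2 * q + 1 := by omega
    have hk3 : k ≤ 3 := by
      by_contra hcon
      push Not at hcon
      have : q * 4 ≤ q * k := Nat.mul_le_mul_left _ hcon
      omega
    obtain ⟨r, hr⟩ := hkodd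
    have hr' : r = 0 ∨ r = 1 := by omega
    rcases hr' with rfl | rfl
    · left; rw [hnk, hr]; ring
    · right
      rw [hr] at h12
      have hq' : q = 1 := by omega
      subst hq'
      rw [hnk, hr]
      exact ⟨rfl, rfl⟩
  · -- `m' = 2`
    left
    have h100 : 2 * (q + 2) * db = 2 * ((q + 2) * db) := by ring
    have h10 : 2 + q * n = (q + 2) * db := by omega
    have h11 : (q + 2) * db ≤ (q + 2) * (q + 1) := Nat.mul_le_mul_left _ hdb
    have h110 : (q + 2) * (q + 1) = 2 + q * (q + 3) := by ring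
    have h12 : q * n ≤ q * (q + 3) := by omega
    have h13 : n ≤ q + 3 := Nat.le_of_mul_le_mul_left h12 (by omega)
    have h14 : q + 3 ≤ n := by omega
    omega

end Cfsg.Agent.Lib.helper14
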