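import Mathlib
import Cfsg.Agent.Lib.helper14.DicksonSL2
import Cfsg.Agent.Lib.helper14.DicksonCount
import Cfsg.Agent.Lib.helper14.DicksonArith

/-!
# The class equation of a subgroup of `SL₂(F)` containing unipotent elements

`Γ` is a finite group with an injective homomorphism `ι : Γ → SL₂(F)`, `F` a field of odd
characteristic `p`.  `Bs ι`, `Ps ι`, `Zs ι` are the preimages of the upper triangular subgroup, of the
upper unitriangular subgroup and of `{±1}`.
-/

set_option autoImplicit false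
set_option linter.unusedSimpArgs false

namespace Cfsg.Agent.Lib.helper14

open Matrix Subgroup Cfsg.Agent.Lib.helper47

section

variable {F : Type*} [Field F] {Γ : Type*} [Group Γ]
  (ι : Γ →* SpecialLinearGroup (Fin 2) F)

/-- the elements of `Γ` that are upper triangular -/
def Bs : Subgroup Γ := (borel F).comap ι

/-- the elements of `Γ` that are upper unitriangular -/
def Ps : Subgroup Γ := (unip F).comap ι

/-- the elements of `Γ` that are `±1` -/
def Zs : Subgroup Γ := (pmOne F).comap ι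

/-- the elements `x` of `Γ` with `(tr x)² ≠ 4` -/
def Sig : Set Γ := {x | str (ι x) ^ 2 ≠ 4}

variable {ι}

theorem mem_Bs {x : Γ} : x ∈ Bs ι ↔ (ι x).1 1 0 = 0 := Iff.rfl

theorem mem_Ps {x : Γ} : x ∈ Ps ι ↔ ∃ μ : F, uMat μ = ι x := Iff.rfl

theorem mem_Ps_iff {x : Γ} : x ∈ Ps ι ↔ (ι x).1 1 0 = 0 ∧ str (ι x) = 2 := mem_unip_iff

theorem mem_Zs {x : Γ} : x ∈ Zs ι ↔ ι x = 1 ∨ ι x = negOne F := Iff.rfl

theorem mem_Sig {x : Γ} : x ∈ Sig ι ↔ str (ι x) ^ 2 ≠ 4 := Iff.rfl

theorem Ps_le_Bs : Ps ι ≤ Bs ι := fun _ hx => (mem_Ps_iff.mp hx).1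

instance Zs_normal : (Zs ι).Normal := by
  unfold Zs; infer_instance

theorem str_conj_map (y x : Γ) : str (ι (y * x * y⁻¹)) = str (ι x) := by
  rw [map_mul, map_mul, map_inv, str_conj]

theorem str_conj_map' (y x : Γ) : str (ι (y⁻¹ * x * y)) = str (ι x) := by
  rw [map_mul, map_mul, map_inv, str_conj']

/-- no nontrivial element of `Ps` has a conjugate in `Bs` by an element outside `Bs` -/
theorem Ps_free (hι : Function.Injective ι) (g : Γ) (hg : g ∉ Bs ι) (u : Γ) (hu : u ∈ Ps ι)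
    (h : g⁻¹ * u * g ∈ Bs ι) : u = 1 := by
  obtain ⟨μ, hμ⟩ := hu
  rw [mem_Bs, map_mul, map_mul, map_inv, ← hμ, conj_uMat_10'] at h
  have h1 : μ = 0 := by
    rcases mul_eq_zero.mp (neg_eq_zero.mp h) with h2 | h2
    · exact h2
    · exact absurd (pow_eq_zero_iff (two_ne_zero) |>.mp h2) hg
  apply hι
  rw [← hμ, h1, uMat_zero, map_one]

/-- an element conjugating a nontrivial element of `Ps` into `Ps` lies in `Bs` -/
theorem mem_Bs_of_conj (hι : Function.Injective ι) {g x : Γ} (hx : x ∈ Ps ι) (hx1 : x ≠ 1)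
    (h : g * x * g⁻¹ ∈ Ps ι) : g ∈ Bs ι := by
  obtain ⟨μ, hμ⟩ := hx
  have h1 := (mem_Ps_iff.mp h).1
  rw [map_mul, map_mul, map_inv, ← hμ, conj_uMat_10] at h1
  rcases mul_eq_zero.mp (neg_eq_zero.mp h1) with h2 | h2
  · exfalso
    apply hx1
    apply hι
    rw [← hμ, h2, uMat_zero, map_one]
  · exact pow_eq_zero_iff (two_ne_zero) |>.mp h2

theorem normalizer_Ps (hι : Function.Injective ι) {a : Γ} (ha : a ∈ Ps ι) (ha1 : a ≠ 1) :
    Subgroup.normalizer (Ps ι : Set Γ) = Bs ι := by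
  apply le_antisymm
  · intro g hg
    exact mem_Bs_of_conj hι ha ha1 ((Subgroup.mem_normalizer_iff.mp hg a).mp ha)
  · intro b hb
    rw [Subgroup.mem_normalizer_iff]
    have key : ∀ (c : Γ), c ∈ Bs ι → ∀ x ∈ Ps ι, c * x * c⁻¹ ∈ Ps ι := by
      intro c hc x hx
      obtain ⟨μ, hμ⟩ := hx
      refine ⟨(ι c).1 0 0 ^ 2 * μ, ?_⟩
      rw [map_mul, map_mul, map_inv, ← hμ, conj_uMat_of_borel hc]
    intro x
    constructor
    · exact key b hb x
    · intro h
      have := key b⁻¹ ((Bs ι).inv_mem hb) _ h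
      have e : b⁻¹ * (b * x * b⁻¹) * b⁻¹⁻¹ = x := by group
      rwa [e] at this


/-! ### The unipotent elements -/

theorem pow_char_eq_one (hι : Function.Injective ι) (p : ℕ) [CharP F p] {x : Γ}
    (hx : str (ι x) = 2) : x ^ p = 1 := by
  apply hι
  rw [map_pow, map_one]
  exact pow_char_of_str p hx

theorem str_of_mem_Ps {x : Γ} (hx : x ∈ Ps ι) : str (ι x) = 2 := (mem_Ps_iff.mp hx).2

theorem isPGroup_Ps (hι : Function.Injective ι) (p : ℕ) [Fact p.Prime] [CharP F p] :
    IsPGroup p (Ps ι) := by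
  rintro ⟨x, hx⟩
  refine ⟨1, ?_⟩
  apply Subtype.ext
  rw [pow_one]
  exact pow_char_eq_one hι p (str_of_mem_Ps hx)

theorem dvd_card_Ps (hι : Function.Injective ι) (p : ℕ) [Fact p.Prime] [CharP F p] {a : Γ}
    (ha : a ∈ Ps ι) (ha1 : a ≠ 1) : p ∣ Nat.card (Ps ι) := by
  have h1 : orderOf a = p :=
    orderOf_eq_prime (pow_char_eq_one hι p (str_of_mem_Ps ha)) ha1
  rw [← h1]
  exact Subgroup.orderOf_dvd_natCard _ ha

theorem card_Ps_dvd [Finite Γ] (hι : Function.Injective ι) :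
    Nat.card (Ps ι) ∣ (Bs ι).index - 1 :=
  card_dvd_index_sub_one (Ps ι) (Bs ι) Ps_le_Bs (fun g hg u hu h => Ps_free hι g hg u hu h)

theorem index_Bs_modEq [Finite Γ] (hι : Function.Injective ι) (p : ℕ) [Fact p.Prime] [CharP F p]
    {a : Γ} (ha : a ∈ Ps ι) (ha1 : a ≠ 1) : ¬ p ∣ (Bs ι).index := by
  intro h
  have h1 : p ∣ (Bs ι).index - 1 := (dvd_card_Ps hι p ha ha1).trans (card_Ps_dvd hι)
  have hpos : 0 < (Bs ι).index := Nat.pos_of_ne_zero (Subgroup.index_ne_zero_of_finite)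
  have h2 : p ∣ 1 := by
    have := Nat.dvd_sub h h1
    rwa [Nat.sub_sub_self hpos] at this
  exact (Fact.out : p.Prime).one_lt.ne' (Nat.dvd_one.mp h2)

/-- every element of trace `2` is conjugate into `Ps` -/
theorem exists_conj_mem_Ps [Finite Γ] (hι : Function.Injective ι) (p : ℕ) [Fact p.Prime]
    [CharP F p] {a : Γ} (ha : a ∈ Ps ι) (ha1 : a ≠ 1) {x : Γ} (hx : str (ι x) = 2) :
    ∃ g : Γ, g⁻¹ * x * g ∈ Ps ι := by
  have hP : IsPGroup p (Subgroup.zpowers x) := by
    rintro ⟨y, hy⟩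
    refine ⟨1, ?_⟩
    apply Subtype.ext
    obtain ⟨k, rfl⟩ := Subgroup.mem_zpowers_iff.mp hy
    show (x ^ k) ^ p ^ 1 = 1
    rw [pow_one, ← zpow_natCast, ← _root_.zpow_mul, mul_comm, _root_.zpow_mul, zpow_natCast,
      pow_char_eq_one hι p hx, _root_.one_zpow]
  have hnd : ¬ p ∣ Nat.card (Γ ⧸ Bs ι) := index_Bs_modEq hι p ha ha1
  obtain ⟨q, hq⟩ := hP.nonempty_fixed_point_of_prime_not_dvd_card (Γ ⧸ Bs ι) hnd
  induction q using QuotientGroup.induction_on with
  | H g =>
    refine ⟨g, ?_⟩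
    have h1 : (⟨x, Subgroup.mem_zpowers x⟩ : Subgroup.zpowers x) • ((g : Γ) : Γ ⧸ Bs ι) =
        ((g : Γ) : Γ ⧸ Bs ι) := hq _
    have h2 : ((x * g : Γ) : Γ ⧸ Bs ι) = ((g : Γ) : Γ ⧸ Bs ι) := h1
    rw [QuotientGroup.eq] at h2
    have h3 : g⁻¹ * x * g = ((x * g)⁻¹ * g)⁻¹ := by group
    have h4 : g⁻¹ * x * g ∈ Bs ι := by
      rw [h3]; exact (Bs ι).inv_mem h2
    exact mem_Ps_iff.mpr ⟨h4, by rw [str_conj_map', hx]⟩

theorem conjClass_Ps [Finite Γ] (hι : Function.Injective ι) (p : ℕ) [Fact p.Prime]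
    [CharP F p] {a : Γ} (ha : a ∈ Ps ι) (ha1 : a ≠ 1) :
    conjClass (Ps ι) ⊥ = {x : Γ | x ≠ 1 ∧ str (ι x) = 2} := by
  ext x
  constructor
  · rintro ⟨h1, g, hg⟩
    refine ⟨fun h => h1 (by rw [h]; exact Subgroup.one_mem _), ?_⟩
    have := str_of_mem_Ps hg
    rwa [str_conj_map'] at this
  · rintro ⟨h1, h2⟩
    exact ⟨fun h => h1 (Subgroup.mem_bot.mp h), exists_conj_mem_Ps hι p ha ha1 h2⟩

/-- the number of the elements of trace `2` -/
theorem ncard_str_two [Finite Γ] (hι : Function.Injective ι) (p : ℕ) [Fact p.Prime]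
    [CharP F p] {a : Γ} (ha : a ∈ Ps ι) (ha1 : a ≠ 1) :
    Set.ncard {x : Γ | str (ι x) = 2} = 1 + (Bs ι).index * (Nat.card (Ps ι) - 1) := by
  have h1 : Nat.card (conjClass (Ps ι) ⊥) =
      (Subgroup.normalizer (Ps ι : Set Γ)).index * (Nat.card (Ps ι) - Nat.card (⊥ : Subgroup Γ)) :=
    card_conjClass (Ps ι) ⊥ bot_le (by
      intro g x hx hx1 h
      rw [normalizer_Ps hι ha ha1]
      exact mem_Bs_of_conj hι hx (fun h => hx1 (by rw [h]; exact Subgroup.one_mem _)) h)
  rw [normalizer_Ps hι ha ha1, Subgroup.card_bot, Nat.card_coe_set_eq, conjClass_Ps hι p ha ha1]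
    at h1
  have h2 : {x : Γ | str (ι x) = 2} = insert 1 {x : Γ | x ≠ 1 ∧ str (ι x) = 2} := by
    ext x
    simp only [Set.mem_ofPred_eq, Set.mem_insert_iff]
    constructor
    · intro h
      by_cases hx : x = 1
      · left; exact hx
      · right; exact ⟨hx, h⟩
    · rintro (rfl | ⟨_, h⟩)
      · rw [map_one, str_one]
      · exact h
  rw [h2, Set.ncard_insert_of_notMem (by simp), h1, add_comm]


theorem ncard_str_neg_two {c : Γ} (hc : ι c = negOne F) :
    Set.ncard {x : Γ | str (ι x) = -2} = Set.ncard {x : Γ | str (ι x) = 2} := by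
  have h : {x : Γ | str (ι x) = -2} = (fun x => c * x) '' {x : Γ | str (ι x) = 2} := by
    ext x
    simp only [Set.mem_ofPred_eq, Set.mem_image]
    constructor
    · intro hx
      refine ⟨c⁻¹ * x, ?_, by group⟩
      rw [map_mul, map_inv, hc, negOne_inv, str_negOne_mul, hx, neg_neg]
    · rintro ⟨y, hy, rfl⟩
      rw [map_mul, hc, str_negOne_mul, hy]
  rw [h, Set.ncard_image_of_injective _ (mul_right_injective c)]

/-- the class equation, first form -/
theorem ncard_Sig [Finite Γ] (hι : Function.Injective ι) (p : ℕ) [Fact p.Prime]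
    [CharP F p] (h2 : (2 : F) ≠ 0) {a : Γ} (ha : a ∈ Ps ι) (ha1 : a ≠ 1) {c : Γ}
    (hc : ι c = negOne F) :
    Set.ncard (Sig ι) + 2 * (1 + (Bs ι).index * (Nat.card (Ps ι) - 1)) = Nat.card Γ := by
  have h1 : (Sig ι)ᶜ = {x : Γ | str (ι x) = 2} ∪ {x : Γ | str (ι x) = -2} := by
    ext x
    simp only [Set.mem_compl_iff, mem_Sig, not_not, Set.mem_union, Set.mem_ofPred_eq]
    constructor
    · intro h
      have h3 : (str (ι x) - 2) * (str (ι x) + 2) = 0 := by linear_combination h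
      rcases mul_eq_zero.mp h3 with h4 | h4
      · left; linear_combination h4
      · right; linear_combination h4
    · rintro (h | h) <;> rw [h] <;> norm_num
  have h3 : Disjoint {x : Γ | str (ι x) = 2} {x : Γ | str (ι x) = -2} := by
    rw [Set.disjoint_left]
    intro x hx hx'
    simp only [Set.mem_ofPred_eq] at hx hx'
    rw [hx] at hx'
    have : (2 : F) * 2 = 0 := by linear_combination hx'
    rcases mul_eq_zero.mp this with h | h <;> exact h2 h
  have h4 := Set.ncard_add_ncard_compl (Sig ι)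
  rw [h1, Set.ncard_union_eq h3, ncard_str_neg_two hc, ncard_str_two hι p ha ha1] at h4
  rw [← h4]; ring

/-! ### The centralizer of a unipotent element -/

theorem mem_centralizer_unip (hι : Function.Injective ι) {a : Γ} {l0 : F} (hl : l0 ≠ 0)
    (ha : ι a = uMat l0) {c : Γ} (hc : ι c = negOne F) (x : Γ) :
    x ∈ Subgroup.centralizer ({a} : Set Γ) ↔ x ∈ Ps ι ∨ c * x ∈ Ps ι := by
  rw [Subgroup.mem_centralizer_singleton_iff]
  constructor
  · intro h
    have h1 : ι x * uMat l0 = uMat l0 * ι x := by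
      rw [← ha, ← map_mul, ← map_mul, h]
    obtain ⟨h10, h00⟩ := commute_uMat hl h1
    have hd := sl2_det' (ι x)
    rw [h10, mul_zero, sub_zero, ← h00] at hd
    have h3 : ((ι x).1 0 0 - 1) * ((ι x).1 0 0 + 1) = 0 := by linear_combination hd
    rcases mul_eq_zero.mp h3 with h4 | h4
    · left
      rw [mem_Ps_iff]
      refine ⟨h10, ?_⟩
      unfold str
      rw [← h00]
      linear_combination 2 * h4
    · right
      rw [mem_Ps_iff, map_mul, hc]
      refine ⟨?_, ?_⟩
      · rw [mul_val_10]; simp [h10]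
      · rw [str_negOne_mul]
        unfold str
        rw [← h00]
        linear_combination (-2 : F) * h4
  · have key : ∀ y : Γ, y ∈ Ps ι → a * y = y * a := by
      intro y hy
      obtain ⟨μ, hμ⟩ := hy
      apply hι
      rw [map_mul, map_mul, ← hμ, ha, uMat_mul, uMat_mul, add_comm]
    have hca : c * a = a * c := by
      apply hι
      rw [map_mul, map_mul, hc, negOne_comm]
    rintro (h | h)
    · exact (key x h).symm
    · have h1 := key _ h
      have h2 : a * x = c⁻¹ * (a * (c * x)) := by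
        rw [← mul_assoc a c x, ← hca]; group
      rw [h2, h1]; group

theorem centralizer_unip_le (hι : Function.Injective ι) {a : Γ} {l0 : F} (hl : l0 ≠ 0)
    (ha : ι a = uMat l0) {c : Γ} (hc : ι c = negOne F) :
    Subgroup.centralizer ({a} : Set Γ) ≤ Bs ι := by
  intro x hx
  rcases (mem_centralizer_unip hι hl ha hc x).mp hx with h | h
  · exact Ps_le_Bs h
  · have h1 : c ∈ Bs ι := by
      rw [mem_Bs, hc]; simp
    have h2 := (Bs ι).mul_mem ((Bs ι).inv_mem h1) (Ps_le_Bs h)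
    rwa [inv_mul_cancel_left] at h2

theorem card_centralizer_unip [Finite Γ] (hι : Function.Injective ι) (h2 : (2 : F) ≠ 0) {a : Γ}
    {l0 : F} (hl : l0 ≠ 0) (ha : ι a = uMat l0) {c : Γ} (hc : ι c = negOne F) :
    Nat.card (Subgroup.centralizer ({a} : Set Γ)) = 2 * Nat.card (Ps ι) := by
  have hle : Ps ι ≤ Subgroup.centralizer ({a} : Set Γ) := fun x hx =>
    (mem_centralizer_unip hι hl ha hc x).mpr (Or.inl hx)
  have hcC : c ∈ Subgroup.centralizer ({a} : Set Γ) := by
    refine (mem_centralizer_unip hι hl ha hc c).mpr (Or.inr ?_)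
    rw [mem_Ps_iff, map_mul, hc, negOne_mul_self]
    exact ⟨one_val_10, str_one⟩
  have hcP : c ∉ Ps ι := by
    intro h
    have h3 := str_of_mem_Ps h
    rw [hc, str_negOne] at h3
    have : (2 : F) * 2 = 0 := by linear_combination -h3
    rcases mul_eq_zero.mp this with h | h <;> exact h2 h
  have hidx : ((Ps ι).subgroupOf (Subgroup.centralizer ({a} : Set Γ))).index = 2 := by
    rw [Subgroup.index_eq_two_iff']
    refine ⟨⟨c, hcC⟩, ?_⟩
    rintro ⟨b, hb⟩
    rw [Subgroup.mem_subgroupOf, Subgroup.mem_subgroupOf]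
    show Xor (c * b ∈ Ps ι) (b ∈ Ps ι)
    rcases (mem_centralizer_unip hι hl ha hc b).mp hb with h | h
    · right
      refine ⟨h, fun h' => hcP ?_⟩
      have := (Ps ι).mul_mem h' ((Ps ι).inv_mem h)
      rwa [mul_inv_cancel_right] at this
    · left
      refine ⟨h, fun h' => hcP ?_⟩
      have := (Ps ι).mul_mem h ((Ps ι).inv_mem h')
      rwa [mul_inv_cancel_right] at this
  have h3 := Subgroup.card_mul_index ((Ps ι).subgroupOf (Subgroup.centralizer ({a} : Set Γ)))
  rw [hidx, Nat.card_congr (Subgroup.subgroupOfEquivOfLe hle).toEquiv] at h3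
  rw [← h3, mul_comm]

/-- orbit-stabilizer for conjugation -/
theorem ncard_conjugates_mul_card_centralizer [Finite Γ] (a : Γ) :
    Set.ncard {x : Γ | ∃ g : Γ, g * a * g⁻¹ = x} *
      Nat.card (Subgroup.centralizer ({a} : Set Γ)) = Nat.card Γ := by
  have e := MulAction.orbitProdStabilizerEquivGroup (ConjAct Γ) a
  have h1 := Nat.card_congr e
  rw [Nat.card_prod, ← Subgroup.nat_card_centralizer_nat_card_stabilizer] at h1
  have h3 : MulAction.orbit (ConjAct Γ) a = {x : Γ | ∃ g : Γ, g * a * g⁻¹ = x} := by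
    ext x
    constructor
    · rintro ⟨g, rfl⟩
      exact ⟨ConjAct.ofConjAct g, (ConjAct.smul_def g a).symm⟩
    · rintro ⟨g, rfl⟩
      refine ⟨ConjAct.toConjAct g, ?_⟩
      show ConjAct.toConjAct g • a = g * a * g⁻¹
      rw [ConjAct.smul_def]; simp
  rw [Nat.card_coe_set_eq, h3] at h1
  rw [h1]; rfl

/-- the bound on the order of the upper triangular subgroup -/
theorem card_le_of_unip [Finite Γ] (hι : Function.Injective ι) (p : ℕ) [Fact p.Prime]
    [CharP F p] (h2 : (2 : F) ≠ 0) {a : Γ} {l0 : F} (hl : l0 ≠ 0) (ha : ι a = uMat l0) {c : Γ}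
    (hc : ι c = negOne F) :
    Nat.card Γ ≤ (Bs ι).index * (Nat.card (Ps ι) - 1) * (2 * Nat.card (Ps ι)) := by
  have haP : a ∈ Ps ι := ⟨l0, ha.symm⟩
  have ha1 : a ≠ 1 := by
    intro h
    rw [h, map_one] at ha
    have := congrArg (fun g : SpecialLinearGroup (Fin 2) F => g.1 0 1) ha
    simp only [one_val_01, uMat_01] at this
    exact hl this.symm
  have h1 := ncard_conjugates_mul_card_centralizer a
  rw [card_centralizer_unip hι h2 hl ha hc] at h1
  have h3 : {x : Γ | ∃ g : Γ, g * a * g⁻¹ = x} ⊆ {x : Γ | x ≠ 1 ∧ str (ι x) = 2} := by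
    rintro x ⟨g, rfl⟩
    refine ⟨?_, ?_⟩
    · intro h
      apply ha1
      have : a = g⁻¹ * (g * a * g⁻¹) * g := by group
      rw [this, h]; group
    · rw [str_conj_map, ha, str_uMat]
  have h4 := Set.ncard_le_ncard h3
  have h5 : Set.ncard {x : Γ | x ≠ 1 ∧ str (ι x) = 2} =
      (Bs ι).index * (Nat.card (Ps ι) - 1) := by
    have h6 := ncard_str_two hι p haP ha1
    have h7 : {x : Γ | str (ι x) = 2} = insert 1 {x : Γ | x ≠ 1 ∧ str (ι x) = 2} := by
      ext x
      simp only [Set.mem_ofPred_eq, Set.mem_insert_iff]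
      constructor
      · intro h
        by_cases hx : x = 1
        · left; exact hx
        · right; exact ⟨hx, h⟩
      · rintro (rfl | ⟨_, h⟩)
        · rw [map_one, str_one]
        · exact h
    rw [h7, Set.ncard_insert_of_notMem (by simp)] at h6
    omega
  rw [← h1]
  exact Nat.mul_le_mul_right _ (h4.trans_eq h5)


/-! ### Tori: the centralizers of the elements `g` with `(tr g)² ≠ 4` -/

theorem Zs_le_centralizer (hι : Function.Injective ι) (g : Γ) :
    Zs ι ≤ Subgroup.centralizer ({g} : Set Γ) := by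
  intro x hx
  rw [Subgroup.mem_centralizer_singleton_iff]
  apply hι
  rw [map_mul, map_mul]
  rcases hx with h | h
  · rw [h, one_mul, mul_one]
  · rw [h, negOne_comm]

theorem card_Zs (hι : Function.Injective ι) (h2 : (2 : F) ≠ 0) {c : Γ} (hc : ι c = negOne F) :
    Nat.card (Zs ι) = 2 := by
  rw [Nat.card_eq_two_iff]
  refine ⟨1, ⟨c, Or.inr hc⟩, ?_, ?_⟩
  · intro h
    have h1 : (1 : Γ) = c := congrArg Subtype.val h
    rw [← h1, map_one] at hc
    exact negOne_ne_one h2 hc.symm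
  · ext ⟨x, hx⟩
    simp only [Set.mem_insert_iff, Set.mem_singleton_iff, Set.mem_univ, iff_true]
    rcases hx with h | h
    · left; apply Subtype.ext; apply hι; rw [h]; simp
    · right; apply Subtype.ext; apply hι; rw [h]; exact hc.symm

theorem notMem_Zs_of_mem_Sig {g : Γ} (hg : g ∈ Sig ι) : g ∉ Zs ι :=
  fun h => hg (str_sq_of_mem_pmOne h)

theorem conj_notMem_Zs {x : Γ} (hx : x ∉ Zs ι) (u : Γ) : u * x * u⁻¹ ∉ Zs ι := by
  intro h
  apply hx
  have := (Zs_normal (ι := ι)).conj_mem _ h u⁻¹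
  simpa [mul_assoc] using this

theorem conj_notMem_Zs' {x : Γ} (hx : x ∉ Zs ι) (u : Γ) : u⁻¹ * x * u ∉ Zs ι := by
  have := conj_notMem_Zs hx u⁻¹
  rwa [inv_inv] at this

/-- a noncentral element of the torus of `g` has the same centralizer as `g` -/
theorem centralizer_eq_of_mem (hι : Function.Injective ι) {g x : Γ} (hg : g ∈ Sig ι)
    (hx : x ∈ Subgroup.centralizer ({g} : Set Γ)) (hxZ : x ∉ Zs ι) :
    x ∈ Sig ι ∧ Subgroup.centralizer ({x} : Set Γ) = Subgroup.centralizer ({g} : Set Γ) := by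
  rw [Subgroup.mem_centralizer_singleton_iff] at hx
  have hc : ι x * ι g = ι g * ι x := by rw [← map_mul, ← map_mul, hx]
  have hxS : x ∈ Sig ι := by
    intro h
    obtain ⟨h01, h10, h00⟩ := scalar_of_commute hg h hc
    exact hxZ (eq_one_or_negOne h01 h10 h00)
  refine ⟨hxS, ?_⟩
  have hc' : (ι x).1 * (ι g).1 = (ι g).1 * (ι x).1 := by
    have := congrArg (fun y : SpecialLinearGroup (Fin 2) F => y.1) hc
    simpa using this
  obtain ⟨s, y, hsy⟩ := commutant (ι g).1 (ι x).1 (isNonScalar_of_str hg) hc'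
  have hy : y ≠ 0 := by
    rintro rfl
    have hd := disc_lin hsy
    apply hxS
    linear_combination hd
  ext k
  rw [Subgroup.mem_centralizer_singleton_iff, Subgroup.mem_centralizer_singleton_iff]
  have h1 := commute_iff_of_lin (k := ι k) hy hsy
  constructor
  · intro h
    apply hι
    rw [map_mul, map_mul]
    exact h1.mpr (by rw [← map_mul, ← map_mul, h])
  · intro h
    apply hι
    rw [map_mul, map_mul]
    exact h1.mp (by rw [← map_mul, ← map_mul, h])

theorem torus_TI (hι : Function.Injective ι) {g : Γ} (hg : g ∈ Sig ι) (u x : Γ)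
    (hx : x ∈ Subgroup.centralizer ({g} : Set Γ)) (hxZ : x ∉ Zs ι)
    (hu : u * x * u⁻¹ ∈ Subgroup.centralizer ({g} : Set Γ)) :
    u ∈ Subgroup.normalizer (Subgroup.centralizer ({g} : Set Γ) : Set Γ) := by
  have h1 := (centralizer_eq_of_mem hι hg hx hxZ).2
  have h2 := (centralizer_eq_of_mem hι hg hu (conj_notMem_Zs hxZ u)).2
  rw [Subgroup.mem_normalizer_iff]
  intro h
  have e1 : u * h * u⁻¹ * (u * x * u⁻¹) = u * (h * x) * u⁻¹ := by group
  have e2 : u * x * u⁻¹ * (u * h * u⁻¹) = u * (x * h) * u⁻¹ := by group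
  calc h ∈ Subgroup.centralizer ({g} : Set Γ) ↔ h ∈ Subgroup.centralizer ({x} : Set Γ) := by
        rw [h1]
    _ ↔ u * h * u⁻¹ ∈ Subgroup.centralizer ({u * x * u⁻¹} : Set Γ) := by
        rw [Subgroup.mem_centralizer_singleton_iff, Subgroup.mem_centralizer_singleton_iff, e1, e2]
        constructor
        · intro e; rw [e]
        · intro e; exact mul_left_cancel (mul_right_cancel e)
    _ ↔ u * h * u⁻¹ ∈ Subgroup.centralizer ({g} : Set Γ) := by rw [h2]

theorem torus_normalizer_index (hι : Function.Injective ι) (h2 : (2 : F) ≠ 0) {g : Γ}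
    (hg : g ∈ Sig ι) :
    ((Subgroup.centralizer ({g} : Set Γ)).subgroupOf
        (Subgroup.normalizer (Subgroup.centralizer ({g} : Set Γ) : Set Γ))).index = 1 ∨
    ((Subgroup.centralizer ({g} : Set Γ)).subgroupOf
        (Subgroup.normalizer (Subgroup.centralizer ({g} : Set Γ) : Set Γ))).index = 2 := by
  have hgA : g ∈ Subgroup.centralizer ({g} : Set Γ) :=
    Subgroup.mem_centralizer_singleton_iff.mpr rfl
  have key : ∀ u : Γ, u ∈ Subgroup.normalizer (Subgroup.centralizer ({g} : Set Γ) : Set Γ) →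
      u ∈ Subgroup.centralizer ({g} : Set Γ) ∨ u * g * u⁻¹ = g⁻¹ := by
    intro u hu
    have h1 : u * g * u⁻¹ ∈ Subgroup.centralizer ({g} : Set Γ) :=
      (Subgroup.mem_normalizer_iff.mp hu g).mp hgA
    rw [Subgroup.mem_centralizer_singleton_iff] at h1
    have h3 : (ι u * ι g * (ι u)⁻¹) * ι g = ι g * (ι u * ι g * (ι u)⁻¹) := by
      rw [← map_inv, ← map_mul, ← map_mul, ← map_mul, ← map_mul, h1]
    rcases conj_eq_or_inv h2 hg h3 with h4 | h4
    · left
      rw [Subgroup.mem_centralizer_singleton_iff]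
      have h5 : u * g * u⁻¹ = g := by
        apply hι
        rw [map_mul, map_mul, map_inv, h4]
      calc u * g = u * g * u⁻¹ * u := by group
        _ = g * u := by rw [h5]
    · right
      apply hι
      rw [map_mul, map_mul, map_inv, h4, map_inv]
  by_cases hNA : ∀ u : Γ, u ∈ Subgroup.normalizer (Subgroup.centralizer ({g} : Set Γ) : Set Γ) →
      u ∈ Subgroup.centralizer ({g} : Set Γ)
  · left
    rw [Subgroup.index_eq_one, Subgroup.subgroupOf_eq_top]
    exact hNA
  · right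
    push Not at hNA
    obtain ⟨u0, hu0, hu0A⟩ := hNA
    have hinv0 : u0 * g * u0⁻¹ = g⁻¹ := (key u0 hu0).resolve_left hu0A
    rw [Subgroup.index_eq_two_iff']
    refine ⟨⟨u0, hu0⟩, ?_⟩
    rintro ⟨b, hb⟩
    rw [Subgroup.mem_subgroupOf, Subgroup.mem_subgroupOf]
    show Xor (u0 * b ∈ Subgroup.centralizer ({g} : Set Γ)) (b ∈ Subgroup.centralizer ({g} : Set Γ))
    by_cases hbA : b ∈ Subgroup.centralizer ({g} : Set Γ)
    · right
      refine ⟨hbA, fun h' => hu0A ?_⟩
      have := (Subgroup.centralizer ({g} : Set Γ)).mul_mem h'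
        ((Subgroup.centralizer ({g} : Set Γ)).inv_mem hbA)
      rwa [mul_inv_cancel_right] at this
    · left
      refine ⟨?_, hbA⟩
      have hinvb : b * g * b⁻¹ = g⁻¹ := (key b hb).resolve_left hbA
      rw [Subgroup.mem_centralizer_singleton_iff]
      have h5 : u0 * b * g * (u0 * b)⁻¹ = g := by
        have e : u0 * b * g * (u0 * b)⁻¹ = u0 * (b * g * b⁻¹) * u0⁻¹ := by group
        rw [e, hinvb]
        have e' : u0 * g⁻¹ * u0⁻¹ = (u0 * g * u0⁻¹)⁻¹ := by group
        rw [e', hinv0, inv_inv]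
      calc u0 * b * g = u0 * b * g * (u0 * b)⁻¹ * (u0 * b) := by group
        _ = g * (u0 * b) := by rw [h5]

/-- the size of the class of a torus -/
theorem card_torus_class [Finite Γ] (hι : Function.Injective ι) (h2 : (2 : F) ≠ 0) {c : Γ}
    (hc : ι c = negOne F) {g : Γ} (hg : g ∈ Sig ι) :
    ∃ m ε aa : ℕ, (ε = 1 ∨ ε = 2) ∧ 4 ≤ aa ∧ Even aa ∧ m * ε * aa = Nat.card Γ ∧
      aa = Nat.card (Subgroup.centralizer ({g} : Set Γ)) ∧
      Set.ncard (conjClass (Subgroup.centralizer ({g} : Set Γ)) (Zs ι)) = m * (aa - 2) := by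
  have hZA := Zs_le_centralizer hι g
  have hZ2 := card_Zs hι h2 hc
  have hgA : g ∈ Subgroup.centralizer ({g} : Set Γ) :=
    Subgroup.mem_centralizer_singleton_iff.mpr rfl
  have hdvd : 2 ∣ Nat.card (Subgroup.centralizer ({g} : Set Γ)) := by
    rw [← hZ2]; exact Subgroup.card_dvd_of_le hZA
  have hne2 : Nat.card (Subgroup.centralizer ({g} : Set Γ)) ≠ 2 := by
    intro h
    have : Zs ι = Subgroup.centralizer ({g} : Set Γ) :=
      Subgroup.eq_of_le_of_card_ge hZA (by rw [h, hZ2])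
    exact notMem_Zs_of_mem_Sig hg (this ▸ hgA)
  have hpos : 0 < Nat.card (Subgroup.centralizer ({g} : Set Γ)) := Nat.card_pos
  refine ⟨(Subgroup.normalizer (Subgroup.centralizer ({g} : Set Γ) : Set Γ)).index,
    ((Subgroup.centralizer ({g} : Set Γ)).subgroupOf
        (Subgroup.normalizer (Subgroup.centralizer ({g} : Set Γ) : Set Γ))).index,
    Nat.card (Subgroup.centralizer ({g} : Set Γ)), torus_normalizer_index hι h2 hg, ?_, ?_, ?_,
    rfl, ?_⟩
  · obtain ⟨k, hk⟩ := hdvd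
    omega
  · exact (even_iff_two_dvd).mpr hdvd
  · have h3 := Subgroup.card_mul_index ((Subgroup.centralizer ({g} : Set Γ)).subgroupOf
        (Subgroup.normalizer (Subgroup.centralizer ({g} : Set Γ) : Set Γ)))
    rw [Nat.card_congr (Subgroup.subgroupOfEquivOfLe Subgroup.le_normalizer).toEquiv] at h3
    have h4 := Subgroup.index_mul_card
      (Subgroup.normalizer (Subgroup.centralizer ({g} : Set Γ) : Set Γ))
    rw [← h4, ← h3]; ring
  · have h3 := card_conjClass (Subgroup.centralizer ({g} : Set Γ)) (Zs ι) hZA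
      (fun u x hx hxZ hu => torus_TI hι hg u x hx hxZ hu)
    rw [Nat.card_coe_set_eq, hZ2] at h3
    exact h3

theorem mem_torus_class {g : Γ} (hg : g ∈ Sig ι) :
    g ∈ conjClass (Subgroup.centralizer ({g} : Set Γ)) (Zs ι) :=
  ⟨notMem_Zs_of_mem_Sig hg, 1, by simp [Subgroup.mem_centralizer_singleton_iff]⟩

theorem torus_class_subset (hι : Function.Injective ι) {g : Γ} (hg : g ∈ Sig ι) :
    conjClass (Subgroup.centralizer ({g} : Set Γ)) (Zs ι) ⊆ Sig ι := by
  rintro h ⟨hZ, y, hy⟩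
  have := (centralizer_eq_of_mem hι hg hy (conj_notMem_Zs' hZ y)).1
  rw [mem_Sig, str_conj_map'] at this
  exact this

theorem torus_class_disjoint (hι : Function.Injective ι) {g h : Γ} (hg : g ∈ Sig ι)
    (hh : h ∈ Sig ι) (hn : h ∉ conjClass (Subgroup.centralizer ({g} : Set Γ)) (Zs ι)) :
    Disjoint (conjClass (Subgroup.centralizer ({g} : Set Γ)) (Zs ι))
      (conjClass (Subgroup.centralizer ({h} : Set Γ)) (Zs ι)) := by
  rw [Set.disjoint_left]
  rintro k ⟨hkZ, y, hy⟩ ⟨_, z, hz⟩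
  apply hn
  refine ⟨notMem_Zs_of_mem_Sig hh, z⁻¹ * y, ?_⟩
  have h1 := (centralizer_eq_of_mem hι hg hy (conj_notMem_Zs' hkZ y)).2
  have h2 := (centralizer_eq_of_mem hι hh hz (conj_notMem_Zs' hkZ z)).2
  have h3 : h ∈ Subgroup.centralizer ({z⁻¹ * k * z} : Set Γ) := by
    rw [h2]; exact Subgroup.mem_centralizer_singleton_iff.mpr rfl
  rw [← h1, Subgroup.mem_centralizer_singleton_iff]
  rw [Subgroup.mem_centralizer_singleton_iff] at h3
  have e1 : (z⁻¹ * y)⁻¹ * h * (z⁻¹ * y) * (y⁻¹ * k * y) =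
      y⁻¹ * z * (h * (z⁻¹ * k * z)) * z⁻¹ * y := by group
  have e2 : (y⁻¹ * k * y) * ((z⁻¹ * y)⁻¹ * h * (z⁻¹ * y)) =
      y⁻¹ * z * (z⁻¹ * k * z * h) * z⁻¹ * y := by group
  rw [e1, e2, h3]


/-! ### The split torus -/

/-- the diagonal entry, as a homomorphism on `Bs` -/
noncomputable def diagHom (ι : Γ →* SpecialLinearGroup (Fin 2) F) : ↥(Bs ι) →* Fˣ :=
  (borelDiag F).comp (ι.subgroupComap (borel F))

theorem diagHom_val (x : ↥(Bs ι)) : ((diagHom ι x : Fˣ) : F) = (ι x.1).1 0 0 := rfl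

theorem diagHom_eq_one_iff (x : ↥(Bs ι)) : diagHom ι x = 1 ↔ (x : Γ) ∈ Ps ι :=
  borelDiag_eq_one_iff _

theorem card_Bs_eq [Finite Γ] :
    Nat.card (Ps ι) * Nat.card (diagHom ι).range = Nat.card (Bs ι) := by
  have h1 := Subgroup.card_mul_index (diagHom ι).ker
  rw [Subgroup.index_ker] at h1
  have h2 : (diagHom ι).ker = (Ps ι).subgroupOf (Bs ι) := by
    ext x
    rw [MonoidHom.mem_ker, diagHom_eq_one_iff, Subgroup.mem_subgroupOf]
  rw [h2, Nat.card_congr (Subgroup.subgroupOfEquivOfLe Ps_le_Bs).toEquiv] at h1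
  exact h1

theorem centralizer_le_Bs {g : Γ} (hg : g ∈ Sig ι) (hgB : g ∈ Bs ι) :
    Subgroup.centralizer ({g} : Set Γ) ≤ Bs ι := by
  intro x hx
  rw [Subgroup.mem_centralizer_singleton_iff] at hx
  have hc : ι x * ι g = ι g * ι x := by rw [← map_mul, ← map_mul, hx]
  have hc' : (ι x).1 * (ι g).1 = (ι g).1 * (ι x).1 := by
    have := congrArg (fun y : SpecialLinearGroup (Fin 2) F => y.1) hc
    simpa using this
  obtain ⟨s, y, hsy⟩ := commutant (ι g).1 (ι x).1 (isNonScalar_of_str hg) hc'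
  rw [mem_Bs, hsy]
  have : (ι g).1 1 0 = 0 := hgB
  simp [lin, this]

theorem centralizer_inf_Ps (hι : Function.Injective ι) (h2 : (2 : F) ≠ 0) {g : Γ}
    (hg : g ∈ Sig ι) {y : Γ} (hy : y ∈ Subgroup.centralizer ({g} : Set Γ)) (hyP : y ∈ Ps ι) :
    y = 1 := by
  rw [Subgroup.mem_centralizer_singleton_iff] at hy
  have hc : ι y * ι g = ι g * ι y := by rw [← map_mul, ← map_mul, hy]
  have hs := str_of_mem_Ps hyP
  obtain ⟨h01, h10, h00⟩ := scalar_of_commute hg (by rw [hs]; norm_num) hc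
  rcases eq_one_or_negOne h01 h10 h00 with h | h
  · apply hι; rw [h, map_one]
  · exfalso
    rw [h, str_negOne] at hs
    have : (2 : F) * 2 = 0 := by linear_combination -hs
    rcases mul_eq_zero.mp this with h | h <;> exact h2 h

theorem exists_split_torus [Finite Γ] (hι : Function.Injective ι) (h2 : (2 : F) ≠ 0)
    (hbig : 2 * Nat.card (Ps ι) < Nat.card (Bs ι)) :
    ∃ g : Γ, g ∈ Sig ι ∧
      Nat.card (Ps ι) * Nat.card (Subgroup.centralizer ({g} : Set Γ)) = Nat.card (Bs ι) := by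
  have hcard := card_Bs_eq (ι := ι)
  have : Finite ↥(diagHom ι).range :=
    Finite.of_surjective (diagHom ι).rangeRestrict (MonoidHom.rangeRestrict_surjective _)
  have hcyc : IsCyclic ↥(diagHom ι).range := isCyclic_subgroup_units _
  obtain ⟨tt, hgen⟩ := hcyc.exists_generator
  obtain ⟨b0, hb0⟩ := tt.2
  have hord : orderOf (tt : Fˣ) = Nat.card (diagHom ι).range := by
    rw [← orderOf_eq_card_of_forall_mem_zpowers hgen, Subgroup.orderOf_coe]
  generalize (tt : Fˣ) = t0 at hb0 hord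
  have hPpos : 0 < Nat.card (Ps ι) := Nat.card_pos
  have hrange : 2 < Nat.card (diagHom ι).range := by
    by_contra hle
    push Not at hle
    have := Nat.mul_le_mul_left (Nat.card (Ps ι)) hle
    rw [hcard] at this
    omega
  have hSig : (b0 : Γ) ∈ Sig ι := by
    intro h
    have h1 := borel_00_mul_11 (g := ι b0.1) b0.2
    unfold str at h
    have h3 : ((ι b0.1).1 0 0 - (ι b0.1).1 1 1) ^ 2 = 0 := by linear_combination h - 4 * h1
    have h4 : (ι b0.1).1 0 0 = (ι b0.1).1 1 1 := by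
      have := pow_eq_zero_iff (two_ne_zero) |>.mp h3
      linear_combination this
    have h5 : t0 ^ 2 = 1 := by
      apply Units.ext
      rw [Units.val_pow_eq_pow_val, ← hb0, diagHom_val, Units.val_one]
      rw [← h4] at h1
      linear_combination h1
    have h6 := orderOf_dvd_of_pow_eq_one h5
    rw [hord] at h6
    have := Nat.le_of_dvd (by norm_num) h6
    omega
  refine ⟨b0.1, hSig, ?_⟩
  have hAB := centralizer_le_Bs hSig b0.2
  -- `|A| ≤ |range|`
  have hle : Nat.card (Subgroup.centralizer ({(b0 : Γ)} : Set Γ)) ≤ Nat.card (diagHom ι).range := by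
    let f : ↥(Subgroup.centralizer ({(b0 : Γ)} : Set Γ)) → ↥(diagHom ι).range :=
      fun x => ⟨diagHom ι ⟨x.1, hAB x.2⟩, ⟨_, rfl⟩⟩
    apply Nat.card_le_card_of_injective f
    intro x x' hxx
    have h1 : diagHom ι ⟨x.1, hAB x.2⟩ = diagHom ι ⟨x'.1, hAB x'.2⟩ := congrArg Subtype.val hxx
    have h3 : diagHom ι (⟨x.1, hAB x.2⟩⁻¹ * ⟨x'.1, hAB x'.2⟩) = 1 := by
      rw [map_mul, map_inv, h1, inv_mul_cancel]
    rw [diagHom_eq_one_iff] at h3
    have h4 : (x.1)⁻¹ * x'.1 ∈ Subgroup.centralizer ({(b0 : Γ)} : Set Γ) :=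
      Subgroup.mul_mem _ (Subgroup.inv_mem _ x.2) x'.2
    have h5 := centralizer_inf_Ps hι h2 hSig h4 h3
    apply Subtype.ext
    exact inv_mul_eq_one.mp h5
  -- `|range| ∣ |A|`
  have hdvd : Nat.card (diagHom ι).range ∣ Nat.card (Subgroup.centralizer ({(b0 : Γ)} : Set Γ)) := by
    rw [← hord, ← hb0]
    refine (orderOf_map_dvd (diagHom ι) b0).trans ?_
    rw [← Subgroup.orderOf_coe]
    exact Subgroup.orderOf_dvd_natCard _ (Subgroup.mem_centralizer_singleton_iff.mpr rfl)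
  have heq : Nat.card (Subgroup.centralizer ({(b0 : Γ)} : Set Γ)) = Nat.card (diagHom ι).range :=
    le_antisymm hle (Nat.le_of_dvd Nat.card_pos hdvd)
  rw [heq, hcard]


/-! ### The count -/

theorem two_ne_zero_of_char (p : ℕ) [Fact p.Prime] [CharP F p] (hp : p ≠ 2) : (2 : F) ≠ 0 := by
  intro h
  have h1 : ((2 : ℕ) : F) = 0 := by exact_mod_cast h
  rw [CharP.cast_eq_zero_iff F p] at h1
  exact hp ((Nat.prime_dvd_prime_iff_eq (Fact.out) Nat.prime_two).mp h1)

/-- **The class equation.**  A finite group `Γ ≤ SL₂(F)` (`F` of odd characteristic `p`) containing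
`-1`, an upper unitriangular `u(l0) ≠ 1` and a lower unitriangular `l(v0) ≠ 1`: with `P` the upper
unitriangular elements of `Γ` and `B` the upper triangular ones, `|Γ : B| = |P| + 1`, or `|P| = 3`
and `|Γ : B| = 10`. -/
theorem dickson_count_aux [Finite Γ] (hι : Function.Injective ι) (p : ℕ) [Fact p.Prime]
    [CharP F p] (hp : p ≠ 2) {a b c : Γ} {l0 v0 : F} (hl : l0 ≠ 0) (hv : v0 ≠ 0)
    (ha : ι a = uMat l0) (hb : ι b = lMat v0) (hc : ι c = negOne F) :
    (Bs ι).index = Nat.card (Ps ι) + 1 ∨ (Nat.card (Ps ι) = 3 ∧ (Bs ι).index = 10) := by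
  have h2 := two_ne_zero_of_char (F := F) p hp
  have haP : a ∈ Ps ι := ⟨l0, ha.symm⟩
  have ha1 : a ≠ 1 := by
    intro h
    rw [h, map_one] at ha
    have := congrArg (fun g : SpecialLinearGroup (Fin 2) F => g.1 0 1) ha
    simp only [one_val_01, uMat_01] at this
    exact hl this.symm
  have E1 := ncard_Sig hι p h2 haP ha1 hc
  have E2 := Subgroup.index_mul_card (Bs ι)
  have E3 : 2 * Nat.card (Ps ι) ∣ Nat.card (Bs ι) := by
    rw [← card_centralizer_unip hι h2 hl ha hc]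
    exact Subgroup.card_dvd_of_le (centralizer_unip_le hι hl ha hc)
  obtain ⟨db, hdb⟩ := E3
  have E4 := card_le_of_unip hι p h2 hl ha hc
  have E5 := card_Ps_dvd hι
  have hn2 : 2 ≤ (Bs ι).index := by
    have h1 : (Bs ι).index ≠ 1 := by
      rw [Ne, Subgroup.index_eq_one]
      intro h
      have : b ∈ Bs ι := h ▸ Subgroup.mem_top b
      rw [mem_Bs, hb, lMat_10] at this
      exact hv this
    have h0 : (Bs ι).index ≠ 0 := Subgroup.index_ne_zero_of_finite
    omega
  have hpm : Odd (Nat.card (Ps ι)) ∧ 3 ≤ Nat.card (Ps ι) := by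
    obtain ⟨k, hk⟩ := (IsPGroup.iff_card).mp (isPGroup_Ps hι p)
    have hpodd : Odd p := (Fact.out : p.Prime).eq_two_or_odd'.resolve_left hp
    have hodd : Odd (Nat.card (Ps ι)) := by rw [hk]; exact hpodd.pow
    have hdvd := dvd_card_Ps hι p haP ha1
    have hge : 2 ≤ Nat.card (Ps ι) :=
      ((Fact.out : p.Prime).two_le).trans (Nat.le_of_dvd Nat.card_pos hdvd)
    refine ⟨hodd, ?_⟩
    obtain ⟨r, hr⟩ := hodd
    omega
  obtain ⟨hodd, hpm3⟩ := hpm
  have hdb1 : 1 ≤ db := by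
    rcases Nat.eq_zero_or_pos db with h | h
    · subst h
      have : 0 < Nat.card (Bs ι) := Nat.card_pos
      omega
    · exact h
  have hdble : db ≤ Nat.card (Ps ι) - 1 := by
    rw [← E2, hdb] at E4
    have h3 : ((Bs ι).index * (2 * Nat.card (Ps ι))) * db ≤
        ((Bs ι).index * (2 * Nat.card (Ps ι))) * (Nat.card (Ps ι) - 1) := by
      calc ((Bs ι).index * (2 * Nat.card (Ps ι))) * db
          = (Bs ι).index * (2 * Nat.card (Ps ι) * db) := by ring
        _ ≤ (Bs ι).index * (Nat.card (Ps ι) - 1) * (2 * Nat.card (Ps ι)) := E4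
        _ = ((Bs ι).index * (2 * Nat.card (Ps ι))) * (Nat.card (Ps ι) - 1) := by ring
    exact Nat.le_of_mul_le_mul_left h3 (by positivity)
  obtain ⟨m, ab, hm1, hm2⟩ := class_arith (Sig ι)
    (fun g => conjClass (Subgroup.centralizer ({g} : Set Γ)) (Zs ι))
    (fun g => Nat.card (Subgroup.centralizer ({g} : Set Γ))) (Nat.card Γ) (Bs ι).index
    (Nat.card (Ps ι)) db hpm3 hn2 hdb1
    (by rw [← E2, hdb])
    E1
    (fun g hg => torus_class_subset hι hg)
    (fun g hg h hh hn => torus_class_disjoint hι hg hh hn)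
    (fun g hg => card_torus_class hι h2 hc hg)
    (by
      intro hdb2
      obtain ⟨g, hg, hcard⟩ := exists_split_torus hι h2 (by rw [hdb]; nlinarith)
      refine ⟨g, hg, ?_⟩
      rw [hdb] at hcard
      exact Nat.eq_of_mul_eq_mul_left (by omega : 0 < Nat.card (Ps ι)) (by rw [hcard]; ring))
  exact final_arith _ _ db m ab hpm3 hodd E5 hn2 hdb1 hdble hm1 hm2

end

/-- **The class equation**, for a finite subgroup `H` of `SL₂(F)` containing `-1`, `u(l0)` and
`l(v0)`. -/
theorem dickson_count {F : Type*} [Field F] (p : ℕ) [Fact p.Prime] [CharP F p] (hp : p ≠ 2)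
    (H : Subgroup (SpecialLinearGroup (Fin 2) F)) [Finite H] (l0 v0 : F) (hl : l0 ≠ 0)
    (hv : v0 ≠ 0) (hu : uMat l0 ∈ H) (hlw : lMat v0 ∈ H) (hneg : negOne F ∈ H) :
    ((borel F).subgroupOf H).index = Nat.card ((unip F).subgroupOf H) + 1 ∨
      (Nat.card ((unip F).subgroupOf H) = 3 ∧ ((borel F).subgroupOf H).index = 10) :=
  dickson_count_aux (ι := H.subtype) Subtype.val_injective p hp (a := ⟨_, hu⟩) (b := ⟨_, hlw⟩)
    (c := ⟨_, hneg⟩) hl hv rfl rfl rfl

end Cfsg.Agent.Lib.helper14
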