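import Mathlib
import Cfsg.Agent.Lib.helper14.FF8
import Cfsg.Agent.Lib.helper14.FFBridge
import Cfsg.Agent.S0601
import Cfsg.Agent.S0606
import Cfsg.Agent.S0608

/-!
helper14: the faithful model for a subgroup `K` of `G` with operators from `N_G(K)`:
`FM V` for `V` the image in `N_G(K)` of `⟨Ω₁(Z(S)) : S ∈ Syl_p(K)⟩`.
-/

set_option autoImplicit false
open Cfsg Cfsg.Agent.Lib.helper13

namespace Cfsg.Agent.Lib.helper14

open scoped commutatorElement

section Model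

variable {G : Type*} [Group G] [Finite G] (p : ℕ) [hp : Fact p.Prime] (K : Subgroup G)

/-- inclusion of `K` into its normalizer -/
abbrev mι : ↥K →* ↥(Subgroup.normalizer (K : Set G)) :=
  Subgroup.inclusion Subgroup.le_normalizer

omit [Finite G] in
theorem mι_injective : Function.Injective (mι K) := Subgroup.inclusion_injective _

omit [Finite G] in
theorem normal_map_inclusion (C : Subgroup ↥K) [hc : C.Characteristic] :
    (C.map (mι K)).Normal := by
  have hn := Cfsg.Agent.Lib.helper27.normalizer_le_normalizer_map_subtype_of_characteristic K C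
  constructor
  rintro _ ⟨k, hk, rfl⟩ n
  have h1 : (n : G) * (k : G) * (n : G)⁻¹ ∈ C.map K.subtype :=
    (Subgroup.mem_normalizer_iff.mp (hn n.2) _).mp ⟨k, hk, rfl⟩
  obtain ⟨k', hk', hk'e⟩ := h1
  refine ⟨k', hk', Subtype.ext ?_⟩
  simpa using hk'e

/-- `⟨Ω₁(Z(S))⟩` in `K` -/
abbrev mW : Subgroup ↥K := ⨆ S : Sylow p ↥K, Cfsg.omegaOne p ((S : Subgroup ↥K) ⊓
  Subgroup.centralizer ((S : Subgroup ↥K) : Set ↥K))

/-- its image in the normalizer of `K` -/
def mV : Subgroup ↥(Subgroup.normalizer (K : Set G)) := (mW p K).map (mι K)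

instance mV_normal : (mV p K).Normal := by
  have hc : (mW p K).Characteristic := omegaZ_characteristic p ↥K
  exact normal_map_inclusion K (mW p K)

/-- the map of `K` to the model -/
def mρ : ↥K →* FM (mV p K) := (fmPi (mV p K)).comp (mι K)

/-- the image of `J(K)` in the model -/
def mH : Subgroup (FM (mV p K)) := (Cfsg.thompsonSubgroup p ↥K).map (mρ p K)

/-- the image of the operator group in the model -/
def mX (X : Subgroup G) : Subgroup (FM (mV p K)) :=
  (X.subgroupOf (Subgroup.normalizer (K : Set G))).map (fmPi (mV p K))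

theorem mρ_eq_one_iff (k : ↥K) :
    mρ p K k = 1 ↔ k ∈ Subgroup.centralizer ((mW p K : Subgroup ↥K) : Set ↥K) := by
  show fmPi (mV p K) (mι K k) = 1 ↔ _
  rw [← MonoidHom.mem_ker, fmPi_ker, Subgroup.mem_centralizer_iff, Subgroup.mem_centralizer_iff]
  constructor
  · intro h w hw
    have := h (mι K w) ⟨w, hw, rfl⟩
    rw [← map_mul, ← map_mul] at this
    exact mι_injective K this
  · rintro h _ ⟨w, hw, rfl⟩
    rw [← map_mul, ← map_mul, h w hw]

theorem mρ_ker : (mρ p K).ker = Subgroup.centralizer ((mW p K : Subgroup ↥K) : Set ↥K) := by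
  ext k
  rw [MonoidHom.mem_ker]
  exact mρ_eq_one_iff p K k

theorem mH_eq : mH p K = ((Cfsg.thompsonSubgroup p ↥K).map (mι K)).map (fmPi (mV p K)) :=
  (Subgroup.map_map _ _ _).symm

theorem mH_hHV : mH p K ≤ Subgroup.normalizer ((fmV (mV p K) : Subgroup (FM (mV p K))) :
    Set (FM (mV p K))) := by
  rw [mH_eq]; exact fm_hHV _ _

theorem mH_faithful : mH p K ⊓ Subgroup.centralizer ((fmV (mV p K) : Subgroup (FM (mV p K))) :
    Set (FM (mV p K))) = ⊥ := by
  rw [mH_eq]; exact fm_faithful _ _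

theorem mH_le_range : mH p K ≤ (mρ p K).range := Subgroup.map_le_range _ _

variable {p K}

theorem mV_elemAb (hsep : Cfsg.IsPSolvable p ↥K) (hO : Cfsg.pPrimeCore p ↥K = ⊥) :
    IsElementaryAbelian p (mV p K) := by
  have hc := Cfsg.Agent.Lib.helper38.centralizer_pCore_le_of_isPSolvable hsep hO
  obtain ⟨-, hWel, -⟩ := Cfsg.Agent.S0601.result (p := p) hc
  exact elemAb_map (mι K) hWel

theorem mH_hS1 (hsep : Cfsg.IsPSolvable p ↥K) (hO : Cfsg.pPrimeCore p ↥K = ⊥) :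
    Subgroup.centralizer (Cfsg.pPrimeCore p ↥(mH p K) : Set ↥(mH p K)) ≤
      Cfsg.pPrimeCore p ↥(mH p K) := by
  have hfin := fm_finite (mV p K)
  have hc := Cfsg.Agent.Lib.helper38.centralizer_pCore_le_of_isPSolvable hsep hO
  obtain ⟨-, -, hWD⟩ := Cfsg.Agent.S0601.result (p := p) hc
  have hJc : (Cfsg.thompsonSubgroup p ↥K).Characteristic := thompsonSubgroup_characteristic p ↥K
  have hsol : Cfsg.IsPSolvable p ↥(mH p K) :=
    Cfsg.Agent.Lib.helper38.isPSolvable_of_surjective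
      ((mρ p K).subgroupMap (Cfsg.thompsonSubgroup p ↥K))
      (MonoidHom.subgroupMap_surjective _ _)
      (Cfsg.Agent.Lib.helper38.isPSolvable_subgroup _ hsep)
  have hcore : Cfsg.pCore p ↥(mH p K) = ⊥ := by
    apply pCore_map_eq_bot (mρ p K) (Cfsg.thompsonSubgroup p ↥K)
    rw [mρ_ker]
    exact hWD
  exact centralizer_pPrimeCore_le_of_isPSolvable hsol hcore

theorem mH_hS3 (hsep : Cfsg.IsPSolvable p ↥K) (hO : Cfsg.pPrimeCore p ↥K = ⊥) :
    mH p K = ⨆ A : {A : Subgroup (FM (mV p K)) // A ≤ mH p K ∧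
      IsBestOffenderOn p (fmV (mV p K)) A}, (A : Subgroup (FM (mV p K))) := by
  have hfin := fm_finite (mV p K)
  have hc := Cfsg.Agent.Lib.helper38.centralizer_pCore_le_of_isPSolvable hsep hO
  obtain ⟨hWn, hWel, -⟩ := Cfsg.Agent.S0601.result (p := p) hc
  have h := fm_hS3 (p := p) (mV p K)
    ((fun A : Subgroup ↥K => A.map (mι K)) '' Cfsg.maxElementaryAbelianSubgroups p ↥K) (by
      rintro _ ⟨A₀, hA₀, rfl⟩
      exact isBestOffenderOn_map_injective (mι K) (mι_injective K)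
        (Cfsg.Agent.S0606.result (mW p K) hWel A₀ hA₀))
  have e : (sSup ((fun A : Subgroup ↥K => A.map (mι K)) ''
      Cfsg.maxElementaryAbelianSubgroups p ↥K)).map (fmPi (mV p K)) = mH p K := by
    rw [mH_eq]
    congr 1
    rw [sSup_image]
    exact ((Subgroup.gc_map_comap (mι K)).l_sSup).symm
  rw [e] at h
  exact h

theorem mH_ne_bot (hJC : ¬ Cfsg.thompsonSubgroup p ↥K ≤
    Subgroup.centralizer ((mW p K : Subgroup ↥K) : Set ↥K)) : mH p K ≠ ⊥ := by
  intro h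
  apply hJC
  intro j hj
  rw [← mρ_eq_one_iff]
  have : mρ p K j ∈ mH p K := Subgroup.mem_map_of_mem _ hj
  rwa [h, Subgroup.mem_bot] at this

omit [Finite G] in
theorem mem_normalizer_of_normal {M : Type*} [Group M] {N : Subgroup M} (h : N.Normal) (g : M) :
    g ∈ Subgroup.normalizer (N : Set M) := by
  rw [Subgroup.mem_normalizer_iff]
  intro x
  exact ⟨fun hx => h.conj_mem x hx g, fun hx => by
    have := h.conj_mem _ hx g⁻¹
    have e : g⁻¹ * (g * x * g⁻¹) * g⁻¹⁻¹ = x := by group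
    rwa [e] at this⟩

theorem mXAct {q : ℕ} [Fact q.Prime] {X : Subgroup G}
    (hXK : X ≤ Subgroup.normalizer (K : Set G)) (hX : Cfsg.IsElementaryAbelian q X)
    (hq : ¬ q ∣ Nat.card K) :
    XAct (fmV (mV p K)) (mH p K) ((Cfsg.pPrimeCore p ↥(mH p K)).map (mH p K).subtype)
      (mX p K X) := by
  have hJc : (Cfsg.thompsonSubgroup p ↥K).Characteristic := thompsonSubgroup_characteristic p ↥K
  have hJn : ((Cfsg.thompsonSubgroup p ↥K).map (mι K)).Normal :=
    normal_map_inclusion K (Cfsg.thompsonSubgroup p ↥K)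
  have hXH : mX p K X ≤ Subgroup.normalizer ((mH p K : Subgroup (FM (mV p K))) :
      Set (FM (mV p K))) := by
    rintro _ ⟨n, -, rfl⟩
    rw [mH_eq]
    apply Subgroup.le_normalizer_map (fmPi (mV p K))
    exact ⟨n, mem_normalizer_of_normal hJn n, rfl⟩
  refine ⟨fun x _ => mem_normalizer_of_normal (fmV_normal (mV p K)) x, hXH, ?_, ?_⟩
  · exact hXH.trans
      (Cfsg.Agent.Lib.helper27.normalizer_le_normalizer_map_subtype_of_characteristic
        (mH p K) (Cfsg.pPrimeCore p ↥(mH p K)))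
  · obtain ⟨n, hn⟩ := (elemAb_isPGroup hX).exists_card_eq
    have h1 : Nat.card (mX p K X) ∣ q ^ n := by
      rw [← hn, ← card_subgroupOf_of_le hXK]
      exact Subgroup.card_map_dvd _ _
    have h2 : Nat.card (mH p K) ∣ Nat.card K :=
      (Subgroup.card_map_dvd _ _).trans (Subgroup.card_subgroup_dvd_card _)
    have h3 : (q ^ n).Coprime (Nat.card K) :=
      Nat.Coprime.pow_left n ((Nat.Prime.coprime_iff_not_dvd (Fact.out)).mpr hq)
    exact Nat.Coprime.coprime_dvd_left h1 (Nat.Coprime.coprime_dvd_right h2 h3)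

theorem m_lift {q : ℕ} [Fact q.Prime] {X : Subgroup G}
    (hXK : X ≤ Subgroup.normalizer (K : Set G)) (hX : Cfsg.IsElementaryAbelian q X)
    (hq : ¬ q ∣ Nat.card K) {d : FM (mV p K)} (hd : d ∈ (mρ p K).range)
    (hdX : d ∈ Subgroup.centralizer ((mX p K X : Subgroup (FM (mV p K))) : Set (FM (mV p K)))) :
    ∃ k : ↥K, (k : G) ∈ Subgroup.centralizer (X : Set G) ∧ mρ p K k = d := by
  obtain ⟨k₀, rfl⟩ := hd
  obtain ⟨g, ⟨k, rfl, hk⟩, hfix⟩ := exists_fixed_of_coprime X (elemAb_isPGroup hX)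
    {g : G | ∃ k : ↥K, (k : G) = g ∧ mρ p K k = mρ p K k₀} (by
      rintro x hx _ ⟨k, rfl, hk⟩
      refine ⟨⟨x * k * x⁻¹, (Subgroup.mem_normalizer_iff.mp (hXK hx) k).mp k.2⟩, rfl, ?_⟩
      have e1 : mι K ⟨x * k * x⁻¹, (Subgroup.mem_normalizer_iff.mp (hXK hx) k).mp k.2⟩ =
          (⟨x, hXK hx⟩ : ↥(Subgroup.normalizer (K : Set G))) * mι K k *
            (⟨x, hXK hx⟩ : ↥(Subgroup.normalizer (K : Set G)))⁻¹ := Subtype.ext rfl
      have e2 : fmPi (mV p K) (⟨x, hXK hx⟩ : ↥(Subgroup.normalizer (K : Set G))) ∈ mX p K X :=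
        ⟨_, Subgroup.mem_subgroupOf.mpr hx, rfl⟩
      have e3 := Subgroup.mem_centralizer_iff.mp hdX _ e2
      show fmPi (mV p K) (mι K _) = _
      rw [e1, map_mul, map_mul, map_inv]
      have e4 : fmPi (mV p K) (mι K k) = mρ p K k₀ := hk
      rw [e4, e3]; group) (by
      intro hdvd
      apply hq
      refine hdvd.trans ?_
      have hcard : Nat.card {g : G | ∃ k : ↥K, (k : G) = g ∧ mρ p K k = mρ p K k₀} =
          Nat.card (mρ p K).ker := by
        symm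
        apply Nat.card_congr
        refine Equiv.ofBijective (fun c => ⟨((k₀ * c : ↥K) : G), ⟨k₀ * c, rfl, by
          rw [map_mul, MonoidHom.mem_ker.mp c.2, mul_one]⟩⟩) ⟨?_, ?_⟩
        · intro c c' h
          have h1 := congrArg Subtype.val h
          have h2 : (k₀ * (c : ↥K) : ↥K) = k₀ * (c' : ↥K) := Subtype.ext h1
          exact Subtype.ext (mul_left_cancel h2)
        · rintro ⟨_, k, rfl, hk⟩
          refine ⟨⟨k₀⁻¹ * k, ?_⟩, ?_⟩
          · rw [MonoidHom.mem_ker, map_mul, map_inv, hk, inv_mul_cancel]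
          · apply Subtype.ext
            show ((k₀ * (k₀⁻¹ * k) : ↥K) : G) = (k : G)
            rw [mul_inv_cancel_left]
      rw [hcard]
      exact Subgroup.card_subgroup_dvd_card _)
  refine ⟨k, ?_, hk⟩
  rw [Subgroup.mem_centralizer_iff]
  intro x hx
  have := hfix x hx
  calc x * (k : G) = (x * (k : G) * x⁻¹) * x := by group
    _ = (k : G) * x := by rw [this]

end Model

section Pullback

variable {G : Type*} [Group G] [Finite G] (p : ℕ) [hp : Fact p.Prime] (K : Subgroup G)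

/-- pull back a subgroup of the model's `V` to `G` -/
def mPb (Wt : Subgroup (FM (mV p K))) : Subgroup G :=
  ((Wt.comap (SemidirectProduct.inl : ↥(mV p K) →* FM (mV p K))).map (mV p K).subtype).map
    (Subgroup.normalizer (K : Set G)).subtype

variable {p K}

theorem mem_mPb {Wt : Subgroup (FM (mV p K))} {g : G} :
    g ∈ mPb p K Wt ↔ ∃ v : ↥(mV p K), (SemidirectProduct.inl v : FM (mV p K)) ∈ Wt ∧
      ((v : ↥(Subgroup.normalizer (K : Set G))) : G) = g := by
  constructor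
  · rintro ⟨n, ⟨v, hv, rfl⟩, rfl⟩
    exact ⟨v, hv, rfl⟩
  · rintro ⟨v, hv, rfl⟩
    exact ⟨_, ⟨v, hv, rfl⟩, rfl⟩

theorem mPb_le_mW {Wt : Subgroup (FM (mV p K))} : mPb p K Wt ≤ (mW p K).map K.subtype := by
  intro g hg
  obtain ⟨v, -, rfl⟩ := mem_mPb.mp hg
  obtain ⟨k, hk, hkv⟩ := v.2
  exact ⟨k, hk, by rw [← hkv]; rfl⟩

theorem mPb_le_K {Wt : Subgroup (FM (mV p K))} : mPb p K Wt ≤ K :=
  mPb_le_mW.trans (Subgroup.map_subtype_le _)

theorem mPb_card {Wt : Subgroup (FM (mV p K))} (hWt : Wt ≤ fmV (mV p K)) :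
    Nat.card (mPb p K Wt) = Nat.card Wt := by
  have h1 : Nat.card (mPb p K Wt) = Nat.card ↥((Wt.comap
      (SemidirectProduct.inl : ↥(mV p K) →* FM (mV p K))).map (mV p K).subtype) :=
    Subgroup.card_map_of_injective (Subgroup.subtype_injective _)
  have h2 : Nat.card ↥((Wt.comap
      (SemidirectProduct.inl : ↥(mV p K) →* FM (mV p K))).map (mV p K).subtype) =
      Nat.card ↥(Wt.comap (SemidirectProduct.inl : ↥(mV p K) →* FM (mV p K))) :=
    Subgroup.card_map_of_injective (Subgroup.subtype_injective _)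
  have h3 : Nat.card ↥((Wt.comap (SemidirectProduct.inl : ↥(mV p K) →* FM (mV p K))).map
      (SemidirectProduct.inl : ↥(mV p K) →* FM (mV p K))) =
      Nat.card ↥(Wt.comap (SemidirectProduct.inl : ↥(mV p K) →* FM (mV p K))) :=
    Subgroup.card_map_of_injective SemidirectProduct.inl_injective
  rw [h1, h2, ← h3, Subgroup.map_comap_eq_self hWt]

theorem mPb_elemAb {Wt : Subgroup (FM (mV p K))} (hsep : Cfsg.IsPSolvable p ↥K)
    (hO : Cfsg.pPrimeCore p ↥K = ⊥) : IsElementaryAbelian p (mPb p K Wt) :=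
  elemAb_mono (elemAb_map (Subgroup.normalizer (K : Set G)).subtype (mV_elemAb hsep hO))
    (Subgroup.map_mono (Subgroup.map_subtype_le _))

theorem m_conj (n : ↥(Subgroup.normalizer (K : Set G))) (v : ↥(mV p K)) :
    ∃ v' : ↥(mV p K), ((v' : ↥(Subgroup.normalizer (K : Set G))) : G) =
        (n : G) * ((v : ↥(Subgroup.normalizer (K : Set G))) : G) * (n : G)⁻¹ ∧
      fmPi (mV p K) n * SemidirectProduct.inl v * (fmPi (mV p K) n)⁻¹ =
        SemidirectProduct.inl v' := by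
  refine ⟨MulAut.conjNormal n v, ?_, fmPi_mul_inl (mV p K) n v⟩
  rw [MulAut.conjNormal_apply]
  rfl

theorem mPb_cj_le {Wt : Subgroup (FM (mV p K))} {n : ↥(Subgroup.normalizer (K : Set G))}
    (hn : fmPi (mV p K) n ∈ Subgroup.normalizer (Wt : Set (FM (mV p K)))) :
    cj (n : G) (mPb p K Wt) ≤ mPb p K Wt := by
  intro g hg
  obtain ⟨g₀, hg₀, rfl⟩ := mem_cj.mp hg
  obtain ⟨v, hv, rfl⟩ := mem_mPb.mp hg₀
  obtain ⟨v', hv', hv'e⟩ := m_conj n v
  exact mem_mPb.mpr ⟨v', by rw [← hv'e]; exact (Subgroup.mem_normalizer_iff.mp hn _).mp hv, hv'⟩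

theorem mPb_normalizer {Wt : Subgroup (FM (mV p K))} {n : ↥(Subgroup.normalizer (K : Set G))}
    (hn : fmPi (mV p K) n ∈ Subgroup.normalizer (Wt : Set (FM (mV p K)))) :
    (n : G) ∈ Subgroup.normalizer ((mPb p K Wt : Subgroup G) : Set G) := by
  apply mem_normalizer_of_cj_le (mPb_cj_le hn)
  have h : fmPi (mV p K) n⁻¹ ∈ Subgroup.normalizer (Wt : Set (FM (mV p K))) := by
    rw [map_inv]; exact Subgroup.inv_mem _ hn
  exact mPb_cj_le h

theorem mPb_centralizer {Wt : Subgroup (FM (mV p K))} {X : Subgroup G}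
    (hXK : X ≤ Subgroup.normalizer (K : Set G))
    (hWtX : Wt ≤ Subgroup.centralizer ((mX p K X : Subgroup (FM (mV p K))) : Set (FM (mV p K)))) :
    mPb p K Wt ≤ Subgroup.centralizer (X : Set G) := by
  intro g hg
  obtain ⟨v, hv, rfl⟩ := mem_mPb.mp hg
  rw [Subgroup.mem_centralizer_iff]
  intro x hx
  obtain ⟨v', hv', hv'e⟩ := m_conj (⟨x, hXK hx⟩ : ↥(Subgroup.normalizer (K : Set G))) v
  have e2 : fmPi (mV p K) (⟨x, hXK hx⟩ : ↥(Subgroup.normalizer (K : Set G))) ∈ mX p K X :=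
    ⟨_, Subgroup.mem_subgroupOf.mpr hx, rfl⟩
  have e3 := Subgroup.mem_centralizer_iff.mp (hWtX hv) _ e2
  have e4 : (SemidirectProduct.inl v' : FM (mV p K)) = SemidirectProduct.inl v := by
    rw [← hv'e, e3]; group
  have e5 : v' = v := SemidirectProduct.inl_injective e4
  have hv'' : x * ((v : ↥(Subgroup.normalizer (K : Set G))) : G) * x⁻¹ =
      ((v : ↥(Subgroup.normalizer (K : Set G))) : G) := by
    rw [e5] at hv'; exact hv'.symm
  calc x * ((v : ↥(Subgroup.normalizer (K : Set G))) : G)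
      = (x * ((v : ↥(Subgroup.normalizer (K : Set G))) : G) * x⁻¹) * x := by group
    _ = ((v : ↥(Subgroup.normalizer (K : Set G))) : G) * x := by rw [hv'']

end Pullback

section Main

theorem exists_root {G : Type*} [Group G] [Finite G] {p : ℕ} [Fact p.Prime] (V H : Subgroup G)
    (hV : Cfsg.IsElementaryAbelian p V) (hHV : H ≤ Subgroup.normalizer (V : Set G))
    (hf : H ⊓ Subgroup.centralizer (V : Set G) = ⊥)
    (hS1 : Subgroup.centralizer (Cfsg.pPrimeCore p ↥H : Set ↥H) ≤ Cfsg.pPrimeCore p ↥H)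
    (hS3 : H = ⨆ A : {A : Subgroup G // A ≤ H ∧ Cfsg.IsBestOffenderOn p V A}, (A : Subgroup G))
    (hH1 : H ≠ ⊥) : ∃ A, IsRoot p V H A := by
  have hex : ∃ B : Subgroup G, B ≤ H ∧ Cfsg.IsBestOffenderOn p V B ∧ ⁅V, B⁆ ≠ ⊥ := by
    by_contra hcon
    push Not at hcon
    apply hH1
    rw [eq_bot_iff]
    refine hS3.le.trans (iSup_le ?_)
    rintro ⟨B, hB, hBo⟩
    have h1 := hcon B hB hBo
    rw [← hf]
    exact le_inf hB (Cfsg.Agent.Lib.helper53.commutator_eq_bot_iff_le_centralizer'.mp h1)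
  obtain ⟨A', hA'mem, hA'min⟩ := Set.exists_min_image
    {B : Subgroup G | B ≤ H ∧ Cfsg.IsBestOffenderOn p V B ∧ ⁅V, B⁆ ≠ ⊥}
    (fun B => Nat.card B) (Set.toFinite _) hex
  obtain ⟨hA'H, hA'bo, hA'V⟩ := hA'mem
  exact ⟨A', isRoot_of_min V H hV hHV hf hS1 hS3 hH1 A' hA'H hA'bo hA'V
    (fun B hBA hBo hBV => Subgroup.eq_of_le_of_card_ge hBA
      (hA'min B ⟨hBA.trans hA'H, hBo, hBV⟩))⟩

/-- **KS 9.3.10** (coprime operators, `SL₂(p)` in the fixed points). -/
theorem coprime_sl2 {G : Type*} [Group G] [Finite G] {p : ℕ} [Fact p.Prime] {q : ℕ} [Fact q.Prime]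
    (K X : Subgroup G) (hXK : X ≤ Subgroup.normalizer (K : Set G))
    (hX : Cfsg.IsElementaryAbelian q X) (hq : ¬ q ∣ Nat.card K)
    (hsep : Cfsg.IsPSolvable p ↥K) (hO : Cfsg.pPrimeCore p ↥K = ⊥)
    (hnf : ¬ Cfsg.IsThompsonFactorizable p ↥K) :
    (p = 2 ∨ p = 3) ∧ ∃ W D : Subgroup G, W ≤ K ⊓ Subgroup.centralizer (X : Set G) ∧
      D ≤ K ⊓ Subgroup.centralizer (X : Set G) ∧ Cfsg.IsElementaryAbelian p W ∧
      Nat.card W = p ^ 2 ∧ D ≤ Subgroup.normalizer (W : Set G) ∧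
      ∃ hn : ((Subgroup.centralizer (W : Set G)).subgroupOf D).Normal,
        Nonempty ((↥D ⧸ (Subgroup.centralizer (W : Set G)).subgroupOf D) ≃*
          Matrix.SpecialLinearGroup (Fin 2) (ZMod p)) := by
  have hfin := fm_finite (mV p K)
  have hJC := (Cfsg.Agent.S0608.result (p := p) hO).not.mp hnf
  have hV' := fmV_elemAb (mV p K) (mV_elemAb hsep hO)
  have hHV := mH_hHV p K
  have hf := mH_faithful p K
  have hS1 := mH_hS1 hsep hO
  have hS3 := mH_hS3 hsep hO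
  have hH1 := mH_ne_bot hJC
  have S := ffSet_of_hyp (fmV (mV p K)) (mH p K) hV' hHV hf hS1
  obtain ⟨A, hA⟩ := exists_root (fmV (mV p K)) (mH p K) hV' hHV hf hS1 hS3 hH1
  have hN := fun A hA => H_le_normalizer_E (fmV (mV p K)) (mH p K) hV' hHV hf hS1 hS3 A hA
  have XA := mXAct (p := p) hXK hX hq
  refine ⟨E_p23 S hA, ?_⟩
  obtain ⟨Wt, hWtV, hWtX, hWtcard, hWtN, d₁, d₂, w, hd₁, hd₂, hw, h1, h2, h3⟩ :=
    diag_sl2 S hA XA hN
  obtain ⟨k₁, hk₁X, rfl⟩ := m_lift hXK hX hq (mH_le_range p K hd₁.1) hd₁.2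
  obtain ⟨k₂, hk₂X, rfl⟩ := m_lift hXK hX hq (mH_le_range p K hd₂.1) hd₂.2
  obtain ⟨vw, rfl⟩ := hWtV hw
  have hWGX : mPb p K Wt ≤ Subgroup.centralizer (X : Set G) := mPb_centralizer hXK hWtX
  have hWGel : IsElementaryAbelian p (mPb p K Wt) := mPb_elemAb hsep hO
  have hWGcard : Nat.card (mPb p K Wt) = p ^ 2 := (mPb_card hWtV).trans hWtcard
  have hk₁N : (k₁ : G) ∈ Subgroup.normalizer ((mPb p K Wt : Subgroup G) : Set G) :=
    mPb_normalizer (n := mι K k₁) (hWtN hd₁)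
  have hk₂N : (k₂ : G) ∈ Subgroup.normalizer ((mPb p K Wt : Subgroup G) : Set G) :=
    mPb_normalizer (n := mι K k₂) (hWtN hd₂)
  have hwG : ((vw : ↥(Subgroup.normalizer (K : Set G))) : G) ∈ mPb p K Wt :=
    mem_mPb.mpr ⟨vw, hw, rfl⟩
  obtain ⟨v1, hv1, hv1e⟩ := m_conj (mι K k₁) vw
  have h1' : (k₁ : G) * ((vw : ↥(Subgroup.normalizer (K : Set G))) : G) * (k₁ : G)⁻¹ =
      ((vw : ↥(Subgroup.normalizer (K : Set G))) : G) := by
    have e : v1 = vw := SemidirectProduct.inl_injective (hv1e.symm.trans h1)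
    rw [e] at hv1; exact hv1.symm
  obtain ⟨v2, hv2, hv2e⟩ := m_conj (mι K k₂)⁻¹ vw
  have hv2e' : (mρ p K k₂)⁻¹ * SemidirectProduct.inl vw * mρ p K k₂ =
      SemidirectProduct.inl v2 := by
    rw [← hv2e, map_inv, inv_inv]; rfl
  obtain ⟨v3, hv3, hv3e⟩ := m_conj (mι K k₁) v2
  have h2' : (k₁ : G) * ((k₂ : G)⁻¹ * ((vw : ↥(Subgroup.normalizer (K : Set G))) : G) *
      (k₂ : G)) * (k₁ : G)⁻¹ ≠
      (k₂ : G)⁻¹ * ((vw : ↥(Subgroup.normalizer (K : Set G))) : G) * (k₂ : G) := by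
    intro hcon
    apply h2
    rw [hv2e']
    have hv2' : ((v2 : ↥(Subgroup.normalizer (K : Set G))) : G) =
        (k₂ : G)⁻¹ * ((vw : ↥(Subgroup.normalizer (K : Set G))) : G) * (k₂ : G) := by
      rw [hv2]; simp
    have e : v3 = v2 := by
      apply Subtype.ext; apply Subtype.ext
      rw [hv3, hv2']; exact hcon
    rw [e] at hv3e
    exact hv3e
  have h3' : (k₁ : G) ^ p ∈ Subgroup.centralizer ((mPb p K Wt : Subgroup G) : Set G) := by
    have e : mρ p K (k₁ ^ p) = 1 := by rw [map_pow]; exact h3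
    rw [mρ_eq_one_iff] at e
    rw [Subgroup.mem_centralizer_iff]
    intro g hg
    obtain ⟨kw, hkw, rfl⟩ := mPb_le_mW hg
    have h4 := Subgroup.mem_centralizer_iff.mp e kw hkw
    have h5 := congrArg Subtype.val h4
    simpa using h5
  obtain ⟨hWc, hWp⟩ := (isElementaryAbelian_iff (mPb p K Wt)).mp hWGel
  obtain ⟨D, hDT, hn, hiso⟩ := sl2_section_of_gens (mPb p K Wt)
    ((K ⊓ Subgroup.centralizer (X : Set G)) ⊓
      Subgroup.normalizer ((mPb p K Wt : Subgroup G) : Set G))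
    hWc hWp hWGcard inf_le_right ⟨⟨k₁.2, hk₁X⟩, hk₁N⟩ ⟨⟨k₂.2, hk₂X⟩, hk₂N⟩ hwG h1' h2' h3'
  exact ⟨mPb p K Wt, D, le_inf mPb_le_K hWGX, hDT.trans inf_le_left, hWGel, hWGcard,
    hDT.trans inf_le_right, hn, hiso⟩

end Main

end Cfsg.Agent.Lib.helper14
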