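import Mathlib
import Cfsg.Agent.Lib.helper14.FF9
import Cfsg.Agent.S0617

/-!
helper14: KS 9.3.9 — under coprime operators `X`, `K` is generated by `N_K(J(S))`,
`C_K(Ω₁(Z(S)))` and `C_K(X)`.
-/

set_option autoImplicit false
open Cfsg Cfsg.Agent.Lib.helper13

namespace Cfsg.Agent.Lib.helper14

open scoped commutatorElement

theorem coprime_generation {G : Type*} [Group G] [Finite G] {p : ℕ} [Fact p.Prime] {q : ℕ}
    [Fact q.Prime] (K X : Subgroup G) (hXK : X ≤ Subgroup.normalizer (K : Set G))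
    (hX : Cfsg.IsElementaryAbelian q X) (hq : ¬ q ∣ Nat.card K)
    (hsep : Cfsg.IsPSolvable p ↥K) (hO : Cfsg.pPrimeCore p ↥K = ⊥) (S : Sylow p ↥K) :
    (Subgroup.normalizer (Cfsg.thompsonSubgroupOf p (S : Subgroup ↥K) : Set ↥K) ⊔
      Subgroup.centralizer (Cfsg.omegaOne p ((S : Subgroup ↥K) ⊓
        Subgroup.centralizer ((S : Subgroup ↥K) : Set ↥K)) : Set ↥K) ⊔
      (Subgroup.centralizer (X : Set G)).subgroupOf K) = ⊤ := by
  have hfin := fm_finite (mV p K)
  generalize hT : (Subgroup.normalizer (Cfsg.thompsonSubgroupOf p (S : Subgroup ↥K) : Set ↥K) ⊔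
      Subgroup.centralizer (Cfsg.omegaOne p ((S : Subgroup ↥K) ⊓
        Subgroup.centralizer ((S : Subgroup ↥K) : Set ↥K)) : Set ↥K) ⊔
      (Subgroup.centralizer (X : Set G)).subgroupOf K) = T
  have hNJ : Subgroup.normalizer (Cfsg.thompsonSubgroupOf p (S : Subgroup ↥K) : Set ↥K) ≤ T := by
    rw [← hT]; exact le_sup_left.trans le_sup_left
  have hCW : Subgroup.centralizer ((mW p K : Subgroup ↥K) : Set ↥K) ≤ T := by
    rw [← hT]
    refine le_trans ?_ (le_sup_right.trans le_sup_left)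
    apply Subgroup.centralizer_le
    exact le_iSup (fun S : Sylow p ↥K => Cfsg.omegaOne p ((S : Subgroup ↥K) ⊓
      Subgroup.centralizer ((S : Subgroup ↥K) : Set ↥K))) S
  have hCX : (Subgroup.centralizer (X : Set G)).subgroupOf K ≤ T := by
    rw [← hT]; exact le_sup_right
  have hST : (S : Subgroup ↥K) ≤ T :=
    (Subgroup.le_normalizer.trans
      (normalizer_le_normalizer_thompsonSubgroupOf p (S : Subgroup ↥K))).trans hNJ
  have hJc : (Cfsg.thompsonSubgroup p ↥K).Characteristic := thompsonSubgroup_characteristic p ↥K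
  have hJn : (Cfsg.thompsonSubgroup p ↥K).Normal := inferInstance
  have hCn : (Subgroup.centralizer ((mW p K : Subgroup ↥K) : Set ↥K)).Normal := by
    rw [← mρ_ker]; exact MonoidHom.normal_ker _
  have hNn : (Cfsg.thompsonSubgroup p ↥K ⊔
      Subgroup.centralizer ((mW p K : Subgroup ↥K) : Set ↥K)).Normal := inferInstance
  have hfrat := frattini_thompson (Cfsg.thompsonSubgroup p ↥K ⊔
      Subgroup.centralizer ((mW p K : Subgroup ↥K) : Set ↥K)) le_sup_left S
  suffices hmain : Cfsg.thompsonSubgroup p ↥K ≤ T by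
    rw [eq_top_iff, ← hfrat]
    exact sup_le hNJ (sup_le hmain hCW)
  by_cases hJC : Cfsg.thompsonSubgroup p ↥K ≤
      Subgroup.centralizer ((mW p K : Subgroup ↥K) : Set ↥K)
  · exact hJC.trans hCW
  have hV' := fmV_elemAb (mV p K) (mV_elemAb hsep hO)
  have hHV := mH_hHV p K
  have hf := mH_faithful p K
  have hS1 := mH_hS1 hsep hO
  have hS3 := mH_hS3 hsep hO
  have hH1 := mH_ne_bot hJC
  have SS := ffSet_of_hyp (fmV (mV p K)) (mH p K) hV' hHV hf hS1
  have hN := fun A hA => H_le_normalizer_E (fmV (mV p K)) (mH p K) hV' hHV hf hS1 hS3 A hA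
  have XA := mXAct (p := p) hXK hX hq
  -- fixed points of `X` in the model come from `T`
  have hfix : mH p K ⊓ Subgroup.centralizer ((mX p K X : Subgroup (FM (mV p K))) :
      Set (FM (mV p K))) ≤ T.map (mρ p K) := by
    rintro d ⟨hdH, hdX⟩
    obtain ⟨k, hkX, rfl⟩ := m_lift hXK hX hq (mH_le_range p K hdH) hdX
    exact Subgroup.mem_map_of_mem _ (hCX (Subgroup.mem_subgroupOf.mpr hkX))
  -- each `E` lies in the image of `T`
  have hroot : ∀ A : Subgroup (FM (mV p K)), IsRoot p (fmV (mV p K)) (mH p K) A →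
      ⁅(Cfsg.pPrimeCore p ↥(mH p K)).map (mH p K).subtype, A⁆ ⊔ A ≤ T.map (mρ p K) := by
    intro A hA
    obtain ⟨ã, hã, hã1⟩ := hA.exists_ne_one
    obtain ⟨j, hj, rfl⟩ := hA.le hã
    obtain ⟨k₁, hk₁p, hk₁⟩ := exists_pElement_lift (mρ p K) (hA.pow_eq_one hã)
    obtain ⟨g, hg⟩ := exists_conj_map_le_sylow hk₁p S
    have hgS : g * k₁ * g⁻¹ ∈ (S : Subgroup ↥K) := hg ⟨k₁, Subgroup.mem_zpowers k₁, rfl⟩
    have hgtop : g ∈ (Cfsg.thompsonSubgroup p ↥K ⊔
        Subgroup.centralizer ((mW p K : Subgroup ↥K) : Set ↥K)) ⊔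
        Subgroup.normalizer (Cfsg.thompsonSubgroupOf p (S : Subgroup ↥K) : Set ↥K) := by
      rw [sup_comm, hfrat]; exact Subgroup.mem_top g
    obtain ⟨n, hn, y, hy, rfl⟩ := (Cfsg.Agent.Lib.helper53.mem_sup_of_le_normalizer'
      (fun x _ => mem_normalizer_of_normal hNn x)).mp hgtop
    have hyT : y * k₁ * y⁻¹ ∈ T := by
      have e : y * k₁ * y⁻¹ = n⁻¹ * (n * y * k₁ * (n * y)⁻¹) * n := by group
      rw [e]
      exact T.mul_mem (T.mul_mem (T.inv_mem (hNJ hn)) (hST hgS)) (hNJ hn)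
    have hyH : mρ p K y ∈ mH p K := by
      obtain ⟨j', hj', c, hc, rfl⟩ := (Cfsg.Agent.Lib.helper53.mem_sup_of_le_normalizer
        (fun x _ => mem_normalizer_of_normal hJn x)).mp hy
      rw [map_mul, (mρ_eq_one_iff p K c).mpr hc, mul_one]
      exact Subgroup.mem_map_of_mem _ hj'
    have hB : IsRoot p (fmV (mV p K)) (mH p K) (cj (mρ p K y) A) := hA.cj SS hyH
    have hBT : cj (mρ p K y) A ≤ T.map (mρ p K) := by
      intro b hb
      obtain ⟨a', ha', rfl⟩ := mem_cj.mp hb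
      rw [← hA.zpowers_eq hã hã1, ← hk₁] at ha'
      obtain ⟨i, rfl⟩ := Subgroup.mem_zpowers_iff.mp ha'
      refine ⟨(y * k₁ * y⁻¹) ^ i, T.zpow_mem hyT i, ?_⟩
      rw [map_zpow, map_mul, map_mul, map_inv, conj_zpow]
    have hEB : ⁅(Cfsg.pPrimeCore p ↥(mH p K)).map (mH p K).subtype, cj (mρ p K y) A⁆ ⊔
        cj (mρ p K y) A = ⁅(Cfsg.pPrimeCore p ↥(mH p K)).map (mH p K).subtype, A⁆ ⊔ A := by
      rw [← E_cj SS hyH A]
      exact cj_eq_of_mem_normalizer (hN A hA hyH)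
    rw [← hEB]
    exact (E_le_sup_fix SS hB XA).trans (sup_le hBT hfix)
  have hHT : mH p K ≤ T.map (mρ p K) := by
    obtain ⟨-, -, -, hsup, -, -⟩ := Cfsg.Agent.S0617.result (fmV (mV p K)) (mH p K) hV' hHV hf
      hS1 hS3 hH1
    rw [← hsup]
    apply iSup_le
    rintro ⟨E, A, hAH, hAbo, hAV, hAmin, rfl⟩
    exact hroot A (isRoot_of_min (fmV (mV p K)) (mH p K) hV' hHV hf hS1 hS3 hH1 A hAH hAbo hAV
      hAmin)
  intro j hj
  obtain ⟨t, ht, htj⟩ := hHT (Subgroup.mem_map_of_mem (mρ p K) hj)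
  have hc : t⁻¹ * j ∈ Subgroup.centralizer ((mW p K : Subgroup ↥K) : Set ↥K) := by
    rw [← mρ_eq_one_iff, map_mul, map_inv, htj, inv_mul_cancel]
  have e : j = t * (t⁻¹ * j) := by group
  rw [e]
  exact T.mul_mem ht (hCW hc)

end Cfsg.Agent.Lib.helper14
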