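import Mathlib
import Cfsg.Agent.Lib.helper57.ElemAbAut

/-!
# S4404 piece SA (for helper38): small actions on an exponent-2 group of order ≤ 16

A `q`-group acting (by conjugation) on an elementary abelian `2`-group `U` of order at most `16`
acts through a subgroup of `Aut(U) ↪ A₈` (helper57), of order dividing `20160 = 2⁶·3²·5·7`.
-/

set_option autoImplicit false

namespace Cfsg.Agent.Lib.helper14

section FQSA

variable {S : Type*} [Group S]

/-- The conjugation action of `A ≤ N(U)` on `U` (exponent 2, order ≤ 16) factors through `A₈`,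
with kernel the elements of `A` centralizing `U`. -/
theorem fqsa_exists_hom [Finite S] (A U : Subgroup S) (hAU : A ≤ Subgroup.normalizer (U : Set S))
    (hU : ∀ u ∈ U, u * u = 1) (hU16 : Nat.card ↥U ≤ 16) :
    ∃ ψ : ↥A →* ↥(alternatingGroup (Fin 8)),
      ∀ a : ↥A, ψ a = 1 ↔ (a : S) ∈ Subgroup.centralizer (U : Set S) := by
  obtain ⟨f, hf⟩ := Cfsg.Agent.Lib.helper57.exists_injective_mulAut_alt8 ↥U (fun v => by
    have := hU v v.2
    ext
    simpa [pow_two] using this) hU16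
  refine ⟨(f.comp U.normalizerMonoidHom).comp (Subgroup.inclusion hAU), fun a => ?_⟩
  have h1 : ((f.comp U.normalizerMonoidHom).comp (Subgroup.inclusion hAU)) a = 1 ↔
      U.normalizerMonoidHom (Subgroup.inclusion hAU a) = 1 := by
    simp only [MonoidHom.comp_apply]
    rw [← map_one f]
    exact hf.eq_iff
  rw [h1, ← MonoidHom.mem_ker, Subgroup.normalizerMonoidHom_ker, Subgroup.mem_subgroupOf]
  rfl

theorem fqsa_card_alt8 : Nat.card ↥(alternatingGroup (Fin 8)) = 20160 := by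
  rw [nat_card_alternatingGroup, Nat.card_eq_fintype_card, Fintype.card_fin]
  decide

/-- The range of the hom is a `p`-group of order `p ^ n` dividing `20160`. -/
theorem fqsa_range_card (A : Subgroup S) (p : ℕ) [Fact p.Prime] (hA : IsPGroup p ↥A)
    (ψ : ↥A →* ↥(alternatingGroup (Fin 8))) :
    ∃ n : ℕ, Nat.card ↥ψ.range = p ^ n ∧ p ^ n ∣ 20160 := by
  have hR : IsPGroup p ↥ψ.range := hA.of_surjective ψ.rangeRestrict ψ.rangeRestrict_surjective
  obtain ⟨n, hn⟩ := IsPGroup.iff_card.mp hR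
  refine ⟨n, hn, ?_⟩
  rw [← hn, ← fqsa_card_alt8]
  exact Subgroup.card_subgroup_dvd_card _

theorem small_action_three [Finite S] (A U : Subgroup S) (hAU : A ≤ Subgroup.normalizer (U : Set S))
    (hU : ∀ u ∈ U, u * u = 1) (hU16 : Nat.card ↥U ≤ 16) (hA : IsPGroup 3 ↥A) :
    ∀ a ∈ A, ∀ b ∈ A, a * b * a⁻¹ * b⁻¹ ∈ Subgroup.centralizer (U : Set S) := by
  have : Fact (Nat.Prime 3) := ⟨Nat.prime_three⟩
  obtain ⟨ψ, hψ⟩ := fqsa_exists_hom A U hAU hU hU16
  obtain ⟨n, hn, hdvd⟩ := fqsa_range_card A 3 hA ψ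
  have hn2 : n ≤ 2 := by
    by_contra hcon
    have hcon : 3 ≤ n := by omega
    have h27 : 3 ^ 3 ∣ 20160 := (pow_dvd_pow 3 hcon).trans hdvd
    exact absurd h27 (by decide)
  have hcomm : ∀ x y : ↥ψ.range, x * y = y * x := by
    interval_cases n
    · have : Subsingleton ↥ψ.range := (Nat.card_eq_one_iff_unique.mp (by simpa using hn)).1
      intro x y
      exact Subsingleton.elim _ _
    · have : IsCyclic ↥ψ.range := isCyclic_of_prime_card (p := 3) (by simpa using hn)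
      intro x y
      exact (IsCyclic.commGroup).mul_comm x y
    · have : IsMulCommutative ↥ψ.range := IsPGroup.isMulCommutative_of_card_eq_prime_sq hn
      intro x y
      exact mul_comm' x y
  intro a ha b hb
  have hc := hcomm ⟨ψ ⟨a, ha⟩, ⟨_, rfl⟩⟩ ⟨ψ ⟨b, hb⟩, ⟨_, rfl⟩⟩
  have hc' : ψ ⟨a, ha⟩ * ψ ⟨b, hb⟩ = ψ ⟨b, hb⟩ * ψ ⟨a, ha⟩ := by
    simpa [Subtype.ext_iff] using hc
  have key : ψ (⟨a, ha⟩ * ⟨b, hb⟩ * ⟨a, ha⟩⁻¹ * ⟨b, hb⟩⁻¹) = 1 := by
    rw [map_mul, map_mul, map_mul, map_inv, map_inv, hc']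
    group
  exact (hψ _).mp key

theorem small_action_large [Finite S] (A U : Subgroup S) (hAU : A ≤ Subgroup.normalizer (U : Set S))
    (hU : ∀ u ∈ U, u * u = 1) (hU16 : Nat.card ↥U ≤ 16) (p : ℕ) (hp : p.Prime) (hp5 : 5 ≤ p)
    (hA : IsPGroup p ↥A) (a : S) (ha : a ∈ A) (ha' : a ∉ Subgroup.centralizer (U : Set S)) :
    (p = 5 ∨ p = 7) ∧ a ^ p ∈ Subgroup.centralizer (U : Set S) ∧
      ∀ b ∈ A, ∃ j : ℕ, b * (a ^ j)⁻¹ ∈ Subgroup.centralizer (U : Set S) := by
  have : Fact p.Prime := ⟨hp⟩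
  obtain ⟨ψ, hψ⟩ := fqsa_exists_hom A U hAU hU hU16
  obtain ⟨n, hn, hdvd⟩ := fqsa_range_card A p hA ψ
  have ha1 : ψ ⟨a, ha⟩ ≠ 1 := fun h => ha' ((hψ _).mp h)
  -- n ≥ 1
  have hn0 : n ≠ 0 := by
    rintro rfl
    have : Subsingleton ↥ψ.range := (Nat.card_eq_one_iff_unique.mp (by simpa using hn)).1
    have : (⟨ψ ⟨a, ha⟩, ⟨_, rfl⟩⟩ : ↥ψ.range) = 1 := Subsingleton.elim _ _
    exact ha1 (congrArg Subtype.val this)
  have hpd : p ∣ 20160 := (dvd_pow_self p hn0).trans hdvd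
  have hp57 : p = 5 ∨ p = 7 := by
    have h1 : p ∣ 2 ^ 6 * 3 ^ 2 * 5 * 7 := by
      have : (2 ^ 6 * 3 ^ 2 * 5 * 7 : ℕ) = 20160 := by norm_num
      rw [this]; exact hpd
    rcases (Nat.Prime.dvd_mul hp).1 h1 with h2 | h2
    · rcases (Nat.Prime.dvd_mul hp).1 h2 with h3 | h3
      · rcases (Nat.Prime.dvd_mul hp).1 h3 with h4 | h4
        · have := Nat.le_of_dvd (by norm_num) (hp.dvd_of_dvd_pow h4)
          omega
        · have := Nat.le_of_dvd (by norm_num) (hp.dvd_of_dvd_pow h4)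
          omega
      · left
        exact (Nat.prime_dvd_prime_iff_eq hp (by norm_num)).1 h3
    · right
      exact (Nat.prime_dvd_prime_iff_eq hp (by norm_num)).1 h2
  have hn1 : n = 1 := by
    by_contra hcon
    have h2 : 2 ≤ n := by omega
    have hsq : p ^ 2 ∣ 20160 := (pow_dvd_pow p h2).trans hdvd
    rcases hp57 with rfl | rfl
    · exact absurd hsq (by decide)
    · exact absurd hsq (by decide)
  subst hn1
  rw [pow_one] at hn
  -- the element of the range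
  set ra : ↥ψ.range := ⟨ψ ⟨a, ha⟩, ⟨_, rfl⟩⟩ with hra
  have hra1 : ra ≠ 1 := by
    intro h
    exact ha1 (congrArg Subtype.val h)
  have hpow : ra ^ p = 1 := by
    have := pow_card_eq_one' (G := ↥ψ.range) (x := ra)
    rwa [hn] at this
  have htop : Subgroup.zpowers ra = ⊤ := zpowers_eq_top_of_prime_card hn hra1
  refine ⟨hp57, ?_, ?_⟩
  · have h1 : ψ (⟨a, ha⟩ ^ p) = 1 := by
      rw [map_pow]
      have := congrArg Subtype.val hpow
      simpa [hra] using this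
    have := (hψ _).mp h1
    simpa using this
  · intro b hb
    have hmem : (⟨ψ ⟨b, hb⟩, ⟨_, rfl⟩⟩ : ↥ψ.range) ∈ Subgroup.zpowers ra := by
      rw [htop]; exact Subgroup.mem_top _
    rw [← mem_powers_iff_mem_zpowers] at hmem
    obtain ⟨j, hj⟩ := hmem
    refine ⟨j, ?_⟩
    have hj' : ψ ⟨a, ha⟩ ^ j = ψ ⟨b, hb⟩ := by
      have := congrArg Subtype.val hj
      simpa [hra] using this
    have h1 : ψ (⟨b, hb⟩ * (⟨a, ha⟩ ^ j)⁻¹) = 1 := by
      rw [map_mul, map_inv, map_pow, hj']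
      group
    have := (hψ _).mp h1
    simpa using this

end FQSA

end Cfsg.Agent.Lib.helper14
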