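import Cfsg.Agent.Lib.helper3.GfHeis

/-!
# S4395, EXB sub-split, piece HCARD (racing copy): the order of `HG`.
-/

set_option autoImplicit false

namespace Cfsg.Agent.Lib.helper3.Gf

universe u

open HG

section
variable {n : ℕ} [NeZero n] {L : Type u} [Field L] {σ : L →+* L} {lam : L} [h : HData n L σ lam]

/-- coordinates of `HG` -/
noncomputable def h14_HGequiv (c : L → L) (hc : ∀ x : L, c x + σ (c x) = x * σ x) :
    HG n L σ lam ≃ (L × {z : L // z + σ z = 0}) × ZMod n where
  toFun g := ((g.x, ⟨g.z - c g.x, by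
    rw [map_sub]
    linear_combination g.hz - hc g.x⟩), g.k)
  invFun t := ⟨t.1.1, t.1.2.1 + c t.1.1, t.2, by
    rw [map_add]
    linear_combination t.1.2.2 + hc t.1.1⟩
  left_inv g := by
    ext
    · rfl
    · show g.z - c g.x + c g.x = g.z
      ring
    · rfl
  right_inv t := by
    obtain ⟨⟨x, ⟨w, hw⟩⟩, k⟩ := t
    refine Prod.ext (Prod.ext rfl (Subtype.ext ?_)) rfl
    show w + c x - c x = w
    ring

/-- HCARD (M) : order.  (`(x,z,k) ↦ (x, z - c x, k)` with `c x` a chosen solution of `c + σ c = x σ x`.) -/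
theorem h14_hcard_HG [Finite L] (hnorm : ∀ x : L, ∃ z, z + σ z = x * σ x) :
    Finite (HG n L σ lam) ∧
    Nat.card (HG n L σ lam) = Nat.card L * Nat.card {z : L // z + σ z = 0} * n := by
  have e := h14_HGequiv (n := n) (L := L) (σ := σ) (lam := lam)
    (fun x => Classical.choose (hnorm x)) (fun x => Classical.choose_spec (hnorm x))
  have hfin : Finite (HG n L σ lam) := Finite.of_equiv _ e.symm
  refine ⟨hfin, ?_⟩
  rw [Nat.card_congr e, Nat.card_prod, Nat.card_prod, Nat.card_zmod]

end

end Cfsg.Agent.Lib.helper3.Gf
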