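import Cfsg.Agent.Lib.helper3.GfHeis
import Cfsg.Agent.Lib.helper14.GfHCOV3

/-!
# S4395, EXB sub-split, piece HCOV4 (racing copy): `y^q` trivial on `P/N`, `y` non-trivial on `P/N`.
-/

set_option autoImplicit false

namespace Cfsg.Agent.Lib.helper3.Gf

universe u

open HG

section
variable {n : ℕ} [NeZero n] {L : Type u} [Field L] {σ : L →+* L} {lam : L} [h : HData n L σ lam]

/-- the commutator `g u g⁻¹ u⁻¹` for `u ∈ P` -/
theorem h14_comm_coords (g u : HG n L σ lam) (hu : u.k = 0) :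
    (g * u * g⁻¹ * u⁻¹).x = (pw lam g.k - 1) * u.x ∧ (g * u * g⁻¹ * u⁻¹).k = 0 := by
  have hc := pw_mul_neg (lam := lam) h.pown g.k
  refine ⟨?_, ?_⟩
  · simp only [mul_x, mul_k, inv_x, inv_k, hu, add_zero, neg_zero, add_neg_cancel, pw_zero,
      one_mul]
    linear_combination (-g.x) * hc
  · simp only [mul_k, inv_k, hu, add_zero, neg_zero, add_neg_cancel]

/-- HCOV4 (M) : `y^q` trivial on `P/N`, `y` non-trivial on `P/N`.
(`(g * u * g⁻¹).x = lam^(g.k) * u.x` for `u.k = 0`; `lam^q = 1`; `u = (1, z, 0)`.) -/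
theorem h14_hcov4 (q : ℕ) (hq : lam ^ q = 1) (hne : lam ≠ 1) (h1 : ∃ z : L, z + σ z = 1) :
    (∀ u ∈ (HP : Subgroup (HG n L σ lam)),
      (Hy : HG n L σ lam) ^ q * u * ((Hy : HG n L σ lam) ^ q)⁻¹ * u⁻¹ ∈ (HN : Subgroup (HG n L σ lam))) ∧
    ∃ u ∈ (HP : Subgroup (HG n L σ lam)),
      (Hy : HG n L σ lam) * u * (Hy : HG n L σ lam)⁻¹ * u⁻¹ ∉ (HN : Subgroup (HG n L σ lam)) := by
  refine ⟨?_, ?_⟩
  · intro u hu
    rw [mem_HP] at hu
    obtain ⟨hx, hk⟩ := h14_comm_coords ((Hy : HG n L σ lam) ^ q) u hu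
    rw [mem_HN]
    refine ⟨?_, hk⟩
    rw [hx, (h14_Hy_pow (n := n) (L := L) (σ := σ) (lam := lam) q).2.2]
    have hpw : pw lam ((q : ℕ) : ZMod n) = 1 := by
      unfold pw
      rw [ZMod.val_natCast, ← pow_eq_pow_mod q h.pown, hq]
    rw [hpw, sub_self, zero_mul]
  · obtain ⟨z, hz⟩ := h1
    have hn1 : n ≠ 1 := by
      intro hn
      have hp := h.pown
      rw [hn, pow_one] at hp
      exact hne hp
    have hn2 : 1 < n := by
      have hn0 : n ≠ 0 := NeZero.ne n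
      omega
    refine ⟨(⟨1, z, 0, by rw [hz, map_one, mul_one]⟩ : HG n L σ lam), rfl, ?_⟩
    intro hmem
    rw [mem_HN] at hmem
    obtain ⟨hx, _⟩ := h14_comm_coords (Hy : HG n L σ lam)
      (⟨1, z, 0, by rw [hz, map_one, mul_one]⟩ : HG n L σ lam) rfl
    rw [hx] at hmem
    have hk : (Hy : HG n L σ lam).k = 1 := rfl
    have hpw : pw lam (Hy : HG n L σ lam).k = lam := by
      unfold pw
      rw [hk, ZMod.val_one_eq_one_mod, Nat.mod_eq_of_lt hn2, pow_one]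
    rw [hpw, mul_one] at hmem
    exact hne (sub_eq_zero.mp hmem.1)

end

end Cfsg.Agent.Lib.helper3.Gf
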