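import Cfsg.Agent.Lib.helper3.GfHeis
import Cfsg.Agent.Lib.helper14.GfHCOV4

/-!
# S4395, EXB sub-split, piece HCOV1 (racing copy): formal fields.
-/

set_option autoImplicit false

namespace Cfsg.Agent.Lib.helper3.Gf

universe u

open HG

section
variable {n : ℕ} [NeZero n] {L : Type u} [Field L] {σ : L →+* L} {lam : L} [h : HData n L σ lam]

/-- HCOV1 (S) : formal fields -/
theorem h14_hcov1 :
    (HN : Subgroup (HG n L σ lam)) ≤ HP ∧ (HN : Subgroup (HG n L σ lam)) ≤ Subgroup.center (HG n L σ lam) ∧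
    (HP : Subgroup (HG n L σ lam)).Normal ∧
    ∀ u ∈ (HP : Subgroup (HG n L σ lam)), ∀ v ∈ (HP : Subgroup (HG n L σ lam)),
      u * v * u⁻¹ * v⁻¹ ∈ (HN : Subgroup (HG n L σ lam)) := by
  refine ⟨?_, ?_, ?_, ?_⟩
  · intro g hg
    rw [mem_HN] at hg
    rw [mem_HP]
    exact hg.2
  · intro z hz
    rw [mem_HN] at hz
    obtain ⟨hzx, hzk⟩ := hz
    rw [Subgroup.mem_center_iff]
    intro g
    ext
    · simp only [mul_x, hzx, hzk, mul_zero, add_zero, zero_add, pw_zero, one_mul]
    · simp only [mul_z, hzx, hzk, mul_zero, map_zero, add_zero, zero_mul]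
      ring
    · simp only [mul_k, hzk, add_zero, zero_add]
  · constructor
    intro u hu g
    rw [mem_HP] at hu ⊢
    simp only [mul_k, inv_k, hu, add_zero, add_neg_cancel]
  · intro u hu v hv
    rw [mem_HP] at hu hv
    obtain ⟨hx, hk⟩ := h14_comm_coords u v hv
    rw [mem_HN]
    refine ⟨?_, hk⟩
    rw [hx, hu, pw_zero, sub_self, zero_mul]

end

end Cfsg.Agent.Lib.helper3.Gf
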