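import Mathlib

/-!
# S3371 piece MON4a: the monomial basis
-/

set_option autoImplicit false
set_option linter.unusedVariables false

namespace Cfsg.Agent.Lib.helper14

theorem ht_eq_or_eq_of_card_two {α : Type*} (h : Nat.card α = 2) (a b c : α) (hab : a ≠ b) :
    c = a ∨ c = b := by
  obtain ⟨x, y, hxy, huniv⟩ := Nat.card_eq_two_iff.mp h
  have ha : a ∈ ({x, y} : Set α) := huniv ▸ Set.mem_univ a
  have hb : b ∈ ({x, y} : Set α) := huniv ▸ Set.mem_univ b
  have hc : c ∈ ({x, y} : Set α) := huniv ▸ Set.mem_univ c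
  simp only [Set.mem_insert_iff, Set.mem_singleton_iff] at ha hb hc
  rcases ha with rfl | rfl <;> rcases hb with rfl | rfl <;> rcases hc with rfl | rfl <;> simp_all

theorem ht_mon_basis {q : ℕ} [Fact q.Prime] {V : Type*} [AddCommGroup V] [Module (ZMod q) V] [Finite V]
    {G : Type*} [Group G] [Finite G] (hq2 : q ≠ 2)
    (ρ : G →* (V ≃ₗ[ZMod q] V)) (hρ : Function.Injective ρ)
    (z t : G) (hzc : z ∈ Subgroup.center G) (hz : ∀ v : V, ρ z v = -v) (ht2 : t ^ 2 = 1)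
    (hconj : ∀ g : G, g * t * g⁻¹ = t ∨ g * t * g⁻¹ = t * z)
    (hnc : ∃ g : G, g * t * g⁻¹ = t * z)
    (hs2 : ∀ v : V, v ≠ 0 → Nat.card {g : G // ρ g v = v} = 2)
    (hinv : ∀ t' : G, t' ^ 2 = 1 → t' ≠ 1 → t' ≠ z → (t' = t ∨ t' = t * z ∨ t' * t * t'⁻¹ = t * z))
    (hV : Nat.card V = q ^ 2) (hQ : Nat.card {v : V // ρ t v = v} = q)
    (hι : q + 1 = Nat.card {t' : G // t' ^ 2 = 1 ∧ t' ≠ 1 ∧ t' ≠ z}) :
    ∃ b₀ b₁ : V, b₀ ≠ 0 ∧ ρ t b₀ = b₀ ∧ b₁ ≠ 0 ∧ ρ t b₁ = -b₁ ∧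
      (∀ g : G, ∃ a s : ZMod q, a ≠ 0 ∧ (s = 1 ∨ s = -1) ∧
        ((ρ g b₀ = a • b₀ ∧ ρ g b₁ = (s * a⁻¹) • b₁) ∨ (ρ g b₀ = a • b₁ ∧ ρ g b₁ = (s * a⁻¹) • b₀))) ∧
      (∀ a s : ZMod q, a ≠ 0 → (s = 1 ∨ s = -1) →
        (∃ g : G, ρ g b₀ = a • b₀ ∧ ρ g b₁ = (s * a⁻¹) • b₁) ∧
        (∃ g : G, ρ g b₀ = a • b₁ ∧ ρ g b₁ = (s * a⁻¹) • b₀)) := by
  classical
  have hqp : q.Prime := Fact.out
  have hq3 : 3 ≤ q := by
    have := hqp.two_le
    omega
  haveI : Fintype G := Fintype.ofFinite G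
  haveI : Fintype V := Fintype.ofFinite V
  have hmul : ∀ (g h : G) (v : V), ρ (g * h) v = ρ g (ρ h v) := fun g h v => by
    rw [map_mul]; rfl
  have hone : ∀ v : V, ρ 1 v = v := fun v => by rw [map_one]; rfl
  have h2ne : (2 : ZMod q) ≠ 0 := by
    intro h
    have h' : ((2 : ℕ) : ZMod q) = 0 := by exact_mod_cast h
    rw [ZMod.natCast_eq_zero_iff] at h'
    have := Nat.le_of_dvd (by norm_num) h'
    omega
  have hnegne : ∀ v : V, v ≠ 0 → -v ≠ v := by
    intro v hv h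
    apply hv
    have h2 : (2 : ZMod q) • v = 0 := by
      rw [two_smul]
      nth_rewrite 1 [← h]
      exact neg_add_cancel v
    exact (smul_eq_zero.mp h2).resolve_left h2ne
  -- b₀
  obtain ⟨b₀, hb₀, htb₀⟩ : ∃ b₀ : V, b₀ ≠ 0 ∧ ρ t b₀ = b₀ := by
    have h1 : 1 < Fintype.card {v : V // ρ t v = v} := by
      rw [← Nat.card_eq_fintype_card, hQ]; omega
    obtain ⟨⟨x, hx⟩, ⟨y, hy⟩, hxy⟩ := (Fintype.one_lt_card_iff_nontrivial.mp h1).exists_pair_ne
    by_cases hx0 : x = 0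
    · refine ⟨y, ?_, hy⟩
      rintro rfl
      exact hxy (Subtype.ext hx0)
    · exact ⟨x, hx0, hx⟩
  have hfix : ∀ v : V, ρ t v = v → ∃ a : ZMod q, v = a • b₀ := by
    intro v hv
    let f : ZMod q → {v : V // ρ t v = v} := fun a => ⟨a • b₀, by rw [map_smul, htb₀]⟩
    have hf : Function.Injective f := by
      intro a a' h
      have h' : a • b₀ = a' • b₀ := congrArg Subtype.val h
      have : (a - a') • b₀ = 0 := by rw [sub_smul, h', sub_self]
      exact sub_eq_zero.mp ((smul_eq_zero.mp this).resolve_right hb₀)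
    have hb := hf.bijective_of_nat_card_le (by rw [hQ, Nat.card_zmod])
    obtain ⟨a, ha⟩ := hb.2 ⟨v, hv⟩
    exact ⟨a, (congrArg Subtype.val ha).symm⟩
  have hz1 : z ≠ 1 := by
    intro h
    have := hz b₀
    rw [h, hone] at this
    exact hnegne b₀ hb₀ this.symm
  have hzz : z * z = 1 := by
    apply hρ
    ext v
    rw [hmul, hz, hz, neg_neg, hone]
  have hzcomm : ∀ g : G, g * z = z * g := fun g => Subgroup.mem_center_iff.mp hzc g
  have htt : t * t = 1 := by rw [← sq]; exact ht2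
  have ht1 : t ≠ 1 := by
    intro h
    obtain ⟨g, hg⟩ := hnc
    rw [h] at hg
    simp at hg
    exact hz1 hg.symm
  have htz : t ≠ z := by
    intro h
    have := hz b₀
    rw [← h, htb₀] at this
    exact hnegne b₀ hb₀ this.symm
  have hstab : ∀ g : G, ρ g b₀ = b₀ → g = 1 ∨ g = t := by
    intro g hg
    have := ht_eq_or_eq_of_card_two (hs2 b₀ hb₀) ⟨1, hone b₀⟩ ⟨t, htb₀⟩ ⟨g, hg⟩
      (by simpa using Ne.symm ht1)
    simpa using this
  -- commutation rules
  have hswap : ∀ g : G, g * t * g⁻¹ = t * z → ∀ v : V, ρ t (ρ g v) = -ρ g (ρ t v) := by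
    intro g hg v
    have h1 : g * t = t * z * g := by rw [← hg]; group
    have h2 : t * g = g * t * z := by
      have : t * g * z = g * t := by rw [h1, mul_assoc, hzcomm g, ← mul_assoc]
      calc t * g = t * g * (z * z) := by rw [hzz, mul_one]
        _ = t * g * z * z := by rw [← mul_assoc]
        _ = g * t * z := by rw [this]
    rw [← hmul, h2, hmul, hmul, hz, map_neg, map_neg]
  have hcomm : ∀ g : G, g * t * g⁻¹ = t → ∀ v : V, ρ t (ρ g v) = ρ g (ρ t v) := by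
    intro g hg v
    have h1 : t * g = g * t := by
      calc t * g = g * t * g⁻¹ * g := by rw [hg]
        _ = g * t := by group
    rw [← hmul, h1, hmul]
  -- involution sets
  let J : Finset G := Finset.univ.filter (fun t' => t' ^ 2 = 1 ∧ t' ≠ 1 ∧ t' ≠ z)
  let I : Finset G := Finset.univ.filter (fun t' => t' ^ 2 = 1 ∧ t' * t * t'⁻¹ = t * z)
  have hJcard : J.card = q + 1 := by
    rw [hι, Nat.card_eq_fintype_card, Fintype.card_subtype]
  have htzne : t * z ≠ t := fun h => hz1 (mul_eq_left.mp h)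
  have hJ : J = insert t (insert (t * z) I) := by
    ext x
    simp only [J, I, Finset.mem_filter, Finset.mem_univ, true_and, Finset.mem_insert]
    constructor
    · rintro ⟨h1, h2, h3⟩
      rcases hinv x h1 h2 h3 with h | h | h
      · exact Or.inl h
      · exact Or.inr (Or.inl h)
      · exact Or.inr (Or.inr ⟨h1, h⟩)
    · rintro (rfl | rfl | ⟨h1, h⟩)
      · exact ⟨ht2, ht1, htz⟩
      · refine ⟨?_, ?_, ?_⟩
        · calc (t * z) ^ 2 = t * (z * t) * z := by rw [sq]; simp only [mul_assoc]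
            _ = t * (t * z) * z := by rw [← hzcomm t]
            _ = (t * t) * (z * z) := by simp only [mul_assoc]
            _ = 1 := by rw [htt, hzz, one_mul]
        · intro h
          apply htz
          calc t = t * (z * z) := by rw [hzz, mul_one]
            _ = t * z * z := by rw [mul_assoc]
            _ = z := by rw [h, one_mul]
        · intro h
          exact ht1 (mul_eq_right.mp h)
      · refine ⟨h1, ?_, ?_⟩
        · rintro rfl
          simp at h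
          exact hz1 h
        · rintro rfl
          rw [hzcomm t] at h
          simp at h
          exact hz1 h
  have hIcard : I.card = q - 1 := by
    have h1 : t ∉ insert (t * z) I := by
      simp only [I, Finset.mem_insert, Finset.mem_filter, Finset.mem_univ, true_and, not_or]
      refine ⟨fun h => htzne h.symm, ?_⟩
      rintro ⟨-, h⟩
      simp at h
      exact hz1 h
    have h2 : t * z ∉ I := by
      simp only [I, Finset.mem_filter, Finset.mem_univ, true_and]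
      rintro ⟨-, h⟩
      have : t * z * t * (t * z)⁻¹ = t := by
        rw [mul_inv_rev, mul_assoc t z t, ← hzcomm t]; group
      rw [this] at h
      exact htzne h.symm
    rw [hJ, Finset.card_insert_of_notMem h1, Finset.card_insert_of_notMem h2] at hJcard
    omega
  obtain ⟨g₀, hg₀I⟩ : I.Nonempty := by
    rw [← Finset.card_pos, hIcard]; omega
  obtain ⟨hg₀2, hg₀t⟩ : g₀ ^ 2 = 1 ∧ g₀ * t * g₀⁻¹ = t * z := by
    simpa [I] using hg₀I
  have hg₀g₀ : g₀ * g₀ = 1 := by rw [← sq]; exact hg₀2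
  obtain ⟨b₁, hb₁def⟩ : ∃ b₁ : V, b₁ = ρ g₀ b₀ := ⟨_, rfl⟩
  have hb₁ : b₁ ≠ 0 := by
    rw [hb₁def]
    exact fun h => hb₀ ((ρ g₀).map_eq_zero_iff.mp h)
  have htb₁ : ρ t b₁ = -b₁ := by rw [hb₁def, hswap g₀ hg₀t, htb₀]
  have hg₀b₁ : ρ g₀ b₁ = b₀ := by rw [hb₁def, ← hmul, hg₀g₀, hone]
  have hneg : ∀ v : V, ρ t v = -v → ∃ y : ZMod q, v = y • b₁ := by
    intro v hv
    have h1 : ρ t (ρ g₀ v) = ρ g₀ v := by rw [hswap g₀ hg₀t, hv, map_neg, neg_neg]
    obtain ⟨y, hy⟩ := hfix _ h1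
    refine ⟨y, ?_⟩
    have : ρ g₀ (ρ g₀ v) = v := by rw [← hmul, hg₀g₀, hone]
    rw [← this, hy, map_smul, hb₁def]
  have httv : ∀ v : V, ρ t (ρ t v) = v := fun v => by rw [← hmul, htt, hone]
  have hspan : ∀ v : V, ∃ x y : ZMod q, v = x • b₀ + y • b₁ := by
    intro v
    have h0 : ρ t ((2 : ZMod q)⁻¹ • (v + ρ t v)) = (2 : ZMod q)⁻¹ • (v + ρ t v) := by
      rw [map_smul, map_add, httv, add_comm]
    have h1 : ρ t ((2 : ZMod q)⁻¹ • (v - ρ t v)) = -((2 : ZMod q)⁻¹ • (v - ρ t v)) := by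
      rw [map_smul, map_sub, httv, ← smul_neg, neg_sub]
    obtain ⟨x, hx⟩ := hfix _ h0
    obtain ⟨y, hy⟩ := hneg _ h1
    refine ⟨x, y, ?_⟩
    rw [← hx, ← hy, ← smul_add]
    have : v + ρ t v + (v - ρ t v) = (2 : ZMod q) • v := by rw [two_smul]; abel
    rw [this, smul_smul, inv_mul_cancel₀ h2ne, one_smul]
  have hext : ∀ g h : G, ρ g b₀ = ρ h b₀ → ρ g b₁ = ρ h b₁ → g = h := by
    intro g h h0 h1
    apply hρ
    ext v
    obtain ⟨x, y, rfl⟩ := hspan v
    rw [map_add, map_add, map_smul, map_smul, map_smul, map_smul, h0, h1]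
  -- elements commuting with t act diagonally
  have hdiag : ∀ h : G, h * t * h⁻¹ = t → ∃ a c : ZMod q, a ≠ 0 ∧ ρ h b₀ = a • b₀ ∧ ρ h b₁ = c • b₁ := by
    intro h hh
    obtain ⟨a, ha⟩ := hfix (ρ h b₀) (by rw [hcomm h hh, htb₀])
    obtain ⟨c, hc⟩ := hneg (ρ h b₁) (by rw [hcomm h hh, htb₁, map_neg])
    refine ⟨a, c, ?_, ha, hc⟩
    rintro rfl
    rw [zero_smul] at ha
    exact hb₀ ((ρ h).map_eq_zero_iff.mp ha)
  -- elements of I
  have hIN : ∀ t' : G, t' * t * t'⁻¹ = t * z → (t' * g₀) * t * (t' * g₀)⁻¹ = t := by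
    intro t' ht'
    calc (t' * g₀) * t * (t' * g₀)⁻¹ = t' * (g₀ * t * g₀⁻¹) * t'⁻¹ := by group
      _ = t' * t * z * t'⁻¹ := by rw [hg₀t, ← mul_assoc]
      _ = t' * t * t'⁻¹ * z := by rw [mul_assoc _ z, ← hzcomm, ← mul_assoc]
      _ = t := by rw [ht', mul_assoc, hzz, mul_one]
  have hIact : ∀ t' : G, t' ^ 2 = 1 → ∀ a : ZMod q, a ≠ 0 → ρ (t' * g₀) b₀ = a • b₀ →
      ρ (t' * g₀) b₁ = a⁻¹ • b₁ := by
    intro t' ht'2 a ha h
    rw [hmul, ← hb₁def] at h
    rw [hmul, hg₀b₁]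
    have h1 : ρ t' (ρ t' b₁) = b₁ := by rw [← hmul, ← sq, ht'2, hone]
    rw [h, map_smul] at h1
    rw [← h1, smul_smul, inv_mul_cancel₀ ha, one_smul]
  have hD : ∀ a : ZMod q, a ≠ 0 →
      ∃ h : G, h * t * h⁻¹ = t ∧ ρ h b₀ = a • b₀ ∧ ρ h b₁ = a⁻¹ • b₁ := by
    let F' : Finset V := Finset.univ.filter (fun v => ρ t v = v ∧ v ≠ 0)
    have hF'card : F'.card = q - 1 := by
      have h1 : (Finset.univ.filter (fun v : V => ρ t v = v)).card = q := by
        calc (Finset.univ.filter (fun v : V => ρ t v = v)).card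
            = Fintype.card {v : V // ρ t v = v} := (Fintype.card_subtype _).symm
          _ = Nat.card {v : V // ρ t v = v} := Nat.card_eq_fintype_card.symm
          _ = q := hQ
      have h2 : F' = (Finset.univ.filter (fun v : V => ρ t v = v)).erase 0 := by
        ext v
        simp only [F', Finset.mem_filter, Finset.mem_univ, true_and, Finset.mem_erase]
        tauto
      rw [h2, Finset.card_erase_of_mem (by simp), h1]
    let φ : G → V := fun t' => ρ (t' * g₀) b₀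
    have hφmem : ∀ t' ∈ I, φ t' ∈ F' := by
      intro t' ht'
      obtain ⟨ht'2, ht't⟩ : t' ^ 2 = 1 ∧ t' * t * t'⁻¹ = t * z := by simpa [I] using ht'
      simp only [F', φ, Finset.mem_filter, Finset.mem_univ, true_and]
      refine ⟨?_, fun h => hb₀ ((ρ (t' * g₀)).map_eq_zero_iff.mp h)⟩
      rw [hcomm _ (hIN t' ht't), htb₀]
    have hφinj : Set.InjOn φ (I : Set G) := by
      intro t' ht' t'' ht'' heq
      obtain ⟨ht'2, ht't⟩ : t' ^ 2 = 1 ∧ t' * t * t'⁻¹ = t * z := by simpa [I] using ht'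
      obtain ⟨ht''2, ht''t⟩ : t'' ^ 2 = 1 ∧ t'' * t * t''⁻¹ = t * z := by simpa [I] using ht''
      obtain ⟨a, c, ha, h0, -⟩ := hdiag _ (hIN t' ht't)
      have h0' : ρ (t'' * g₀) b₀ = a • b₀ := by rw [← h0]; exact heq.symm
      have e1 := hIact t' ht'2 a ha h0
      have e2 := hIact t'' ht''2 a ha h0'
      have := hext (t' * g₀) (t'' * g₀) (by rw [h0, h0']) (by rw [e1, e2])
      exact mul_right_cancel this
    have himg : I.image φ = F' := by
      apply Finset.eq_of_subset_of_card_le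
      · intro v hv
        obtain ⟨t', ht', rfl⟩ := Finset.mem_image.mp hv
        exact hφmem t' ht'
      · rw [Finset.card_image_of_injOn hφinj, hIcard, hF'card]
    intro a ha
    have hmem : a • b₀ ∈ F' := by
      simp only [F', Finset.mem_filter, Finset.mem_univ, true_and]
      exact ⟨by rw [map_smul, htb₀], smul_ne_zero ha hb₀⟩
    rw [← himg] at hmem
    obtain ⟨t', ht', hφ⟩ := Finset.mem_image.mp hmem
    obtain ⟨ht'2, ht't⟩ : t' ^ 2 = 1 ∧ t' * t * t'⁻¹ = t * z := by simpa [I] using ht'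
    exact ⟨t' * g₀, hIN t' ht't, hφ, hIact t' ht'2 a ha hφ⟩
  have hN : ∀ h : G, h * t * h⁻¹ = t → ∃ a s : ZMod q, a ≠ 0 ∧ (s = 1 ∨ s = -1) ∧
      ρ h b₀ = a • b₀ ∧ ρ h b₁ = (s * a⁻¹) • b₁ := by
    intro h hh
    obtain ⟨a, c, ha, h0, -⟩ := hdiag h hh
    obtain ⟨k, hk, hk0, hk1⟩ := hD a ha
    have hkinv : ∀ v : V, ρ k⁻¹ (ρ k v) = v := fun v => by rw [← hmul, inv_mul_cancel, hone]
    have hfixb : ρ (k⁻¹ * h) b₀ = b₀ := by rw [hmul, h0, ← hk0, hkinv]
    rcases hstab _ hfixb with h1 | h1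
    · have : h = k := by
        calc h = k * (k⁻¹ * h) := by group
          _ = k := by rw [h1, mul_one]
      refine ⟨a, 1, ha, Or.inl rfl, h0, ?_⟩
      rw [this, hk1, one_mul]
    · have : h = k * t := by
        calc h = k * (k⁻¹ * h) := by group
          _ = k * t := by rw [h1]
      refine ⟨a, -1, ha, Or.inr rfl, h0, ?_⟩
      rw [this, hmul, htb₁, map_neg, hk1, neg_one_mul, neg_smul]
  refine ⟨b₀, b₁, hb₀, htb₀, hb₁, htb₁, ?_, ?_⟩
  · intro g
    rcases hconj g with hg | hg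
    · obtain ⟨a, s, ha, hs, h0, h1⟩ := hN g hg
      exact ⟨a, s, ha, hs, Or.inl ⟨h0, h1⟩⟩
    · have hgN : (g * g₀) * t * (g * g₀)⁻¹ = t := hIN g hg
      obtain ⟨c, s, hc, hs, h0, h1⟩ := hN _ hgN
      rw [hmul, ← hb₁def] at h0
      rw [hmul, hg₀b₁] at h1
      have hs0 : s ≠ 0 := by
        rcases hs with rfl | rfl
        · exact one_ne_zero
        · exact neg_ne_zero.mpr one_ne_zero
      refine ⟨s * c⁻¹, s, mul_ne_zero hs0 (inv_ne_zero hc), hs, Or.inr ⟨h1, ?_⟩⟩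
      rw [h0]
      congr 1
      rw [mul_inv, inv_inv, ← mul_assoc, mul_inv_cancel₀ hs0, one_mul]
  · have hfirst : ∀ a s : ZMod q, a ≠ 0 → (s = 1 ∨ s = -1) →
        ∃ g : G, ρ g b₀ = a • b₀ ∧ ρ g b₁ = (s * a⁻¹) • b₁ := by
      intro a s ha hs
      obtain ⟨k, hk, hk0, hk1⟩ := hD a ha
      rcases hs with rfl | rfl
      · exact ⟨k, hk0, by rw [hk1, one_mul]⟩
      · refine ⟨k * t, by rw [hmul, htb₀, hk0], ?_⟩
        rw [hmul, htb₁, map_neg, hk1, neg_one_mul, neg_smul]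
    intro a s ha hs
    refine ⟨hfirst a s ha hs, ?_⟩
    have hs0 : s ≠ 0 := by
      rcases hs with rfl | rfl
      · exact one_ne_zero
      · exact neg_ne_zero.mpr one_ne_zero
    obtain ⟨h, h0, h1⟩ := hfirst (s * a⁻¹) s (mul_ne_zero hs0 (inv_ne_zero ha)) hs
    refine ⟨h * g₀, ?_, ?_⟩
    · rw [hmul, ← hb₁def, h1]
      congr 1
      rw [mul_inv, inv_inv, ← mul_assoc, mul_inv_cancel₀ hs0, one_mul]
    · rw [hmul, hg₀b₁, h0]

end Cfsg.Agent.Lib.helper14
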