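import Mathlib
import Cfsg.Prelude.Def_CaseTheorems
import Cfsg.Agent.Lib.helper59.IrredPGroup3
import Cfsg.Agent.Lib.helper14.HTMON4a
import Cfsg.Agent.Lib.helper17.HTIDX
import Cfsg.Agent.Lib.helper17.HTQD
import Cfsg.Agent.Lib.helper18.HTA
import Cfsg.Agent.Lib.helper18.HTD
import Cfsg.Agent.Lib.helper18.HTDIH
import Cfsg.Agent.Lib.helper18.HTK
import Cfsg.Agent.Lib.helper48.HtMON3
import Cfsg.Agent.Lib.helper48.HtMON4b
import Cfsg.Agent.Lib.helper50.HTB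
import Cfsg.Agent.Lib.helper50.HTC
import Cfsg.Agent.Lib.helper7.HTE
import Cfsg.Agent.Lib.helper7.HTF
import Cfsg.Agent.Lib.helper7.HTMON2
import Cfsg.Agent.Lib.helper77.HTINV
import Cfsg.Agent.Lib.helper77.HTMON1
import Cfsg.Agent.Lib.helper77.HTPAIR1
import Cfsg.Agent.Lib.helper77.HTPAIR2

/-!
# Isaacs–Passman: half-transitive `p`-groups of linear maps (assembly for S3371)
-/

set_option autoImplicit false

namespace Cfsg.Agent.Lib.helper14.HT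


theorem neg_of_fpf_sq {q : ℕ} [Fact q.Prime] {V : Type*} [AddCommGroup V] [Module (ZMod q) V]
    {G : Type*} [Group G] (ρ : G →* (V ≃ₗ[ZMod q] V)) (z : G) (hz2 : z ^ 2 = 1)
    (hf : ∀ v : V, ρ z v = v → v = 0) : ∀ v : V, ρ z v = -v := by
  intro v
  have h1 : ρ z (ρ z v) = v := by
    have : ρ z (ρ z v) = ρ (z ^ 2) v := by rw [sq, map_mul]; rfl
    rw [this, hz2, map_one]; rfl
  have h := hf (ρ z v + v) (by rw [map_add, h1, add_comm])
  exact eq_neg_of_add_eq_zero_left h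

theorem ht_main (q : ℕ) [Fact q.Prime] {V : Type*} [AddCommGroup V] [Module (ZMod q) V] [Finite V]
    [Nontrivial V] {G : Type*} [Group G] [Finite G] (p : ℕ) [Fact p.Prime] (hG : IsPGroup p G)
    (ρ : G →* (V ≃ₗ[ZMod q] V)) (hρ : Function.Injective ρ)
    (hhalf : ∀ v w : V, v ≠ 0 → w ≠ 0 → Nat.card {u : V | ∃ g : G, ρ g v = u} = Nat.card {u : V | ∃ g : G, ρ g w = u}) :
    ((IsCyclic G ∨ ∃ n : ℕ, Nonempty (G ≃* QuaternionGroup n)) ∧ ∀ v : V, v ≠ 0 → ∀ g : G, ρ g v = v → g = 1) ∨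
    (Nat.card V = q ^ 2 ∧ ∃ m : ℕ, q = 2 ^ m - 1 ∧
      (Nonempty (G ≃* DihedralGroup (2 ^ m)) ∨ (Cfsg.IsQuasiDihedral G ∧ Nat.card G = 2 ^ (m + 2)))) ∨
    (Nat.card V = q ^ 2 ∧ (∃ m : ℕ, q = 2 ^ m + 1) ∧
      ∃ e : V ≃ₗ[ZMod q] (Fin 2 → ZMod q), ∀ f : (Fin 2 → ZMod q) ≃ₗ[ZMod q] (Fin 2 → ZMod q),
        (∃ g : G, f = e.symm.trans ((ρ g).trans e)) ↔
        ∃ a s : ZMod q, a ≠ 0 ∧ (s = 1 ∨ s = -1) ∧
          ((∀ v, f v = ![a * v 0, s * a⁻¹ * v 1]) ∨ (∀ v, f v = ![s * a⁻¹ * v 1, a * v 0]))) ∨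
    (Nat.card V = 81 ∧ q = 3 ∧ p = 2) := by
  have hqp : q.Prime := Fact.out
  have hst := Cfsg.Agent.Lib.helper18.ht_stab_card ρ hhalf
  by_cases hpq : p = q
  · subst hpq
    have h1 := Cfsg.Agent.Lib.helper18.ht_same_char hG ρ hρ hst
    left
    haveI : Subsingleton G := ⟨fun a b => by rw [h1 a, h1 b]⟩
    exact ⟨Or.inl inferInstance, fun v _ g _ => h1 g⟩
  by_cases hsemi : ∀ v : V, v ≠ 0 → ∀ g : G, ρ g v = v → g = 1
  · left; exact ⟨Cfsg.Agent.Lib.helper7.ht_semireg hG hpq ρ hsemi, hsemi⟩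
  have hns : ∃ v : V, v ≠ 0 ∧ ∃ g : G, g ≠ 1 ∧ ρ g v = v := by
    push Not at hsemi
    obtain ⟨v, hv, g, hgv, hg⟩ := hsemi
    exact ⟨v, hv, g, hg, hgv⟩
  have hB := Cfsg.Agent.Lib.helper50.ht_no_decomp ρ hρ hst hns
  have hC := Cfsg.Agent.Lib.helper50.ht_central_fpf hG hpq ρ hρ hB
  by_cases hcq : IsCyclic G ∨ ∃ n : ℕ, Nonempty (G ≃* QuaternionGroup n)
  · left; exact ⟨hcq, Cfsg.Agent.Lib.helper7.ht_cyc_quat hG ρ hC hcq⟩
  by_cases hd : ∃ n : ℕ, Nonempty (G ≃* DihedralGroup n)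
  · obtain ⟨n, ⟨e⟩⟩ := hd
    rcases Cfsg.Agent.Lib.helper18.ht_dih_small hG n e with hab | ⟨hp2, k, hk, rfl⟩
    · exfalso
      obtain ⟨v, hv, g, hg, hgv⟩ := hns
      exact hv (hC g (Subgroup.mem_center_iff.mpr (fun a => hab a g)) hg v hgv)
    · subst hp2
      have hq2 : q ≠ 2 := fun h => hpq h.symm
      obtain ⟨x, hx, hu, hcnt⟩ := Cfsg.Agent.Lib.helper18.ht_dih k hk e
      have hcard : Nat.card G = 2 ^ (k + 1) := by
        rw [Nat.card_congr e.toEquiv, DihedralGroup.nat_card]; ring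
      obtain ⟨hz, hs2⟩ := Cfsg.Agent.Lib.helper17.ht_index_two ρ hC hst hns x k (by omega) hx hcard
      obtain ⟨d, hV, hcount, -⟩ := Cfsg.Agent.Lib.helper77.ht_inv_count hq2 ρ hρ _ hz hs2 hu
      rw [hcnt] at hcount
      have hd1 := Cfsg.Agent.Lib.helper18.ht_arith_minus hqp hk hcount
      subst hd1
      right; left
      rw [pow_one] at hV hcount
      exact ⟨hV, k, by omega, Or.inl ⟨e⟩⟩
  by_cases hqd : Cfsg.IsQuasiDihedral G
  · obtain ⟨N, x, hN, hcard, hx, hu, hcnt⟩ := Cfsg.Agent.Lib.helper17.ht_qd hqd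
    have hp2 : p = 2 := by
      obtain ⟨j, hj⟩ := IsPGroup.iff_card.mp hG
      rw [hcard] at hj
      have h2 : (2 : ℕ) ∣ p ^ j := by rw [← hj]; exact dvd_pow_self 2 (by omega)
      have := (Nat.prime_dvd_prime_iff_eq Nat.prime_two (Fact.out : p.Prime)).mp
        (Nat.Prime.dvd_of_dvd_pow Nat.prime_two h2)
      exact this.symm
    subst hp2
    have hq2 : q ≠ 2 := fun h => hpq h.symm
    obtain ⟨hz, hs2⟩ := Cfsg.Agent.Lib.helper17.ht_index_two ρ hC hst hns x N (by omega) hx hcard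
    obtain ⟨d, hV, hcount, -⟩ := Cfsg.Agent.Lib.helper77.ht_inv_count hq2 ρ hρ _ hz hs2 hu
    rw [hcnt] at hcount
    have hd1 := Cfsg.Agent.Lib.helper18.ht_arith_minus hqp (k := N - 1) (by omega) hcount
    subst hd1
    right; left
    rw [pow_one] at hV hcount
    refine ⟨hV, N - 1, by omega, Or.inr ⟨hqd, ?_⟩⟩
    rw [hcard]; congr 1; omega
  -- the remaining case: a normal abelian non-cyclic subgroup
  have hnc' : ¬ IsCyclic G := fun h => hcq (Or.inl h)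
  have hnq : ∀ n : ℕ, ¬ Nonempty (G ≃* QuaternionGroup n) := fun n h => hcq (Or.inr ⟨n, h⟩)
  have hnd : ∀ n : ℕ, ¬ Nonempty (G ≃* DihedralGroup n) := fun n h => hd ⟨n, h⟩
  obtain ⟨B, hBn, hBc, hBnc⟩ :=
    Cfsg.Agent.Lib.helper59.exists_normal_abelian_noncyclic hG hnc' hnq hnd hqd
  obtain ⟨z, a, hzc, hz1, hzp, hap, haz, hconj⟩ :=
    Cfsg.Agent.Lib.helper59.exists_central_pair hG B hBc hBnc
  have hpp : p.Prime := Fact.out
  have hoz : orderOf z = p := orderOf_eq_prime hzp hz1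
  have hzf : ∀ k : ℕ, 0 < k → k < p → ∀ v : V, ρ (z ^ k) v = v → v = 0 := by
    intro k hk0 hkp
    refine hC (z ^ k) (Subgroup.pow_mem _ hzc k) ?_
    intro h
    have := orderOf_dvd_of_pow_eq_one h
    rw [hoz] at this
    exact absurd (Nat.le_of_dvd hk0 this) (by omega)
  have hzcomm : ∀ g : G, g * z = z * g := fun g => Subgroup.mem_center_iff.mp hzc g
  have hza : z * a = a * z := (hzcomm a).symm
  obtain ⟨j, hj, v₀, hv₀, htv⟩ := Cfsg.Agent.Lib.helper77.ht_pair_fix hpq ρ z a hza hzp hap hzf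
  have hzjc : ∀ g : G, g * z ^ j = z ^ j * g := fun g =>
    Subgroup.mem_center_iff.mp (Subgroup.pow_mem _ hzc j) g
  obtain ⟨t, ht⟩ : ∃ t : G, t = a * z ^ j := ⟨_, rfl⟩
  rw [← ht] at htv
  have htp : t ^ p = 1 := by
    have hc : Commute a (z ^ j) := hzjc a
    rw [ht, hc.mul_pow, hap, ← pow_mul, mul_comm j p, pow_mul, hzp, one_pow, one_mul]
  have ht1 : t ≠ 1 := by
    intro h
    apply haz
    have : a = (z ^ j)⁻¹ := eq_inv_of_mul_eq_one_left (ht ▸ h)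
    rw [this]
    exact Subgroup.inv_mem _ (Subgroup.pow_mem _ (Subgroup.mem_zpowers z) j)
  have hconj' : ∀ g : G, ∃ i : ℕ, i < p ∧ g * t * g⁻¹ = t * z ^ i := by
    intro g
    obtain ⟨i, hi, hgi⟩ := hconj g
    refine ⟨i, hi, ?_⟩
    have hzi : ∀ h : G, h * z ^ i = z ^ i * h := fun h =>
      Subgroup.mem_center_iff.mp (Subgroup.pow_mem _ hzc i) h
    calc g * t * g⁻¹ = (g * a * g⁻¹) * (g * z ^ j * g⁻¹) := by rw [ht]; group
      _ = (a * z ^ i) * z ^ j := by rw [hgi, hzjc g, mul_inv_cancel_right]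
      _ = t * z ^ i := by rw [ht, mul_assoc, mul_assoc, (Commute.pow_pow (Commute.refl z) i j).eq]
  have hnc : ∃ g : G, g * t * g⁻¹ ≠ t := by
    by_contra hcon
    push Not at hcon
    refine hv₀ (hC t (Subgroup.mem_center_iff.mpr (fun g => ?_)) ht1 v₀ htv)
    have := hcon g
    calc g * t = g * t * g⁻¹ * g := by group
      _ = t * g := by rw [this]
  by_cases hp2 : p = 2
  swap
  · exact (Cfsg.Agent.Lib.helper77.ht_pair_odd hpq hp2 ρ hst z t hzc hzp htp hzf hconj' hnc v₀ hv₀ htv).elim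
  subst hp2
  have hq2 : q ≠ 2 := fun h => hpq h.symm
  have hz := neg_of_fpf_sq ρ z hzp (hC z hzc hz1)
  have hconj2 : ∀ g : G, g * t * g⁻¹ = t ∨ g * t * g⁻¹ = t * z := by
    intro g
    obtain ⟨i, hi, hgi⟩ := hconj' g
    interval_cases i
    · left; simpa using hgi
    · right; simpa using hgi
  have hnc2 : ∃ g : G, g * t * g⁻¹ = t * z := by
    obtain ⟨g, hg⟩ := hnc
    exact ⟨g, (hconj2 g).resolve_left hg⟩
  have hs2 := Cfsg.Agent.Lib.helper77.ht_mon_stab hq2 ρ hρ hst z t hzc hz htp hconj2 hnc2 v₀ hv₀ htv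
  obtain ⟨hinv, hu⟩ := Cfsg.Agent.Lib.helper7.ht_mon_inv hq2 ρ hρ z t hzc hz htp hconj2 hnc2 hs2 v₀ hv₀ htv
  obtain ⟨d, hV, hcount, hfix⟩ := Cfsg.Agent.Lib.helper77.ht_inv_count hq2 ρ hρ z hz hs2 hu
  have htz : t ≠ z := fun h => hv₀ (hC z hzc hz1 v₀ (h ▸ htv))
  have hQ := hfix t htp ht1 htz
  obtain ⟨m, hm⟩ := Cfsg.Agent.Lib.helper48.ht_mon_fermat hG hq2 ρ z t hzc hz htp hconj2 hnc2 hs2 hinv v₀ hv₀ htv
    (q ^ d) hQ hcount
  rcases Cfsg.Agent.Lib.helper18.ht_arith_plus hqp hm with hd1 | ⟨hq3, hd2⟩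
  · subst hd1
    rw [pow_one] at hV hcount hQ hm
    right; right; left
    refine ⟨hV, ⟨m, hm⟩, ?_⟩
    obtain ⟨b₀, b₁, hb₀, htb₀, hb₁, htb₁, hfwd, hbwd⟩ :=
      Cfsg.Agent.Lib.helper14.ht_mon_basis hq2 ρ hρ z t hzc hz htp hconj2 hnc2 hs2 hinv hV hQ hcount
    exact Cfsg.Agent.Lib.helper48.ht_mon_coord hq2 ρ t hV b₀ b₁ hb₀ htb₀ hb₁ htb₁ hfwd hbwd
  · right; right; right
    refine ⟨?_, hq3, rfl⟩
    rw [hV, hq3, hd2]; norm_num

end Cfsg.Agent.Lib.helper14.HT
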