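import Mathlib
import Cfsg.Prelude.Def_LieTypeChar
import Cfsg.Agent.Lib.helper44.LODefs
import Cfsg.Agent.Lib.helper6.LOARITH
import Cfsg.Agent.S1064

/-!
# S2363, piece E7 (racing copy by helper14): the order bounds for `E₇(q)`
-/

set_option autoImplicit false

namespace Cfsg.Agent.Lib.helper44.LO

open Cfsg

theorem h14_e7_ndvd {p : ℕ} (hp : p.Prime) (f : ℕ) (hf : 1 ≤ f) (j : ℕ) (hj : 1 ≤ j) :
    ¬ p ∣ (p ^ f) ^ j - 1 := by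
  intro h
  have h1 : p ∣ (p ^ f) ^ j := by
    rw [← pow_mul]
    exact dvd_pow_self p (by positivity)
  have h2 : 1 ≤ (p ^ f) ^ j := Nat.one_le_pow _ _ (pow_pos hp.pos _)
  have h3 : p ∣ (p ^ f) ^ j - ((p ^ f) ^ j - 1) := Nat.dvd_sub h1 h
  have h4 : (p ^ f) ^ j - ((p ^ f) ^ j - 1) = 1 := by omega
  rw [h4] at h3
  exact hp.one_lt.ne' (Nat.dvd_one.mp h3)

theorem h14_e7_ndvd_mul {p : ℕ} (hp : p.Prime) {a b : ℕ} (ha : ¬ p ∣ a) (hb : ¬ p ∣ b) :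
    ¬ p ∣ a * b := fun h => ((Nat.Prime.dvd_mul hp).mp h).elim ha hb

theorem h14_e7_lt {p : ℕ} (hp : p.Prime) (f : ℕ) (j : ℕ) : (p ^ f) ^ j - 1 < (p ^ f) ^ j :=
  Nat.sub_lt (pow_pos (pow_pos hp.pos _) _) Nat.one_pos

/-- [E7] (racing copy) verbatim Skel statement of `lo_e7` -/
theorem h14_lo_e7 {F : Type} [Field F] [Fintype F] (p : ℕ) (hp : p.Prime) [CharP F p] :
    LOGood p (Nat.card ↥(Cfsg.Lie.chevE7.group F)) := by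
  classical
  have hfact : Fact p.Prime := ⟨hp⟩
  obtain ⟨f, _, hf⟩ := FiniteField.card F p
  have hf1 : 1 ≤ (f : ℕ) := f.pos
  have h0 := Cfsg.Agent.S1064.result (F := F) hf
  simp only [mul_assoc] at h0
  have hcp : ¬ p ∣ Nat.gcd 2 (p ^ (f : ℕ) - 1) := by
    intro h
    have h1 : p ∣ p ^ (f : ℕ) - 1 := h.trans (Nat.gcd_dvd_right _ _)
    have h2 := h14_e7_ndvd hp f hf1 1 le_rfl
    rw [pow_one] at h2
    exact h2 h1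
  have hMp := h14_e7_ndvd_mul hp (h14_e7_ndvd hp f hf1 2 (by norm_num))
    (h14_e7_ndvd_mul hp (h14_e7_ndvd hp f hf1 6 (by norm_num))
    (h14_e7_ndvd_mul hp (h14_e7_ndvd hp f hf1 8 (by norm_num))
    (h14_e7_ndvd_mul hp (h14_e7_ndvd hp f hf1 10 (by norm_num))
    (h14_e7_ndvd_mul hp (h14_e7_ndvd hp f hf1 12 (by norm_num))
    (h14_e7_ndvd_mul hp (h14_e7_ndvd hp f hf1 14 (by norm_num))
      (h14_e7_ndvd hp f hf1 18 (by norm_num)))))))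
  have hlt := Nat.mul_lt_mul'' (h14_e7_lt hp f 2)
    (Nat.mul_lt_mul'' (h14_e7_lt hp f 6)
    (Nat.mul_lt_mul'' (h14_e7_lt hp f 8)
    (Nat.mul_lt_mul'' (h14_e7_lt hp f 10)
    (Nat.mul_lt_mul'' (h14_e7_lt hp f 12)
    (Nat.mul_lt_mul'' (h14_e7_lt hp f 14) (h14_e7_lt hp f 18))))))
  have h70 : (p ^ (f : ℕ)) ^ 2 * ((p ^ (f : ℕ)) ^ 6 * ((p ^ (f : ℕ)) ^ 8 * ((p ^ (f : ℕ)) ^ 10 *
      ((p ^ (f : ℕ)) ^ 12 * ((p ^ (f : ℕ)) ^ 14 * (p ^ (f : ℕ)) ^ 18))))) = (p ^ (f : ℕ)) ^ 70 := by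
    ring
  rw [h70] at hlt
  have hc1 : 1 ≤ Nat.gcd 2 (p ^ (f : ℕ) - 1) := Nat.gcd_pos_of_pos_left _ (by norm_num)
  have hM := lt_of_lt_of_le hlt (Nat.le_mul_of_pos_left ((p ^ (f : ℕ)) ^ 70) hc1)
  exact lo_good hp (f : ℕ) hf1 _ _ 63 _ 70 h0 hcp hMp hM (by norm_num) (by norm_num)

end Cfsg.Agent.Lib.helper44.LO
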