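import Mathlib
import Cfsg.Prelude.Def_LieTypeChar
import Cfsg.Agent.Lib.helper44.LODefs
import Cfsg.Agent.Lib.helper6.LOARITH
import Cfsg.Agent.S0245
import Cfsg.Agent.S0246

/-!
# S2363, piece PSP (racing copy by helper14): the order bounds for `PSp_{2m}(q)`, `m ≥ 2`
-/

set_option autoImplicit false

namespace Cfsg.Agent.Lib.helper44.LO

open Cfsg

theorem h14_sum_two (m : ℕ) : ∑ i ∈ Finset.range m, 2 * (i + 1) = m ^ 2 + m := by
  induction m with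
  | zero => simp
  | succ k ih => rw [Finset.sum_range_succ, ih]; ring

theorem h14_not_dvd_pow_sub_one {p : ℕ} (hp : p.Prime) (f : ℕ) (hf : 1 ≤ f) (j : ℕ) (hj : 1 ≤ j) :
    ¬ p ∣ (p ^ f) ^ j - 1 := by
  intro h
  have h1 : p ∣ (p ^ f) ^ j := by
    rw [← pow_mul]
    exact dvd_pow_self p (by positivity)
  have h2 : 1 ≤ (p ^ f) ^ j := Nat.one_le_pow _ _ (pow_pos hp.pos _)
  have h3 : p ∣ (p ^ f) ^ j - ((p ^ f) ^ j - 1) := Nat.dvd_sub h1 h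
  have h4 : (p ^ f) ^ j - ((p ^ f) ^ j - 1) = 1 := by omega
  rw [h4] at h3
  exact hp.one_lt.ne' (Nat.dvd_one.mp h3)

/-- [PSP] (racing copy) verbatim Skel statement of `lo_psp` -/
theorem h14_lo_psp {F : Type} [Field F] [Fintype F] (p : ℕ) (hp : p.Prime) [CharP F p] (m : ℕ) (hm : 2 ≤ m) :
    LOGood p (Nat.card (Cfsg.PSp m F)) := by
  classical
  have hfact : Fact p.Prime := ⟨hp⟩
  obtain ⟨f, _, hf⟩ := FiniteField.card F p
  have hf1 : 1 ≤ (f : ℕ) := f.pos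
  have hq2 : 2 ≤ p ^ (f : ℕ) := by
    calc 2 ≤ p := hp.two_le
      _ = p ^ 1 := (pow_one p).symm
      _ ≤ p ^ (f : ℕ) := Nat.pow_le_pow_right hp.pos hf1
  have hSp := Cfsg.Agent.S0245.result (F := F) hf m
  have hZ := Cfsg.Agent.S0246.result (F := F) hf m (by omega)
  have hcard : Nat.card (Cfsg.PSp m F) * Nat.card (Subgroup.center (Matrix.symplecticGroup (Fin m) F)) =
      Nat.card (Matrix.symplecticGroup (Fin m) F) :=
    (Subgroup.card_eq_card_quotient_mul_card_subgroup _).symm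
  have hc : Nat.gcd 2 (p ^ (f : ℕ) - 1) * Nat.card (Cfsg.PSp m F) =
      (p ^ (f : ℕ)) ^ (m ^ 2) * ∏ i ∈ Finset.range m, ((p ^ (f : ℕ)) ^ (2 * (i + 1)) - 1) := by
    rw [← hSp, ← hcard, hZ, mul_comm]
  have hcp : ¬ p ∣ Nat.gcd 2 (p ^ (f : ℕ) - 1) := by
    intro h
    have h1 : p ∣ p ^ (f : ℕ) - 1 := h.trans (Nat.gcd_dvd_right _ _)
    have h2 := h14_not_dvd_pow_sub_one hp f hf1 1 le_rfl
    rw [pow_one] at h2
    exact h2 h1
  have hMp : ¬ p ∣ ∏ i ∈ Finset.range m, ((p ^ (f : ℕ)) ^ (2 * (i + 1)) - 1) := by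
    intro h
    obtain ⟨i, _, hi⟩ := (Prime.dvd_finsetProd_iff hp.prime _).mp h
    exact h14_not_dvd_pow_sub_one hp f hf1 (2 * (i + 1)) (by omega) hi
  have hM : ∏ i ∈ Finset.range m, ((p ^ (f : ℕ)) ^ (2 * (i + 1)) - 1) <
      Nat.gcd 2 (p ^ (f : ℕ) - 1) * (p ^ (f : ℕ)) ^ (m ^ 2 + m) := by
    have h1 : ∏ i ∈ Finset.range m, ((p ^ (f : ℕ)) ^ (2 * (i + 1)) - 1) <
        ∏ i ∈ Finset.range m, (p ^ (f : ℕ)) ^ (2 * (i + 1)) := by
      apply Finset.prod_lt_prod_of_nonempty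
      · intro i _
        have : 2 ≤ (p ^ (f : ℕ)) ^ (2 * (i + 1)) := by
          calc 2 ≤ p ^ (f : ℕ) := hq2
            _ = (p ^ (f : ℕ)) ^ 1 := (pow_one _).symm
            _ ≤ (p ^ (f : ℕ)) ^ (2 * (i + 1)) := Nat.pow_le_pow_right (by omega) (by omega)
        omega
      · intro i _
        have : 1 ≤ (p ^ (f : ℕ)) ^ (2 * (i + 1)) := Nat.one_le_pow _ _ (by omega)
        omega
      · exact ⟨0, Finset.mem_range.mpr (by omega)⟩
    rw [Finset.prod_pow_eq_pow_sum, h14_sum_two] at h1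
    have h2 : 1 ≤ Nat.gcd 2 (p ^ (f : ℕ) - 1) := Nat.gcd_pos_of_pos_left _ (by norm_num)
    calc ∏ i ∈ Finset.range m, ((p ^ (f : ℕ)) ^ (2 * (i + 1)) - 1)
        < (p ^ (f : ℕ)) ^ (m ^ 2 + m) := h1
      _ = 1 * (p ^ (f : ℕ)) ^ (m ^ 2 + m) := (one_mul _).symm
      _ ≤ Nat.gcd 2 (p ^ (f : ℕ) - 1) * (p ^ (f : ℕ)) ^ (m ^ 2 + m) := Nat.mul_le_mul_right _ h2
  exact lo_good hp (f : ℕ) hf1 _ _ (m ^ 2) _ (m ^ 2 + m) hc hcp hMp hM (by nlinarith) (by nlinarith)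

end Cfsg.Agent.Lib.helper44.LO
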