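import Mathlib
import Cfsg.Agent.Lib.helper9.LcDefs

/-!
# S0406 piece N0 (for helper9): sums of coordinates modulo 8
-/

set_option autoImplicit false

namespace Cfsg.Agent.Lib.helper14

open Cfsg Cfsg.Agent.Lib.helper9

theorem lc_even_sum (L : AddSubgroup (GolayPt → ℤ)) (hL : LcPre L) (u0 : GolayPt → ℤ)
    (hu0 : u0 ∈ L) (h1 : ∀ p, (4 : ℤ) ∣ u0 p - 1) (u : GolayPt → ℤ) (hu : u ∈ L)
    (he : ∀ p, (2 : ℤ) ∣ u p) : (8 : ℤ) ∣ ∑ p, u p := by
  have hd : (8 : ℤ) ∣ dotInt u u0 := hL.dot8 u hu u0 hu0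
  have h2 : (8 : ℤ) ∣ ∑ p, u p * (u0 p - 1) := by
    apply Finset.dvd_sum
    intro p _
    have : (2 * 4 : ℤ) ∣ u p * (u0 p - 1) := mul_dvd_mul (he p) (h1 p)
    simpa using this
  have h3 : ∑ p, u p = dotInt u u0 - ∑ p, u p * (u0 p - 1) := by
    unfold dotInt
    rw [← Finset.sum_sub_distrib]
    apply Finset.sum_congr rfl
    intro p _
    ring
  rw [h3]
  exact dvd_sub hd h2

theorem lc_u0_sum (L : AddSubgroup (GolayPt → ℤ)) (hL : LcPre L) (u0 : GolayPt → ℤ)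
    (hu0 : u0 ∈ L) (h1 : ∀ p, (4 : ℤ) ∣ u0 p - 1) : (8 : ℤ) ∣ (∑ p, u0 p) - 4 := by
  choose a ha using h1
  have hu : ∀ p, u0 p = 1 + 4 * a p := fun p => by have := ha p; linarith
  have hcard : (Finset.univ : Finset GolayPt).card = 24 := by
    rw [Finset.card_univ]; rfl
  have hsq : sqNorm u0 = 24 + 8 * ∑ p, a p + 16 * ∑ p, a p ^ 2 := by
    unfold sqNorm
    have : ∀ p, u0 p ^ 2 = 1 + 8 * a p + 16 * a p ^ 2 := fun p => by rw [hu p]; ring
    simp only [this, Finset.sum_add_distrib, ← Finset.mul_sum, Finset.sum_const, hcard]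
    norm_num
  have hsum : ∑ p, u0 p = 24 + 4 * ∑ p, a p := by
    simp only [hu, Finset.sum_add_distrib, ← Finset.mul_sum, Finset.sum_const, hcard]
    norm_num
  have h16 : (16 : ℤ) ∣ sqNorm u0 := hL.norm16 u0 hu0
  rw [hsq] at h16
  rw [hsum]
  omega

end Cfsg.Agent.Lib.helper14
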