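import Mathlib
import Cfsg.Prelude.Def_Local
import Cfsg.Agent.S0261
import Cfsg.Agent.Lib.helper14.DicksonSL2
import Cfsg.Agent.Lib.helper46.DicksonMain
import Cfsg.Agent.Lib.helper38.HallHigman2

/-!
# Groups without a section isomorphic to `SL₂(p)`

* `NoSL2Section p G` : no section of `G` is isomorphic to `SL₂(p)`.
* `noSL2Section_of_isPSolvable` : `p`-solvable groups, `p ≥ 5`.
* `noSL2Section_of_abelian_two` : groups whose `2`-subgroups are abelian, `p` odd.
-/

set_option autoImplicit false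
set_option linter.unusedSimpArgs false

namespace Cfsg.Agent.Lib.helper14

open Matrix Subgroup

/-- no section of `G` is isomorphic to `SL₂(p)` -/
def NoSL2Section (p : ℕ) (G : Type*) [Group G] : Prop :=
  ∀ (K L : Subgroup G) (_ : (L.subgroupOf K).Normal),
    IsEmpty ((K ⧸ L.subgroupOf K) ≃* Matrix.SpecialLinearGroup (Fin 2) (ZMod p))

section sl2

variable {F : Type*} [Field F]

/-- the Weyl element of `SL₂` -/
def wMat (F : Type*) [Field F] : SpecialLinearGroup (Fin 2) F :=
  ⟨!![0, 1; -1, 0], by simp [det_fin_two_of]⟩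

@[simp] theorem wMat_val : (wMat F).1 = !![0, 1; -1, 0] := rfl

theorem wMat_conj_uMat (μ : F) : wMat F * uMat μ * (wMat F)⁻¹ = lMat (-μ) := by
  apply sl2_ext' <;>
    simp [mul_val_00, mul_val_01, mul_val_10, mul_val_11, inv_val_00, inv_val_01, inv_val_10,
      inv_val_11]

theorem wMat_conj_lMat (ν : F) : wMat F * lMat ν * (wMat F)⁻¹ = uMat (-ν) := by
  apply sl2_ext' <;>
    simp [mul_val_00, mul_val_01, mul_val_10, mul_val_11, inv_val_00, inv_val_01, inv_val_10,
      inv_val_11]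

/-- an element of trace `2` that is not upper triangular is conjugate to a lower unitriangular
element by an upper unitriangular one -/
theorem conj_to_lMat {g : SpecialLinearGroup (Fin 2) F} (ht : str g = 2) (h10 : g.1 1 0 ≠ 0) :
    uMat ((1 - g.1 0 0) / g.1 1 0) * g * (uMat ((1 - g.1 0 0) / g.1 1 0))⁻¹ = lMat (g.1 1 0) := by
  have hd := sl2_det' g
  unfold str at ht
  have h11 : g.1 1 1 = 2 - g.1 0 0 := by linear_combination ht
  apply sl2_ext'
  · simp only [mul_val_00, mul_val_01, mul_val_10, mul_val_11, inv_val_00, inv_val_01, inv_val_10,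
      inv_val_11, uMat_00, uMat_01, uMat_10, uMat_11, lMat_00]
    field_simp
    ring
  · simp only [mul_val_00, mul_val_01, mul_val_10, mul_val_11, inv_val_00, inv_val_01, inv_val_10,
      inv_val_11, uMat_00, uMat_01, uMat_10, uMat_11, lMat_01]
    rw [h11] at hd ⊢
    field_simp
    linear_combination (-1 : F) * hd
  · simp only [mul_val_00, mul_val_01, mul_val_10, mul_val_11, inv_val_00, inv_val_01, inv_val_10,
      inv_val_11, uMat_00, uMat_01, uMat_10, uMat_11, lMat_10]
    ring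
  · simp only [mul_val_00, mul_val_01, mul_val_10, mul_val_11, inv_val_00, inv_val_01, inv_val_10,
      inv_val_11, uMat_00, uMat_01, uMat_10, uMat_11, lMat_11]
    rw [h11]
    field_simp
    ring

/-- the diagonal element of `SL₂` -/
def dgMat (t : Fˣ) : SpecialLinearGroup (Fin 2) F :=
  ⟨!![(t : F), 0; 0, ((t⁻¹ : Fˣ) : F)], by simp [det_fin_two_of]⟩

@[simp] theorem dgMat_val (t : Fˣ) : (dgMat t).1 = !![(t : F), 0; 0, ((t⁻¹ : Fˣ) : F)] := rfl

theorem dgMat_mul (s t : Fˣ) : dgMat (s * t) = dgMat s * dgMat t := by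
  apply sl2_ext' <;> simp [mul_val_00, mul_val_01, mul_val_10, mul_val_11, mul_comm]

theorem dgMat_one : dgMat (1 : Fˣ) = 1 := by
  apply sl2_ext' <;> simp [one_val_00, one_val_01, one_val_10, one_val_11]

theorem dgMat_pow (t : Fˣ) (k : ℕ) : dgMat t ^ k = dgMat (t ^ k) := by
  induction k with
  | zero => simp [dgMat_one]
  | succ k ih => rw [pow_succ, ih, ← dgMat_mul, pow_succ]

theorem dgMat_mem_borel (t : Fˣ) : dgMat t ∈ borel F := by
  rw [mem_borel]; simp

end sl2

section prime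

variable (p : ℕ) [Fact p.Prime]

theorem uMat_pow_val (μ s : ZMod p) : uMat μ ^ (s.val) = uMat (s * μ) := by
  rw [uMat_pow, ZMod.natCast_zmod_val]

/-- a normal subgroup of `SL₂(p)` of order divisible by `p` is the whole group -/
theorem sl2_normal_eq_top (N : Subgroup (SpecialLinearGroup (Fin 2) (ZMod p)))
    [hN : N.Normal] (hdvd : p ∣ Nat.card N) : N = ⊤ := by
  classical
  obtain ⟨g, hg⟩ := exists_prime_orderOf_dvd_card' p hdvd
  have hgp : (g : SpecialLinearGroup (Fin 2) (ZMod p)) ^ p = 1 := by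
    have := pow_orderOf_eq_one g
    rw [hg] at this
    exact congrArg Subtype.val this
  have hg1 : (g : SpecialLinearGroup (Fin 2) (ZMod p)) ≠ 1 := by
    intro h
    have : g = 1 := Subtype.ext h
    rw [this, orderOf_one] at hg
    exact (Fact.out : p.Prime).one_lt.ne hg
  have hstr : str (g : SpecialLinearGroup (Fin 2) (ZMod p)) = 2 :=
    str_of_pow_char_pow p (j := 1) (by rw [pow_one]; exact hgp)
  -- an upper unitriangular element of `N`
  have hu : ∃ μ : ZMod p, μ ≠ 0 ∧ uMat μ ∈ N := by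
    by_cases h10 : (g : SpecialLinearGroup (Fin 2) (ZMod p)).1 1 0 = 0
    · refine ⟨(g : SpecialLinearGroup (Fin 2) (ZMod p)).1 0 1, ?_, ?_⟩
      · intro h
        apply hg1
        rw [eq_uMat_of_str hstr h10, h, uMat_zero]
      · rw [← eq_uMat_of_str hstr h10]
        exact g.2
    · refine ⟨-(g : SpecialLinearGroup (Fin 2) (ZMod p)).1 1 0, neg_ne_zero.mpr h10, ?_⟩
      have h1 := hN.conj_mem _ g.2
        (uMat ((1 - (g : SpecialLinearGroup (Fin 2) (ZMod p)).1 0 0) /
          (g : SpecialLinearGroup (Fin 2) (ZMod p)).1 1 0))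
      rw [conj_to_lMat hstr h10] at h1
      have h3 := hN.conj_mem _ h1 (wMat (ZMod p))
      rwa [wMat_conj_lMat] at h3
  obtain ⟨μ, hμ, hμN⟩ := hu
  have hu1 : ∀ s : ZMod p, uMat s ∈ N := by
    intro s
    have h1 := N.pow_mem hμN ((s * μ⁻¹).val)
    rwa [uMat_pow_val, mul_assoc, inv_mul_cancel₀ hμ, mul_one] at h1
  have hl1 : ∀ s : ZMod p, lMat s ∈ N := by
    intro s
    have h1 := hN.conj_mem _ (hu1 (-s)) (wMat (ZMod p))
    rwa [wMat_conj_uMat, neg_neg] at h1
  rw [eq_top_iff]
  intro x _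
  apply Cfsg.Agent.Lib.helper46.sl_mem_of_entries N ⊤ (fun s _ => ⟨hu1 s, hl1 s⟩) x
  intro i j
  exact Subfield.mem_top _

/-- `SL₂(p)` is not `p`-solvable for `p ≥ 5` -/
theorem not_isPSolvable_sl2 (hp5 : 5 ≤ p) :
    ¬ Cfsg.IsPSolvable p (SpecialLinearGroup (Fin 2) (ZMod p)) := by
  classical
  rintro ⟨n, H, h0, hlast, -, hnorm, hstep⟩
  have hp2 : p ≠ 2 := by omega
  have hpr : p.Prime := Fact.out
  have h3ne : (3 : ZMod p) ≠ 0 := by
    intro h
    have h' : ((3 : ℕ) : ZMod p) = 0 := by exact_mod_cast h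
    rw [ZMod.natCast_eq_zero_iff] at h'
    have := Nat.le_of_dvd (by norm_num) h'
    omega
  have h2ne : (2 : ZMod p) ≠ 0 := by
    intro h
    have h' : ((2 : ℕ) : ZMod p) = 0 := by exact_mod_cast h
    rw [ZMod.natCast_eq_zero_iff] at h'
    have := Nat.le_of_dvd (by norm_num) h'
    omega
  have hord : ∀ μ : ZMod p, μ ≠ 0 → orderOf (uMat μ) = p := by
    intro μ hμ
    apply orderOf_eq_prime
    · rw [uMat_pow, CharP.cast_eq_zero, zero_mul, uMat_zero]
    · intro h
      apply hμ
      have := congrArg (fun g : SpecialLinearGroup (Fin 2) (ZMod p) => g.1 0 1) h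
      simpa [one_val_01] using this
  have hpcard : p ∣ Nat.card (SpecialLinearGroup (Fin 2) (ZMod p)) := by
    have h1 := orderOf_dvd_natCard (uMat (1 : ZMod p))
    rwa [hord 1 one_ne_zero] at h1
  have key : ∀ i : ℕ, ∀ hi : i < n + 1, ¬ p ∣ Nat.card (H ⟨i, hi⟩) := by
    intro i
    induction i with
    | zero =>
      intro hi
      have : H ⟨0, hi⟩ = ⊥ := h0
      rw [this, Subgroup.card_bot]
      exact hpr.not_dvd_one
    | succ i ih =>
      intro hi hdvd
      have hi' : i < n := by omega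
      have hprev := ih (by omega)
      have := hnorm ⟨i + 1, hi⟩
      have htop : H ⟨i + 1, hi⟩ = ⊤ := sl2_normal_eq_top p _ hdvd
      have hs := hstep ⟨i, hi'⟩
      have e1 : (⟨i, hi'⟩ : Fin n).castSucc = ⟨i, by omega⟩ := rfl
      have e2 : (⟨i, hi'⟩ : Fin n).succ = ⟨i + 1, hi⟩ := rfl
      rw [e1, e2, htop, Subgroup.relIndex_top_right] at hs
      have hNn : (H ⟨i, by omega⟩).Normal := hnorm _
      have hidx : p ∣ (H ⟨i, by omega⟩).index := by
        have h1 := Subgroup.card_mul_index (H ⟨i, by omega⟩)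
        rw [← h1] at hpcard
        exact (hpr.dvd_mul.mp hpcard).resolve_left hprev
      rcases hs with ⟨m, hm⟩ | hcop
      · -- the diagonal element `diag(2, 1/2)` lies in `H i`
        have hd : dgMat (Units.mk0 (2 : ZMod p) h2ne) ∈ H ⟨i, by omega⟩ := by
          have h1 : dgMat (Units.mk0 (2 : ZMod p) h2ne) ^ (H ⟨i, by omega⟩).index ∈
              H ⟨i, by omega⟩ := Subgroup.pow_index_mem _ _
          have h3 : dgMat (Units.mk0 (2 : ZMod p) h2ne) ^ (p - 1) = 1 := by
            rw [dgMat_pow, ZMod.units_pow_card_sub_one_eq_one, dgMat_one]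
          have h4 : orderOf (dgMat (Units.mk0 (2 : ZMod p) h2ne)) ∣ p - 1 :=
            orderOf_dvd_of_pow_eq_one h3
          have h5 : (p - 1).Coprime p := by
            rw [Nat.coprime_comm, hpr.coprime_iff_not_dvd]
            intro h
            have := Nat.le_of_dvd (by omega) h
            omega
          have hcop : ((H ⟨i, by omega⟩).index).Coprime
              (orderOf (dgMat (Units.mk0 (2 : ZMod p) h2ne))) := by
            rw [hm]
            exact Nat.Coprime.pow_left m (Nat.Coprime.coprime_dvd_right h4 h5.symm)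
          obtain ⟨j, hj⟩ := exists_pow_eq_self_of_coprime hcop
          rw [← hj]
          exact Subgroup.pow_mem _ h1 j
        have h6 : dgMat (Units.mk0 (2 : ZMod p) h2ne) * uMat 1 *
            (dgMat (Units.mk0 (2 : ZMod p) h2ne))⁻¹ * (uMat (1 : ZMod p))⁻¹ ∈ H ⟨i, by omega⟩ := by
          have h7 := hNn.conj_mem _ (Subgroup.inv_mem _ hd) (uMat (1 : ZMod p))
          have h8 := Subgroup.mul_mem _ hd h7
          have e : dgMat (Units.mk0 (2 : ZMod p) h2ne) * uMat 1 *
              (dgMat (Units.mk0 (2 : ZMod p) h2ne))⁻¹ * (uMat (1 : ZMod p))⁻¹ =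
              dgMat (Units.mk0 (2 : ZMod p) h2ne) *
                (uMat 1 * (dgMat (Units.mk0 (2 : ZMod p) h2ne))⁻¹ * (uMat (1 : ZMod p))⁻¹) := by
            group
          rw [e]; exact h8
        rw [conj_uMat_of_borel (dgMat_mem_borel _), uMat_inv, uMat_mul] at h6
        have h9 : (dgMat (Units.mk0 (2 : ZMod p) h2ne)).1 0 0 ^ 2 * 1 + -1 = (3 : ZMod p) := by
          simp
          norm_num
        rw [h9] at h6
        have h10 := Subgroup.orderOf_dvd_natCard _ h6
        rw [hord 3 h3ne] at h10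
        exact hprev h10
      · exact (hpr.coprime_iff_not_dvd.mp hcop.symm) hidx
  have hfin := key n (by omega)
  have e3 : (⟨n, by omega⟩ : Fin (n + 1)) = Fin.last n := rfl
  rw [e3, hlast, Subgroup.card_top] at hfin
  exact hfin hpcard

end prime

/-- a `p`-solvable group, `p ≥ 5`, has no section `SL₂(p)` -/
theorem noSL2Section_of_isPSolvable {G : Type*} [Group G] (p : ℕ) [Fact p.Prime] (hp5 : 5 ≤ p)
    (h : Cfsg.IsPSolvable p G) : NoSL2Section p G := by
  intro K L hL
  constructor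
  intro e
  have h1 := Cfsg.Agent.Lib.helper38.isPSolvable_subgroup K h
  have h2 := Cfsg.Agent.Lib.helper38.isPSolvable_quotient (L.subgroupOf K) h1
  exact not_isPSolvable_sl2 p hp5
    (Cfsg.Agent.Lib.helper38.isPSolvable_of_surjective e.toMonoidHom e.surjective h2)


/-- `SL₂(p)`, `p` odd, has a `2`-subgroup with two non-commuting elements -/
theorem exists_noncomm_two_sl2 (p : ℕ) [Fact p.Prime] (hp : p ≠ 2) :
    ∃ P : Subgroup (SpecialLinearGroup (Fin 2) (ZMod p)), IsPGroup 2 P ∧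
      ∃ x ∈ P, ∃ y ∈ P, x * y ≠ y * x := by
  classical
  have : Fact (Nat.Prime 2) := ⟨Nat.prime_two⟩
  have hodd : Odd (Fintype.card (ZMod p)) := by
    rw [ZMod.card]
    exact (Fact.out : p.Prime).eq_two_or_odd'.resolve_left hp
  obtain ⟨P⟩ : Nonempty (Sylow 2 (SpecialLinearGroup (Fin 2) (ZMod p))) := inferInstance
  obtain ⟨k, hk, ⟨e⟩⟩ := Cfsg.Agent.S0261.result hodd P
  refine ⟨P, P.isPGroup', (e.symm (QuaternionGroup.a 1) : ↥(P : Subgroup _)).1, Subtype.property _,
    (e.symm (QuaternionGroup.xa 0) : ↥(P : Subgroup _)).1, Subtype.property _, ?_⟩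
  intro h
  have h1 : e.symm (QuaternionGroup.a 1) * e.symm (QuaternionGroup.xa 0) =
      e.symm (QuaternionGroup.xa 0) * e.symm (QuaternionGroup.a 1) := Subtype.ext h
  rw [← map_mul, ← map_mul] at h1
  have h2 := e.symm.injective h1
  rw [QuaternionGroup.a_mul_xa, QuaternionGroup.xa_mul_a] at h2
  have h3 : (0 : ZMod (2 * 2 ^ k)) - 1 = 0 + 1 := by
    injection h2
  have h4 : ((2 : ℕ) : ZMod (2 * 2 ^ k)) = 0 := by
    have : (2 : ZMod (2 * 2 ^ k)) = 0 := by linear_combination -h3
    exact_mod_cast this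
  rw [ZMod.natCast_eq_zero_iff] at h4
  have h5 := Nat.le_of_dvd (by norm_num) h4
  have h6 : 2 ^ 1 ≤ 2 ^ k := Nat.pow_le_pow_right (by norm_num) hk
  omega

/-- a finite group all of whose `2`-subgroups are abelian has no section `SL₂(p)`, `p` odd -/
theorem noSL2Section_of_abelian_two {G : Type*} [Group G] [Finite G] (p : ℕ) [Fact p.Prime]
    (hp : p ≠ 2) (hab : ∀ Q : Subgroup G, IsPGroup 2 Q → ∀ x ∈ Q, ∀ y ∈ Q, x * y = y * x) :
    NoSL2Section p G := by
  intro K L hL
  constructor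
  intro e
  have : Fact (Nat.Prime 2) := ⟨Nat.prime_two⟩
  obtain ⟨P, hP, x, hx, y, hy, hxy⟩ := exists_noncomm_two_sl2 p hp
  have hπ : Function.Surjective (e.toMonoidHom.comp (QuotientGroup.mk' (L.subgroupOf K))) :=
    e.surjective.comp (QuotientGroup.mk'_surjective _)
  obtain ⟨P', hPP'⟩ := hP.exists_le_sylow
  obtain ⟨T, hT⟩ := Sylow.mapSurjective_surjective hπ 2 P'
  have hT' : (T : Subgroup ↥K).map (e.toMonoidHom.comp (QuotientGroup.mk' (L.subgroupOf K))) =
      (P' : Subgroup _) := by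
    rw [← hT]; rfl
  have hxT : x ∈ (T : Subgroup ↥K).map (e.toMonoidHom.comp (QuotientGroup.mk' (L.subgroupOf K))) := by
    rw [hT']; exact hPP' hx
  have hyT : y ∈ (T : Subgroup ↥K).map (e.toMonoidHom.comp (QuotientGroup.mk' (L.subgroupOf K))) := by
    rw [hT']; exact hPP' hy
  obtain ⟨tx, htx, rfl⟩ := hxT
  obtain ⟨ty, hty, rfl⟩ := hyT
  apply hxy
  have h2 : IsPGroup 2 ((T : Subgroup ↥K).map K.subtype) := T.isPGroup'.map _
  have h3 := hab _ h2 (tx : G) (Subgroup.mem_map_of_mem _ htx) (ty : G)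
    (Subgroup.mem_map_of_mem _ hty)
  have h4 : tx * ty = ty * tx := Subtype.ext h3
  rw [← map_mul, ← map_mul, h4]

/-- the hypothesis on `2`-subgroups from abelian Sylow `2`-subgroups -/
theorem abelian_two_of_sylow {G : Type*} [Group G] [Finite G]
    (hab : ∀ T : Sylow 2 G, IsMulCommutative T) (Q : Subgroup G) (hQ : IsPGroup 2 Q) (x : G)
    (hx : x ∈ Q) (y : G) (hy : y ∈ Q) : x * y = y * x := by
  have : Fact (Nat.Prime 2) := ⟨Nat.prime_two⟩
  obtain ⟨T, hT⟩ := hQ.exists_le_sylow
  have := hab T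
  exact congrArg Subtype.val (mul_comm' (⟨x, hT hx⟩ : (T : Subgroup G)) ⟨y, hT hy⟩)

end Cfsg.Agent.Lib.helper14
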