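import Mathlib.GroupTheory.Sylow
import Mathlib.GroupTheory.Nilpotent
import Mathlib.GroupTheory.Solvable
import Mathlib.GroupTheory.Abelianization.Defs
import Mathlib.GroupTheory.PGroup

set_option autoImplicit false

namespace Cfsg.Agent.Lib.helper14

/-- A finite `p`-group generated by its `p`-th powers is trivial. -/
theorem subsingleton_of_closure_pow_eq_top {D : Type*} [Group D] [Finite D] {p : ℕ} [Fact p.Prime]
    (hD : IsPGroup p D) (h : Subgroup.closure {y : D | ∃ x : D, y = x ^ p} = ⊤) : Subsingleton D := by
  by_contra hns
  rw [not_subsingleton_iff_nontrivial] at hns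
  have hnil : Group.IsNilpotent D := hD.isNilpotent
  have hlt : commutator D < ⊤ := Group.IsSolvable.commutator_lt_top_of_nontrivial D
  let ψ : Abelianization D →* Abelianization D := powMonoidHom p
  have hof : Function.Surjective (Abelianization.of : D →* Abelianization D) := by
    intro q
    induction q using Quot.inductionOn with
    | _ d => exact ⟨d, rfl⟩
  have hsurj : Function.Surjective ψ := by
    intro q
    obtain ⟨d, rfl⟩ := hof q
    have hd : d ∈ Subgroup.closure {y : D | ∃ x : D, y = x ^ p} := by rw [h]; trivial
    have hle : Subgroup.closure {y : D | ∃ x : D, y = x ^ p} ≤ ψ.range.comap Abelianization.of := by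
      rw [Subgroup.closure_le]
      rintro y ⟨x, rfl⟩
      exact ⟨Abelianization.of x, by simp [ψ]⟩
    exact hle hd
  have hfin : Finite (Abelianization D) := Finite.of_surjective _ hof
  have hinj : Function.Injective ψ := Finite.injective_iff_surjective.mpr hsurj
  have hQ : IsPGroup p (Abelianization D) := hD.of_surjective _ hof
  have htriv : ∀ q : Abelianization D, q = 1 := by
    intro q
    obtain ⟨k, hk⟩ := hQ q
    induction k generalizing q with
    | zero => simpa using hk
    | succ k ih =>
      apply ih
      apply hinj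
      rw [map_one]
      show (q ^ p ^ k) ^ p = 1
      rw [← pow_mul, ← pow_succ, hk]
  have hker : (Abelianization.of : D →* Abelianization D).ker = ⊤ := by
    rw [eq_top_iff]
    intro d _
    rw [MonoidHom.mem_ker]
    exact htriv _
  rw [Abelianization.ker_of] at hker
  exact absurd hker hlt.ne

/-- A finite `p`-subgroup contained in the subgroup generated by the `p`-th powers of its elements is trivial. -/
theorem eq_bot_of_le_closure_pow {G : Type*} [Group G] {p : ℕ} [Fact p.Prime] (D : Subgroup G) [Finite D]
    (hD : IsPGroup p D) (h : D ≤ Subgroup.closure {y : G | ∃ x ∈ D, y = x ^ p}) : D = ⊥ := by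
  have key : Subgroup.closure {y : D | ∃ x : D, y = x ^ p} = ⊤ := by
    rw [eq_top_iff]
    intro d _
    have hd := h d.2
    have himg : {y : G | ∃ x ∈ D, y = x ^ p} = D.subtype '' {y : D | ∃ x : D, y = x ^ p} := by
      ext y
      constructor
      · rintro ⟨x, hx, rfl⟩
        exact ⟨⟨x, hx⟩ ^ p, ⟨⟨x, hx⟩, rfl⟩, by simp⟩
      · rintro ⟨y', ⟨x, rfl⟩, rfl⟩
        exact ⟨x.1, x.2, by simp⟩
    rw [himg, ← MonoidHom.map_closure] at hd
    obtain ⟨d', hd', hdd⟩ := hd
    have : d' = d := Subtype.ext hdd
    rw [← this]
    exact hd'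
  have hsub := subsingleton_of_closure_pow_eq_top hD key
  rw [Subgroup.eq_bot_iff_forall]
  intro x hx
  have := Subsingleton.elim (⟨x, hx⟩ : D) 1
  exact congrArg Subtype.val this

end Cfsg.Agent.Lib.helper14
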