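import Mathlib
import Cfsg.Prelude.Def_PLocal
import Cfsg.Prelude.Def_Local
import Cfsg.Agent.S0067
import Cfsg.Agent.Lib.helper27.Radical
import Cfsg.Agent.Lib.helper73.Frattini
import Cfsg.Agent.Lib.helper11.QuadSection2
import Cfsg.Agent.Lib.helper14.NoSection
import Cfsg.Agent.Lib.helper14.ZJBridge
import Cfsg.Agent.Lib.helper40.Cores

/-!
# Quadratic action and sections isomorphic to `SL₂(p)`

* `mem_pCore_of_forall_isPGroup` : Baer–Suzuki for a prime `p`.
* `NoSL2Section p G` : no section of `G` is isomorphic to `SL₂(p)`.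
* `mem_pCore_quotient_of_quadratic` : in a group without such a section, an element acting
  quadratically on an elementary abelian normal section `U/W` lies in `O_p` modulo the kernel of the
  action.
* `isActionPStable_of_noSection`.
-/

set_option autoImplicit false

namespace Cfsg.Agent.Lib.helper14

open Subgroup
open scoped Pointwise commutatorElement

universe u

/-- **Baer–Suzuki** for a prime: an element generating a `p`-group with each of its conjugates lies
in `O_p(G)`. -/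
theorem mem_pCore_of_forall_isPGroup {G : Type*} [Group G] [Finite G] (p : ℕ) [Fact p.Prime] (x : G)
    (h : ∀ g : G, IsPGroup p (Subgroup.closure ({x, g * x * g⁻¹} : Set G))) :
    x ∈ Cfsg.pCore p G := by
  have key : ∀ g : G, (Subgroup.zpowers x ⊔ MulAut.conj g • Subgroup.zpowers x : Subgroup G) =
      Subgroup.closure ({x, g * x * g⁻¹} : Set G) := by
    intro g
    have h1 : MulAut.conj g • Subgroup.zpowers x = Subgroup.zpowers (g * x * g⁻¹) := by
      show Subgroup.map (MulAut.conj g).toMonoidHom (Subgroup.zpowers x) = _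
      rw [MonoidHom.map_zpowers]
      rfl
    rw [h1, Subgroup.zpowers_eq_closure, Subgroup.zpowers_eq_closure, ← Subgroup.closure_union]
    rfl
  have hnil : ∀ g : G, Group.IsNilpotent
      (Subgroup.zpowers x ⊔ MulAut.conj g • Subgroup.zpowers x : Subgroup G) := by
    intro g
    rw [key g]
    exact (h g).isNilpotent
  have hsub := (Cfsg.Agent.S0067.result (Subgroup.zpowers x) hnil).1
  have hp : IsPGroup p (Subgroup.zpowers x) := by
    refine (h 1).to_le ?_
    rw [Subgroup.zpowers_eq_closure]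
    exact Subgroup.closure_mono (by simp)
  exact Cfsg.Agent.Lib.helper27.subnormal_pGroup_le_pCore p _ hsub hp (Subgroup.mem_zpowers x)

/-- In a group without a section `SL₂(p)` (`p` odd), an element acting quadratically on the
elementary abelian section `U/W` lies in `O_p(G/C)`, for `C` a normal subgroup containing the
kernel of the action on `U/W`. -/
theorem mem_pCore_quotient_of_quadratic {G : Type u} [Group G] [Finite G] (p : ℕ) [Fact p.Prime]
    (hp : p ≠ 2) (hno : NoSL2Section p G) (U W C : Subgroup G) [hU : U.Normal] [hW : W.Normal]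
    [C.Normal] (hWU : W ≤ U) (hcomm : ∀ u ∈ U, ∀ v ∈ U, u * v * u⁻¹ * v⁻¹ ∈ W)
    (hexp : ∀ u ∈ U, u ^ p ∈ W) (hC : ∀ g : G, (∀ u ∈ U, g * u * g⁻¹ * u⁻¹ ∈ W) → g ∈ C) (a : G)
    (hqa : ∀ u ∈ U, a * (a * u * a⁻¹ * u⁻¹) * a⁻¹ * (a * u * a⁻¹ * u⁻¹)⁻¹ ∈ W) :
    (QuotientGroup.mk a : G ⧸ C) ∈ Cfsg.pCore p (G ⧸ C) := by
  apply mem_pCore_of_forall_isPGroup
  intro gb
  induction gb using QuotientGroup.induction_on with
  | H g =>
    by_contra hnp
    have hNU : ∀ y : G, y ∈ Subgroup.normalizer (U : Set G) := fun y => by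
      rw [Subgroup.normalizer_eq_top]; exact Subgroup.mem_top y
    have hNW : ∀ y : G, y ∈ Subgroup.normalizer (W : Set G) := fun y => by
      rw [Subgroup.normalizer_eq_top]; exact Subgroup.mem_top y
    have hqb : ∀ u ∈ U, (g * a * g⁻¹) * ((g * a * g⁻¹) * u * (g * a * g⁻¹)⁻¹ * u⁻¹) *
        (g * a * g⁻¹)⁻¹ * ((g * a * g⁻¹) * u * (g * a * g⁻¹)⁻¹ * u⁻¹)⁻¹ ∈ W := by
      intro u hu
      have hu' : g⁻¹ * u * g ∈ U := by
        have := hU.conj_mem u hu g⁻¹
        rwa [inv_inv] at this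
      have h1 := hW.conj_mem _ (hqa _ hu') g
      have e : (g * a * g⁻¹) * ((g * a * g⁻¹) * u * (g * a * g⁻¹)⁻¹ * u⁻¹) *
          (g * a * g⁻¹)⁻¹ * ((g * a * g⁻¹) * u * (g * a * g⁻¹)⁻¹ * u⁻¹)⁻¹ =
          g * (a * (a * (g⁻¹ * u * g) * a⁻¹ * (g⁻¹ * u * g)⁻¹) * a⁻¹ *
            (a * (g⁻¹ * u * g) * a⁻¹ * (g⁻¹ * u * g)⁻¹)⁻¹) * g⁻¹ := by group
      rw [e]
      exact h1
    obtain ⟨K, L, hL, -, ⟨e⟩⟩ := Cfsg.Agent.Lib.helper11.QuadPair.exists_sl2_section_of_quad_pair p hp U W hWU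
      (fun y _ => hNW y) hcomm hexp a (g * a * g⁻¹) (hNU _) (hNW _) (hNU _) (hNW _) hqa hqb (by
        rintro ⟨k, hk⟩
        apply hnp
        have himg : Subgroup.closure ({(QuotientGroup.mk a : G ⧸ C),
            (QuotientGroup.mk g : G ⧸ C) * (QuotientGroup.mk a : G ⧸ C) *
              (QuotientGroup.mk g : G ⧸ C)⁻¹} : Set (G ⧸ C)) =
            (Subgroup.closure ({a, g * a * g⁻¹} : Set G)).map (QuotientGroup.mk' C) := by
          rw [MonoidHom.map_closure, Set.image_pair]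
          rfl
        rw [himg]
        rintro ⟨y, hy⟩
        obtain ⟨h, hh, rfl⟩ := Subgroup.mem_map.mp hy
        refine ⟨k, ?_⟩
        apply Subtype.ext
        show (QuotientGroup.mk' C h) ^ p ^ k = 1
        rw [← map_pow]
        exact (QuotientGroup.eq_one_iff _).mpr (hC _ (hk h hh)))
    exact (hno K L hL).false e


/-- quadratic action, elementwise -/
theorem quad_elem_of_commutator {G : Type*} [Group G] (V W : Subgroup G) (a : G)
    (hq : ⁅⁅V, Subgroup.zpowers a⁆, Subgroup.zpowers a⁆ ≤ W) (u : G) (hu : u ∈ V) :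
    a * (a * u * a⁻¹ * u⁻¹) * a⁻¹ * (a * u * a⁻¹ * u⁻¹)⁻¹ ∈ W := by
  have h1 : ⁅u, a⁆ ∈ ⁅V, Subgroup.zpowers a⁆ :=
    Subgroup.commutator_mem_commutator hu (Subgroup.mem_zpowers a)
  have h2 : ⁅a, u⁆ ∈ ⁅V, Subgroup.zpowers a⁆ := by
    rw [← commutatorElement_inv]
    exact Subgroup.inv_mem _ h1
  have h3 : ⁅⁅a, u⁆, a⁆ ∈ W :=
    hq (Subgroup.commutator_mem_commutator h2 (Subgroup.mem_zpowers a))
  have h4 : ⁅a, ⁅a, u⁆⁆ ∈ W := by
    rw [← commutatorElement_inv]
    exact Subgroup.inv_mem _ h3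
  exact h4

theorem isPStableOn_of_noSection {G : Type u} [Group G] [Finite G] (p : ℕ) [Fact p.Prime]
    (hp : p ≠ 2) (hno : NoSL2Section p G) (V : Subgroup G) [V.Normal]
    (hV : Cfsg.IsElementaryAbelian p V) : Cfsg.IsPStableOn p V := by
  intro a hq
  have hVc := hV.1
  refine mem_pCore_quotient_of_quadratic p hp hno V ⊥ (Subgroup.centralizer (V : Set G)) bot_le
    ?_ ?_ ?_ a ?_
  · intro u hu v hv
    rw [Subgroup.mem_bot]
    have h := congrArg Subtype.val (mul_comm' (⟨u, hu⟩ : V) ⟨v, hv⟩)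
    have h' : u * v = v * u := h
    rw [h']; group
  · intro u hu
    rw [Subgroup.mem_bot]
    exact hV.2 u hu
  · intro g hg
    rw [Subgroup.mem_centralizer_iff]
    intro u hu
    have h := Subgroup.mem_bot.mp (hg u hu)
    have e : g * u = g * u * g⁻¹ * u⁻¹ * (u * g) := by group
    rw [e, h, one_mul]
  · intro u hu
    exact quad_elem_of_commutator V ⊥ a hq.le u hu

theorem mem_sectionKernel_of_forall {G : Type*} [Group G] (K N : Subgroup G) [N.Normal] (g : G)
    (h : ∀ u ∈ K, g * u * g⁻¹ * u⁻¹ ∈ N) : g ∈ Cfsg.sectionKernel K N := by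
  show QuotientGroup.mk' N g ∈ Subgroup.centralizer
    ((K.map (QuotientGroup.mk' N) : Subgroup (G ⧸ N)) : Set (G ⧸ N))
  rw [Subgroup.mem_centralizer_iff]
  rintro y ⟨u, hu, rfl⟩
  have h1 := (QuotientGroup.eq_one_iff (N := N) _).mpr (h u hu)
  have h2 : ((g * u * g⁻¹ * u⁻¹ : G) : G ⧸ N) =
      QuotientGroup.mk' N g * QuotientGroup.mk' N u * (QuotientGroup.mk' N g)⁻¹ *
        (QuotientGroup.mk' N u)⁻¹ := rfl
  rw [h2] at h1
  have e : QuotientGroup.mk' N g * QuotientGroup.mk' N u =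
      (QuotientGroup.mk' N g * QuotientGroup.mk' N u * (QuotientGroup.mk' N g)⁻¹ *
        (QuotientGroup.mk' N u)⁻¹) * (QuotientGroup.mk' N u * QuotientGroup.mk' N g) := by group
  rw [e, h1, one_mul]

instance sectionKernel_normal {G : Type*} [Group G] (K N : Subgroup G) [K.Normal] [N.Normal] :
    (Cfsg.sectionKernel K N).Normal := by
  unfold Cfsg.sectionKernel
  have h1 : (K.map (QuotientGroup.mk' N)).Normal :=
    Subgroup.Normal.map inferInstance _ (QuotientGroup.mk'_surjective N)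
  have h2 : (Subgroup.centralizer ((K.map (QuotientGroup.mk' N) : Subgroup (G ⧸ N)) :
      Set (G ⧸ N))).Normal := inferInstance
  exact h2.comap _

theorem relIndex_comap_mk {G : Type*} [Group G] (C : Subgroup G) [C.Normal]
    (P : Subgroup (G ⧸ C)) : C.relIndex (P.comap (QuotientGroup.mk' C)) = Nat.card P := by
  have h1 : C = (⊥ : Subgroup (G ⧸ C)).comap (QuotientGroup.mk' C) := by
    rw [MonoidHom.comap_bot, QuotientGroup.ker_mk']
  have h2 : C.relIndex (P.comap (QuotientGroup.mk' C)) =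
      ((⊥ : Subgroup (G ⧸ C)).comap (QuotientGroup.mk' C)).relIndex
        (P.comap (QuotientGroup.mk' C)) :=
    congrArg (fun X : Subgroup G => X.relIndex (P.comap (QuotientGroup.mk' C))) h1
  rw [h2, Subgroup.relIndex_comap, Subgroup.map_comap_eq_self_of_surjective
    (QuotientGroup.mk'_surjective _), Subgroup.relIndex_bot_left]

theorem isPStableOnSection_of_noSection {G : Type u} [Group G] [Finite G] (p : ℕ) [Fact p.Prime]
    (hp : p ≠ 2) (hno : NoSL2Section p G) :
    Cfsg.IsPStableOnSection p (Cfsg.pCore p G)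
      ((frattini ↥(Cfsg.pCore p G)).map (Cfsg.pCore p G).subtype) := by
  intro a hq
  have hQp : IsPGroup p (Cfsg.pCore p G) := Cfsg.Agent.Lib.helper40.pCore_isPGroup p G
  obtain ⟨n, hn⟩ := IsPGroup.iff_card.mp hQp
  have hCn : (Cfsg.sectionKernel (Cfsg.pCore p G)
      ((frattini ↥(Cfsg.pCore p G)).map (Cfsg.pCore p G).subtype)).Normal := inferInstance
  have hPp : IsPGroup p (Cfsg.pCore p (G ⧸ Cfsg.sectionKernel (Cfsg.pCore p G)
      ((frattini ↥(Cfsg.pCore p G)).map (Cfsg.pCore p G).subtype))) :=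
    Cfsg.Agent.Lib.helper40.pCore_isPGroup p _
  obtain ⟨k, hk⟩ := IsPGroup.iff_card.mp hPp
  refine ⟨(Cfsg.pCore p (G ⧸ Cfsg.sectionKernel (Cfsg.pCore p G)
      ((frattini ↥(Cfsg.pCore p G)).map (Cfsg.pCore p G).subtype))).comap
        (QuotientGroup.mk' _), Subgroup.Normal.comap inferInstance _, ?_, ⟨k, ?_⟩, ?_⟩
  · intro g hg
    rw [Subgroup.mem_comap]
    have : QuotientGroup.mk' (Cfsg.sectionKernel (Cfsg.pCore p G)
      ((frattini ↥(Cfsg.pCore p G)).map (Cfsg.pCore p G).subtype)) g = 1 :=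
      (QuotientGroup.eq_one_iff _).mpr hg
    rw [this]
    exact Subgroup.one_mem _
  · rw [relIndex_comap_mk, hk]
  · rw [Subgroup.mem_comap]
    refine mem_pCore_quotient_of_quadratic p hp hno (Cfsg.pCore p G)
      ((frattini ↥(Cfsg.pCore p G)).map (Cfsg.pCore p G).subtype) _ ?_ ?_ ?_ ?_ a ?_
    · exact Subgroup.map_subtype_le _
    · intro u hu v hv
      refine ⟨(⟨u, hu⟩ : ↥(Cfsg.pCore p G)) * ⟨v, hv⟩ * (⟨u, hu⟩ : ↥(Cfsg.pCore p G))⁻¹ *
        (⟨v, hv⟩ : ↥(Cfsg.pCore p G))⁻¹,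
        Cfsg.Agent.Lib.helper73.commutator_mem_frattini hn _ _, rfl⟩
    · intro u hu
      exact ⟨(⟨u, hu⟩ : ↥(Cfsg.pCore p G)) ^ p,
        Cfsg.Agent.Lib.helper73.pow_mem_frattini hn _, rfl⟩
    · intro g hg
      exact mem_sectionKernel_of_forall _ _ g hg
    · intro u hu
      exact quad_elem_of_commutator _ _ a hq u hu

/-- a finite group of odd characteristic `p` none of whose relevant subgroups has a section
`SL₂(p)` is `p`-stable in the action sense -/
theorem isActionPStable_of_noSection {G : Type u} [Group G] [Finite G] (p : ℕ) [Fact p.Prime]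
    (hp : p ≠ 2) (hno : NoSL2Section p G)
    (hnoN : ∀ S : Sylow p G, NoSL2Section p
      ↥(Subgroup.normalizer (Cfsg.thompsonSubgroupOf p (S : Subgroup G) : Set G))) :
    Cfsg.IsActionPStable p G := by
  refine ⟨fun V _ hV => isPStableOn_of_noSection p hp hno V hV,
    isPStableOnSection_of_noSection p hp hno, ?_⟩
  intro S V _ hVle
  apply isPStableOn_of_noSection p hp (hnoN S) V
  have hS : IsPGroup p ↥(S : Subgroup G) := S.isPGroup'
  rw [omegaCenterThompson_map_eq_zjE (S : Subgroup G) hS] at hVle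
  obtain ⟨A₁, hA₁⟩ := famE_nonempty p (S : Subgroup G)
  have hVA : V.map (Subgroup.normalizer
      (Cfsg.thompsonSubgroupOf p (S : Subgroup G) : Set G)).subtype ≤ A₁ :=
    hVle.trans (zjE_le_of_mem hA₁)
  refine ⟨⟨⟨fun x y => ?_⟩⟩, fun x hx => ?_⟩
  · apply Subtype.ext
    apply Subtype.ext
    exact goodE_commute hA₁.2.1 (hVA (Subgroup.mem_map_of_mem _ x.2))
      (hVA (Subgroup.mem_map_of_mem _ y.2))
  · apply Subtype.ext
    exact hA₁.2.1.2 _ (hVA (Subgroup.mem_map_of_mem _ hx))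

end Cfsg.Agent.Lib.helper14
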