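import Mathlib
import Cfsg.Agent.Lib.helper89.S60Defs

/-!
# S6000, piece AELT2 (racing copy by helper14): `R / Z` is elementary abelian

Route without case analysis: every `TLike` element commutes with all squares and all commutators
of `R`; the subgroup `C` of elements of `R` commuting with every `TLike` element consists of
scalars (descend along `[·, R]` to find a non-scalar `TLike` element of `C` otherwise).
-/

set_option autoImplicit false
set_option linter.unusedVariables false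

namespace Cfsg.Agent.Lib.helper89.S60

open Matrix Cfsg Cfsg.Geo
open scoped commutatorElement

section grp

variable {G : Type*} [Group G]

theorem h14_comm_central_left (z a b : G) (hz : ∀ x : G, z * x = x * z) : ⁅z * a, b⁆ = ⁅a, b⁆ := by
  rw [commutatorElement_def, commutatorElement_def]
  have h1 : z * a * b * (z * a)⁻¹ * b⁻¹ = z * (a * b * a⁻¹) * z⁻¹ * b⁻¹ := by group
  rw [h1, hz (a * b * a⁻¹)]
  group

theorem h14_comm_central_right (z a b : G) (hz : ∀ x : G, z * x = x * z) : ⁅a, z * b⁆ = ⁅a, b⁆ := by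
  rw [commutatorElement_def, commutatorElement_def]
  have h1 : a * (z * b) * a⁻¹ * (z * b)⁻¹ = a * z * (b * a⁻¹ * b⁻¹) * z⁻¹ := by group
  rw [h1, ← hz a]
  have h2 : z * a * (b * a⁻¹ * b⁻¹) * z⁻¹ = z * (a * b * a⁻¹ * b⁻¹) * z⁻¹ := by group
  rw [h2, hz (a * b * a⁻¹ * b⁻¹)]
  group

end grp

/-- [AELT2] (racing copy) verbatim Skel statement of `s60_sq_scalar` -/
theorem h14_s60_sq_scalar {F : Type*} [Field F] [Fintype F] (h2 : (2 : F) ≠ 0) (R : Subgroup (GL (Fin 4) F))
    (hRs : IsSymplecticTypeGroup 2 R) (hRi : ActsAbsolutelyIrreducibly (matrixSet R))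
    (hR6 : Nat.card R = 64) (hRZ : Nat.card (Subgroup.center R) = 4)
    (hT : ∀ s ∈ R, TLike R s → (∀ t ∈ R, TLike R t → (s : Matrix (Fin 4) (Fin 4) F) * (t : Matrix (Fin 4) (Fin 4) F) = (t : Matrix (Fin 4) (Fin 4) F) * (s : Matrix (Fin 4) (Fin 4) F)) →
      ∃ c : F, (s : Matrix (Fin 4) (Fin 4) F) = c • (1 : Matrix (Fin 4) (Fin 4) F)) :
    ∀ s ∈ R, TLike R s := by
  classical
  -- units are nonzero matrices
  have hunit : ∀ u : GL (Fin 4) F, (u : Matrix (Fin 4) (Fin 4) F) ≠ 0 := by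
    intro u h0
    have h1 := u.val_inv
    rw [h0, zero_mul] at h1
    exact zero_ne_one h1
  -- the central involution -1
  obtain ⟨ζ, hζ⟩ : ∃ ζ : GL (Fin 4) F, (ζ : Matrix (Fin 4) (Fin 4) F) = -1 := ⟨-1, by simp⟩
  have hζc : ∀ x : GL (Fin 4) F, ζ * x = x * ζ := by
    intro x
    apply Units.ext
    show (ζ : Matrix (Fin 4) (Fin 4) F) * (x : Matrix (Fin 4) (Fin 4) F) =
      (x : Matrix (Fin 4) (Fin 4) F) * (ζ : Matrix (Fin 4) (Fin 4) F)
    rw [hζ, neg_one_mul, mul_neg_one]
  have hζζ : ζ * ζ = 1 := by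
    apply Units.ext
    show (ζ : Matrix (Fin 4) (Fin 4) F) * (ζ : Matrix (Fin 4) (Fin 4) F) = 1
    rw [hζ, neg_one_mul, neg_neg]
  -- sign lemma
  have hsign : ∀ t ∈ R, TLike R t → ∀ g ∈ R, MulAut.conj t g = g ∨ MulAut.conj t g = ζ * g := by
    intro t htR ht g hg
    obtain ⟨a, ha⟩ := ht.1
    obtain ⟨c, hc⟩ := ht.2 g hg
    have ha0 : a ≠ 0 := by
      intro h0
      rw [h0, zero_smul] at ha
      exact hunit (t * t) ha
    have h1 : (t : Matrix (Fin 4) (Fin 4) F) * (t : Matrix (Fin 4) (Fin 4) F) *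
        (g : Matrix (Fin 4) (Fin 4) F) = (c * c * a) • (g : Matrix (Fin 4) (Fin 4) F) := by
      rw [mul_assoc, hc, Matrix.mul_smul, ← mul_assoc, hc, Matrix.smul_mul, smul_smul, mul_assoc,
        ha, Matrix.mul_smul, mul_one, smul_smul]
    rw [ha, Matrix.smul_mul, one_mul] at h1
    have h3 : (a - c * c * a) • (g : Matrix (Fin 4) (Fin 4) F) = 0 := by
      rw [sub_smul, ← h1, sub_self]
    have h4 : a - c * c * a = 0 := by
      rcases smul_eq_zero.mp h3 with h | h
      · exact h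
      · exact absurd h (hunit g)
    have h5 : c * c = 1 := by
      have h6 : a * (1 - c * c) = 0 := by linear_combination h4
      rcases mul_eq_zero.mp h6 with h | h
      · exact absurd h ha0
      · linear_combination -h
    rcases mul_self_eq_one_iff.mp h5 with h | h
    · left
      rw [MulAut.conj_apply, mul_inv_eq_iff_eq_mul]
      apply Units.ext
      show (t : Matrix (Fin 4) (Fin 4) F) * (g : Matrix (Fin 4) (Fin 4) F) =
        (g : Matrix (Fin 4) (Fin 4) F) * (t : Matrix (Fin 4) (Fin 4) F)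
      rw [hc, h, one_smul]
    · right
      rw [MulAut.conj_apply, mul_inv_eq_iff_eq_mul]
      apply Units.ext
      show (t : Matrix (Fin 4) (Fin 4) F) * (g : Matrix (Fin 4) (Fin 4) F) =
        (ζ : Matrix (Fin 4) (Fin 4) F) * (g : Matrix (Fin 4) (Fin 4) F) *
          (t : Matrix (Fin 4) (Fin 4) F)
      rw [hc, h, hζ, neg_one_smul, neg_one_mul, neg_mul]
  -- TLike elements commute with squares and commutators
  have hfix_sq : ∀ t ∈ R, TLike R t → ∀ s ∈ R, t * (s * s) = s * s * t := by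
    intro t htR ht s hs
    have h1 : MulAut.conj t (s * s) = s * s := by
      rw [map_mul]
      rcases hsign t htR ht s hs with h | h
      · rw [h]
      · rw [h]
        have h3 : ζ * s * (ζ * s) = ζ * (s * ζ) * s := by group
        rw [h3, ← hζc s]
        have h4 : ζ * (ζ * s) * s = ζ * ζ * (s * s) := by group
        rw [h4, hζζ, one_mul]
    rw [MulAut.conj_apply, mul_inv_eq_iff_eq_mul] at h1
    exact h1
  have hfix_comm : ∀ t ∈ R, TLike R t → ∀ s ∈ R, ∀ g ∈ R, t * ⁅s, g⁆ = ⁅s, g⁆ * t := by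
    intro t htR ht s hs g hg
    have h1 : MulAut.conj t ⁅s, g⁆ = ⁅s, g⁆ := by
      rw [map_commutatorElement]
      rcases hsign t htR ht s hs with h | h <;> rcases hsign t htR ht g hg with h' | h' <;>
        rw [h, h']
      · rw [h14_comm_central_right ζ s g hζc]
      · rw [h14_comm_central_left ζ s g hζc]
      · rw [h14_comm_central_left ζ s (ζ * g) hζc, h14_comm_central_right ζ s g hζc]
    rw [MulAut.conj_apply, mul_inv_eq_iff_eq_mul] at h1
    exact h1
  -- the subgroup C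
  let C : Subgroup (GL (Fin 4) F) := R ⊓ Subgroup.centralizer {t | t ∈ R ∧ TLike R t}
  have hCmem : ∀ x : GL (Fin 4) F, x ∈ C ↔ x ∈ R ∧ ∀ t ∈ R, TLike R t → t * x = x * t := by
    intro x
    constructor
    · rintro ⟨hx1, hx2⟩
      exact ⟨hx1, fun t htR ht => (Subgroup.mem_centralizer_iff.mp hx2) t ⟨htR, ht⟩⟩
    · rintro ⟨hx1, hx2⟩
      exact ⟨hx1, Subgroup.mem_centralizer_iff.mpr fun t ht => hx2 t ht.1 ht.2⟩
  have hCR : C ≤ R := inf_le_left
  have hcommC : ∀ s ∈ R, ∀ g ∈ R, ⁅s, g⁆ ∈ C := by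
    intro s hs g hg
    rw [hCmem]
    refine ⟨?_, fun t htR ht => hfix_comm t htR ht s hs g hg⟩
    rw [commutatorElement_def]
    exact R.mul_mem (R.mul_mem (R.mul_mem hs hg) (R.inv_mem hs)) (R.inv_mem hg)
  have hsqC : ∀ s ∈ R, s * s ∈ C := by
    intro s hs
    rw [hCmem]
    exact ⟨R.mul_mem hs hs, fun t htR ht => hfix_sq t htR ht s hs⟩
  -- exponent 4
  have hexp : ∀ s ∈ R, s ^ 4 = 1 := by
    intro s hs
    have h1 := Monoid.pow_exponent_eq_one (⟨s, hs⟩ : R)
    rw [hRs.exponent_eq] at h1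
    have h3 : (2 * Nat.gcd 2 2) = 4 := by norm_num
    rw [h3] at h1
    have h4 := congrArg Subtype.val h1
    simpa using h4
  -- every element of C is scalar
  have hCsc : ∀ x ∈ C, ∃ c : F, (x : Matrix (Fin 4) (Fin 4) F) = c • (1 : Matrix (Fin 4) (Fin 4) F) := by
    by_contra hcon
    push_neg at hcon
    obtain ⟨x0, hx0C, hx0⟩ := hcon
    have hfact : Fact (Nat.Prime 2) := ⟨Nat.prime_two⟩
    have hfin : Finite R := Nat.finite_of_card_ne_zero (by rw [hR6]; norm_num)
    have hnil : Group.IsNilpotent ↥R := hRs.pGroup.isNilpotent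
    obtain ⟨n, hn⟩ := (Subgroup.isNilpotent_iff_lowerCentralSeries R).mp hnil
    let E : ℕ → Subgroup (GL (Fin 4) F) := fun i => Nat.rec C (fun _ D => ⁅D, R⁆) i
    have hE0 : E 0 = C := rfl
    have hEs : ∀ i, E (i + 1) = ⁅E i, R⁆ := fun i => rfl
    have hEC : ∀ i, E i ≤ C := by
      intro i
      induction i with
      | zero => rw [hE0]
      | succ k ih =>
        rw [hEs, Subgroup.commutator_le]
        intro a ha b hb
        exact hcommC a (hCR (ih ha)) b hb
    have hEL : ∀ i, E i ≤ R.lowerCentralSeries i := by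
      intro i
      induction i with
      | zero => rw [hE0, Subgroup.lowerCentralSeries_zero]; exact hCR
      | succ k ih =>
        rw [hEs, Subgroup.lowerCentralSeries_succ]
        exact Subgroup.commutator_mono ih le_rfl
    have hP0 : ¬ ∀ x ∈ E 0, ∃ c : F, (x : Matrix (Fin 4) (Fin 4) F) = c • (1 : Matrix (Fin 4) (Fin 4) F) := by
      intro h1
      rw [hE0] at h1
      obtain ⟨c, hc⟩ := h1 x0 hx0C
      exact hx0 c hc
    have hPn : ∀ x ∈ E n, ∃ c : F, (x : Matrix (Fin 4) (Fin 4) F) = c • (1 : Matrix (Fin 4) (Fin 4) F) := by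
      intro x hx
      have h1 := hEL n hx
      rw [hn, Subgroup.mem_bot] at h1
      exact ⟨1, by rw [h1, one_smul]; rfl⟩
    have hstep : ∀ m : ℕ, (∀ x ∈ E m, ∃ c : F, (x : Matrix (Fin 4) (Fin 4) F) = c • (1 : Matrix (Fin 4) (Fin 4) F)) →
        ∃ i : ℕ, (¬ ∀ x ∈ E i, ∃ c : F, (x : Matrix (Fin 4) (Fin 4) F) = c • (1 : Matrix (Fin 4) (Fin 4) F)) ∧
          ∀ x ∈ E (i + 1), ∃ c : F, (x : Matrix (Fin 4) (Fin 4) F) = c • (1 : Matrix (Fin 4) (Fin 4) F) := by
      intro m
      induction m with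
      | zero => intro h; exact absurd h hP0
      | succ k ih =>
        intro h
        rcases Classical.em (∀ x ∈ E k, ∃ c : F, (x : Matrix (Fin 4) (Fin 4) F) = c • (1 : Matrix (Fin 4) (Fin 4) F)) with hk | hk
        · exact ih hk
        · exact ⟨k, hk, h⟩
    obtain ⟨i, hPi, hPi1⟩ := hstep n hPn
    push_neg at hPi
    obtain ⟨c0, hc0E, hc0⟩ := hPi
    -- a non-scalar element of E i with scalar square
    obtain ⟨c1, hc1E, hc1, hc1sq⟩ : ∃ c1 ∈ E i, (∀ c : F, (c1 : Matrix (Fin 4) (Fin 4) F) ≠ c • (1 : Matrix (Fin 4) (Fin 4) F)) ∧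
        ∃ a : F, (c1 : Matrix (Fin 4) (Fin 4) F) * (c1 : Matrix (Fin 4) (Fin 4) F) = a • (1 : Matrix (Fin 4) (Fin 4) F) := by
      by_cases hsq : ∃ a : F, (c0 : Matrix (Fin 4) (Fin 4) F) * (c0 : Matrix (Fin 4) (Fin 4) F) = a • (1 : Matrix (Fin 4) (Fin 4) F)
      · exact ⟨c0, hc0E, hc0, hsq⟩
      · push_neg at hsq
        refine ⟨c0 * c0, (E i).mul_mem hc0E hc0E, fun c => hsq c, 1, ?_⟩
        have h4 := hexp c0 (hCR (hEC i hc0E))
        have h5 : c0 * c0 * (c0 * c0) = c0 ^ 4 := by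
          have h := pow_add c0 2 2
          rw [sq] at h
          exact h.symm
        have h6 := congrArg Units.val (h5.trans h4)
        rw [one_smul]
        exact h6
    have hc1C : c1 ∈ C := hEC i hc1E
    have hc1R : c1 ∈ R := hCR hc1C
    have hc1T : TLike R c1 := by
      refine ⟨hc1sq, fun g hg => ?_⟩
      have h1 : ⁅c1, g⁆ ∈ E (i + 1) := by
        rw [hEs]
        exact Subgroup.commutator_mem_commutator hc1E hg
      obtain ⟨a, ha⟩ := hPi1 _ h1
      refine ⟨a, ?_⟩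
      have h3 : c1 * g = ⁅c1, g⁆ * (g * c1) := by
        rw [commutatorElement_def]; group
      have h4 := congrArg Units.val h3
      rw [Units.val_mul, Units.val_mul, ha, Matrix.smul_mul, one_mul] at h4
      exact h4
    obtain ⟨c, hc⟩ := hT c1 hc1R hc1T (by
      intro t htR ht
      have h1 := ((hCmem c1).mp hc1C).2 t htR ht
      exact (congrArg Units.val h1).symm)
    exact hc1 c hc
  -- conclusion
  intro s hs
  refine ⟨hCsc (s * s) (hsqC s hs), fun g hg => ?_⟩
  obtain ⟨a, ha⟩ := hCsc _ (hcommC s hs g hg)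
  refine ⟨a, ?_⟩
  have h3 : s * g = ⁅s, g⁆ * (g * s) := by
    rw [commutatorElement_def]; group
  have h4 := congrArg Units.val h3
  rw [Units.val_mul, Units.val_mul, ha, Matrix.smul_mul, one_mul] at h4
  exact h4

end Cfsg.Agent.Lib.helper89.S60
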