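import Cfsg.Agent.Lib.helper24.S6eDefs

/-!
# S6002, piece B5E (racing copy by helper14): an element of order 5 normalizing `R`
-/

set_option autoImplicit false
set_option linter.unusedSimpArgs false

namespace Cfsg.Agent.Lib.helper24

open Matrix Cfsg Cfsg.Geo

section ring

variable {A : Type*} [Ring A]

theorem h14_u_a (a b : A) (haa : a * a = 1) (hbb : b * b = 1) (hab : a * b = -(b * a)) :
    (1 + a * b) * a = -b * (1 + a * b) := by
  have h1 : a * b * a = -b := by rw [hab, neg_mul, mul_assoc, haa, mul_one]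
  have h2 : b * (a * b) = -a := by rw [hab, mul_neg, ← mul_assoc, hbb, one_mul]
  rw [add_mul, one_mul, h1, mul_add, mul_one, neg_mul, h2, neg_neg]
  abel

theorem h14_u_b (a b : A) (haa : a * a = 1) (hbb : b * b = 1) :
    (1 + a * b) * b = a * (1 + a * b) := by
  rw [add_mul, one_mul, mul_add, mul_one, mul_assoc, hbb, mul_one, ← mul_assoc, haa, one_mul]
  abel

theorem h14_u_c (a b c : A) (hca : c * a = -(a * c)) (hcb : c * b = -(b * c)) :
    (1 + a * b) * c = c * (1 + a * b) := by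
  have h1 : c * (a * b) = a * b * c := by
    rw [← mul_assoc c a b, hca, neg_mul, mul_assoc a c b, hcb, mul_neg, neg_neg, mul_assoc]
  rw [add_mul, one_mul, mul_add, mul_one, h1]

theorem h14_u_sq (a b : A) (haa : a * a = 1) (hbb : b * b = 1) (hab : a * b = -(b * a)) :
    a * b * (a * b) = -1 := by
  have h2 : b * (a * b) = -a := by rw [hab, mul_neg, ← mul_assoc, hbb, one_mul]
  rw [mul_assoc, h2, mul_neg, haa]

theorem h14_u_inv (a b : A) (haa : a * a = 1) (hbb : b * b = 1) (hab : a * b = -(b * a)) :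
    (1 + a * b) * (1 - a * b) = 2 ∧ (1 - a * b) * (1 + a * b) = 2 := by
  have h := h14_u_sq a b haa hbb hab
  constructor
  · have : (1 + a * b) * (1 - a * b) = 1 - a * b * (a * b) := by noncomm_ring
    rw [this, h]; norm_num
  · have : (1 - a * b) * (1 + a * b) = 1 - a * b * (a * b) := by noncomm_ring
    rw [this, h]; norm_num

theorem h14_t4 (T0 T1 T2 T3 : A) (s0 : T0 * T0 = 1) (s1 : T1 * T1 = 1) (s2 : T2 * T2 = 1)
    (s3 : T3 * T3 = 1) (a10 : T1 * T0 = -(T0 * T1)) (a20 : T2 * T0 = -(T0 * T2))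
    (a30 : T3 * T0 = -(T0 * T3)) (a21 : T2 * T1 = -(T1 * T2)) (a31 : T3 * T1 = -(T1 * T3))
    (a32 : T3 * T2 = -(T2 * T3)) :
    (T0 * T1 * T2 * T3) * (T0 * T1 * T2 * T3) = 1 ∧
    (T0 * T1 * T2 * T3) * T0 = -(T0 * (T0 * T1 * T2 * T3)) ∧
    (T0 * T1 * T2 * T3) * T1 = -(T1 * (T0 * T1 * T2 * T3)) ∧
    (T0 * T1 * T2 * T3) * T2 = -(T2 * (T0 * T1 * T2 * T3)) ∧
    (T0 * T1 * T2 * T3) * T3 = -(T3 * (T0 * T1 * T2 * T3)) := by
  have a10' : ∀ X, T1 * (T0 * X) = -(T0 * (T1 * X)) := fun X => by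
    rw [← mul_assoc, a10, neg_mul, mul_assoc]
  have a20' : ∀ X, T2 * (T0 * X) = -(T0 * (T2 * X)) := fun X => by
    rw [← mul_assoc, a20, neg_mul, mul_assoc]
  have a30' : ∀ X, T3 * (T0 * X) = -(T0 * (T3 * X)) := fun X => by
    rw [← mul_assoc, a30, neg_mul, mul_assoc]
  have a21' : ∀ X, T2 * (T1 * X) = -(T1 * (T2 * X)) := fun X => by
    rw [← mul_assoc, a21, neg_mul, mul_assoc]
  have a31' : ∀ X, T3 * (T1 * X) = -(T1 * (T3 * X)) := fun X => by
    rw [← mul_assoc, a31, neg_mul, mul_assoc]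
  have a32' : ∀ X, T3 * (T2 * X) = -(T2 * (T3 * X)) := fun X => by
    rw [← mul_assoc, a32, neg_mul, mul_assoc]
  have s0' : ∀ X, T0 * (T0 * X) = X := fun X => by rw [← mul_assoc, s0, one_mul]
  have s1' : ∀ X, T1 * (T1 * X) = X := fun X => by rw [← mul_assoc, s1, one_mul]
  have s2' : ∀ X, T2 * (T2 * X) = X := fun X => by rw [← mul_assoc, s2, one_mul]
  have s3' : ∀ X, T3 * (T3 * X) = X := fun X => by rw [← mul_assoc, s3, one_mul]
  refine ⟨?_, ?_, ?_, ?_, ?_⟩ <;>
    simp only [mul_assoc, a10, a20, a30, a21, a31, a32, a10', a20', a30', a21', a31', a32',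
      s0, s1, s2, s3, s0', s1', s2', s3', mul_neg, neg_mul, neg_neg, mul_one, one_mul]

end ring

section form

variable {F : Type*} [Field F]

/-- `A` scales the symplectic form by `c` -/
def h14_Sc (A : Matrix S6I S6I F) (c : F) : Prop :=
  ∀ x y : S6I → F, sympForm 2 F (A *ᵥ x) (A *ᵥ y) = c * sympForm 2 F x y

theorem h14_Sc_mul (A B : Matrix S6I S6I F) (c d : F) (hA : h14_Sc A c) (hB : h14_Sc B d) :
    h14_Sc (A * B) (c * d) := by
  intro x y
  rw [← Matrix.mulVec_mulVec, ← Matrix.mulVec_mulVec, hA, hB, mul_assoc]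

theorem h14_Sc_smul_one (c : F) : h14_Sc (c • (1 : Matrix S6I S6I F)) (c * c) := by
  intro x y
  simp only [sympForm, Matrix.smul_mulVec, Matrix.one_mulVec, Matrix.mulVec_smul,
    smul_dotProduct, dotProduct_smul, smul_eq_mul]
  ring

theorem h14_form_add_left (x x' y : S6I → F) :
    sympForm 2 F (x + x') y = sympForm 2 F x y + sympForm 2 F x' y := by
  simp only [sympForm, add_dotProduct]

theorem h14_form_add_right (x y y' : S6I → F) :
    sympForm 2 F x (y + y') = sympForm 2 F x y + sympForm 2 F x y' := by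
  simp only [sympForm, Matrix.mulVec_add, dotProduct_add]

theorem h14_form_neg_right (x y : S6I → F) :
    sympForm 2 F x (-y) = -sympForm 2 F x y := by
  simp only [sympForm, Matrix.mulVec_neg, dotProduct_neg]

theorem h14_Sc_u (a b : Matrix S6I S6I F) (ha : h14_Sc a 1) (hb : h14_Sc b 1)
    (haa : a * a = 1) (hbb : b * b = 1) (hab : a * b = -(b * a)) : h14_Sc (1 + a * b) 2 := by
  have hAB : h14_Sc (a * b) 1 := by simpa using h14_Sc_mul a b 1 1 ha hb
  have hBA : h14_Sc (b * a) 1 := by simpa using h14_Sc_mul b a 1 1 hb ha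
  intro x y
  rw [Matrix.add_mulVec, Matrix.add_mulVec, Matrix.one_mulVec, Matrix.one_mulVec,
    h14_form_add_left, h14_form_add_right, h14_form_add_right, hAB x y]
  have h1 : sympForm 2 F ((a * b) *ᵥ x) y = -sympForm 2 F x ((a * b) *ᵥ y) := by
    have h3 := hBA ((a * b) *ᵥ x) y
    rw [Matrix.mulVec_mulVec, one_mul] at h3
    have h4 : b * a * (a * b) = 1 := by
      rw [mul_assoc, ← mul_assoc a a b, haa, one_mul, hbb]
    rw [h4, Matrix.one_mulVec] at h3
    rw [← h3]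
    have h5 : b * a = -(a * b) := by rw [hab, neg_neg]
    rw [h5, Matrix.neg_mulVec, h14_form_neg_right]
  rw [h1]
  ring

end form

section main

variable {F : Type*} [Field F]

theorem h14_half (h2 : (2 : F) ≠ 0) : (2 : F)⁻¹ • (2 : Matrix S6I S6I F) = 1 := by
  have h : (2 : Matrix S6I S6I F) = (2 : F) • (1 : Matrix S6I S6I F) := by
    rw [two_smul, one_add_one_eq_two]
  rw [h, smul_smul, inv_mul_cancel₀ h2, one_smul]

theorem h14_exU (h2 : (2 : F) ≠ 0) (z : GL S6I F) (hz : (z : Matrix S6I S6I F) = -1)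
    (a b : GL S6I F)
    (haa : (a : Matrix S6I S6I F) * (a : Matrix S6I S6I F) = 1)
    (hbb : (b : Matrix S6I S6I F) * (b : Matrix S6I S6I F) = 1)
    (hab : (a : Matrix S6I S6I F) * (b : Matrix S6I S6I F) =
      -((b : Matrix S6I S6I F) * (a : Matrix S6I S6I F)))
    (ha : h14_Sc (a : Matrix S6I S6I F) 1) (hb : h14_Sc (b : Matrix S6I S6I F) 1) :
    ∃ U : GL S6I F, h14_Sc (U : Matrix S6I S6I F) 2 ∧ U * a * U⁻¹ = z * b ∧ U * b * U⁻¹ = a ∧
      ∀ c : GL S6I F, (c : Matrix S6I S6I F) * (a : Matrix S6I S6I F) =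
          -((a : Matrix S6I S6I F) * (c : Matrix S6I S6I F)) →
        (c : Matrix S6I S6I F) * (b : Matrix S6I S6I F) =
          -((b : Matrix S6I S6I F) * (c : Matrix S6I S6I F)) →
        U * c * U⁻¹ = c := by
  obtain ⟨hi1, hi2⟩ := h14_u_inv (a : Matrix S6I S6I F) (b : Matrix S6I S6I F) haa hbb hab
  let U : GL S6I F := ⟨1 + (a : Matrix S6I S6I F) * (b : Matrix S6I S6I F),
    (2 : F)⁻¹ • (1 - (a : Matrix S6I S6I F) * (b : Matrix S6I S6I F)),
    by rw [Matrix.mul_smul, hi1, h14_half h2], by rw [Matrix.smul_mul, hi2, h14_half h2]⟩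
  refine ⟨U, h14_Sc_u _ _ ha hb haa hbb hab, ?_, ?_, ?_⟩
  · rw [mul_inv_eq_iff_eq_mul]
    apply Units.ext
    show (1 + (a : Matrix S6I S6I F) * (b : Matrix S6I S6I F)) * (a : Matrix S6I S6I F) =
      (z : Matrix S6I S6I F) * (b : Matrix S6I S6I F) *
        (1 + (a : Matrix S6I S6I F) * (b : Matrix S6I S6I F))
    rw [hz, h14_u_a _ _ haa hbb hab, neg_one_mul]
  · rw [mul_inv_eq_iff_eq_mul]
    apply Units.ext
    exact h14_u_b _ _ haa hbb
  · intro c hca hcb
    rw [mul_inv_eq_iff_eq_mul]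
    apply Units.ext
    exact h14_u_c _ _ _ hca hcb

theorem h14_form_one : sympForm 2 F (Pi.single (Sum.inr (0 : Fin 2)) (1 : F))
    (Pi.single (Sum.inl (0 : Fin 2)) (1 : F)) = 1 := by
  simp [sympForm, Matrix.J, Matrix.mulVec_single_one]

/-- [B5E] (racing copy) verbatim Skel statement of `s6_exists_five_elt` -/
theorem h14_s6_exists_five_elt {F : Type*} [Field F] [Fintype F] (h2 : (2 : F) ≠ 0) (R : Subgroup (GL S6I F)) (hG : S6Good R) :
    ∃ h : GL S6I F, h ∈ spGL 2 F ∧ h ∈ subgroupNormalizer R ∧ h ^ 5 = 1 ∧ h ≠ 1 := by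
  obtain ⟨t, htR, htsq, htanti, htgen⟩ := hG.frame
  obtain ⟨z, hzR, hz⟩ := hG.neg
  have hSc : ∀ s ∈ R, h14_Sc (s : Matrix S6I S6I F) 1 := by
    intro s hs x y
    have := hG.sp hs x y
    rw [one_mul]; exact this
  have a01 := htanti 0 1 (by decide)
  have a02 := htanti 0 2 (by decide)
  have a03 := htanti 0 3 (by decide)
  have a12 := htanti 1 2 (by decide)
  have a13 := htanti 1 3 (by decide)
  have a23 := htanti 2 3 (by decide)
  have a10 := htanti 1 0 (by decide)
  have a20 := htanti 2 0 (by decide)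
  have a30 := htanti 3 0 (by decide)
  have a21 := htanti 2 1 (by decide)
  have a31 := htanti 3 1 (by decide)
  have a32 := htanti 3 2 (by decide)
  have s0 := htsq 0
  have s1 := htsq 1
  have s2 := htsq 2
  have s3 := htsq 3
  obtain ⟨h4sq, h40, h41, h42, h43⟩ := h14_t4 _ _ _ _ s0 s1 s2 s3 a10 a20 a30 a21 a31 a32
  have ht4R : t 0 * t 1 * t 2 * t 3 ∈ R :=
    R.mul_mem (R.mul_mem (R.mul_mem (htR 0) (htR 1)) (htR 2)) (htR 3)
  generalize ht4 : t 0 * t 1 * t 2 * t 3 = t4 at ht4R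
  have hT4 : (t4 : Matrix S6I S6I F) = (t 0 : Matrix S6I S6I F) * (t 1 : Matrix S6I S6I F) *
      (t 2 : Matrix S6I S6I F) * (t 3 : Matrix S6I S6I F) := by rw [← ht4]; rfl
  rw [← hT4] at h4sq h40 h41 h42 h43
  have h04 : (t 0 : Matrix S6I S6I F) * (t4 : Matrix S6I S6I F) =
      -((t4 : Matrix S6I S6I F) * (t 0 : Matrix S6I S6I F)) := by rw [h40, neg_neg]
  have h14 : (t 1 : Matrix S6I S6I F) * (t4 : Matrix S6I S6I F) =
      -((t4 : Matrix S6I S6I F) * (t 1 : Matrix S6I S6I F)) := by rw [h41, neg_neg]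
  have h24 : (t 2 : Matrix S6I S6I F) * (t4 : Matrix S6I S6I F) =
      -((t4 : Matrix S6I S6I F) * (t 2 : Matrix S6I S6I F)) := by rw [h42, neg_neg]
  have h34 : (t 3 : Matrix S6I S6I F) * (t4 : Matrix S6I S6I F) =
      -((t4 : Matrix S6I S6I F) * (t 3 : Matrix S6I S6I F)) := by rw [h43, neg_neg]
  have hzc : ∀ x : GL S6I F, z * x = x * z := by
    intro x
    apply Units.ext
    show (z : Matrix S6I S6I F) * (x : Matrix S6I S6I F) = (x : Matrix S6I S6I F) * (z : Matrix S6I S6I F)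
    rw [hz, neg_one_mul, mul_neg_one]
  have hzz : z * z = 1 := by
    apply Units.ext
    show (z : Matrix S6I S6I F) * (z : Matrix S6I S6I F) = 1
    rw [hz, neg_one_mul, neg_neg]
  obtain ⟨U01, hS01, h01a, h01b, h01c⟩ :=
    h14_exU h2 z hz (t 0) (t 1) s0 s1 a01 (hSc _ (htR 0)) (hSc _ (htR 1))
  obtain ⟨U12, hS12, h12a, h12b, h12c⟩ :=
    h14_exU h2 z hz (t 1) (t 2) s1 s2 a12 (hSc _ (htR 1)) (hSc _ (htR 2))
  obtain ⟨U23, hS23, h23a, h23b, h23c⟩ :=
    h14_exU h2 z hz (t 2) (t 3) s2 s3 a23 (hSc _ (htR 2)) (hSc _ (htR 3))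
  obtain ⟨U34, hS34, h34a, h34b, h34c⟩ :=
    h14_exU h2 z hz (t 3) t4 s3 h4sq h34 (hSc _ (htR 3)) (hSc _ ht4R)
  have h4ne : (4 : F) ≠ 0 := by
    have : (4 : F) = 2 * 2 := by norm_num
    rw [this]; exact mul_ne_zero h2 h2
  obtain ⟨k, hk⟩ : ∃ k : GL S6I F, (k : Matrix S6I S6I F) = (4 : F)⁻¹ • (1 : Matrix S6I S6I F) :=
    ⟨⟨(4 : F)⁻¹ • 1, (4 : F) • 1,
      by rw [smul_mul_smul_comm, mul_one, inv_mul_cancel₀ h4ne, one_smul],
      by rw [smul_mul_smul_comm, mul_one, mul_inv_cancel₀ h4ne, one_smul]⟩, rfl⟩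
  have hkc : ∀ x : GL S6I F, k * x = x * k := by
    intro x
    apply Units.ext
    show (k : Matrix S6I S6I F) * (x : Matrix S6I S6I F) = (x : Matrix S6I S6I F) * (k : Matrix S6I S6I F)
    rw [hk, Matrix.smul_mul, Matrix.mul_smul, one_mul, mul_one]
  have hSg : h14_Sc ((k * (U01 * U12 * U23 * U34) : GL S6I F) : Matrix S6I S6I F) 1 := by
    have h0 := h14_Sc_mul _ _ _ _ (h14_Sc_mul _ _ _ _ (h14_Sc_mul _ _ _ _ hS01 hS12) hS23) hS34
    have h1 := h14_Sc_mul _ _ _ _ (h14_Sc_smul_one ((4 : F)⁻¹)) h0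
    have h3 : (4 : F)⁻¹ * (4 : F)⁻¹ * (2 * 2 * 2 * 2) = 1 := by field_simp; norm_num
    rw [h3, ← hk] at h1
    exact h1
  have hzconj : ∀ U x : GL S6I F, U * (z * x) * U⁻¹ = z * (U * x * U⁻¹) := by
    intro U x
    rw [← mul_assoc U z x, ← hzc U]; simp only [mul_assoc]
  have hzfix : ∀ U : GL S6I F, U * z * U⁻¹ = z := by
    intro U; rw [← hzc U, mul_assoc, mul_inv_cancel, mul_one]
  have hconj4 : ∀ (A B C D x : GL S6I F), MulAut.conj (A * B * C * D) x =
      A * (B * (C * (D * x * D⁻¹) * C⁻¹) * B⁻¹) * A⁻¹ := by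
    intro A B C D x
    rw [MulAut.conj_apply]
    group
  have c0 : MulAut.conj (U01 * U12 * U23 * U34) (t 0) = z * t 1 := by
    rw [hconj4]
    rw [h34c (t 0) a03 h04, h23c (t 0) a02 a03, h12c (t 0) a01 a02, h01a]
  have c1 : MulAut.conj (U01 * U12 * U23 * U34) (t 1) = z * t 2 := by
    rw [hconj4]
    rw [h34c (t 1) a13 h14, h23c (t 1) a12 a13, h12a, hzconj, h01c (t 2) a20 a21]
  have c2 : MulAut.conj (U01 * U12 * U23 * U34) (t 2) = z * t 3 := by
    rw [hconj4]
    rw [h34c (t 2) a23 h24, h23a, hzconj, h12c (t 3) a31 a32, hzconj, h01c (t 3) a30 a31]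
  have c3 : MulAut.conj (U01 * U12 * U23 * U34) (t 3) = z * t4 := by
    rw [hconj4]
    rw [h34a, hzconj, h23c t4 h42 h43, hzconj, h12c t4 h41 h42, hzconj, h01c t4 h40 h41]
  have c4 : MulAut.conj (U01 * U12 * U23 * U34) t4 = t 0 := by
    rw [hconj4]
    rw [h34b, h23b, h12b, h01b]
  have cz : MulAut.conj (U01 * U12 * U23 * U34) z = z := by
    rw [hconj4]
    rw [hzfix, hzfix, hzfix, hzfix]
  generalize U01 * U12 * U23 * U34 = g0 at hSg c0 c1 c2 c3 c4 cz
  have hgc : ∀ x : GL S6I F, MulAut.conj (k * g0) x = MulAut.conj g0 x := by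
    intro x
    rw [MulAut.conj_apply, MulAut.conj_apply]
    have h1 : k * g0 * x * (k * g0)⁻¹ = k * (g0 * x * g0⁻¹) * k⁻¹ := by group
    rw [h1, hkc, mul_inv_cancel_right]
  rw [← hgc] at c0 c1 c2 c3 c4 cz
  generalize k * g0 = g at hSg c0 c1 c2 c3 c4 cz
  have hgsp : g ∈ spGL 2 F := by
    intro x y
    have := hSg x y
    rw [one_mul] at this
    exact this
  have hRcl : R ≤ Subgroup.closure ({z, t 0, t 1, t 2, t 3} : Set (GL S6I F)) := by
    intro s hs
    obtain ⟨a, ε, hsa⟩ := htgen s hs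
    have hs' : s = (if ε then z else 1) * ((if a 0 then t 0 else 1) * (if a 1 then t 1 else 1) *
        (if a 2 then t 2 else 1) * (if a 3 then t 3 else 1)) := by
      apply Units.ext
      rw [hsa]
      generalize a 0 = b0
      generalize a 1 = b1
      generalize a 2 = b2
      generalize a 3 = b3
      cases ε <;> cases b0 <;> cases b1 <;> cases b2 <;> cases b3 <;> simp [hz]
    rw [hs']
    have hmem : ∀ (b : Bool) (x : GL S6I F), x ∈ ({z, t 0, t 1, t 2, t 3} : Set (GL S6I F)) →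
        (if b then x else 1) ∈ Subgroup.closure ({z, t 0, t 1, t 2, t 3} : Set (GL S6I F)) := by
      intro b x hx
      cases b
      · simp
      · simpa using Subgroup.subset_closure hx
    exact Subgroup.mul_mem _ (hmem _ _ (by simp)) (Subgroup.mul_mem _ (Subgroup.mul_mem _
      (Subgroup.mul_mem _ (hmem _ _ (by simp)) (hmem _ _ (by simp))) (hmem _ _ (by simp)))
      (hmem _ _ (by simp)))
  have hgN : g ∈ subgroupNormalizer R := by
    have hfin : Finite R := Nat.finite_of_card_ne_zero (by rw [hG.card]; norm_num)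
    have hfin' : Finite ((R : Set (GL S6I F))) := hfin
    show g ∈ Subgroup.normalizer (R : Set (GL S6I F))
    apply Subgroup.mem_normalizer_fintype
    intro n hn
    have hle : Subgroup.closure ({z, t 0, t 1, t 2, t 3} : Set (GL S6I F)) ≤
        R.comap (MulAut.conj g).toMonoidHom := by
      rw [Subgroup.closure_le]
      intro x hx
      simp only [Set.mem_insert_iff, Set.mem_singleton_iff] at hx
      show MulAut.conj g x ∈ R
      rcases hx with rfl | rfl | rfl | rfl | rfl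
      · rw [cz]; exact hzR
      · rw [c0]; exact R.mul_mem hzR (htR 1)
      · rw [c1]; exact R.mul_mem hzR (htR 2)
      · rw [c2]; exact R.mul_mem hzR (htR 3)
      · rw [c3]; exact R.mul_mem hzR ht4R
    exact hle (hRcl hn)
  have hg5 : ∀ s ∈ R, g ^ 5 * s = s * g ^ 5 := by
    have hle : Subgroup.closure ({z, t 0, t 1, t 2, t 3} : Set (GL S6I F)) ≤
        Subgroup.centralizer {g ^ 5} := by
      rw [Subgroup.closure_le]
      intro x hx
      have key : MulAut.conj (g ^ 5) x = x := by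
        rw [map_pow]
        simp only [Set.mem_insert_iff, Set.mem_singleton_iff] at hx
        rcases hx with rfl | rfl | rfl | rfl | rfl
        · simp only [pow_succ, pow_zero, one_mul, MulAut.mul_apply, cz]
        · simp only [pow_succ, pow_zero, one_mul, MulAut.mul_apply, c0, c1, c2, c3, c4, cz, map_mul]
          rw [← mul_assoc, hzz, one_mul, ← mul_assoc, hzz, one_mul]
        · simp only [pow_succ, pow_zero, one_mul, MulAut.mul_apply, c0, c1, c2, c3, c4, cz, map_mul]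
          rw [← mul_assoc, hzz, one_mul, ← mul_assoc, hzz, one_mul]
        · simp only [pow_succ, pow_zero, one_mul, MulAut.mul_apply, c0, c1, c2, c3, c4, cz, map_mul]
          rw [← mul_assoc, hzz, one_mul, ← mul_assoc, hzz, one_mul]
        · simp only [pow_succ, pow_zero, one_mul, MulAut.mul_apply, c0, c1, c2, c3, c4, cz, map_mul]
          rw [← mul_assoc, hzz, one_mul, ← mul_assoc, hzz, one_mul]
      rw [SetLike.mem_coe, Subgroup.mem_centralizer_iff]
      intro h hh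
      rw [Set.mem_singleton_iff] at hh
      rw [hh]
      rw [MulAut.conj_apply, mul_inv_eq_iff_eq_mul] at key
      exact key
    intro s hs
    have h1 := hle (hRcl hs)
    rw [Subgroup.mem_centralizer_iff] at h1
    exact h1 _ (Set.mem_singleton _)
  obtain ⟨c, hc⟩ := hG.schur ((g ^ 5 : GL S6I F) : Matrix S6I S6I F) (by
    intro s hs
    exact congrArg Units.val (hg5 s hs))
  have hcc : c * c = 1 := by
    have h5sp : g ^ 5 ∈ spGL 2 F := (spGL 2 F).pow_mem hgsp 5
    have h1 := h5sp (Pi.single (Sum.inr (0 : Fin 2)) (1 : F)) (Pi.single (Sum.inl (0 : Fin 2)) (1 : F))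
    have h3 := h14_Sc_smul_one c (Pi.single (Sum.inr (0 : Fin 2)) (1 : F))
      (Pi.single (Sum.inl (0 : Fin 2)) (1 : F))
    rw [← hc] at h3
    have h4 : c * c * sympForm 2 F (Pi.single (Sum.inr (0 : Fin 2)) (1 : F))
        (Pi.single (Sum.inl (0 : Fin 2)) (1 : F)) = sympForm 2 F (Pi.single (Sum.inr (0 : Fin 2)) (1 : F))
        (Pi.single (Sum.inl (0 : Fin 2)) (1 : F)) := h3.symm.trans h1
    rw [h14_form_one, mul_one] at h4
    exact h4
  refine ⟨g ^ 2, (spGL 2 F).pow_mem hgsp 2, (subgroupNormalizer R).pow_mem hgN 2, ?_, ?_⟩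
  · rw [← pow_mul]
    have h1 : (g ^ (2 * 5) : GL S6I F) = g ^ 5 * g ^ 5 := by rw [← pow_add]
    rw [h1]
    apply Units.ext
    rw [Units.val_mul, hc, smul_mul_smul_comm, mul_one, hcc, one_smul]
    rfl
  · intro h1
    have h3 : MulAut.conj (g ^ 2) (t 0) = t 0 := by rw [h1]; simp
    rw [map_pow] at h3
    simp only [pow_succ, pow_zero, one_mul, MulAut.mul_apply, c0, c1, cz, map_mul] at h3
    rw [← mul_assoc, hzz, one_mul] at h3
    have h20 := a02
    rw [h3, s0] at h20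
    have h5 := congrFun (congrFun h20 (Sum.inl 0)) (Sum.inl 0)
    simp only [Matrix.one_apply_eq, Matrix.neg_apply] at h5
    apply h2
    linear_combination h5

end main

end Cfsg.Agent.Lib.helper24
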