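import Mathlib
import Cfsg.Agent.Lib.helper89.S60Defs
import Cfsg.Agent.Lib.helper14.S6eB5E

/-!
# S6000, piece B5E (racing copy by helper14): an element of order 5 of `SL_4` normalizing `R`
-/

set_option autoImplicit false
set_option linter.unusedSimpArgs false
set_option linter.unusedVariables false

namespace Cfsg.Agent.Lib.helper89.S60

open Matrix Cfsg Cfsg.Geo

section main

variable {F : Type*} [Field F]

theorem h14_half4 (h2 : (2 : F) ≠ 0) : (2 : F)⁻¹ • (2 : Matrix (Fin 4) (Fin 4) F) = 1 := by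
  have h : (2 : Matrix (Fin 4) (Fin 4) F) = (2 : F) • (1 : Matrix (Fin 4) (Fin 4) F) := by
    rw [two_smul, one_add_one_eq_two]
  rw [h, smul_smul, inv_mul_cancel₀ h2, one_smul]

theorem h14_exU4 (h2 : (2 : F) ≠ 0) (z : GL (Fin 4) F) (hz : (z : Matrix (Fin 4) (Fin 4) F) = -1)
    (a b : GL (Fin 4) F)
    (haa : (a : Matrix (Fin 4) (Fin 4) F) * (a : Matrix (Fin 4) (Fin 4) F) = 1)
    (hbb : (b : Matrix (Fin 4) (Fin 4) F) * (b : Matrix (Fin 4) (Fin 4) F) = 1)
    (hab : (a : Matrix (Fin 4) (Fin 4) F) * (b : Matrix (Fin 4) (Fin 4) F) =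
      -((b : Matrix (Fin 4) (Fin 4) F) * (a : Matrix (Fin 4) (Fin 4) F))) :
    ∃ U : GL (Fin 4) F, U * a * U⁻¹ = z * b ∧ U * b * U⁻¹ = a ∧
      ∀ c : GL (Fin 4) F, (c : Matrix (Fin 4) (Fin 4) F) * (a : Matrix (Fin 4) (Fin 4) F) =
          -((a : Matrix (Fin 4) (Fin 4) F) * (c : Matrix (Fin 4) (Fin 4) F)) →
        (c : Matrix (Fin 4) (Fin 4) F) * (b : Matrix (Fin 4) (Fin 4) F) =
          -((b : Matrix (Fin 4) (Fin 4) F) * (c : Matrix (Fin 4) (Fin 4) F)) →
        U * c * U⁻¹ = c := by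
  obtain ⟨hi1, hi2⟩ := Cfsg.Agent.Lib.helper24.h14_u_inv (a : Matrix (Fin 4) (Fin 4) F)
    (b : Matrix (Fin 4) (Fin 4) F) haa hbb hab
  let U : GL (Fin 4) F := ⟨1 + (a : Matrix (Fin 4) (Fin 4) F) * (b : Matrix (Fin 4) (Fin 4) F),
    (2 : F)⁻¹ • (1 - (a : Matrix (Fin 4) (Fin 4) F) * (b : Matrix (Fin 4) (Fin 4) F)),
    by rw [Matrix.mul_smul, hi1, h14_half4 h2], by rw [Matrix.smul_mul, hi2, h14_half4 h2]⟩
  refine ⟨U, ?_, ?_, ?_⟩
  · rw [mul_inv_eq_iff_eq_mul]
    apply Units.ext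
    show (1 + (a : Matrix (Fin 4) (Fin 4) F) * (b : Matrix (Fin 4) (Fin 4) F)) *
        (a : Matrix (Fin 4) (Fin 4) F) =
      (z : Matrix (Fin 4) (Fin 4) F) * (b : Matrix (Fin 4) (Fin 4) F) *
        (1 + (a : Matrix (Fin 4) (Fin 4) F) * (b : Matrix (Fin 4) (Fin 4) F))
    rw [hz, Cfsg.Agent.Lib.helper24.h14_u_a _ _ haa hbb hab, neg_one_mul]
  · rw [mul_inv_eq_iff_eq_mul]
    apply Units.ext
    exact Cfsg.Agent.Lib.helper24.h14_u_b _ _ haa hbb
  · intro c hca hcb
    rw [mul_inv_eq_iff_eq_mul]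
    apply Units.ext
    exact Cfsg.Agent.Lib.helper24.h14_u_c _ _ _ hca hcb

/-- an involution-like unit cannot equal `± s` for `s` anticommuting with it -/
theorem h14_ne_of_anti (h2 : (2 : F) ≠ 0) (z : GL (Fin 4) F)
    (hz : (z : Matrix (Fin 4) (Fin 4) F) = -1) (t s : GL (Fin 4) F)
    (hst : (s : Matrix (Fin 4) (Fin 4) F) * (t : Matrix (Fin 4) (Fin 4) F) =
      -((t : Matrix (Fin 4) (Fin 4) F) * (s : Matrix (Fin 4) (Fin 4) F))) :
    s ≠ t ∧ z * s ≠ t := by
  have hunit : ∀ u : GL (Fin 4) F, (u : Matrix (Fin 4) (Fin 4) F) ≠ 0 := by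
    intro u h0
    have h1 := u.val_inv
    rw [h0, zero_mul] at h1
    exact zero_ne_one h1
  have key : ∀ X : Matrix (Fin 4) (Fin 4) F, X = -X → X = 0 := by
    intro X hX
    have h3 : (2 : F) • X = 0 := by
      rw [two_smul]
      nth_rewrite 1 [hX]
      exact neg_add_cancel X
    rcases smul_eq_zero.mp h3 with h | h
    · exact absurd h h2
    · exact h
  constructor
  · intro h
    rw [h] at hst
    exact hunit (t * t) (key _ hst)
  · intro h
    have h3 : (t : Matrix (Fin 4) (Fin 4) F) = -(s : Matrix (Fin 4) (Fin 4) F) := by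
      rw [← h]
      show (z : Matrix (Fin 4) (Fin 4) F) * (s : Matrix (Fin 4) (Fin 4) F) = _
      rw [hz, neg_one_mul]
    rw [h3, mul_neg, neg_mul, neg_neg] at hst
    exact hunit (s * s) (key _ hst.symm)

/-- [B5E] (racing copy) verbatim Skel statement of `s60_exists_five_elt` -/
theorem h14_s60_exists_five_elt {F : Type*} [Field F] [Fintype F] (h2 : (2 : F) ≠ 0) (R : Subgroup (GL (Fin 4) F)) (w : F) (hG : Good R w)
    (h4 : orderOf ((Fintype.card F : ℕ) : ZMod 5) = 4) :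
    ∃ h : GL (Fin 4) F, h ∈ specialLinear (Fin 4) F ∧ h ∈ subgroupNormalizer R ∧ h ^ 5 = 1 ∧ h ≠ 1 := by
  classical
  obtain ⟨t, htR, htsq, htanti, htgen⟩ := hG.frame
  obtain ⟨zw, hzwR, hzw⟩ := hG.wmem
  have hzwe : ∀ e : ℕ, ((zw ^ e : GL (Fin 4) F) : Matrix (Fin 4) (Fin 4) F) =
      (w ^ e) • (1 : Matrix (Fin 4) (Fin 4) F) := by
    intro e
    rw [Units.val_pow_eq_pow_val, hzw, smul_pow, one_pow]
  obtain ⟨z, hzR, hz⟩ : ∃ z ∈ R, (z : Matrix (Fin 4) (Fin 4) F) = -1 := by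
    refine ⟨zw * zw, R.mul_mem hzwR hzwR, ?_⟩
    show (zw : Matrix (Fin 4) (Fin 4) F) * (zw : Matrix (Fin 4) (Fin 4) F) = -1
    rw [hzw, smul_mul_smul_comm, mul_one, hG.wsq, neg_one_smul]
  have a01 := htanti 0 1 (by decide)
  have a02 := htanti 0 2 (by decide)
  have a03 := htanti 0 3 (by decide)
  have a12 := htanti 1 2 (by decide)
  have a13 := htanti 1 3 (by decide)
  have a23 := htanti 2 3 (by decide)
  have a10 := htanti 1 0 (by decide)
  have a20 := htanti 2 0 (by decide)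
  have a30 := htanti 3 0 (by decide)
  have a21 := htanti 2 1 (by decide)
  have a31 := htanti 3 1 (by decide)
  have a32 := htanti 3 2 (by decide)
  have s0 := htsq 0
  have s1 := htsq 1
  have s2 := htsq 2
  have s3 := htsq 3
  obtain ⟨h4sq, h40, h41, h42, h43⟩ :=
    Cfsg.Agent.Lib.helper24.h14_t4 _ _ _ _ s0 s1 s2 s3 a10 a20 a30 a21 a31 a32
  have ht4R : t 0 * t 1 * t 2 * t 3 ∈ R :=
    R.mul_mem (R.mul_mem (R.mul_mem (htR 0) (htR 1)) (htR 2)) (htR 3)
  generalize ht4 : t 0 * t 1 * t 2 * t 3 = t4 at ht4R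
  have hT4 : (t4 : Matrix (Fin 4) (Fin 4) F) = (t 0 : Matrix (Fin 4) (Fin 4) F) *
      (t 1 : Matrix (Fin 4) (Fin 4) F) * (t 2 : Matrix (Fin 4) (Fin 4) F) *
      (t 3 : Matrix (Fin 4) (Fin 4) F) := by rw [← ht4]; rfl
  rw [← hT4] at h4sq h40 h41 h42 h43
  have h04 : (t 0 : Matrix (Fin 4) (Fin 4) F) * (t4 : Matrix (Fin 4) (Fin 4) F) =
      -((t4 : Matrix (Fin 4) (Fin 4) F) * (t 0 : Matrix (Fin 4) (Fin 4) F)) := by rw [h40, neg_neg]
  have h14 : (t 1 : Matrix (Fin 4) (Fin 4) F) * (t4 : Matrix (Fin 4) (Fin 4) F) =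
      -((t4 : Matrix (Fin 4) (Fin 4) F) * (t 1 : Matrix (Fin 4) (Fin 4) F)) := by rw [h41, neg_neg]
  have h24 : (t 2 : Matrix (Fin 4) (Fin 4) F) * (t4 : Matrix (Fin 4) (Fin 4) F) =
      -((t4 : Matrix (Fin 4) (Fin 4) F) * (t 2 : Matrix (Fin 4) (Fin 4) F)) := by rw [h42, neg_neg]
  have h34 : (t 3 : Matrix (Fin 4) (Fin 4) F) * (t4 : Matrix (Fin 4) (Fin 4) F) =
      -((t4 : Matrix (Fin 4) (Fin 4) F) * (t 3 : Matrix (Fin 4) (Fin 4) F)) := by rw [h43, neg_neg]
  have hzc : ∀ x : GL (Fin 4) F, z * x = x * z := by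
    intro x
    apply Units.ext
    show (z : Matrix (Fin 4) (Fin 4) F) * (x : Matrix (Fin 4) (Fin 4) F) =
      (x : Matrix (Fin 4) (Fin 4) F) * (z : Matrix (Fin 4) (Fin 4) F)
    rw [hz, neg_one_mul, mul_neg_one]
  have hzwc : ∀ x : GL (Fin 4) F, zw * x = x * zw := by
    intro x
    apply Units.ext
    show (zw : Matrix (Fin 4) (Fin 4) F) * (x : Matrix (Fin 4) (Fin 4) F) =
      (x : Matrix (Fin 4) (Fin 4) F) * (zw : Matrix (Fin 4) (Fin 4) F)
    rw [hzw, Matrix.smul_mul, Matrix.mul_smul, one_mul, mul_one]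
  have hzz : z * z = 1 := by
    apply Units.ext
    show (z : Matrix (Fin 4) (Fin 4) F) * (z : Matrix (Fin 4) (Fin 4) F) = 1
    rw [hz, neg_one_mul, neg_neg]
  obtain ⟨U01, h01a, h01b, h01c⟩ := h14_exU4 h2 z hz (t 0) (t 1) s0 s1 a01
  obtain ⟨U12, h12a, h12b, h12c⟩ := h14_exU4 h2 z hz (t 1) (t 2) s1 s2 a12
  obtain ⟨U23, h23a, h23b, h23c⟩ := h14_exU4 h2 z hz (t 2) (t 3) s2 s3 a23
  obtain ⟨U34, h34a, h34b, h34c⟩ := h14_exU4 h2 z hz (t 3) t4 s3 h4sq h34
  have hzconj : ∀ U x : GL (Fin 4) F, U * (z * x) * U⁻¹ = z * (U * x * U⁻¹) := by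
    intro U x
    rw [← mul_assoc U z x, ← hzc U]; simp only [mul_assoc]
  have hzfix : ∀ U : GL (Fin 4) F, U * z * U⁻¹ = z := by
    intro U; rw [← hzc U, mul_assoc, mul_inv_cancel, mul_one]
  have hzwfix : ∀ U : GL (Fin 4) F, U * zw * U⁻¹ = zw := by
    intro U; rw [← hzwc U, mul_assoc, mul_inv_cancel, mul_one]
  have hconj4 : ∀ (A B C D x : GL (Fin 4) F), MulAut.conj (A * B * C * D) x =
      A * (B * (C * (D * x * D⁻¹) * C⁻¹) * B⁻¹) * A⁻¹ := by
    intro A B C D x
    rw [MulAut.conj_apply]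
    group
  have c0 : MulAut.conj (U01 * U12 * U23 * U34) (t 0) = z * t 1 := by
    rw [hconj4]
    rw [h34c (t 0) a03 h04, h23c (t 0) a02 a03, h12c (t 0) a01 a02, h01a]
  have c1 : MulAut.conj (U01 * U12 * U23 * U34) (t 1) = z * t 2 := by
    rw [hconj4]
    rw [h34c (t 1) a13 h14, h23c (t 1) a12 a13, h12a, hzconj, h01c (t 2) a20 a21]
  have c2 : MulAut.conj (U01 * U12 * U23 * U34) (t 2) = z * t 3 := by
    rw [hconj4]
    rw [h34c (t 2) a23 h24, h23a, hzconj, h12c (t 3) a31 a32, hzconj, h01c (t 3) a30 a31]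
  have c3 : MulAut.conj (U01 * U12 * U23 * U34) (t 3) = z * t4 := by
    rw [hconj4]
    rw [h34a, hzconj, h23c t4 h42 h43, hzconj, h12c t4 h41 h42, hzconj, h01c t4 h40 h41]
  have c4 : MulAut.conj (U01 * U12 * U23 * U34) t4 = t 0 := by
    rw [hconj4]
    rw [h34b, h23b, h12b, h01b]
  have cz : MulAut.conj (U01 * U12 * U23 * U34) z = z := by
    rw [hconj4]
    rw [hzfix, hzfix, hzfix, hzfix]
  have czw : MulAut.conj (U01 * U12 * U23 * U34) zw = zw := by
    rw [hconj4]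
    rw [hzwfix, hzwfix, hzwfix, hzwfix]
  generalize U01 * U12 * U23 * U34 = g at c0 c1 c2 c3 c4 cz czw
  have hRcl : R ≤ Subgroup.closure ({zw, t 0, t 1, t 2, t 3} : Set (GL (Fin 4) F)) := by
    intro s hs
    obtain ⟨a, e, hsa⟩ := htgen s hs
    have hs' : s = zw ^ e * ((if a 0 then t 0 else 1) * (if a 1 then t 1 else 1) *
        (if a 2 then t 2 else 1) * (if a 3 then t 3 else 1)) := by
      apply Units.ext
      rw [hsa, Units.val_mul, hzwe]
      generalize a 0 = b0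
      generalize a 1 = b1
      generalize a 2 = b2
      generalize a 3 = b3
      cases b0 <;> cases b1 <;> cases b2 <;> cases b3 <;> simp
    rw [hs']
    have hmem : ∀ (b : Bool) (x : GL (Fin 4) F),
        x ∈ ({zw, t 0, t 1, t 2, t 3} : Set (GL (Fin 4) F)) →
        (if b then x else 1) ∈ Subgroup.closure ({zw, t 0, t 1, t 2, t 3} : Set (GL (Fin 4) F)) := by
      intro b x hx
      cases b
      · simp
      · simpa using Subgroup.subset_closure hx
    exact Subgroup.mul_mem _ (Subgroup.pow_mem _ (Subgroup.subset_closure (by simp)) e)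
      (Subgroup.mul_mem _ (Subgroup.mul_mem _
      (Subgroup.mul_mem _ (hmem _ _ (by simp)) (hmem _ _ (by simp))) (hmem _ _ (by simp)))
      (hmem _ _ (by simp)))
  have hgN : g ∈ subgroupNormalizer R := by
    have hfin : Finite R := Nat.finite_of_card_ne_zero (by rw [hG.card]; norm_num)
    have hfin' : Finite ((R : Set (GL (Fin 4) F))) := hfin
    show g ∈ Subgroup.normalizer (R : Set (GL (Fin 4) F))
    apply Subgroup.mem_normalizer_fintype
    intro n hn
    have hle : Subgroup.closure ({zw, t 0, t 1, t 2, t 3} : Set (GL (Fin 4) F)) ≤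
        R.comap (MulAut.conj g).toMonoidHom := by
      rw [Subgroup.closure_le]
      intro x hx
      simp only [Set.mem_insert_iff, Set.mem_singleton_iff] at hx
      show MulAut.conj g x ∈ R
      rcases hx with rfl | rfl | rfl | rfl | rfl
      · rw [czw]; exact hzwR
      · rw [c0]; exact R.mul_mem hzR (htR 1)
      · rw [c1]; exact R.mul_mem hzR (htR 2)
      · rw [c2]; exact R.mul_mem hzR (htR 3)
      · rw [c3]; exact R.mul_mem hzR ht4R
    exact hle (hRcl hn)
  -- the fifth power of the conjugation fixes the frame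
  have f0 : (MulAut.conj g ^ 5) (t 0) = t 0 := by
    simp only [pow_succ, pow_zero, one_mul, MulAut.mul_apply, c0, c1, c2, c3, c4, cz, map_mul]
    rw [← mul_assoc, hzz, one_mul, ← mul_assoc, hzz, one_mul]
  have hg5 : ∀ s ∈ R, g ^ 5 * s = s * g ^ 5 := by
    have hle : Subgroup.closure ({zw, t 0, t 1, t 2, t 3} : Set (GL (Fin 4) F)) ≤
        Subgroup.centralizer {g ^ 5} := by
      rw [Subgroup.closure_le]
      intro x hx
      have key : MulAut.conj (g ^ 5) x = x := by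
        rw [map_pow]
        simp only [Set.mem_insert_iff, Set.mem_singleton_iff] at hx
        rcases hx with rfl | rfl | rfl | rfl | rfl
        · simp only [pow_succ, pow_zero, one_mul, MulAut.mul_apply, czw]
        · exact f0
        · simp only [pow_succ, pow_zero, one_mul, MulAut.mul_apply, c0, c1, c2, c3, c4, cz, map_mul]
          rw [← mul_assoc, hzz, one_mul, ← mul_assoc, hzz, one_mul]
        · simp only [pow_succ, pow_zero, one_mul, MulAut.mul_apply, c0, c1, c2, c3, c4, cz, map_mul]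
          rw [← mul_assoc, hzz, one_mul, ← mul_assoc, hzz, one_mul]
        · simp only [pow_succ, pow_zero, one_mul, MulAut.mul_apply, c0, c1, c2, c3, c4, cz, map_mul]
          rw [← mul_assoc, hzz, one_mul, ← mul_assoc, hzz, one_mul]
      rw [SetLike.mem_coe, Subgroup.mem_centralizer_iff]
      intro h hh
      rw [Set.mem_singleton_iff] at hh
      rw [hh]
      rw [MulAut.conj_apply, mul_inv_eq_iff_eq_mul] at key
      exact key
    intro s hs
    have h1 := hle (hRcl hs)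
    rw [Subgroup.mem_centralizer_iff] at h1
    exact h1 _ (Set.mem_singleton _)
  obtain ⟨c, hc⟩ := hG.schur ((g ^ 5 : GL (Fin 4) F) : Matrix (Fin 4) (Fin 4) F) (by
    intro s hs
    exact congrArg Units.val (hg5 s hs))
  have hc0 : c ≠ 0 := by
    intro h0
    have h1 := (g ^ 5).val_inv
    rw [hc, h0, zero_smul, zero_mul] at h1
    exact zero_ne_one h1
  -- arithmetic: 5 does not divide q - 1
  have hq1 : 1 ≤ Fintype.card F := Fintype.card_pos
  have h5 : ¬ 5 ∣ Fintype.card F - 1 := by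
    intro hd
    have h6 : ((Fintype.card F : ℕ) : ZMod 5) = 1 := by
      obtain ⟨k, hk⟩ := hd
      have h7 : Fintype.card F = 5 * k + 1 := by omega
      rw [h7]; push_cast
      have h8 : ((5 : ℕ) : ZMod 5) = 0 := ZMod.natCast_self 5
      have h9 : (5 : ZMod 5) = 0 := by exact_mod_cast h8
      rw [h9, zero_mul, zero_add]
    rw [h6, orderOf_one] at h4
    norm_num at h4
  refine ⟨g ^ (Fintype.card F - 1), ?_, (subgroupNormalizer R).pow_mem hgN _, ?_, ?_⟩
  · show g ^ (Fintype.card F - 1) ∈ (Matrix.GeneralLinearGroup.det : GL (Fin 4) F →* Fˣ).ker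
    rw [MonoidHom.mem_ker, map_pow]
    apply Units.ext
    rw [Units.val_pow_eq_pow_val]
    exact FiniteField.pow_card_sub_one_eq_one _ (Units.ne_zero _)
  · rw [← pow_mul, mul_comm, pow_mul]
    apply Units.ext
    rw [Units.val_pow_eq_pow_val, hc, smul_pow, one_pow, FiniteField.pow_card_sub_one_eq_one c hc0,
      one_smul]
    rfl
  · intro h1
    have h3 : (MulAut.conj g ^ (Fintype.card F - 1)) (t 0) = t 0 := by
      rw [← map_pow, h1]; simp
    have h6 : ∀ a : ℕ, ((MulAut.conj g ^ 5) ^ a) (t 0) = t 0 := by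
      intro a
      induction a with
      | zero => simp
      | succ k ih => rw [pow_succ, MulAut.mul_apply, f0, ih]
    have h7 := Nat.div_add_mod (Fintype.card F - 1) 5
    have h8 : (MulAut.conj g ^ ((Fintype.card F - 1) % 5)) (t 0) = t 0 := by
      rw [← h7, add_comm, pow_add, pow_mul, MulAut.mul_apply, h6] at h3
      exact h3
    have hr : (Fintype.card F - 1) % 5 ≠ 0 := fun h => h5 (Nat.dvd_of_mod_eq_zero h)
    have hr5 : (Fintype.card F - 1) % 5 < 5 := Nat.mod_lt _ (by norm_num)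
    have n1 := h14_ne_of_anti h2 z hz (t 0) (t 1) a10
    have n2 := h14_ne_of_anti h2 z hz (t 0) (t 2) a20
    have n3 := h14_ne_of_anti h2 z hz (t 0) (t 3) a30
    have n4 := h14_ne_of_anti h2 z hz (t 0) t4 h40
    generalize (Fintype.card F - 1) % 5 = r at h8 hr hr5
    interval_cases r
    · exact hr rfl
    · simp only [pow_succ, pow_zero, one_mul, MulAut.mul_apply, c0, c1, c2, c3, c4, cz, map_mul] at h8
      exact n1.2 h8
    · simp only [pow_succ, pow_zero, one_mul, MulAut.mul_apply, c0, c1, c2, c3, c4, cz, map_mul] at h8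
      rw [← mul_assoc, hzz, one_mul] at h8
      exact n2.1 h8
    · simp only [pow_succ, pow_zero, one_mul, MulAut.mul_apply, c0, c1, c2, c3, c4, cz, map_mul] at h8
      rw [← mul_assoc, hzz, one_mul] at h8
      exact n3.2 h8
    · simp only [pow_succ, pow_zero, one_mul, MulAut.mul_apply, c0, c1, c2, c3, c4, cz, map_mul] at h8
      rw [← mul_assoc, hzz, one_mul, ← mul_assoc, hzz, one_mul] at h8
      exact n4.1 h8

end main

end Cfsg.Agent.Lib.helper89.S60
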