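import Mathlib
import Cfsg.Agent.Lib.helper69.SNDefs
import Cfsg.Agent.Lib.helper81.CTsl2
import Cfsg.Agent.Lib.helper7.CardSL
import Cfsg.Agent.Lib.helper16.Sharp3
import Cfsg.Agent.S0799

/-! S4073 piece DICKSON (helper14, racing copy): the subgroup types of `PSL₂(GaloisField 2 n)`
with `2 ^ n - 1` prime, transported from `Cfsg.Agent.S0799.result`. -/

set_option autoImplicit false

open Cfsg.Agent.Lib.helper69.SNG

namespace Cfsg.Agent.Lib.helper14.SNG

universe u v

/-- Order of `PSL₂` over a finite field in which `2 = 0`. -/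
theorem helper14_card_psl2_char_two {F : Type*} [Field F] [Fintype F] {q : ℕ}
    (hF : Fintype.card F = q) (h2 : (2 : F) = 0) :
    Nat.card (Matrix.ProjectiveSpecialLinearGroup (Fin 2) F) = q * (q ^ 2 - 1) := by
  rw [← Nat.card_congr (Cfsg.Agent.Lib.helper81.h81_sl2_equiv_psl2 h2).toEquiv,
    Cfsg.Agent.Lib.helper7.card_SL2 hF]

/-- Order of `PGL₂` over a finite field in which `2 = 0`. -/
theorem helper14_card_pgl2_char_two {F : Type*} [Field F] [Fintype F] {q : ℕ}
    (hF : Fintype.card F = q) (h2 : (2 : F) = 0) :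
    Nat.card (Matrix.ProjGenLinGroup (Fin 2) F) = q * (q ^ 2 - 1) := by
  have : CharP F 2 := CharTwo.of_one_ne_zero_of_two_eq_zero one_ne_zero h2
  obtain ⟨f⟩ := Cfsg.Agent.Lib.helper16.sl2_mulEquiv_pgl2 F
  rw [← Nat.card_congr f.toEquiv, Cfsg.Agent.Lib.helper7.card_SL2 hF]

/-- A cyclic group is commutative. -/
theorem helper14_comm_of_cyclic {X : Type*} [Group X] (h : IsCyclic X) : IsMulCommutative X := by
  obtain ⟨g, hg⟩ := h.exists_generator
  refine ⟨⟨fun a b => ?_⟩⟩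
  obtain ⟨i, rfl⟩ := Subgroup.mem_zpowers_iff.mp (hg a)
  obtain ⟨j, rfl⟩ := Subgroup.mem_zpowers_iff.mp (hg b)
  rw [← zpow_add, ← zpow_add, add_comm]

/-- **[DICKSON]** (from `Cfsg.Agent.S0799.result`) -/
theorem psl2_subgroup_types {G : Type u} [Group G] [Finite G] {n : ℕ} (hn : 2 ≤ n)
    (hp : (2 ^ n - 1).Prime)
    (e : G ≃* Matrix.ProjectiveSpecialLinearGroup (Fin 2) (GaloisField 2 n))
    (K : Subgroup G) (hK : ¬ IsMulCommutative K) :
    (∃ k : ℕ, Odd k ∧ Nonempty (K ≃* DihedralGroup k)) ∨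
    (∃ (P : Sylow 2 G) (K' : Subgroup G),
        K' ≤ Subgroup.normalizer ((P : Subgroup G) : Set G) ∧ Nonempty (K ≃* K')) ∨
    Nonempty (K ≃* alternatingGroup (Fin 4)) ∨ Nonempty (K ≃* Equiv.Perm (Fin 4)) ∨
    Nonempty (K ≃* alternatingGroup (Fin 5)) ∨ Nat.card K = 6 ∨ K = ⊤ := by
  classical
  have : Fact (Nat.Prime 2) := ⟨Nat.prime_two⟩
  let _ : Fintype (GaloisField 2 n) := Fintype.ofFinite _
  have hn0 : n ≠ 0 := by omega
  have hq : Fintype.card (GaloisField 2 n) = 2 ^ n := by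
    rw [← Nat.card_eq_fintype_card, GaloisField.card 2 n hn0]
  have h2 : (2 : GaloisField 2 n) = 0 := by
    have h := CharP.cast_eq_zero (GaloisField 2 n) 2
    exact_mod_cast h
  have hGcard : Nat.card G = 2 ^ n * ((2 ^ n) ^ 2 - 1) := by
    rw [Nat.card_congr e.toEquiv, helper14_card_psl2_char_two hq h2]
  have eKH : K ≃* (K.map (e : G →* Matrix.ProjectiveSpecialLinearGroup (Fin 2) (GaloisField 2 n))) :=
    e.subgroupMap K
  have h1le : 1 ≤ 2 ^ n := Nat.one_le_two_pow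
  have h2dvd : 2 ∣ 2 ^ n := dvd_pow_self 2 hn0
  rcases Cfsg.Agent.S0799.result hq 2
      (K.map (e : G →* Matrix.ProjectiveSpecialLinearGroup (Fin 2) (GaloisField 2 n))) with
    ⟨k, hk, hcd⟩ | ⟨P, K₁, hK₁, ⟨f⟩⟩ | ⟨⟨f⟩⟩ | ⟨⟨f⟩⟩ | ⟨⟨f⟩⟩ | ⟨K₀, iF, iFt, m, hcard, hiso⟩
  · -- cyclic or dihedral
    have hgcd : Nat.gcd 2 (2 ^ n - 1) = 1 := by
      have hodd : ¬ 2 ∣ 2 ^ n - 1 := by omega
      exact (Nat.Prime.coprime_iff_not_dvd Nat.prime_two).mpr hodd
    rw [hgcd, Nat.div_one, Nat.div_one] at hk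
    have hkodd : Odd k := by
      rcases hk with hk | hk
      · have h3 : Odd (2 ^ n + 1) := by
          rw [Nat.odd_iff]; omega
        exact h3.of_dvd_nat hk
      · have h3 : Odd (2 ^ n - 1) := by
          rw [Nat.odd_iff]; omega
        exact h3.of_dvd_nat hk
    rcases hcd with ⟨hcyc, -⟩ | ⟨⟨f⟩⟩
    · exfalso
      apply hK
      exact comm_of_mulEquiv eKH.symm (helper14_comm_of_cyclic hcyc)
    · left
      exact ⟨k, hkodd, ⟨eKH.trans f⟩⟩
  · -- inside the normalizer of a Sylow 2-subgroup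
    right; left
    have hrange : (P : Subgroup (Matrix.ProjectiveSpecialLinearGroup (Fin 2) (GaloisField 2 n))) ≤
        (e : G →* Matrix.ProjectiveSpecialLinearGroup (Fin 2) (GaloisField 2 n)).range := by
      intro x _
      exact ⟨e.symm x, by simp⟩
    refine ⟨P.comapOfInjective (e : G →* _) e.injective hrange,
      K₁.map (e.symm : Matrix.ProjectiveSpecialLinearGroup (Fin 2) (GaloisField 2 n) →* G), ?_,
      ⟨(eKH.trans f).trans (e.symm.subgroupMap K₁)⟩⟩
    rintro x ⟨y, hy, rfl⟩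
    have hyN := hK₁ hy
    rw [Subgroup.mem_normalizer_iff] at hyN ⊢
    intro g
    change e g ∈ (P : Subgroup _) ↔ e (e.symm y * g * (e.symm y)⁻¹) ∈ (P : Subgroup _)
    rw [map_mul, map_mul, map_inv, MulEquiv.apply_symm_apply]
    exact hyN (e g)
  · right; right; left
    exact ⟨eKH.trans f⟩
  · right; right; right; left
    exact ⟨eKH.trans f⟩
  · right; right; right; right; left
    exact ⟨eKH.trans f⟩
  · -- subfield groups
    right; right; right; right; right
    -- the order of `K₀` is a power of two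
    obtain ⟨r, -, j, hr, hj⟩ := FiniteField.card' K₀
    have hm0 : m ≠ 0 := by
      rintro rfl
      rw [pow_zero] at hcard
      have : 2 ≤ 2 ^ n := by
        calc 2 = 2 ^ 1 := by norm_num
          _ ≤ 2 ^ n := Nat.pow_le_pow_right (by norm_num) (by omega)
      omega
    have hrj : r ^ ((j : ℕ) * m) = 2 ^ n := by
      rw [pow_mul, ← hj, hcard]
    have hr2 : r = 2 := by
      have h3 : r ∣ 2 ^ n := by
        rw [← hrj]
        exact dvd_pow_self r (Nat.mul_ne_zero j.pos.ne' hm0)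
      exact (Nat.prime_dvd_prime_iff_eq hr Nat.prime_two).mp (hr.dvd_of_dvd_pow h3)
    subst hr2
    have hjm : (j : ℕ) * m = n := Nat.pow_right_injective (le_refl 2) hrj
    have hK₀ : Fintype.card K₀ = 2 ^ (j : ℕ) := hj
    have h2' : (2 : K₀) = 0 := by
      have h3 : ((Fintype.card K₀ : ℕ) : K₀) = 0 := FiniteField.cast_card_eq_zero K₀
      rw [hK₀] at h3
      push_cast at h3
      exact pow_eq_zero_iff (j.pos.ne') |>.mp h3
    -- `2 ^ j - 1` divides the prime `2 ^ n - 1`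
    have hdvd : 2 ^ (j : ℕ) - 1 ∣ 2 ^ n - 1 := by
      exact Nat.pow_sub_one_dvd_pow_sub_one 2 ⟨m, hjm.symm⟩
    have hcardK : Nat.card K = 2 ^ (j : ℕ) * ((2 ^ (j : ℕ)) ^ 2 - 1) := by
      rcases hiso with ⟨⟨f⟩⟩ | ⟨⟨f⟩⟩
      · rw [Nat.card_congr (eKH.trans f).toEquiv, helper14_card_psl2_char_two hK₀ h2']
      · rw [Nat.card_congr (eKH.trans f).toEquiv, helper14_card_pgl2_char_two hK₀ h2']
    rcases (Nat.dvd_prime hp).mp hdvd with h3 | h3
    · -- `j = 1`
      left
      have hj1 : (j : ℕ) = 1 := by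
        have h4 : 2 ^ (j : ℕ) = 2 ^ 1 := by
          have : 1 ≤ 2 ^ (j : ℕ) := Nat.one_le_two_pow
          omega
        exact Nat.pow_right_injective (le_refl 2) h4
      rw [hcardK, hj1]
      norm_num
    · -- `j = n`
      right
      have hjn : (j : ℕ) = n := by
        have h4 : 2 ^ (j : ℕ) = 2 ^ n := by
          have : 1 ≤ 2 ^ (j : ℕ) := Nat.one_le_two_pow
          omega
        exact Nat.pow_right_injective (le_refl 2) h4
      rw [← Subgroup.card_eq_iff_eq_top, hcardK, hGcard, hjn]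

end Cfsg.Agent.Lib.helper14.SNG
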