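import Mathlib
import Cfsg.Agent.Lib.helper45.SVDefs
import Cfsg.Agent.Lib.helper53.SV_CSUM

/-!
# S2425 piece FLC (racing copy): invariant flags of type `compOf D` correspond to chains of
invariant subspaces with dimension set `{d + 1 : d ∈ D, d + 1 ≠ n}`.
-/

set_option autoImplicit false
open scoped MatrixGroups

namespace Cfsg.Agent.Lib.helper45.SV

theorem h14_csum_mem {n : ℕ} (D : Finset (Fin n)) (d : Fin n) (hd : d ∈ D) :
    csum (compOf D) d = d.val + 1 := by
  rw [csum_compOf]
  apply le_antisymm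
  · apply Finset.sup_le
    intro b hb
    rw [Finset.mem_image] at hb
    obtain ⟨d', hd', rfl⟩ := hb
    rw [Finset.mem_filter] at hd'
    exact Nat.succ_le_succ hd'.2
  · exact Finset.le_sup (f := id)
      (Finset.mem_image.mpr ⟨d, Finset.mem_filter.mpr ⟨hd, le_refl d⟩, rfl⟩)

theorem h14_csum_cases {n : ℕ} (D : Finset (Fin n)) (j : Fin n) :
    csum (compOf D) j = 0 ∨ ∃ d ∈ D, d ≤ j ∧ csum (compOf D) j = d.val + 1 := by
  rw [csum_compOf]
  by_cases hne : ((D.filter (fun d => d ≤ j)).image (fun d : Fin n => d.val + 1)).Nonempty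
  · right
    obtain ⟨b, hb, hsup⟩ := Finset.exists_mem_eq_sup _ hne id
    rw [Finset.mem_image] at hb
    obtain ⟨d, hd, rfl⟩ := hb
    rw [Finset.mem_filter] at hd
    exact ⟨d, hd.1, hd.2, hsup⟩
  · left
    rw [Finset.not_nonempty_iff_eq_empty] at hne
    rw [hne, Finset.sup_empty]
    rfl

theorem h14_csum_mono {n : ℕ} (D : Finset (Fin n)) {j j' : Fin n} (h : j ≤ j') :
    csum (compOf D) j ≤ csum (compOf D) j' := by
  rw [csum_compOf, csum_compOf]
  apply Finset.sup_mono
  apply Finset.image_subset_image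
  intro d hd
  rw [Finset.mem_filter] at hd ⊢
  exact ⟨hd.1, hd.2.trans h⟩

open Classical in
/-- the flag attached to a chain -/
noncomputable def h14_flagOf {F : Type*} [Field F] {n : ℕ} (T : Module.End F (Fin n → F))
    (c : Finset T.invtSubmodule) (s : Fin n → ℕ) (j : Fin n) : Submodule F (Fin n → F) :=
  if h : ∃ U ∈ c, Module.finrank F ((U : T.invtSubmodule) : Submodule F (Fin n → F)) = s j then
    ((Classical.choose h : T.invtSubmodule) : Submodule F (Fin n → F))
  else if s j = 0 then ⊥ else ⊤

theorem h14_flagOf_spec {F : Type*} [Field F] {n : ℕ} (T : Module.End F (Fin n → F))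
    (c : Finset T.invtSubmodule) (s : Fin n → ℕ) (j : Fin n) :
    (∃ U ∈ c, Module.finrank F ((U : T.invtSubmodule) : Submodule F (Fin n → F)) = s j ∧
        h14_flagOf T c s j = U) ∨
    ((¬ ∃ U ∈ c, Module.finrank F ((U : T.invtSubmodule) : Submodule F (Fin n → F)) = s j) ∧
        s j = 0 ∧ h14_flagOf T c s j = ⊥) ∨
    ((¬ ∃ U ∈ c, Module.finrank F ((U : T.invtSubmodule) : Submodule F (Fin n → F)) = s j) ∧
        s j ≠ 0 ∧ h14_flagOf T c s j = ⊤) := by
  classical
  by_cases h : ∃ U ∈ c, Module.finrank F ((U : T.invtSubmodule) : Submodule F (Fin n → F)) = s j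
  · left
    refine ⟨Classical.choose h, (Classical.choose_spec h).1, (Classical.choose_spec h).2, ?_⟩
    unfold h14_flagOf
    rw [dif_pos h]
  · by_cases h0 : s j = 0
    · right; left
      refine ⟨h, h0, ?_⟩
      unfold h14_flagOf
      rw [dif_neg h, if_pos h0]
    · right; right
      refine ⟨h, h0, ?_⟩
      unfold h14_flagOf
      rw [dif_neg h, if_neg h0]

open Classical in
/-- the chain attached to a flag -/
noncomputable def h14_chainOf {F : Type*} [Field F] {n : ℕ} (T : Module.End F (Fin n → F))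
    (D : Finset (Fin n)) (W : Fin n → Submodule F (Fin n → F))
    (hW : ∀ j, W j ∈ T.invtSubmodule) : Finset T.invtSubmodule :=
  (D.filter (fun d => d.val + 1 ≠ n)).image (fun d => (⟨W d, hW d⟩ : T.invtSubmodule))

theorem h14_mem_chainOf {F : Type*} [Field F] {n : ℕ} (T : Module.End F (Fin n → F))
    (D : Finset (Fin n)) (W : Fin n → Submodule F (Fin n → F))
    (hW : ∀ j, W j ∈ T.invtSubmodule) (U : T.invtSubmodule) :
    U ∈ h14_chainOf T D W hW ↔
      ∃ d ∈ D, d.val + 1 ≠ n ∧ (⟨W d, hW d⟩ : T.invtSubmodule) = U := by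
  classical
  unfold h14_chainOf
  rw [Finset.mem_image]
  constructor
  · rintro ⟨d, hd, h⟩
    rw [Finset.mem_filter] at hd
    exact ⟨d, hd.1, hd.2, h⟩
  · rintro ⟨d, hd, hdn, h⟩
    exact ⟨d, Finset.mem_filter.mpr ⟨hd, hdn⟩, h⟩

/-- FLC (L). -/
theorem h14_flags_eq_chains {F : Type*} [Field F] [Finite F] {n : ℕ} (x : GL (Fin n) F)
    (D : Finset (Fin n)) (hD : D ∈ endSets n) :
    Nat.card (flagSet x (compOf D)) = Nat.card (dimChains x D) := by
  classical
  have hfr : Module.finrank F (Fin n → F) = n := Module.finrank_fin_fun F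
  have hinv : ∀ (W : flagSet x (compOf D)) (j : Fin n),
      (W.1 j) ∈ Module.End.invtSubmodule (Matrix.toLin' (x : Matrix (Fin n) (Fin n) F)) :=
    fun W j => (Module.End.mem_invtSubmodule_iff_map_le _).mpr (W.2.2.2 j)
  have hΦmem : ∀ W : flagSet x (compOf D),
      h14_chainOf (Matrix.toLin' (x : Matrix (Fin n) (Fin n) F)) D W.1 (hinv W) ∈
        dimChains x D := by
    intro W
    refine ⟨⟨?_, ?_⟩, ?_⟩
    · intro a ha b hb _
      rw [Finset.mem_coe, h14_mem_chainOf] at ha hb
      obtain ⟨d₁, _, _, rfl⟩ := ha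
      obtain ⟨d₂, _, _, rfl⟩ := hb
      rcases le_total d₁ d₂ with h | h
      · left
        exact W.2.1 h
      · right
        exact W.2.1 h
    · intro a ha
      rw [h14_mem_chainOf] at ha
      obtain ⟨d, hd, hdn, rfl⟩ := ha
      have hdim : Module.finrank F (W.1 d) = d.val + 1 := by
        rw [W.2.2.1 d, h14_csum_mem D d hd]
      constructor
      · intro h00
        have h0 : W.1 d = ⊥ := congrArg Subtype.val h00
        rw [h0, finrank_bot] at hdim
        omega
      · intro h00
        have h0 : W.1 d = ⊤ := congrArg Subtype.val h00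
        rw [h0, finrank_top, hfr] at hdim
        exact hdn hdim.symm
    · unfold h14_chainOf
      rw [Finset.image_image]
      apply Finset.image_congr
      intro d hd
      rw [Finset.mem_coe, Finset.mem_filter] at hd
      show Module.finrank F (W.1 d) = d.val + 1
      rw [W.2.2.1 d, h14_csum_mem D d hd.1]
  have hinj : ∀ W W' : flagSet x (compOf D),
      h14_chainOf (Matrix.toLin' (x : Matrix (Fin n) (Fin n) F)) D W.1 (hinv W) =
        h14_chainOf (Matrix.toLin' (x : Matrix (Fin n) (Fin n) F)) D W'.1 (hinv W') →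
      W = W' := by
    intro W W' h
    have hD' : ∀ d ∈ D, d.val + 1 ≠ n → W.1 d = W'.1 d := by
      intro d hd hdn
      have hmem : (⟨W.1 d, hinv W d⟩ :
          Module.End.invtSubmodule (Matrix.toLin' (x : Matrix (Fin n) (Fin n) F))) ∈
          h14_chainOf (Matrix.toLin' (x : Matrix (Fin n) (Fin n) F)) D W'.1 (hinv W') := by
        rw [← h, h14_mem_chainOf]
        exact ⟨d, hd, hdn, rfl⟩
      rw [h14_mem_chainOf] at hmem
      obtain ⟨d', hd', _, heq⟩ := hmem
      have heq' : W'.1 d' = W.1 d := congrArg Subtype.val heq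
      have h1 : Module.finrank F (W'.1 d') = d'.val + 1 := by
        rw [W'.2.2.1 d', h14_csum_mem D d' hd']
      have h2 : Module.finrank F (W.1 d) = d.val + 1 := by
        rw [W.2.2.1 d, h14_csum_mem D d hd]
      rw [heq', h2] at h1
      have hdd : d' = d := Fin.ext (by omega)
      rw [hdd] at heq'
      exact heq'.symm
    apply Subtype.ext
    funext j
    rcases h14_csum_cases D j with h0 | ⟨d, hd, hdj, hs⟩
    · have e1 : W.1 j = ⊥ := Submodule.finrank_eq_zero.mp (by rw [W.2.2.1 j, h0])
      have e2 : W'.1 j = ⊥ := Submodule.finrank_eq_zero.mp (by rw [W'.2.2.1 j, h0])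
      rw [e1, e2]
    · by_cases hdn : d.val + 1 = n
      · have e1 : W.1 j = ⊤ :=
          Submodule.eq_top_of_finrank_eq (by rw [W.2.2.1 j, hs, hdn, hfr])
        have e2 : W'.1 j = ⊤ :=
          Submodule.eq_top_of_finrank_eq (by rw [W'.2.2.1 j, hs, hdn, hfr])
        rw [e1, e2]
      · have e1 : W.1 d = W.1 j := Submodule.eq_of_le_of_finrank_eq (W.2.1 hdj)
          (by rw [W.2.2.1 d, W.2.2.1 j, hs, h14_csum_mem D d hd])
        have e2 : W'.1 d = W'.1 j := Submodule.eq_of_le_of_finrank_eq (W'.2.1 hdj)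
          (by rw [W'.2.2.1 d, W'.2.2.1 j, hs, h14_csum_mem D d hd])
        rw [← e1, ← e2]
        exact hD' d hd hdn
  have hsurj : ∀ c ∈ dimChains x D, ∃ W : flagSet x (compOf D),
      h14_chainOf (Matrix.toLin' (x : Matrix (Fin n) (Fin n) F)) D W.1 (hinv W) = c := by
    intro c hc
    obtain ⟨⟨hchain, hbt⟩, himg⟩ := hc
    have hP2 : ∀ U ∈ c, ∃ d ∈ D, d.val + 1 ≠ n ∧ Module.finrank F
        ((U : Module.End.invtSubmodule (Matrix.toLin' (x : Matrix (Fin n) (Fin n) F))) :
          Submodule F (Fin n → F)) = d.val + 1 := by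
      intro U hU
      have h1 : Module.finrank F (U : Submodule F (Fin n → F)) ∈ c.image
          (fun U : Module.End.invtSubmodule (Matrix.toLin' (x : Matrix (Fin n) (Fin n) F)) =>
            Module.finrank F (U : Submodule F (Fin n → F))) := Finset.mem_image_of_mem _ hU
      rw [himg, Finset.mem_image] at h1
      obtain ⟨d, hd, hdU⟩ := h1
      rw [Finset.mem_filter] at hd
      exact ⟨d, hd.1, hd.2, hdU.symm⟩
    have hP3 : ∀ d ∈ D, d.val + 1 ≠ n → ∃ U ∈ c, Module.finrank F
        ((U : Module.End.invtSubmodule (Matrix.toLin' (x : Matrix (Fin n) (Fin n) F))) :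
          Submodule F (Fin n → F)) = d.val + 1 := by
      intro d hd hdn
      have h1 : d.val + 1 ∈ (D.filter (fun d => d.val + 1 ≠ n)).image
          (fun d : Fin n => d.val + 1) :=
        Finset.mem_image.mpr ⟨d, Finset.mem_filter.mpr ⟨hd, hdn⟩, rfl⟩
      rw [← himg, Finset.mem_image] at h1
      obtain ⟨U, hU, hUd⟩ := h1
      exact ⟨U, hU, hUd⟩
    have hP1 : ∀ U ∈ c, ∀ U' ∈ c,
        Module.finrank F ((U : Module.End.invtSubmodule
          (Matrix.toLin' (x : Matrix (Fin n) (Fin n) F))) : Submodule F (Fin n → F)) =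
        Module.finrank F ((U' : Module.End.invtSubmodule
          (Matrix.toLin' (x : Matrix (Fin n) (Fin n) F))) : Submodule F (Fin n → F)) →
        U = U' := by
      intro U hU U' hU' hf
      by_contra hne
      rcases hchain hU hU' hne with h | h
      · exact hne (Subtype.ext (Submodule.eq_of_le_of_finrank_eq h hf))
      · exact hne (Subtype.ext (Submodule.eq_of_le_of_finrank_eq h hf.symm).symm)
    have hspec := h14_flagOf_spec (Matrix.toLin' (x : Matrix (Fin n) (Fin n) F)) c
      (csum (compOf D))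
    have hdim : ∀ j, Module.finrank F
        (h14_flagOf (Matrix.toLin' (x : Matrix (Fin n) (Fin n) F)) c (csum (compOf D)) j) =
        csum (compOf D) j := by
      intro j
      rcases hspec j with ⟨U, hU, hf, he⟩ | ⟨hno, h0, he⟩ | ⟨hno, h0, he⟩
      · rw [he, hf]
      · rw [he, h0, finrank_bot]
      · rw [he, finrank_top, hfr]
        rcases h14_csum_cases D j with h0' | ⟨d, hd, hdj, hsd⟩
        · exact absurd h0' h0
        · by_cases hdn : d.val + 1 = n
          · rw [hsd, hdn]
          · exfalso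
            obtain ⟨U, hU, hUd⟩ := hP3 d hd hdn
            exact hno ⟨U, hU, by rw [hUd, hsd]⟩
    have hcomp : ∀ j j',
        h14_flagOf (Matrix.toLin' (x : Matrix (Fin n) (Fin n) F)) c (csum (compOf D)) j ≤
          h14_flagOf (Matrix.toLin' (x : Matrix (Fin n) (Fin n) F)) c (csum (compOf D)) j' ∨
        h14_flagOf (Matrix.toLin' (x : Matrix (Fin n) (Fin n) F)) c (csum (compOf D)) j' ≤
          h14_flagOf (Matrix.toLin' (x : Matrix (Fin n) (Fin n) F)) c (csum (compOf D)) j := by
      intro j j'
      rcases hspec j with ⟨U, hU, hf, he⟩ | ⟨hno, h0, he⟩ | ⟨hno, h0, he⟩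
      · rcases hspec j' with ⟨U', hU', hf', he'⟩ | ⟨hno', h0', he'⟩ | ⟨hno', h0', he'⟩
        · rw [he, he']
          by_cases hUU : U = U'
          · left
            rw [hUU]
          · rcases hchain hU hU' hUU with h | h
            · left
              exact h
            · right
              exact h
        · right
          rw [he']
          exact bot_le
        · left
          rw [he']
          exact le_top
      · left
        rw [he]
        exact bot_le
      · right
        rw [he]
        exact le_top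
    have hmono : Monotone
        (h14_flagOf (Matrix.toLin' (x : Matrix (Fin n) (Fin n) F)) c (csum (compOf D))) := by
      intro j j' hjj
      rcases hcomp j j' with h | h
      · exact h
      · have hle : csum (compOf D) j ≤ csum (compOf D) j' := h14_csum_mono D hjj
        have hf : Module.finrank F
            (h14_flagOf (Matrix.toLin' (x : Matrix (Fin n) (Fin n) F)) c (csum (compOf D)) j') =
            Module.finrank F
            (h14_flagOf (Matrix.toLin' (x : Matrix (Fin n) (Fin n) F)) c (csum (compOf D)) j) := by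
          apply le_antisymm (Submodule.finrank_mono h)
          rw [hdim, hdim]
          exact hle
        exact (Submodule.eq_of_le_of_finrank_eq h hf).ge
    have hinvc : ∀ j,
        (h14_flagOf (Matrix.toLin' (x : Matrix (Fin n) (Fin n) F)) c (csum (compOf D)) j).map
          (Matrix.toLin' (x : Matrix (Fin n) (Fin n) F)) ≤
        h14_flagOf (Matrix.toLin' (x : Matrix (Fin n) (Fin n) F)) c (csum (compOf D)) j := by
      intro j
      rcases hspec j with ⟨U, hU, hf, he⟩ | ⟨hno, h0, he⟩ | ⟨hno, h0, he⟩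
      · rw [he]
        exact (Module.End.mem_invtSubmodule_iff_map_le _).mp U.2
      · rw [he, Submodule.map_bot]
      · rw [he]
        exact le_top
    refine ⟨⟨h14_flagOf (Matrix.toLin' (x : Matrix (Fin n) (Fin n) F)) c (csum (compOf D)),
      hmono, hdim, hinvc⟩, ?_⟩
    ext U
    rw [h14_mem_chainOf]
    constructor
    · rintro ⟨d, hd, hdn, rfl⟩
      obtain ⟨U', hU', hU'd⟩ := hP3 d hd hdn
      rcases hspec d with ⟨U'', hU'', hf, he⟩ | ⟨hno, h0, he⟩ | ⟨hno, h0, he⟩
      · have h1 : (⟨h14_flagOf (Matrix.toLin' (x : Matrix (Fin n) (Fin n) F)) c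
            (csum (compOf D)) d, (Module.End.mem_invtSubmodule_iff_map_le _).mpr (hinvc d)⟩ :
            Module.End.invtSubmodule (Matrix.toLin' (x : Matrix (Fin n) (Fin n) F))) = U'' :=
          Subtype.ext he
        rw [h1]
        exact hU''
      · exact absurd ⟨U', hU', by rw [hU'd, h14_csum_mem D d hd]⟩ hno
      · exact absurd ⟨U', hU', by rw [hU'd, h14_csum_mem D d hd]⟩ hno
    · intro hU
      obtain ⟨d, hd, hdn, hUd⟩ := hP2 U hU
      refine ⟨d, hd, hdn, ?_⟩
      have hsd : csum (compOf D) d = d.val + 1 := h14_csum_mem D d hd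
      rcases hspec d with ⟨U'', hU'', hf, he⟩ | ⟨hno, h0, he⟩ | ⟨hno, h0, he⟩
      · have h1 : U'' = U := hP1 U'' hU'' U hU (by rw [hf, hsd, hUd])
        apply Subtype.ext
        show h14_flagOf (Matrix.toLin' (x : Matrix (Fin n) (Fin n) F)) c (csum (compOf D)) d = U
        rw [he, h1]
      · exact absurd ⟨U, hU, by rw [hUd, hsd]⟩ hno
      · exact absurd ⟨U, hU, by rw [hUd, hsd]⟩ hno
  have hbij : Function.Bijective (fun W : flagSet x (compOf D) =>
      (⟨h14_chainOf (Matrix.toLin' (x : Matrix (Fin n) (Fin n) F)) D W.1 (hinv W), hΦmem W⟩ :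
        dimChains x D)) := by
    constructor
    · intro W W' h
      exact hinj W W' (congrArg Subtype.val h)
    · rintro ⟨c, hc⟩
      obtain ⟨W, hW⟩ := hsurj c hc
      exact ⟨W, Subtype.ext hW⟩
  exact Nat.card_congr (Equiv.ofBijective _ hbij)

end Cfsg.Agent.Lib.helper45.SV
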