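import Mathlib
import Cfsg.Agent.Lib.helper45.SVDefs

/-!
# S2425 piece HOM1 (racing copy): intertwiners between simple modules of an endomorphism.
-/

set_option autoImplicit false
open scoped MatrixGroups

namespace Cfsg.Agent.Lib.helper45.SV

/-- an invariant subspace of a simple module containing a nonzero vector is everything -/
theorem h14_simple_top {F : Type*} [Field F] {M : Type*} [AddCommGroup M] [Module F M]
    (S : Module.End F M)
    (hS : ∀ U : Submodule F M, (∀ v ∈ U, S v ∈ U) → U = ⊥ ∨ U = ⊤)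
    (U : Submodule F M) (hU : ∀ v ∈ U, S v ∈ U) (m₀ : M) (hm₀ : m₀ ≠ 0) (hmem : m₀ ∈ U) :
    U = ⊤ := by
  rcases hS U hU with h | h
  · rw [h, Submodule.mem_bot] at hmem
    exact absurd hmem hm₀
  · exact h

theorem h14_aeval_comm {F : Type*} [Field F] {M : Type*} [AddCommGroup M] [Module F M]
    (S : Module.End F M) (p : Polynomial F) (v : M) :
    Polynomial.aeval S p (S v) = S (Polynomial.aeval S p v) := by
  have hc : Polynomial.aeval S p * S = S * Polynomial.aeval S p :=
    calc Polynomial.aeval S p * S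
        = Polynomial.aeval S p * Polynomial.aeval S Polynomial.X := by rw [Polynomial.aeval_X]
      _ = Polynomial.aeval S (p * Polynomial.X) := (map_mul _ _ _).symm
      _ = Polynomial.aeval S (Polynomial.X * p) := by rw [mul_comm]
      _ = S * Polynomial.aeval S p := by rw [map_mul, Polynomial.aeval_X]
  have h1 := congrArg (fun T : Module.End F M => T v) hc
  exact h1

/-- in a simple module, a polynomial killing one nonzero vector kills everything -/
theorem h14_aeval_eq_zero {F : Type*} [Field F] {M : Type*} [AddCommGroup M] [Module F M]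
    (S : Module.End F M)
    (hS : ∀ U : Submodule F M, (∀ v ∈ U, S v ∈ U) → U = ⊥ ∨ U = ⊤)
    (m₀ : M) (hm₀ : m₀ ≠ 0) (p : Polynomial F) (h : Polynomial.aeval S p m₀ = 0) :
    Polynomial.aeval S p = 0 := by
  have hU : LinearMap.ker (Polynomial.aeval S p) = ⊤ := by
    refine h14_simple_top S hS _ ?_ m₀ hm₀ (LinearMap.mem_ker.mpr h)
    intro v hv
    rw [LinearMap.mem_ker] at hv ⊢
    rw [h14_aeval_comm, hv, map_zero]
  exact LinearMap.ker_eq_top.mp hU

/-- a simple module is cyclic on any nonzero vector -/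
theorem h14_cyclic {F : Type*} [Field F] {M : Type*} [AddCommGroup M] [Module F M]
    (S : Module.End F M)
    (hS : ∀ U : Submodule F M, (∀ v ∈ U, S v ∈ U) → U = ⊥ ∨ U = ⊤)
    (m₀ : M) (hm₀ : m₀ ≠ 0) (m : M) : ∃ p : Polynomial F, Polynomial.aeval S p m₀ = m := by
  let Φ : Polynomial F →ₗ[F] M :=
    (LinearMap.applyₗ m₀ : (M →ₗ[F] M) →ₗ[F] M) ∘ₗ (Polynomial.aeval S).toLinearMap
  have hΦ : ∀ p, Φ p = Polynomial.aeval S p m₀ := fun p => rfl
  have htop : LinearMap.range Φ = ⊤ := by
    refine h14_simple_top S hS _ ?_ m₀ hm₀ ?_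
    · rintro v ⟨p, rfl⟩
      refine ⟨Polynomial.X * p, ?_⟩
      rw [hΦ, hΦ, map_mul, Polynomial.aeval_X]
      rfl
    · exact ⟨1, by rw [hΦ, map_one]; rfl⟩
  have hm : m ∈ LinearMap.range Φ := by rw [htop]; trivial
  obtain ⟨p, hp⟩ := hm
  exact ⟨p, hp⟩

/-- for a simple module, the minimal polynomial is the characteristic polynomial -/
theorem h14_minpoly_eq_charpoly {F : Type*} [Field F] {M : Type*} [AddCommGroup M] [Module F M]
    [Finite M] (S : Module.End F M) (hM : Nontrivial M)
    (hS : ∀ U : Submodule F M, (∀ v ∈ U, S v ∈ U) → U = ⊥ ∨ U = ⊤) :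
    minpoly F S = S.charpoly := by
  obtain ⟨m₀, hm₀⟩ := exists_ne (0 : M)
  have hg : (minpoly F S).Monic := minpoly.monic (Algebra.IsIntegral.isIntegral S)
  have hspan : Submodule.span F
      (Set.range (fun k : Fin (minpoly F S).natDegree => (S ^ (k : ℕ)) m₀)) = ⊤ := by
    rw [eq_top_iff]
    intro m _
    obtain ⟨p, rfl⟩ := h14_cyclic S hS m₀ hm₀ m
    have h1 : Polynomial.aeval S p = Polynomial.aeval S (p %ₘ minpoly F S) := by
      conv_lhs => rw [← Polynomial.modByMonic_add_div p (minpoly F S)]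
      rw [map_add, map_mul, minpoly.aeval, zero_mul, add_zero]
    rw [h1]
    have hdeg : (p %ₘ minpoly F S).natDegree < (minpoly F S).natDegree :=
      Polynomial.natDegree_modByMonic_lt p hg (minpoly.ne_one F S)
    rw [Polynomial.as_sum_range' (p %ₘ minpoly F S) (minpoly F S).natDegree hdeg]
    rw [map_sum, LinearMap.sum_apply]
    refine Submodule.sum_mem _ (fun k hk => ?_)
    rw [← Polynomial.C_mul_X_pow_eq_monomial, map_mul, map_pow, Polynomial.aeval_C,
      Polynomial.aeval_X]
    show (algebraMap F (Module.End F M) ((p %ₘ minpoly F S).coeff k)) ((S ^ k) m₀) ∈ _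
    rw [Module.algebraMap_end_apply]
    exact Submodule.smul_mem _ _ (Submodule.subset_span ⟨⟨k, Finset.mem_range.mp hk⟩, rfl⟩)
  have hfin : Module.finrank F M ≤ (minpoly F S).natDegree := by
    have h2 := finrank_range_le_card (R := F)
      (fun k : Fin (minpoly F S).natDegree => (S ^ (k : ℕ)) m₀)
    rw [Set.finrank, hspan, finrank_top, Fintype.card_fin] at h2
    exact h2
  have hdvd : minpoly F S ∣ S.charpoly := LinearMap.minpoly_dvd_charpoly S
  have hdeg2 : S.charpoly.natDegree = Module.finrank F M := LinearMap.charpoly_natDegree S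
  exact (Polynomial.eq_of_monic_of_dvd_of_natDegree_le hg (LinearMap.charpoly_monic S) hdvd
    (by rw [hdeg2]; exact hfin)).symm

open Classical in
/-- HOM1 (L). -/
theorem h14_card_hom_simple_simple {F : Type*} [Field F] [Fintype F] {M N : Type*} [AddCommGroup M]
    [Module F M] [Finite M] [AddCommGroup N] [Module F N] [Finite N]
    (S : Module.End F M) (hM : Nontrivial M)
    (hS : ∀ U : Submodule F M, (∀ v ∈ U, S v ∈ U) → U = ⊥ ∨ U = ⊤)
    (R : Module.End F N) (hN : Nontrivial N)
    (hR : ∀ U : Submodule F N, (∀ v ∈ U, R v ∈ U) → U = ⊥ ∨ U = ⊤) :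
    Nat.card {φ : M →ₗ[F] N // ∀ m, φ (S m) = R (φ m)} =
      if S.charpoly = R.charpoly then Fintype.card F ^ Module.finrank F N else 1 := by
  obtain ⟨m₀, hm₀⟩ := exists_ne (0 : M)
  have hinj : ∀ φ ψ : {φ : M →ₗ[F] N // ∀ m, φ (S m) = R (φ m)}, φ.1 m₀ = ψ.1 m₀ → φ = ψ := by
    intro φ ψ h
    have hker : LinearMap.ker (φ.1 - ψ.1) = ⊤ := by
      refine h14_simple_top S hS _ ?_ m₀ hm₀ ?_
      · intro v hv
        rw [LinearMap.mem_ker, LinearMap.sub_apply] at hv ⊢
        rw [φ.2, ψ.2, ← map_sub, hv, map_zero]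
      · rw [LinearMap.mem_ker, LinearMap.sub_apply, h, sub_self]
    apply Subtype.ext
    have h3 := LinearMap.ker_eq_top.mp hker
    exact sub_eq_zero.mp h3
  split_ifs with hch
  · have hmc : minpoly F S = R.charpoly := by rw [h14_minpoly_eq_charpoly S hM hS, hch]
    have hRz : Polynomial.aeval R (minpoly F S) = 0 := by
      rw [hmc]
      exact LinearMap.aeval_self_charpoly R
    have hex : ∀ n : N, ∃ φ : {φ : M →ₗ[F] N // ∀ m, φ (S m) = R (φ m)}, φ.1 m₀ = n := by
      intro n
      let ΦM : Polynomial F →ₗ[F] M :=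
        (LinearMap.applyₗ m₀ : (M →ₗ[F] M) →ₗ[F] M) ∘ₗ (Polynomial.aeval S).toLinearMap
      let ΨN : Polynomial F →ₗ[F] N :=
        (LinearMap.applyₗ n : (N →ₗ[F] N) →ₗ[F] N) ∘ₗ (Polynomial.aeval R).toLinearMap
      have hΦ : ∀ p, ΦM p = Polynomial.aeval S p m₀ := fun p => rfl
      have hΨ : ∀ p, ΨN p = Polynomial.aeval R p n := fun p => rfl
      have hsurj : Function.Surjective ΦM := fun m => by
        obtain ⟨p, hp⟩ := h14_cyclic S hS m₀ hm₀ m
        exact ⟨p, hp⟩
      have hle : LinearMap.ker ΦM ≤ LinearMap.ker ΨN := by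
        intro p hp
        rw [LinearMap.mem_ker, hΦ] at hp
        rw [LinearMap.mem_ker, hΨ]
        have h0 := h14_aeval_eq_zero S hS m₀ hm₀ p hp
        obtain ⟨c, rfl⟩ := minpoly.dvd F S h0
        rw [map_mul, hRz, zero_mul]
        rfl
      let φ : M →ₗ[F] N := ((LinearMap.ker ΦM).liftQ ΨN hle) ∘ₗ
        (ΦM.quotKerEquivOfSurjective hsurj).symm.toLinearMap
      have hφ : ∀ p, φ (ΦM p) = ΨN p := by
        intro p
        have h4 : (ΦM.quotKerEquivOfSurjective hsurj).symm (ΦM p) = Submodule.Quotient.mk p := by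
          rw [LinearEquiv.symm_apply_eq]
          rfl
        show ((LinearMap.ker ΦM).liftQ ΨN hle)
          ((ΦM.quotKerEquivOfSurjective hsurj).symm (ΦM p)) = ΨN p
        rw [h4, Submodule.liftQ_apply]
      refine ⟨⟨φ, ?_⟩, ?_⟩
      · intro m
        obtain ⟨p, rfl⟩ := hsurj m
        have h1 : S (ΦM p) = ΦM (Polynomial.X * p) := by
          rw [hΦ, hΦ, map_mul, Polynomial.aeval_X]
          rfl
        rw [h1, hφ, hφ, hΨ, hΨ, map_mul, Polynomial.aeval_X]
        rfl
      · have h1 : m₀ = ΦM 1 := by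
          rw [hΦ, map_one]
          rfl
        show φ m₀ = n
        rw [h1, hφ, hΨ, map_one]
        rfl
    have hbij : Function.Bijective
        (fun φ : {φ : M →ₗ[F] N // ∀ m, φ (S m) = R (φ m)} => φ.1 m₀) :=
      ⟨fun φ ψ h => hinj φ ψ h, hex⟩
    rw [Nat.card_congr (Equiv.ofBijective _ hbij)]
    have hFN : Fintype N := Fintype.ofFinite N
    rw [Nat.card_eq_fintype_card]
    exact Module.card_eq_pow_finrank
  · have hall : ∀ φ : {φ : M →ₗ[F] N // ∀ m, φ (S m) = R (φ m)}, φ.1 = 0 := by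
      intro φ
      by_contra hφ0
      apply hch
      have hker : LinearMap.ker φ.1 = ⊥ := by
        rcases hS (LinearMap.ker φ.1) (fun v hv => by
          rw [LinearMap.mem_ker] at hv ⊢
          rw [φ.2, hv, map_zero]) with h | h
        · exact h
        · exact absurd (LinearMap.ker_eq_top.mp h) hφ0
      have hrange : LinearMap.range φ.1 = ⊤ := by
        rcases hR (LinearMap.range φ.1) (by
          rintro v ⟨m, rfl⟩
          exact ⟨S m, φ.2 m⟩) with h | h
        · exact absurd (LinearMap.range_eq_bot.mp h) hφ0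
        · exact h
      let e : M ≃ₗ[F] N := LinearEquiv.ofBijective φ.1
        ⟨LinearMap.ker_eq_bot.mp hker, LinearMap.range_eq_top.mp hrange⟩
      have hconj : e.conj S = R := by
        apply LinearMap.ext
        intro n
        obtain ⟨m, rfl⟩ := e.surjective n
        rw [LinearEquiv.conj_apply_apply, e.symm_apply_apply]
        exact φ.2 m
      rw [← hconj, LinearEquiv.charpoly_conj]
    have hsub : Subsingleton {φ : M →ₗ[F] N // ∀ m, φ (S m) = R (φ m)} :=
      ⟨fun a b => Subtype.ext ((hall a).trans (hall b).symm)⟩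
    have hne : Nonempty {φ : M →ₗ[F] N // ∀ m, φ (S m) = R (φ m)} :=
      ⟨⟨0, fun m => by simp⟩⟩
    exact Nat.card_eq_one_iff_unique.mpr ⟨hsub, hne⟩

end Cfsg.Agent.Lib.helper45.SV
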