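import Mathlib
import Cfsg.Prelude.Def_Classical
import Cfsg.Prelude.Def_GeometricClasses
import Cfsg.Agent.Lib.helper49.WittIso

/-!
# S5977 / S5978 block [A], piece KAPPAJ (racing copy by helper14)

A self-adjoint square root of `δ` anticommuting with an isometry `x` with `x * x = -1`.
-/

set_option autoImplicit false
set_option linter.unusedVariables false

namespace Cfsg.Agent.Lib.helper59.Sfk

open Matrix Cfsg.Geo
open Cfsg.Agent.Lib.helper49 (detHom spinorSign)

/-- every element of a finite field of odd characteristic is a sum of two squares -/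
theorem h14_sq_add_sq {F : Type*} [Field F] [Fintype F] (h2 : (2 : F) ≠ 0) (δ : F) :
    ∃ α β : F, α ^ 2 + β ^ 2 = δ := by
  classical
  have hchar : ringChar F ≠ 2 := by
    intro h
    apply h2
    have h3 := CharP.cast_eq_zero F (ringChar F)
    rw [h] at h3
    exact_mod_cast h3
  have hodd := FiniteField.odd_card_of_char_ne_two hchar
  obtain ⟨a, b, hab⟩ : ∃ a b, (Polynomial.X ^ 2 : Polynomial F).eval a +
      (Polynomial.X ^ 2 - Polynomial.C δ : Polynomial F).eval b = 0 :=
    FiniteField.exists_root_sum_quadratic (Polynomial.degree_X_pow 2)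
      (Polynomial.degree_X_pow_sub_C (by decide) _) hodd
  refine ⟨a, b, ?_⟩
  simp only [Polynomial.eval_pow, Polynomial.eval_X, Polynomial.eval_sub, Polynomial.eval_C] at hab
  linear_combination hab

/-- [KAPPAJ] (racing copy) verbatim Skel statement of `sfk_kappa_neg` -/
theorem h14_sfk_kappa_neg {F : Type*} [Field F] [Fintype F] {ι : Type} [Fintype ι] [DecidableEq ι]
    (h2 : (2 : F) ≠ 0) (Q : QuadraticForm F (ι → F))
    (hQ : (QuadraticMap.polarBilin Q).Nondegenerate) (δ : F)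
    (x : GL ι F) (hx : x ∈ Cfsg.isometryGroup F (⇑Q))
    (hxx : (x : Matrix ι ι F) * (x : Matrix ι ι F) = -1)
    (m : ℕ) (e : Fin m → (ι → F))
    (hli : LinearIndependent F (Sum.elim e (fun i => (x : Matrix ι ι F) *ᵥ e i)))
    (hcard : Fintype.card ι = 2 * m)
    (ho1 : ∀ i j, i ≠ j → QuadraticMap.polar (⇑Q) (e i) (e j) = 0)
    (ho2 : ∀ i j, QuadraticMap.polar (⇑Q) (e i) ((x : Matrix ι ι F) *ᵥ e j) = 0)
    (hne : ∀ i, Q (e i) ≠ 0) :
    ∃ (κ' : Matrix ι ι F) (α β : F), κ' * κ' = δ • (1 : Matrix ι ι F) ∧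
      (∀ u v : ι → F, QuadraticMap.polar (⇑Q) (κ' *ᵥ u) v = QuadraticMap.polar (⇑Q) u (κ' *ᵥ v)) ∧
      (x : Matrix ι ι F) * κ' = -(κ' * (x : Matrix ι ι F)) ∧
      ∀ i, κ' *ᵥ e i = α • e i + β • ((x : Matrix ι ι F) *ᵥ e i) := by
  classical
  obtain ⟨α, β, hαβ⟩ := h14_sq_add_sq h2 δ
  have hxxv : ∀ v : ι → F, (x : Matrix ι ι F) *ᵥ ((x : Matrix ι ι F) *ᵥ v) = -v := by
    intro v
    rw [Matrix.mulVec_mulVec, hxx, Matrix.neg_mulVec, Matrix.one_mulVec]
  have hQx : ∀ v : ι → F, Q ((x : Matrix ι ι F) *ᵥ v) = Q v := fun v => hx v v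
  have hiso : ∀ u v : ι → F, QuadraticMap.polar (⇑Q) ((x : Matrix ι ι F) *ᵥ u)
      ((x : Matrix ι ι F) *ᵥ v) = QuadraticMap.polar (⇑Q) u v := by
    intro u v
    simp only [QuadraticMap.polar, ← Matrix.mulVec_add, hQx]
  have ho2' : ∀ i j, QuadraticMap.polar (⇑Q) ((x : Matrix ι ι F) *ᵥ e i) (e j) = 0 := by
    intro i j
    rw [QuadraticMap.polar_comm]; exact ho2 j i
  have hcard' : Fintype.card (Fin m ⊕ Fin m) = Module.finrank F (ι → F) := by
    rw [Fintype.card_sum, Fintype.card_fin, Module.finrank_fintype_fun_eq_card, hcard, two_mul]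
  let bs : Module.Basis (Fin m ⊕ Fin m) F (ι → F) :=
    basisOfLinearIndependentOfCardEqFinrank' _ hli hcard'
  have hbs : ∀ s, bs s = Sum.elim e (fun i => (x : Matrix ι ι F) *ᵥ e i) s := by
    intro s; simp [bs]
  let f : Fin m ⊕ Fin m → (ι → F) :=
    Sum.elim (fun i => α • e i + β • ((x : Matrix ι ι F) *ᵥ e i))
      (fun i => β • e i - α • ((x : Matrix ι ι F) *ᵥ e i))
  let κl : (ι → F) →ₗ[F] (ι → F) := bs.constr F f
  have hκl : ∀ s, κl (bs s) = f s := fun s => bs.constr_basis F f s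
  have hκ_inl : ∀ i, κl (e i) = α • e i + β • ((x : Matrix ι ι F) *ᵥ e i) := by
    intro i; have h3 := hκl (Sum.inl i); rw [hbs] at h3; exact h3
  have hκ_inr : ∀ i, κl ((x : Matrix ι ι F) *ᵥ e i) =
      β • e i - α • ((x : Matrix ι ι F) *ᵥ e i) := by
    intro i; have h3 := hκl (Sum.inr i); rw [hbs] at h3; exact h3
  let Xl : (ι → F) →ₗ[F] (ι → F) := Matrix.toLin' (x : Matrix ι ι F)
  have hXl : ∀ v, Xl v = (x : Matrix ι ι F) *ᵥ v := fun v => Matrix.toLin'_apply _ _
  have h1 : κl ∘ₗ κl = δ • LinearMap.id := by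
    apply bs.ext
    intro s
    rw [hbs]
    rcases s with i | i
    · simp only [Sum.elim_inl, LinearMap.comp_apply, LinearMap.smul_apply, LinearMap.id_apply,
        hκ_inl, map_add, map_smul, hκ_inr]
      rw [← hαβ]; module
    · simp only [Sum.elim_inr, LinearMap.comp_apply, LinearMap.smul_apply, LinearMap.id_apply,
        hκ_inr, map_sub, map_smul, hκ_inl]
      rw [← hαβ]; module
  have h2' : Xl ∘ₗ κl = -(κl ∘ₗ Xl) := by
    apply bs.ext
    intro s
    rw [hbs]
    rcases s with i | i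
    · simp only [Sum.elim_inl, LinearMap.comp_apply, LinearMap.neg_apply, hκ_inl, hXl, hκ_inr,
        Matrix.mulVec_add, Matrix.mulVec_smul, hxxv]
      module
    · simp only [Sum.elim_inr, LinearMap.comp_apply, LinearMap.neg_apply, hκ_inr, hXl, hxxv,
        map_neg, hκ_inl, Matrix.mulVec_sub, Matrix.mulVec_smul]
      module
  have h3 : ∀ u v : ι → F, QuadraticMap.polar (⇑Q) (κl u) v = QuadraticMap.polar (⇑Q) u (κl v) := by
    have h4 : (QuadraticMap.polarBilin Q).compl₁₂ κl LinearMap.id =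
        (QuadraticMap.polarBilin Q).compl₁₂ LinearMap.id κl := by
      apply LinearMap.ext_basis bs bs
      intro s t
      simp only [LinearMap.compl₁₂_apply, LinearMap.id_apply, QuadraticMap.polarBilin_apply_apply]
      rw [hbs, hbs]
      rcases s with i | i <;> rcases t with j | j <;>
      simp only [Sum.elim_inl, Sum.elim_inr, hκ_inl, hκ_inr, QuadraticMap.polar_add_left,
        QuadraticMap.polar_add_right, QuadraticMap.polar_smul_left, QuadraticMap.polar_smul_right,
        QuadraticMap.polar_sub_left, QuadraticMap.polar_sub_right, ho2, ho2', hiso, smul_eq_mul,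
        mul_zero, add_zero, zero_add, sub_zero, zero_sub]
    intro u v
    have h5 := congrArg (fun B : (ι → F) →ₗ[F] (ι → F) →ₗ[F] F => B u v) h4
    simpa only [LinearMap.compl₁₂_apply, LinearMap.id_apply,
      QuadraticMap.polarBilin_apply_apply] using h5
  refine ⟨LinearMap.toMatrix' κl, α, β, ?_, ?_, ?_, ?_⟩
  · apply Matrix.toLin'.injective
    rw [Matrix.toLin'_mul, Matrix.toLin'_toMatrix', h1]
    simp
  · intro u v
    rw [← Matrix.toLin'_apply, ← Matrix.toLin'_apply, Matrix.toLin'_toMatrix']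
    exact h3 u v
  · apply Matrix.toLin'.injective
    rw [Matrix.toLin'_mul, map_neg, Matrix.toLin'_mul, Matrix.toLin'_toMatrix']
    exact h2'
  · intro i
    rw [← Matrix.toLin'_apply, Matrix.toLin'_toMatrix']
    exact hκ_inl i

end Cfsg.Agent.Lib.helper59.Sfk
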