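import Mathlib
import Cfsg.Agent.Lib.helper24.SfoDefs

/-!
# S5981 piece CNTDE (core): number of solutions of a diagonal quadratic equation in an even
number of variables, with the binary count (BINCNT) as a hypothesis.

Reusable: `helper14_sfo_peel` (split off one variable), `helper14_sfo_total`,
`helper14_sfo_conv`, `helper14_sfo_diag_step` (two-variable recursion, valid for all `c`).
-/

set_option autoImplicit false

namespace Cfsg.Agent.Lib.helper24

open Module Matrix Cfsg.Geo

/-- split off the first variable -/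
theorem helper14_sfo_peel {F : Type*} [Field F] [Fintype F] [DecidableEq F]
    (n : ℕ) (w : Fin (n + 1) → F) (c : F) :
    (Finset.univ.filter (fun x : Fin (n + 1) → F => ∑ j, w j * x j ^ 2 = c)).card =
      ∑ y : F, (Finset.univ.filter
        (fun x : Fin n → F => ∑ j, w j.succ * x j ^ 2 = c - w 0 * y ^ 2)).card := by
  rw [Finset.card_eq_sum_card_fiberwise (f := fun x : Fin (n + 1) → F => x 0)
    (t := Finset.univ) (fun x _ => Finset.mem_univ _)]
  refine Finset.sum_congr rfl (fun y _ => ?_)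
  refine Finset.card_nbij' (fun x => Fin.tail x) (fun x' => Fin.cons y x') ?_ ?_ ?_ ?_
  · intro x hx
    simp only [Finset.coe_filter, Finset.mem_filter, Finset.mem_univ, true_and,
      Set.mem_ofPred_eq] at hx ⊢
    obtain ⟨h1, h2⟩ := hx
    rw [Fin.sum_univ_succ] at h1
    rw [← h2]
    simp only [Fin.tail]
    linear_combination h1
  · intro x' hx'
    simp only [Finset.coe_filter, Finset.mem_filter, Finset.mem_univ, true_and,
      Set.mem_ofPred_eq] at hx' ⊢
    refine ⟨?_, Fin.cons_zero _ _⟩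
    rw [Fin.sum_univ_succ]
    simp only [Fin.cons_zero, Fin.cons_succ]
    linear_combination hx'
  · intro x hx
    simp only [Finset.coe_filter, Finset.mem_filter, Finset.mem_univ, true_and,
      Set.mem_ofPred_eq] at hx
    show Fin.cons y (Fin.tail x) = x
    rw [← hx.2]
    exact Fin.cons_self_tail x
  · intro x' _
    exact Fin.tail_cons _ _

/-- the total number of vectors -/
theorem helper14_sfo_total {F : Type*} [Field F] [Fintype F] [DecidableEq F]
    (n : ℕ) (w : Fin n → F) :
    ∑ s : F, (Finset.univ.filter (fun x : Fin n → F => ∑ j, w j * x j ^ 2 = s)).card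
      = Fintype.card F ^ n := by
  rw [← Finset.card_eq_sum_card_fiberwise (f := fun x : Fin n → F => ∑ j, w j * x j ^ 2)
    (s := Finset.univ) (t := Finset.univ) (fun x _ => Finset.mem_univ _)]
  rw [Finset.card_univ, Fintype.card_pi_const]

/-- convolution with a binary form whose fibres have `q - e` (resp. `q + (q-1)e`) elements -/
theorem helper14_sfo_conv {F : Type*} [Field F] [Fintype F] [DecidableEq F]
    (N : F → ℕ) (φ : F × F → F) (e : ℤ) (T : ℕ)
    (he1 : ∀ t : F, t ≠ 0 →
      ((Finset.univ.filter (fun p : F × F => φ p = t)).card : ℤ) = (Fintype.card F : ℤ) - e)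
    (he0 : ((Finset.univ.filter (fun p : F × F => φ p = 0)).card : ℤ) =
      (Fintype.card F : ℤ) + ((Fintype.card F : ℤ) - 1) * e)
    (hT : ∑ s : F, N s = T) (c : F) :
    ((∑ p : F × F, N (c - φ p) : ℕ) : ℤ) =
      ((Fintype.card F : ℤ) - e) * (T : ℤ) + (Fintype.card F : ℤ) * e * (N c : ℤ) := by
  have h2 : ∑ p : F × F, N (c - φ p) =
      ∑ t : F, (Finset.univ.filter (fun p : F × F => φ p = t)).card * N (c - t) := by
    rw [← Finset.sum_fiberwise Finset.univ φ (fun p => N (c - φ p))]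
    refine Finset.sum_congr rfl (fun t _ => ?_)
    rw [Finset.sum_congr rfl (g := fun _ => N (c - t))
      (fun p hp => by rw [(Finset.mem_filter.mp hp).2])]
    rw [Finset.sum_const, smul_eq_mul]
  have h3 : ∑ t : F, N (c - t) = T := by
    rw [← hT]
    exact Equiv.sum_comp (Equiv.subLeft c) N
  have hM : ∀ t : F, ((Finset.univ.filter (fun p : F × F => φ p = t)).card : ℤ) =
      ((Fintype.card F : ℤ) - e) + if t = 0 then (Fintype.card F : ℤ) * e else 0 := by
    intro t
    by_cases ht : t = 0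
    · subst ht
      rw [if_pos rfl, he0]
      ring
    · rw [if_neg ht, he1 t ht]
      ring
  rw [h2]
  push_cast
  rw [Finset.sum_congr rfl (fun t _ => by rw [hM t])]
  simp only [add_mul, Finset.sum_add_distrib, ite_mul, zero_mul, Finset.sum_ite_eq',
    Finset.mem_univ, if_true, sub_zero]
  rw [← Finset.mul_sum]
  have h3' : (∑ t : F, (N (c - t) : ℤ)) = (T : ℤ) := by exact_mod_cast h3
  rw [h3']

/-- the two-variable recursion `N_c(m+2) = (q - e) q^m + q e N_c(m)`, for all `c` -/
theorem helper14_sfo_diag_step {F : Type*} [Field F] [Fintype F] [DecidableEq F]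
    (m : ℕ) (d : Fin (m + 2) → F) (e : ℤ)
    (he1 : ∀ t : F, t ≠ 0 →
      ((Finset.univ.filter
        (fun p : F × F => d 0 * p.1 ^ 2 + d (Fin.succ 0) * p.2 ^ 2 = t)).card : ℤ) =
          (Fintype.card F : ℤ) - e)
    (he0 : ((Finset.univ.filter
        (fun p : F × F => d 0 * p.1 ^ 2 + d (Fin.succ 0) * p.2 ^ 2 = 0)).card : ℤ) =
        (Fintype.card F : ℤ) + ((Fintype.card F : ℤ) - 1) * e) (c : F) :
    ((Finset.univ.filter (fun x : Fin (m + 2) → F => ∑ j, d j * x j ^ 2 = c)).card : ℤ) =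
      ((Fintype.card F : ℤ) - e) * (Fintype.card F : ℤ) ^ m +
        (Fintype.card F : ℤ) * e *
          ((Finset.univ.filter
            (fun x : Fin m → F => ∑ j, d j.succ.succ * x j ^ 2 = c)).card : ℤ) := by
  have h1 : (Finset.univ.filter (fun x : Fin (m + 2) → F => ∑ j, d j * x j ^ 2 = c)).card =
      ∑ p : F × F, (fun s : F => (Finset.univ.filter
        (fun x : Fin m → F => ∑ j, d j.succ.succ * x j ^ 2 = s)).card)
          (c - (fun p : F × F => d 0 * p.1 ^ 2 + d (Fin.succ 0) * p.2 ^ 2) p) := by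
    rw [helper14_sfo_peel (m + 1) d c, Fintype.sum_prod_type]
    refine Finset.sum_congr rfl (fun y _ => ?_)
    rw [helper14_sfo_peel m (fun j => d j.succ) (c - d 0 * y ^ 2)]
    refine Finset.sum_congr rfl (fun z _ => ?_)
    simp only [sub_sub]
  have h2 := helper14_sfo_conv (fun s : F => (Finset.univ.filter
        (fun x : Fin m → F => ∑ j, d j.succ.succ * x j ^ 2 = s)).card)
      (fun p : F × F => d 0 * p.1 ^ 2 + d (Fin.succ 0) * p.2 ^ 2) e (Fintype.card F ^ m)
      he1 he0 (helper14_sfo_total m (fun j => d j.succ.succ)) c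
  rw [h1, h2]
  push_cast
  ring

/-- general form of CNTDE (core), for `Fin m` with `m = 2 * k` -/
theorem helper14_sfo_count_diag_even_gen {F : Type*} [Field F] [Fintype F] [DecidableEq F]
    (hBIN : ∀ a b : F, a ≠ 0 → b ≠ 0 → ∃ e : ℤ, (e = 1 ∨ e = -1) ∧
      (∀ t : F, t ≠ 0 →
        ((Finset.univ.filter (fun p : F × F => a * p.1 ^ 2 + b * p.2 ^ 2 = t)).card : ℤ) =
          (Fintype.card F : ℤ) - e) ∧
      ((Finset.univ.filter (fun p : F × F => a * p.1 ^ 2 + b * p.2 ^ 2 = 0)).card : ℤ) =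
        (Fintype.card F : ℤ) + ((Fintype.card F : ℤ) - 1) * e)
    (k : ℕ) : ∀ (m : ℕ) (_ : m = 2 * k) (d : Fin m → F) (_ : ∀ j, d j ≠ 0),
    ∃ ε : ℤ, (ε = 1 ∨ ε = -1) ∧ ∀ c : F, c ≠ 0 →
      ((Finset.univ.filter (fun x : Fin m → F => ∑ j, d j * x j ^ 2 = c)).card : ℤ) =
        (Fintype.card F : ℤ) ^ (k - 1) * ((Fintype.card F : ℤ) ^ k - ε) := by
  induction k with
  | zero =>
    intro m hm d hd
    obtain rfl : m = 0 := by omega
    refine ⟨1, Or.inl rfl, fun c hc => ?_⟩
    have h0 : (Finset.univ.filter (fun x : Fin 0 → F => ∑ j, d j * x j ^ 2 = c)) = ∅ := by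
      rw [Finset.filter_eq_empty_iff]
      intro x _ h
      exact hc (by rw [← h]; simp)
    rw [h0]
    simp
  | succ k ih =>
    intro m hm d hd
    obtain ⟨m', rfl⟩ : ∃ m', m = m' + 2 := ⟨2 * k, by omega⟩
    have hm' : m' = 2 * k := by omega
    obtain ⟨e, he, he1, he0⟩ := hBIN (d 0) (d (Fin.succ 0)) (hd _) (hd _)
    have hstep := helper14_sfo_diag_step m' d e he1 he0
    rcases Nat.eq_zero_or_pos k with hk | hk
    · subst hk
      obtain rfl : m' = 0 := by omega
      refine ⟨e, he, fun c hc => ?_⟩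
      rw [hstep c]
      have h0 : (Finset.univ.filter
          (fun x : Fin 0 → F => ∑ j, d j.succ.succ * x j ^ 2 = c)) = ∅ := by
        rw [Finset.filter_eq_empty_iff]
        intro x _ h
        exact hc (by rw [← h]; simp)
      rw [h0]
      simp
    · obtain ⟨ε, hε, hcount⟩ := ih m' hm' (fun j => d j.succ.succ) (fun j => hd _)
      refine ⟨e * ε, ?_, fun c hc => ?_⟩
      · rcases he with rfl | rfl <;> rcases hε with rfl | rfl <;> simp
      · rw [hstep c, hcount c hc]
        obtain ⟨k', rfl⟩ : ∃ k', k = k' + 1 := ⟨k - 1, by omega⟩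
        subst hm'
        simp only [Nat.add_sub_cancel]
        ring

/-- CNTDE with BINCNT as a hypothesis -/
theorem helper14_sfo_count_diag_even_core {F : Type*} [Field F] [Fintype F] [DecidableEq F]
    (hBIN : ∀ a b : F, a ≠ 0 → b ≠ 0 → ∃ e : ℤ, (e = 1 ∨ e = -1) ∧
      (∀ t : F, t ≠ 0 →
        ((Finset.univ.filter (fun p : F × F => a * p.1 ^ 2 + b * p.2 ^ 2 = t)).card : ℤ) =
          (Fintype.card F : ℤ) - e) ∧
      ((Finset.univ.filter (fun p : F × F => a * p.1 ^ 2 + b * p.2 ^ 2 = 0)).card : ℤ) =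
        (Fintype.card F : ℤ) + ((Fintype.card F : ℤ) - 1) * e)
    (k : ℕ) (d : Fin (2 * k) → F) (hd : ∀ j, d j ≠ 0) :
    ∃ ε : ℤ, (ε = 1 ∨ ε = -1) ∧ ∀ c : F, c ≠ 0 →
      ((Finset.univ.filter (fun x : Fin (2 * k) → F => ∑ j, d j * x j ^ 2 = c)).card : ℤ) =
        (Fintype.card F : ℤ) ^ (k - 1) * ((Fintype.card F : ℤ) ^ k - ε) :=
  helper14_sfo_count_diag_even_gen hBIN k (2 * k) rfl d hd

end Cfsg.Agent.Lib.helper24
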