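import Mathlib
import Cfsg.Agent.Lib.helper24.SfoDefs

/-!
# S5981 piece OTRV: for `r = p` the transvection `1 + E₁₂` is a derangement for the
similarity group of a nondegenerate quadratic form (`q` odd).
-/

set_option autoImplicit false

namespace Cfsg.Agent.Lib.helper24

open Module Matrix Cfsg.Geo

/-- no isometry of a nondegenerate quadratic form (char ≠ 2) has the shape `v ↦ v + φ(v) a`
with `φ` additive, `φ(a) = 0`, `a ≠ 0`, `φ ≠ 0`. -/
theorem helper14_sfo_trv_core {F : Type*} [Field F] {n : ℕ} (h2 : (2 : F) ≠ 0)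
    (Q : (Fin n → F) → F) (hQ : IsNondegenerateQuadraticForm Q)
    (a v₁ : Fin n → F) (φ : (Fin n → F) → F) (ha : a ≠ 0)
    (hφadd : ∀ u v, φ (u + v) = φ u + φ v) (hφa : φ a = 0) (hφ1 : φ v₁ = 1)
    (h : ∀ v, Q (v + φ v • a) = Q v) : False := by
  have hexp : ∀ (v : Fin n → F) (t : F),
      Q (v + t • a) = Q v + t ^ 2 * Q a + t * QuadraticMap.polar Q v a := by
    intro v t
    have h1 : QuadraticMap.polar Q v (t • a) = t * QuadraticMap.polar Q v a :=
      hQ.polar_bilinear.smul_right t v a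
    have h3 : Q (t • a) = t ^ 2 * Q a := hQ.smul t a
    have h4 : QuadraticMap.polar Q v (t • a) = Q (v + t • a) - Q v - Q (t • a) := rfl
    rw [h1, h3] at h4
    linear_combination -h4
  have key : ∀ v, φ v * (φ v * Q a + QuadraticMap.polar Q v a) = 0 := by
    intro v
    have h5 := h v
    rw [hexp] at h5
    linear_combination h5
  have hv₁ : Q a + QuadraticMap.polar Q v₁ a = 0 := by
    have h5 := key v₁
    rw [hφ1] at h5
    linear_combination h5
  have hv₁a : Q a + QuadraticMap.polar Q (v₁ + a) a = 0 := by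
    have h5 := key (v₁ + a)
    rw [hφadd, hφa, hφ1] at h5
    linear_combination h5
  have hpaa : QuadraticMap.polar Q a a = 0 := by
    have h5 := hQ.polar_bilinear.add_left v₁ a a
    rw [h5] at hv₁a
    linear_combination hv₁a - hv₁
  have hQa : Q a = 0 := by
    have h5 : QuadraticMap.polar Q a a = Q (a + a) - Q a - Q a := rfl
    have h6 : a + a = (2 : F) • a := (two_smul F a).symm
    rw [h6, hQ.smul] at h5
    have h7 : 2 * Q a = 0 := by linear_combination hpaa - h5
    exact (mul_eq_zero.mp h7).resolve_left h2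
  have hB : ∀ u, QuadraticMap.polar Q u a = 0 := by
    intro u
    by_cases hu : φ u = 0
    · have h5 := key (v₁ + u)
      rw [hφadd, hu, hφ1, hQ.polar_bilinear.add_left] at h5
      linear_combination h5 - hv₁
    · have h5 := key u
      rcases mul_eq_zero.mp h5 with h7 | h7
      · exact absurd h7 hu
      · rw [hQa] at h7
        linear_combination h7
  obtain ⟨x, hx⟩ := (hQ.nondegenerate a ha).1
  exact hx (hB x)

/-- OTRV -/
theorem sfo_nec_char {F : Type*} [Field F] [Fintype F] {n : ℕ} (hn : 2 ≤ n) (h2 : (2 : F) ≠ 0)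
    (Q : (Fin n → F) → F) (hQ : IsNondegenerateQuadraticForm Q) (r : ℕ) [Fact r.Prime]
    (hrF : (r : F) = 0) : SfoDerang Q r := by
  have hr : r.Prime := Fact.out
  have hchar : CharP F r := (CharP.charP_iff_prime_eq_zero hr).2 hrF
  obtain ⟨i0, i1, hne⟩ : ∃ i0 i1 : Fin n, i0 ≠ i1 :=
    ⟨⟨0, by omega⟩, ⟨1, by omega⟩, by simp [Fin.ext_iff]⟩
  have hpow : ∀ k : ℕ, (transvection i0 i1 (1 : F)) ^ k = transvection i0 i1 (k : F) := by
    intro k
    induction k with
    | zero => simp
    | succ k ih => rw [pow_succ, ih, transvection_mul_transvection_same i0 i1 hne, Nat.cast_succ]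
  refine ⟨transvection i0 i1 (1 : F), det_transvection_of_ne i0 i1 hne 1, ⟨1, ?_⟩, ?_, ?_⟩
  · rw [hpow, hrF, transvection_zero, one_smul]
  · intro z hz
    have h5 := congrFun (congrFun hz i0) i1
    simp [transvection, hne, Matrix.single] at h5
  · rintro ⟨P, g, hP, ⟨c, hc⟩, hxP⟩
    have hPu : IsUnit P.det := isUnit_iff_ne_zero.mpr hP
    have hPinv : P⁻¹ * P = 1 := Matrix.nonsing_inv_mul P hPu
    have hPinv' : P * P⁻¹ = 1 := Matrix.mul_nonsing_inv P hPu
    -- powers
    have hxk : ∀ k : ℕ, (transvection i0 i1 (1 : F)) ^ k * P =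
        P * (g : Matrix (Fin n) (Fin n) F) ^ k := by
      intro k
      induction k with
      | zero => simp
      | succ k ih =>
        rw [pow_succ, Matrix.mul_assoc, hxP, ← Matrix.mul_assoc, ih, Matrix.mul_assoc, ← pow_succ]
    have hGr : (g : Matrix (Fin n) (Fin n) F) ^ r = 1 := by
      have h5 := hxk r
      rw [hpow, hrF, transvection_zero, Matrix.one_mul] at h5
      calc (g : Matrix (Fin n) (Fin n) F) ^ r
          = (P⁻¹ * P) * (g : Matrix (Fin n) (Fin n) F) ^ r := by rw [hPinv, Matrix.one_mul]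
        _ = P⁻¹ * (P * (g : Matrix (Fin n) (Fin n) F) ^ r) := Matrix.mul_assoc _ _ _
        _ = 1 := by rw [← h5, hPinv]
    have hQk : ∀ (k : ℕ) (v : Fin n → F),
        Q ((g : Matrix (Fin n) (Fin n) F) ^ k *ᵥ v) = (c : F) ^ k * Q v := by
      intro k
      induction k with
      | zero => intro v; simp
      | succ k ih =>
        intro v
        rw [pow_succ, ← Matrix.mulVec_mulVec, ih, hc, pow_succ, mul_assoc]
    -- a vector with `Q v ≠ 0`
    have hex : ∃ v, Q v ≠ 0 := by
      by_contra hcon0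
      have hcon : ∀ v, Q v = 0 := fun v => by_contra fun h5 => hcon0 ⟨v, h5⟩
      have he : (Pi.single i0 (1 : F) : Fin n → F) ≠ 0 := by
        intro h5
        have h6 := congrFun h5 i0
        simp at h6
      obtain ⟨x, hx⟩ := (hQ.nondegenerate _ he).1
      apply hx
      show Q (x + Pi.single i0 (1 : F)) - Q x - Q (Pi.single i0 (1 : F)) = 0
      rw [hcon, hcon, hcon]
      ring
    obtain ⟨v₀, hv₀⟩ := hex
    have hcr : (c : F) ^ r = 1 := by
      have h5 := hQk r v₀
      rw [hGr, Matrix.one_mulVec] at h5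
      have h6 : ((c : F) ^ r - 1) * Q v₀ = 0 := by linear_combination -h5
      rcases mul_eq_zero.mp h6 with h7 | h7
      · exact sub_eq_zero.mp h7
      · exact absurd h7 hv₀
    have hc1 : (c : F) = 1 := by
      apply frobenius_inj F r
      rw [frobenius_def, frobenius_def, hcr, one_pow]
    -- the shape of `g`
    have hG : ∀ v : Fin n → F, (g : Matrix (Fin n) (Fin n) F) *ᵥ v =
        v + ((P *ᵥ v) i1) • (P⁻¹ *ᵥ (Pi.single i0 (1 : F) : Fin n → F)) := by
      intro v
      have h5 : (g : Matrix (Fin n) (Fin n) F) = P⁻¹ * (transvection i0 i1 (1 : F) * P) := by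
        rw [hxP, ← Matrix.mul_assoc, hPinv, Matrix.one_mul]
      rw [h5, ← Matrix.mulVec_mulVec, ← Matrix.mulVec_mulVec, transvection, Matrix.add_mulVec,
        Matrix.one_mulVec, Matrix.single_mulVec_eq, Matrix.mulVec_add, Matrix.mulVec_smul,
        Matrix.mulVec_mulVec, hPinv, Matrix.one_mulVec, one_mul]
    refine helper14_sfo_trv_core h2 Q hQ (P⁻¹ *ᵥ (Pi.single i0 (1 : F) : Fin n → F))
      (P⁻¹ *ᵥ (Pi.single i1 (1 : F) : Fin n → F)) (fun v => (P *ᵥ v) i1) ?_ ?_ ?_ ?_ ?_
    · intro h5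
      have h6 : P *ᵥ (P⁻¹ *ᵥ (Pi.single i0 (1 : F) : Fin n → F)) = 0 := by
        rw [h5, Matrix.mulVec_zero]
      rw [Matrix.mulVec_mulVec, hPinv', Matrix.one_mulVec] at h6
      have h7 := congrFun h6 i0
      simp at h7
    · intro u v
      rw [Matrix.mulVec_add, Pi.add_apply]
    · show (P *ᵥ (P⁻¹ *ᵥ (Pi.single i0 (1 : F) : Fin n → F))) i1 = 0
      rw [Matrix.mulVec_mulVec, hPinv', Matrix.one_mulVec]
      simp [hne.symm]
    · show (P *ᵥ (P⁻¹ *ᵥ (Pi.single i1 (1 : F) : Fin n → F))) i1 = 1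
      rw [Matrix.mulVec_mulVec, hPinv', Matrix.one_mulVec]
      simp
    · intro v
      have h5 := hc v
      rw [hG v, hc1, one_mul] at h5
      exact h5

end Cfsg.Agent.Lib.helper24
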