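import Mathlib
import Cfsg.Agent.Lib.helper24.SfuDefs

/-!
# S5982 piece ORDT (core form): the isometry group is transitive on norm-1 vectors

`h14_sfu_isom_transitive_core` is the statement of `sfu_isom_transitive` with the piece EXT
(`sfu_onb_extend`) taken as a hypothesis in its verbatim shape.
-/

set_option autoImplicit false

namespace Cfsg.Agent.Lib.helper24

open Module Matrix Cfsg.Geo

/-- the linear functional `x ↦ f x y` of a form linear in its first argument -/
noncomputable def h14_sfuLeft {F : Type*} [Field F] {n : ℕ} (q₀ : ℕ)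
    (f : (Fin n → F) → (Fin n → F) → F) (hf : IsUnitaryFormPow q₀ f) (y : Fin n → F) :
    (Fin n → F) →ₗ[F] F where
  toFun x := f x y
  map_add' x x' := hf.add_left x x' y
  map_smul' c x := by simpa using hf.smul_left c x y

theorem h14_sfuLeft_apply {F : Type*} [Field F] {n : ℕ} (q₀ : ℕ)
    (f : (Fin n → F) → (Fin n → F) → F) (hf : IsUnitaryFormPow q₀ f) (y x : Fin n → F) :
    h14_sfuLeft q₀ f hf y x = f x y := rfl

/-- a linear map carrying one orthonormal basis to another preserves the form -/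
theorem h14_sfu_equiv_isom {F : Type*} [Field F] {n : ℕ} (q₀ : ℕ)
    (f : (Fin n → F) → (Fin n → F) → F) (hf : IsUnitaryFormPow q₀ f)
    (b b' : Basis (Fin n) F (Fin n → F))
    (hb : ∀ i j, f (b i) (b j) = if i = j then 1 else 0)
    (hb' : ∀ i j, f (b' i) (b' j) = if i = j then 1 else 0)
    (φ : (Fin n → F) →ₗ[F] (Fin n → F)) (hφ : ∀ i, φ (b i) = b' i) :
    ∀ u v, f (φ u) (φ v) = f u v := by
  have step2 : ∀ (j : Fin n) (x : Fin n → F), f (φ x) (b' j) = f x (b j) := by
    intro j x
    have h : (h14_sfuLeft q₀ f hf (b' j)).comp φ = h14_sfuLeft q₀ f hf (b j) := by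
      apply b.ext
      intro i
      simp only [LinearMap.comp_apply, h14_sfuLeft_apply, hφ, hb, hb']
    have := congrArg (fun L => L x) h
    simpa [h14_sfuLeft_apply] using this
  intro u v
  have h : (h14_sfuLeft q₀ f hf (φ v)).comp φ = h14_sfuLeft q₀ f hf v := by
    apply b.ext
    intro j
    simp only [LinearMap.comp_apply, h14_sfuLeft_apply, hφ]
    rw [hf.herm (b' j) (φ v), step2 j v, ← hf.herm (b j) v]
  have := congrArg (fun L => L u) h
  simpa [h14_sfuLeft_apply] using this

/-- ORDT with EXT as a hypothesis -/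
theorem h14_sfu_isom_transitive_core {F : Type*} [Field F] [Fintype F] (q₀ : ℕ)
    (hEXT : ∀ {m : ℕ} (f : (Fin (m + 1) → F) → (Fin (m + 1) → F) → F),
      IsUnitaryFormPow q₀ f → ∀ v : Fin (m + 1) → F, f v v = 1 →
      ∃ e : Fin (m + 1) → (Fin (m + 1) → F), LinearIndependent F e ∧
        (∀ i j, f (e i) (e j) = if i = j then 1 else 0) ∧ e (Fin.last m) = v)
    {n : ℕ} (f : (Fin n → F) → (Fin n → F) → F)
    (hf : IsUnitaryFormPow q₀ f) (v w : Fin n → F) (hv : f v v = 1) (hw : f w w = 1) :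
    ∃ g ∈ sfuIsom f, (g : Matrix (Fin n) (Fin n) F) *ᵥ v = w := by
  rcases n with _ | m
  · exfalso
    have hv0 : v = 0 := Subsingleton.elim _ _
    have h0 : f (0 : Fin 0 → F) 0 = 0 := by
      have := hf.smul_left 0 (0 : Fin 0 → F) 0
      simpa using this
    rw [hv0, h0] at hv
    exact zero_ne_one hv
  · obtain ⟨e, hli, he, hev⟩ := hEXT f hf v hv
    obtain ⟨e', hli', he', hew⟩ := hEXT f hf w hw
    let b : Basis (Fin (m + 1)) F (Fin (m + 1) → F) :=
      basisOfLinearIndependentOfCardEqFinrank hli (by simp)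
    let b' : Basis (Fin (m + 1)) F (Fin (m + 1) → F) :=
      basisOfLinearIndependentOfCardEqFinrank hli' (by simp)
    have hbe : ∀ i, b i = e i := fun i => by
      simp [b, coe_basisOfLinearIndependentOfCardEqFinrank]
    have hbe' : ∀ i, b' i = e' i := fun i => by
      simp [b', coe_basisOfLinearIndependentOfCardEqFinrank]
    let φ : (Fin (m + 1) → F) ≃ₗ[F] (Fin (m + 1) → F) := b.equiv b' (Equiv.refl _)
    have hφ : ∀ i, φ (b i) = b' i := fun i => by simp [φ]
    have hφ' : ∀ i, (φ : (Fin (m + 1) → F) →ₗ[F] (Fin (m + 1) → F)) (b i) = b' i := hφ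
    have hiso := h14_sfu_equiv_isom q₀ f hf b b'
      (fun i j => by rw [hbe, hbe, he]) (fun i j => by rw [hbe', hbe', he'])
      (φ : (Fin (m + 1) → F) →ₗ[F] (Fin (m + 1) → F)) hφ'
    let M : Matrix (Fin (m + 1)) (Fin (m + 1)) F :=
      LinearMap.toMatrix' (φ : (Fin (m + 1) → F) →ₗ[F] (Fin (m + 1) → F))
    let M' : Matrix (Fin (m + 1)) (Fin (m + 1)) F :=
      LinearMap.toMatrix' (φ.symm : (Fin (m + 1) → F) →ₗ[F] (Fin (m + 1) → F))
    have h1 : M * M' = 1 := by
      simp only [M, M']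
      rw [← LinearMap.toMatrix'_comp]
      have : (φ : (Fin (m + 1) → F) →ₗ[F] (Fin (m + 1) → F)) ∘ₗ
          (φ.symm : (Fin (m + 1) → F) →ₗ[F] (Fin (m + 1) → F)) = LinearMap.id := by
        ext x : 1
        simp
      rw [this, LinearMap.toMatrix'_id]
    have h2 : M' * M = 1 := by
      simp only [M, M']
      rw [← LinearMap.toMatrix'_comp]
      have : (φ.symm : (Fin (m + 1) → F) →ₗ[F] (Fin (m + 1) → F)) ∘ₗ
          (φ : (Fin (m + 1) → F) →ₗ[F] (Fin (m + 1) → F)) = LinearMap.id := by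
        ext x : 1
        simp
      rw [this, LinearMap.toMatrix'_id]
    have hM : ∀ u, M *ᵥ u = φ u := fun u => by
      simp only [M]
      rw [LinearMap.toMatrix'_mulVec]
      rfl
    refine ⟨⟨M, M', h1, h2⟩, ?_, ?_⟩
    · intro u x
      show f (M *ᵥ u) (M *ᵥ x) = f u x
      rw [hM, hM]
      exact hiso u x
    · show M *ᵥ v = w
      rw [hM, ← hev, ← hew, ← hbe, ← hbe']
      exact hφ _

end Cfsg.Agent.Lib.helper24
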