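import Mathlib
import Cfsg.Agent.Lib.helper24.SfuDefs
import Cfsg.Agent.Lib.helper32.SfuEXT
import Cfsg.Agent.Lib.helper14.SfuORDTcore

/-!
# S5982 piece ORDT (racing copy): `h14_sfu_isom_transitive`, verbatim skeleton statement of
`sfu_isom_transitive` under a prefixed name.
-/

set_option autoImplicit false

namespace Cfsg.Agent.Lib.helper24

open Module Matrix Cfsg.Geo

/-- ORDT -/
theorem h14_sfu_isom_transitive {F : Type*} [Field F] [Fintype F] {n : ℕ} (q₀ : ℕ)
    (hcard : Fintype.card F = q₀ ^ 2) (f : (Fin n → F) → (Fin n → F) → F)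
    (hf : IsUnitaryFormPow q₀ f) (v w : Fin n → F) (hv : f v v = 1) (hw : f w w = 1) :
    ∃ g ∈ sfuIsom f, (g : Matrix (Fin n) (Fin n) F) *ᵥ v = w :=
  h14_sfu_isom_transitive_core q₀
    (fun {m} f' hf' v' hv' => sfu_onb_extend q₀ hcard f' hf' v' hv') f hf v w hv hw

end Cfsg.Agent.Lib.helper24
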