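import Mathlib
import Cfsg.Agent.Lib.helper14.FF6
import Cfsg.Agent.Lib.helper14.FFBridge
import Cfsg.Agent.Lib.helper27.Radical

/-!
helper14: weak best offenders (abelian subgroups `A` maximizing `|B| |C_V(B)|` over `B ≤ A`, with
no assumption that `A / C_A(V)` is elementary abelian) in the solvable failure-of-factorization
setting act quadratically, hence are best offenders in the strict sense.
-/

set_option autoImplicit false
open Cfsg

namespace Cfsg.Agent.Lib.helper14

open scoped commutatorElement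

section WeakOff

variable {G : Type*} [Group G]

/-- in a group of order two, two non-identity elements agree -/
theorem eq_of_ne_one_of_card_two {Z : Subgroup G} (hZ : Nat.card Z = 2) {x y : G} (hx : x ∈ Z)
    (hy : y ∈ Z) (hx1 : x ≠ 1) (hy1 : y ≠ 1) : x = y := by
  obtain ⟨b, -, hbu⟩ := (Nat.card_eq_two_iff' (1 : Z)).mp hZ
  have h1 := hbu ⟨x, hx⟩ (fun h => hx1 (congrArg Subtype.val h))
  have h2 := hbu ⟨y, hy⟩ (fun h => hy1 (congrArg Subtype.val h))
  exact congrArg Subtype.val (h1.trans h2.symm)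

/-- a normalized subgroup of order 2 is centralized -/
theorem mem_centralizer_of_card_two {Z : Subgroup G} (hZ : Nat.card Z = 2) {a : G}
    (ha : a ∈ Subgroup.normalizer (Z : Set G)) : a ∈ Subgroup.centralizer (Z : Set G) := by
  rw [Subgroup.mem_centralizer_iff]
  intro z hz
  by_cases hz1 : z = 1
  · subst hz1; simp
  · have h1 : a * z * a⁻¹ ∈ Z := (Subgroup.mem_normalizer_iff.mp ha z).mp hz
    have h2 : a * z * a⁻¹ ≠ 1 := by
      intro h
      apply hz1
      have : z = a⁻¹ * (a * z * a⁻¹) * a := by group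
      rw [this, h]; group
    have h5 : a * z * a⁻¹ = z := eq_of_ne_one_of_card_two hZ h1 hz h2 hz1
    calc z * a = (a * z * a⁻¹) * a := by rw [h5]
      _ = a * z := by group

theorem mem_centralizer_zpowers {t x : G} :
    x ∈ Subgroup.centralizer ((Subgroup.zpowers t : Subgroup G) : Set G) ↔ t * x = x * t := by
  constructor
  · intro h
    exact Subgroup.mem_centralizer_iff.mp h t (Subgroup.mem_zpowers t)
  · intro h
    rw [Subgroup.mem_centralizer_iff]
    intro y hy
    obtain ⟨k, rfl⟩ := Subgroup.mem_zpowers_iff.mp hy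
    exact (Commute.zpow_left (show Commute t x from h) k).eq

/-- automorphisms of a four-group commuting with a non-trivially acting involution -/
theorem four_group_dichotomy [Finite G] {W : Subgroup G} (hW4 : Nat.card W = 4)
    (hWc : ∀ x ∈ W, ∀ y ∈ W, x * y = y * x) (hW2 : ∀ x ∈ W, x ^ 2 = 1) {t a : G}
    (ht : t ∈ Subgroup.normalizer (W : Set G)) (ha : a ∈ Subgroup.normalizer (W : Set G))
    (hta : a * t = t * a) (ht2 : t ^ 2 = 1) (htW : t ∉ Subgroup.centralizer (W : Set G)) :
    a ∈ Subgroup.centralizer (W : Set G) ∨ t⁻¹ * a ∈ Subgroup.centralizer (W : Set G) := by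
  rw [Subgroup.mem_centralizer_iff] at htW
  push Not at htW
  obtain ⟨u, hu, hut⟩ := htW
  obtain ⟨u', hu'⟩ : ∃ u', u' = t * u * t⁻¹ := ⟨_, rfl⟩
  have hu'W : u' ∈ W := by rw [hu']; exact (Subgroup.mem_normalizer_iff.mp ht u).mp hu
  have hne : u' ≠ u := by
    intro h
    apply hut
    calc u * t = u' * t := by rw [h]
      _ = t * u := by rw [hu']; group
  have hu1 : u ≠ 1 := by
    rintro rfl
    apply hne; rw [hu']; group
  have hu'1 : u' ≠ 1 := by
    intro h
    apply hu1
    have : u = t⁻¹ * u' * t := by rw [hu']; group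
    rw [this, h]; group
  have huu : u * u = 1 := by rw [← pow_two]; exact hW2 u hu
  have hu'u' : u' * u' = 1 := by rw [← pow_two]; exact hW2 u' hu'W
  have h1 : u * u' ≠ 1 := by
    intro h
    apply hne
    calc u' = u * (u * u') := by rw [← mul_assoc, huu, one_mul]
      _ = u := by rw [h, mul_one]
  have h2 : u * u' ≠ u := fun h => hu'1 (by simpa using h)
  have h3 : u * u' ≠ u' := fun h => hu1 (by simpa using h)
  -- `W = {1, u, u', u u'}`
  have hmem : ∀ x ∈ W, x = 1 ∨ x = u ∨ x = u' ∨ x = u * u' := by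
    have hsub : ({1, u, u', u * u'} : Set G) ⊆ (W : Set G) := by
      intro x hx
      simp only [Set.mem_insert_iff, Set.mem_singleton_iff] at hx
      rcases hx with rfl | rfl | rfl | rfl
      · exact W.one_mem
      · exact hu
      · exact hu'W
      · exact W.mul_mem hu hu'W
    have hcard : ({1, u, u', u * u'} : Set G).ncard = 4 := by
      rw [Set.ncard_insert_of_notMem, Set.ncard_insert_of_notMem, Set.ncard_insert_of_notMem,
        Set.ncard_singleton]
      · simp only [Set.mem_singleton_iff]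
        exact fun h => h3 h.symm
      · simp only [Set.mem_insert_iff, Set.mem_singleton_iff, not_or]
        exact ⟨fun h => hne h.symm, fun h => h2 h.symm⟩
      · simp only [Set.mem_insert_iff, Set.mem_singleton_iff, not_or]
        exact ⟨fun h => hu1 h.symm, fun h => hu'1 h.symm, fun h => h1 h.symm⟩
    have heq : ({1, u, u', u * u'} : Set G) = (W : Set G) := by
      apply Set.eq_of_subset_of_ncard_le hsub
      rw [hcard]
      have : (W : Set G).ncard = Nat.card W := (Nat.card_coe_set_eq (W : Set G)).symm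
      rw [this, hW4]
    intro x hx
    have : x ∈ ({1, u, u', u * u'} : Set G) := by rw [heq]; exact hx
    simpa using this
  have hau : a * u * a⁻¹ ∈ W := (Subgroup.mem_normalizer_iff.mp ha u).mp hu
  have hau' : a * u' * a⁻¹ = t * (a * u * a⁻¹) * t⁻¹ := by
    rw [hu']
    calc a * (t * u * t⁻¹) * a⁻¹ = (a * t) * u * (a * t)⁻¹ := by group
      _ = (t * a) * u * (t * a)⁻¹ := by rw [hta]
      _ = t * (a * u * a⁻¹) * t⁻¹ := by group
  have hcent : ∀ b : G, b * u = u * b → b * u' = u' * b →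
      b ∈ Subgroup.centralizer (W : Set G) := by
    intro b e1 e2
    rw [Subgroup.mem_centralizer_iff]
    intro x hx
    rcases hmem x hx with rfl | rfl | rfl | rfl
    · simp
    · exact e1.symm
    · exact e2.symm
    · calc u * u' * b = u * (u' * b) := by group
        _ = u * (b * u') := by rw [e2]
        _ = (u * b) * u' := by group
        _ = (b * u) * u' := by rw [e1]
        _ = b * (u * u') := by group
  rcases hmem _ hau with h | h | h | h
  · exfalso; apply hu1
    have : u = a⁻¹ * (a * u * a⁻¹) * a := by group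
    rw [this, h]; group
  · left
    apply hcent
    · calc a * u = (a * u * a⁻¹) * a := by group
        _ = u * a := by rw [h]
    · have h' : a * u' * a⁻¹ = u' := by rw [hau', h, hu']
      calc a * u' = (a * u' * a⁻¹) * a := by group
        _ = u' * a := by rw [h']
  · right
    have hb1 : (t⁻¹ * a) * u * (t⁻¹ * a)⁻¹ = u := by
      calc (t⁻¹ * a) * u * (t⁻¹ * a)⁻¹ = t⁻¹ * (a * u * a⁻¹) * t := by group
        _ = t⁻¹ * u' * t := by rw [h]
        _ = u := by rw [hu']; group
    have hb2 : (t⁻¹ * a) * u' * (t⁻¹ * a)⁻¹ = u' := by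
      calc (t⁻¹ * a) * u' * (t⁻¹ * a)⁻¹ = t⁻¹ * (a * u' * a⁻¹) * t := by group
        _ = t⁻¹ * (t * (a * u * a⁻¹) * t⁻¹) * t := by rw [hau']
        _ = a * u * a⁻¹ := by group
        _ = u' := h
    apply hcent
    · calc t⁻¹ * a * u = ((t⁻¹ * a) * u * (t⁻¹ * a)⁻¹) * (t⁻¹ * a) := by group
        _ = u * (t⁻¹ * a) := by rw [hb1]
    · calc t⁻¹ * a * u' = ((t⁻¹ * a) * u' * (t⁻¹ * a)⁻¹) * (t⁻¹ * a) := by group
        _ = u' * (t⁻¹ * a) := by rw [hb2]
  · exfalso
    have e1 : t * u' * t⁻¹ = u := by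
      rw [hu']
      calc t * (t * u * t⁻¹) * t⁻¹ = t ^ 2 * u * (t ^ 2)⁻¹ := by rw [pow_two]; group
        _ = u := by rw [ht2]; group
    have e2 : a * u' * a⁻¹ = u' * u := by
      rw [hau', h]
      calc t * (u * u') * t⁻¹ = (t * u * t⁻¹) * (t * u' * t⁻¹) := by group
        _ = u' * u := by rw [e1, ← hu']
    have e3 : a * u' * a⁻¹ = a * u * a⁻¹ := by rw [e2, h, hWc u' hu'W u hu]
    apply hne
    have : u' = a⁻¹ * (a * u' * a⁻¹) * a := by group
    rw [this, e3]; group

/-- `C_U(t)` has index two in `U ≤ V` when `[V, t]` has order two and `t` moves some element of `U` -/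
theorem card_fix_step [Finite G] {V U : Subgroup G} (hVc : ∀ x ∈ V, ∀ y ∈ V, x * y = y * x)
    (hV2 : ∀ x ∈ V, x ^ 2 = 1) {t : G} (htV : t ∈ Subgroup.normalizer (V : Set G))
    (hcard : Nat.card ↥(⁅V, Subgroup.zpowers t⁆) = 2) (hUV : U ≤ V) {u₀ : G} (hu₀ : u₀ ∈ U)
    (hu₀t : t * u₀ ≠ u₀ * t) :
    Nat.card U = 2 * Nat.card ↥(U ⊓ Subgroup.centralizer
      ((Subgroup.zpowers t : Subgroup G) : Set G)) := by
  have hDV : ⁅V, Subgroup.zpowers t⁆ ≤ V :=
    Cfsg.Agent.Lib.helper13.commutator_le_of_le_normalizer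
      ((Subgroup.zpowers_le).mpr htV)
  have hz : ⁅u₀, t⁆ ∈ ⁅V, Subgroup.zpowers t⁆ :=
    Subgroup.commutator_mem_commutator (hUV hu₀) (Subgroup.mem_zpowers t)
  have hz1 : ⁅u₀, t⁆ ≠ 1 := by
    intro h
    rw [commutatorElement_eq_one_iff_commute] at h
    exact hu₀t h.eq.symm
  have hzz : ⁅u₀, t⁆ * ⁅u₀, t⁆ = 1 := by rw [← pow_two]; exact hV2 _ (hDV hz)
  have hrel : (U ⊓ Subgroup.centralizer ((Subgroup.zpowers t : Subgroup G) : Set G)).relIndex U
      = 2 := by
    rw [Subgroup.relIndex_eq_two_iff]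
    refine ⟨u₀, hu₀, ?_⟩
    intro b hb
    have hc : ⁅b, t⁆ ∈ ⁅V, Subgroup.zpowers t⁆ :=
      Subgroup.commutator_mem_commutator (hUV hb) (Subgroup.mem_zpowers t)
    have hbV : b ∈ V := hUV hb
    have htb : t * b⁻¹ * t⁻¹ ∈ V := (Subgroup.mem_normalizer_iff.mp htV b⁻¹).mp (V.inv_mem hbV)
    have key : ⁅b * u₀, t⁆ = ⁅b, t⁆ * ⁅u₀, t⁆ := by
      have e := hVc _ (hDV hz) _ htb
      rw [commutatorElement_def] at e
      simp only [commutatorElement_def]
      calc b * u₀ * t * (b * u₀)⁻¹ * t⁻¹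
          = b * ((u₀ * t * u₀⁻¹ * t⁻¹) * (t * b⁻¹ * t⁻¹)) := by group
        _ = b * ((t * b⁻¹ * t⁻¹) * (u₀ * t * u₀⁻¹ * t⁻¹)) := by rw [e]
        _ = b * t * b⁻¹ * t⁻¹ * (u₀ * t * u₀⁻¹ * t⁻¹) := by group
    have hmemiff : ∀ x : G, x ∈ U → (x ∈ U ⊓ Subgroup.centralizer
        ((Subgroup.zpowers t : Subgroup G) : Set G) ↔ ⁅x, t⁆ = 1) := by
      intro x hx
      rw [Subgroup.mem_inf, mem_centralizer_zpowers, commutatorElement_eq_one_iff_commute]
      constructor
      · rintro ⟨-, h⟩
        exact h.symm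
      · intro h
        exact ⟨hx, h.eq.symm⟩
    rw [hmemiff b hb, hmemiff (b * u₀) (U.mul_mem hb hu₀), key]
    by_cases hb1 : ⁅b, t⁆ = 1
    · right
      refine ⟨hb1, ?_⟩
      rw [hb1, one_mul]
      exact hz1
    · left
      have : ⁅b, t⁆ = ⁅u₀, t⁆ := eq_of_ne_one_of_card_two hcard hc hz hb1 hz1
      refine ⟨?_, hb1⟩
      rw [this, hzz]
  have := Cfsg.Agent.Lib.helper13.relIndex_mul_card_of_le
    (inf_le_left : U ⊓ Subgroup.centralizer ((Subgroup.zpowers t : Subgroup G) : Set G) ≤ U)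
  rw [hrel] at this
  exact this.symm

theorem mem_normalizer_comm_sup {Q A₀ : Subgroup G} {x : G}
    (hQ : x ∈ Subgroup.normalizer (Q : Set G)) (hA : x ∈ Subgroup.normalizer (A₀ : Set G)) :
    x ∈ Subgroup.normalizer ((⁅Q, A₀⁆ ⊔ A₀ : Subgroup G) : Set G) := by
  have key : ∀ y : G, y ∈ Subgroup.normalizer (Q : Set G) →
      y ∈ Subgroup.normalizer (A₀ : Set G) → cj y (⁅Q, A₀⁆ ⊔ A₀) ≤ ⁅Q, A₀⁆ ⊔ A₀ := by
    intro y h1 h2
    rw [cj_sup, cj_commutator, cj_eq_of_mem_normalizer h1, cj_eq_of_mem_normalizer h2]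
  exact mem_normalizer_of_cj_le (key x hQ hA) (key x⁻¹ (inv_mem hQ) (inv_mem hA))

theorem mem_normalizer_comm {V E : Subgroup G} {x : G}
    (hV : x ∈ Subgroup.normalizer (V : Set G)) (hE : x ∈ Subgroup.normalizer (E : Set G)) :
    x ∈ Subgroup.normalizer ((⁅V, E⁆ : Subgroup G) : Set G) := by
  have key : ∀ y : G, y ∈ Subgroup.normalizer (V : Set G) →
      y ∈ Subgroup.normalizer (E : Set G) → cj y ⁅V, E⁆ ≤ ⁅V, E⁆ := by
    intro y h1 h2
    rw [cj_commutator, cj_eq_of_mem_normalizer h1, cj_eq_of_mem_normalizer h2]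
  exact mem_normalizer_of_cj_le (key x hV hE) (key x⁻¹ (inv_mem hV) (inv_mem hE))

/-- **Weak best offenders are quadratic** in the solvable failure-of-factorization setting. -/
theorem weak_quadratic [Finite G] (V H : Subgroup G) (hV : Cfsg.IsElementaryAbelian 2 V)
    (hHV : H ≤ Subgroup.normalizer (V : Set G)) (hf : H ⊓ Subgroup.centralizer (V : Set G) = ⊥)
    (hS1 : Subgroup.centralizer (Cfsg.pPrimeCore 2 ↥H : Set ↥H) ≤ Cfsg.pPrimeCore 2 ↥H)
    (hS3 : H = ⨆ A : {A : Subgroup G // A ≤ H ∧ Cfsg.IsBestOffenderOn 2 V A}, (A : Subgroup G)) :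
    ∀ n : ℕ, ∀ A : Subgroup G, Nat.card A = n → A ≤ Subgroup.normalizer (V : Set G) →
      A ≤ Subgroup.normalizer (H : Set G) → (∀ a ∈ A, ∀ b ∈ A, a * b = b * a) →
      A ⊓ Subgroup.centralizer (V : Set G) = ⊥ → IsPGroup 2 A →
      (∀ B : Subgroup G, B ≤ A →
        Nat.card B * Nat.card ↥(V ⊓ Subgroup.centralizer (B : Set G)) ≤
          Nat.card A * Nat.card ↥(V ⊓ Subgroup.centralizer (A : Set G))) →
      (∀ B : Subgroup G, B ≤ A → Cfsg.IsBestOffenderOn 2 V B → B ≤ H) →
      ⁅⁅V, A⁆, A⁆ = ⊥ := by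
  have hp2 : Fact (Nat.Prime 2) := ⟨Nat.prime_two⟩
  have hVcI : IsMulCommutative V := hV.1
  have hVc : ∀ u ∈ V, ∀ v ∈ V, u * v = v * u := fun u hu v hv =>
    congrArg Subtype.val (mul_comm' (⟨u, hu⟩ : V) ⟨v, hv⟩)
  have hV2 : ∀ v ∈ V, v ^ 2 = 1 := hV.2
  have hVp : IsPGroup 2 V := by
    rintro ⟨v, hv⟩
    refine ⟨1, Subtype.ext ?_⟩
    simp only [pow_one, Subgroup.coe_pow, Subgroup.coe_one]
    exact hV2 v hv
  intro n
  induction n using Nat.strong_induction_on with
  | _ n ih =>
    intro A hn hAV hAH hAc hAf hA2 hbest hsub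
    have hab : ⁅A, A⁆ ≤ Subgroup.centralizer (V : Set G) := by
      have : ⁅A, A⁆ = ⊥ := by
        rw [Subgroup.commutator_eq_bot_iff_le_centralizer]
        intro a ha
        rw [Subgroup.mem_centralizer_iff]
        intro b hb
        exact hAc b hb a ha
      rw [this]; exact bot_le
    have hXV : ⁅V, A⁆ ≤ V := Cfsg.Agent.Lib.helper13.commutator_le_of_le_normalizer hAV
    obtain ⟨r1, r2⟩ := Cfsg.Agent.Lib.helper13.replacement V A hAV hab hbest V le_rfl
    obtain ⟨As, hAs⟩ : ∃ As : Subgroup G,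
        As = A ⊓ Subgroup.centralizer ((⁅V, A⁆ : Subgroup G) : Set G) := ⟨_, rfl⟩
    rw [← hAs] at r1 r2
    have hAsA : As ≤ A := by rw [hAs]; exact inf_le_left
    have hAsBO : Cfsg.IsBestOffenderOn 2 V As := by
      refine ⟨?_, ?_, ?_⟩
      · intro B hB
        rw [r1]
        exact hbest B (hB.trans hAsA)
      · exact (Subgroup.commutator_mono hAsA hAsA).trans hab
      · intro a ha
        rw [Subgroup.mem_centralizer_iff]
        intro v hv
        have haA : a ∈ A := hAsA ha
        have hc : ⁅v, a⁆ ∈ ⁅V, A⁆ := Subgroup.commutator_mem_commutator hv haA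
        have ha' : a ∈ Subgroup.centralizer ((⁅V, A⁆ : Subgroup G) : Set G) := by
          rw [hAs] at ha; exact ha.2
        have hac := Subgroup.mem_centralizer_iff.mp ha' _ hc
        have hc2 : ⁅v, a⁆ * ⁅v, a⁆ = 1 := by rw [← pow_two]; exact hV2 _ (hXV hc)
        obtain ⟨c, hcdef⟩ : ∃ c, c = ⁅v, a⁆ := ⟨_, rfl⟩
        rw [← hcdef] at hac hc2
        have e1 : v * a = c * a * v := by rw [hcdef, commutatorElement_def]; group
        calc v * a ^ 2 = (v * a) * a := by rw [pow_two]; group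
          _ = (c * a * v) * a := by rw [e1]
          _ = c * a * (v * a) := by group
          _ = c * a * (c * a * v) := by rw [e1]
          _ = c * (a * c) * a * v := by group
          _ = c * (c * a) * a * v := by rw [hac]
          _ = (c * c) * a ^ 2 * v := by rw [pow_two]; group
          _ = a ^ 2 * v := by rw [hc2, one_mul]
    have hAsH : As ≤ H := hsub As hAsA hAsBO
    by_cases hAsV : ⁅V, As⁆ = ⊥
    · -- `As` centralizes `V`: then `V = [V, A] C_V(A)` and `[V, A] = 1`
      have hAsC : As ≤ Subgroup.centralizer (V : Set G) := by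
        rw [Subgroup.commutator_comm] at hAsV
        exact (Subgroup.commutator_eq_bot_iff_le_centralizer).mp hAsV
      have hVle : V ≤ ⁅V, A⁆ ⊔ (V ⊓ Subgroup.centralizer (A : Set G)) := by
        rw [← r2]
        refine le_inf le_rfl ?_
        intro v hv
        rw [Subgroup.mem_centralizer_iff]
        intro a ha
        exact (Subgroup.mem_centralizer_iff.mp (hAsC ha) v hv).symm
      have hle : ⁅V, A⁆ ≤ ⁅⁅V, A⁆, A⁆ := by
        rw [Subgroup.commutator_le]
        intro v hv a ha
        obtain ⟨x, hx, c, hc, rfl⟩ := (Cfsg.Agent.Lib.helper53.mem_sup_of_le_normalizer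
          (le_normalizer_of_le_comm hVc inf_le_left hXV)).mp (hVle hv)
        have hca := Subgroup.mem_centralizer_iff.mp hc.2 a ha
        have : ⁅x * c, a⁆ = ⁅x, a⁆ := by
          simp only [commutatorElement_def]
          calc x * c * a * (x * c)⁻¹ * a⁻¹ = x * (c * a) * c⁻¹ * x⁻¹ * a⁻¹ := by group
            _ = x * (a * c) * c⁻¹ * x⁻¹ * a⁻¹ := by rw [hca]
            _ = x * a * x⁻¹ * a⁻¹ := by group
        rw [this]
        exact Subgroup.commutator_mem_commutator hx ha
      have h0 := Cfsg.Agent.Lib.helper13.eq_bot_of_le_commutator V A ⁅V, A⁆ hVp hAV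
        (fun a ha => by
          obtain ⟨k, hk⟩ := hA2 ⟨a, ha⟩
          refine ⟨k, ?_⟩
          have : a ^ 2 ^ k = 1 := congrArg Subtype.val hk
          rw [this]; exact Subgroup.one_mem _) hXV hle
      rw [h0]
      exact Subgroup.commutator_bot_left A
    · -- a root subgroup inside `As`
      obtain ⟨A₀, hA₀As, hA₀BO, hA₀V, hA₀min⟩ := exists_min_offender V _ As rfl hAsBO hAsV
      have hA₀A : A₀ ≤ A := hA₀As.trans hAsA
      have hA₀H : A₀ ≤ H := hsub A₀ hA₀A hA₀BO
      have hH1 : H ≠ ⊥ := by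
        intro h
        apply hA₀V
        have : A₀ = ⊥ := le_bot_iff.mp (h ▸ hA₀H)
        rw [this]
        exact Subgroup.commutator_bot_right V
      have hroot := isRoot_of_min V H hV hHV hf hS1 hS3 hH1 A₀ hA₀H hA₀BO hA₀V hA₀min
      have S := ffSet_of_hyp V H hV hHV hf hS1
      have hAQ : A ≤ Subgroup.normalizer
          (((Cfsg.pPrimeCore 2 ↥H).map H.subtype : Subgroup G) : Set G) :=
        hAH.trans (Cfsg.Agent.Lib.helper27.normalizer_le_normalizer_map_subtype_of_characteristic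
          H (Cfsg.pPrimeCore 2 ↥H))
      generalize (Cfsg.pPrimeCore 2 ↥H).map H.subtype = Q at S hAQ
      have hW4 : Nat.card ↥(⁅V, ⁅Q, A₀⁆ ⊔ A₀⁆) = 4 := by
        have := E_card_comm S hroot
        norm_num at this
        exact this
      have hWinf := E_inf_fix S hroot
      have hWsup := E_sup_fix S hroot
      have hEH : ⁅Q, A₀⁆ ⊔ A₀ ≤ H := E_le S hroot
      have hWV : ⁅V, ⁅Q, A₀⁆ ⊔ A₀⁆ ≤ V := S.comm_le_V hEH
      obtain ⟨t, htA₀, ht1⟩ := hroot.exists_ne_one
      have hzt : Subgroup.zpowers t = A₀ := hroot.zpowers_eq htA₀ ht1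
      have ht2 : t ^ 2 = 1 := hroot.pow_eq_one htA₀
      have htA : t ∈ A := hA₀A htA₀
      have htE : t ∈ ⁅Q, A₀⁆ ⊔ A₀ := Subgroup.mem_sup_right htA₀
      -- `A` normalizes `A₀`, `E`, `W`
      have hAA₀ : A ≤ Subgroup.normalizer (A₀ : Set G) := by
        intro a ha
        rw [Subgroup.mem_normalizer_iff]
        intro x
        have key : ∀ y ∈ A₀, a * y * a⁻¹ = y := by
          intro y hy
          have := hAc a ha y (hA₀A hy)
          rw [this]; group
        constructor
        · intro hx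
          rw [key x hx]; exact hx
        · intro hx
          have h1 := key _ hx
          have h2 : a * (a * x * a⁻¹) * a⁻¹ = a * x * a⁻¹ := h1
          have h3 : a * x * a⁻¹ = x := by
            calc a * x * a⁻¹ = a⁻¹ * (a * (a * x * a⁻¹) * a⁻¹) * a := by group
              _ = a⁻¹ * (a * x * a⁻¹) * a := by rw [h2]
              _ = x := by group
          rw [← h3]; exact hx
      have hAE : A ≤ Subgroup.normalizer ((⁅Q, A₀⁆ ⊔ A₀ : Subgroup G) : Set G) :=
        fun a ha => mem_normalizer_comm_sup (hAQ ha) (hAA₀ ha)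
      have hAW : A ≤ Subgroup.normalizer ((⁅V, ⁅Q, A₀⁆ ⊔ A₀⁆ : Subgroup G) : Set G) :=
        fun a ha => mem_normalizer_comm (hAV ha) (hAE ha)
      generalize hEdef : ⁅Q, A₀⁆ ⊔ A₀ = E at *
      generalize hWdef : ⁅V, E⁆ = W at *
      have hW2 : ∀ x ∈ W, x ^ 2 = 1 := fun x hx => hV2 x (hWV hx)
      have hWc : ∀ x ∈ W, ∀ y ∈ W, x * y = y * x := fun x hx y hy => hVc x (hWV hx) y (hWV hy)
      -- `t` centralizes `C_V(E)` but not `W`
      have htV' : ∀ v ∈ V ⊓ Subgroup.centralizer (E : Set G), t * v = v * t := by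
        intro v hv
        exact Subgroup.mem_centralizer_iff.mp hv.2 t htE
      have htW : t ∉ Subgroup.centralizer (W : Set G) := by
        intro h
        apply ht1
        apply S.eq_one (hA₀H htA₀)
        rw [Subgroup.mem_centralizer_iff]
        intro v hv
        have hv' : v ∈ W ⊔ (V ⊓ Subgroup.centralizer (E : Set G)) := by rw [hWsup]; exact hv
        obtain ⟨w, hw, c, hc, rfl⟩ := (Cfsg.Agent.Lib.helper53.mem_sup_of_le_normalizer
          (le_normalizer_of_le_comm hVc inf_le_left hWV)).mp hv'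
        have e1 := Subgroup.mem_centralizer_iff.mp h w hw
        have e2 := htV' c hc
        calc w * c * t = w * (c * t) := by group
          _ = w * (t * c) := by rw [e2]
          _ = (w * t) * c := by group
          _ = (t * w) * c := by rw [e1]
          _ = t * (w * c) := by group
      have hdich : ∀ a ∈ A, a ∈ Subgroup.centralizer (W : Set G) ∨
          t⁻¹ * a ∈ Subgroup.centralizer (W : Set G) := by
        intro a ha
        exact four_group_dichotomy hW4 hWc hW2 (hAW htA) (hAW ha) (hAc a ha t htA) ht2 htW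
      -- the subgroup `A₁ = C_A(W)`
      obtain ⟨A₁, hA₁⟩ : ∃ A₁ : Subgroup G, A₁ = A ⊓ Subgroup.centralizer (W : Set G) :=
        ⟨_, rfl⟩
      have hA₁A : A₁ ≤ A := by rw [hA₁]; exact inf_le_left
      have hA₁W : A₁ ≤ Subgroup.centralizer (W : Set G) := by rw [hA₁]; exact inf_le_right
      have htA₁ : t ∉ A₁ := fun h => htW (hA₁W h)
      have hcardc : Nat.card ↥(⁅V, Subgroup.zpowers t⁆) = 2 := by rw [hzt]; exact hroot.cardc
      -- an element of `W` moved by `t`
      obtain ⟨u₀, hu₀W, hu₀t⟩ : ∃ u₀ ∈ W, t * u₀ ≠ u₀ * t := by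
        by_contra hcon
        push Not at hcon
        apply htW
        rw [Subgroup.mem_centralizer_iff]
        intro w hw
        exact (hcon w hw).symm
      -- the counting identity `m(B ⊔ A₀) = m(B)` for `B ≤ A₁`
      have hstep : ∀ B : Subgroup G, B ≤ A₁ →
          Nat.card ↥(B ⊔ A₀) * Nat.card ↥(V ⊓ Subgroup.centralizer ((B ⊔ A₀ : Subgroup G) : Set G))
            = Nat.card B * Nat.card ↥(V ⊓ Subgroup.centralizer (B : Set G)) := by
        intro B hB
        have hBA : B ≤ A := hB.trans hA₁A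
        have h1 := Cfsg.Agent.Lib.helper13.card_sup_mul_card_inf B A₀ (hBA.trans hAA₀)
        have h2 : B ⊓ A₀ = ⊥ := by
          rw [eq_bot_iff]
          intro x hx
          rw [Subgroup.mem_bot]
          by_contra hx1
          have hzx : Subgroup.zpowers x = A₀ := hroot.zpowers_eq hx.2 hx1
          apply htA₁
          apply hB
          have : t ∈ Subgroup.zpowers x := by rw [hzx]; exact htA₀
          exact (Subgroup.zpowers_le.mpr hx.1) this
        rw [h2, Subgroup.card_bot, mul_one, hroot.card] at h1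
        have hu₀U : u₀ ∈ V ⊓ Subgroup.centralizer (B : Set G) := by
          refine Subgroup.mem_inf.mpr ⟨hWV hu₀W, ?_⟩
          rw [Subgroup.mem_centralizer_iff]
          intro b hb
          exact (Subgroup.mem_centralizer_iff.mp (hA₁W (hB hb)) u₀ hu₀W).symm
        have h3 := card_fix_step hVc hV2 (hAV htA) hcardc
          (inf_le_left : V ⊓ Subgroup.centralizer (B : Set G) ≤ V) hu₀U hu₀t
        have h4 : V ⊓ Subgroup.centralizer ((B ⊔ A₀ : Subgroup G) : Set G) =
            (V ⊓ Subgroup.centralizer (B : Set G)) ⊓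
              Subgroup.centralizer ((Subgroup.zpowers t : Subgroup G) : Set G) := by
          rw [Cfsg.Agent.Lib.helper13.centralizer_sup_eq, hzt, inf_assoc]
        rw [h4, h1, h3]
        ring
      have hsupA : A₁ ⊔ A₀ = A := by
        apply le_antisymm (sup_le hA₁A hA₀A)
        intro a ha
        rcases hdich a ha with h | h
        · exact Subgroup.mem_sup_left (by rw [hA₁]; exact ⟨ha, h⟩)
        · have h1 : t⁻¹ * a ∈ A₁ := by
            rw [hA₁]; exact ⟨A.mul_mem (A.inv_mem htA) ha, h⟩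
          have : a = t * (t⁻¹ * a) := by group
          rw [this]
          exact Subgroup.mul_mem _ (Subgroup.mem_sup_right htA₀) (Subgroup.mem_sup_left h1)
      have hmA : Nat.card A * Nat.card ↥(V ⊓ Subgroup.centralizer (A : Set G)) =
          Nat.card A₁ * Nat.card ↥(V ⊓ Subgroup.centralizer (A₁ : Set G)) := by
        have := hstep A₁ le_rfl
        rw [hsupA] at this
        exact this
      have hlt : Nat.card A₁ < n := by
        rw [← hn]
        by_contra hcon
        have : A₁ = A := Subgroup.eq_of_le_of_card_ge hA₁A (not_lt.mp hcon)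
        exact htA₁ (this ▸ htA)
      have hbest₁ : ∀ B : Subgroup G, B ≤ A₁ →
          Nat.card B * Nat.card ↥(V ⊓ Subgroup.centralizer (B : Set G)) ≤
            Nat.card A₁ * Nat.card ↥(V ⊓ Subgroup.centralizer (A₁ : Set G)) := by
        intro B hB
        rw [← hstep B hB, ← hmA]
        exact hbest _ (sup_le (hB.trans hA₁A) hA₀A)
      have hq₁ : ⁅⁅V, A₁⁆, A₁⁆ = ⊥ :=
        ih _ hlt A₁ rfl (hA₁A.trans hAV) (hA₁A.trans hAH)
          (fun a ha b hb => hAc a (hA₁A ha) b (hA₁A hb))
          (by rw [eq_bot_iff, ← hAf]; exact inf_le_inf_right _ hA₁A)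
          (hA2.to_le hA₁A) hbest₁ (fun B hB => hsub B (hB.trans hA₁A))
      -- `[V, A₁] ≤ C_V(E)`
      have hVA₁ : ⁅V, A₁⁆ ≤ V ⊓ Subgroup.centralizer (E : Set G) := by
        rw [Subgroup.commutator_le]
        intro v hv a ha
        have hv' : v ∈ W ⊔ (V ⊓ Subgroup.centralizer (E : Set G)) := by rw [hWsup]; exact hv
        obtain ⟨w, hw, c, hc, rfl⟩ := (Cfsg.Agent.Lib.helper53.mem_sup_of_le_normalizer
          (le_normalizer_of_le_comm hVc inf_le_left hWV)).mp hv'
        have haw := Subgroup.mem_centralizer_iff.mp (hA₁W ha) w hw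
        have haA : a ∈ A := hA₁A ha
        have hnV' : a ∈ Subgroup.normalizer
            ((V ⊓ Subgroup.centralizer (E : Set G) : Subgroup G) : Set G) :=
          mem_normalizer_inf (hAV haA) (mem_normalizer_centralizer (hAE haA))
        have hac : a * c⁻¹ * a⁻¹ ∈ V ⊓ Subgroup.centralizer (E : Set G) :=
          (Subgroup.mem_normalizer_iff.mp hnV' c⁻¹).mp (Subgroup.inv_mem _ hc)
        have e0 : w * (a * c⁻¹ * a⁻¹) = (a * c⁻¹ * a⁻¹) * w := hVc _ (hWV hw) _ hac.1
        have : ⁅w * c, a⁆ = c * (a * c⁻¹ * a⁻¹) := by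
          simp only [commutatorElement_def]
          calc w * c * a * (w * c)⁻¹ * a⁻¹ = w * c * (a * c⁻¹ * a⁻¹) * (a * w⁻¹) * a⁻¹ := by group
            _ = w * c * (a * c⁻¹ * a⁻¹) * w⁻¹ := by
                have : a * w⁻¹ = w⁻¹ * a := by
                  calc a * w⁻¹ = w⁻¹ * (w * a) * w⁻¹ := by group
                    _ = w⁻¹ * (a * w) * w⁻¹ := by rw [haw]
                    _ = w⁻¹ * a := by group
                rw [this]; group
            _ = c * (w * (a * c⁻¹ * a⁻¹)) * w⁻¹ := by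
                rw [hVc w (hWV hw) c hc.1]; group
            _ = c * ((a * c⁻¹ * a⁻¹) * w) * w⁻¹ := by rw [e0]
            _ = c * (a * c⁻¹ * a⁻¹) := by group
        rw [this]
        exact Subgroup.mul_mem _ hc hac
      -- `[V, A₀]` is centralized by `A`
      have hVA₀ : ∀ a ∈ A, a ∈ Subgroup.centralizer ((⁅V, A₀⁆ : Subgroup G) : Set G) := by
        intro a ha
        exact mem_centralizer_of_card_two hroot.cardc (mem_normalizer_comm (hAV ha) (hAA₀ ha))
      -- `[V, A] ≤ [V, A₁] [V, A₀]`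
      have hVAle : ⁅V, A⁆ ≤ ⁅V, A₁⁆ ⊔ ⁅V, A₀⁆ := by
        rw [Subgroup.commutator_le]
        intro v hv a ha
        rcases hdich a ha with h | h
        · exact Subgroup.mem_sup_left (Subgroup.commutator_mem_commutator hv
            (by rw [hA₁]; exact ⟨ha, h⟩))
        · have h1 : t⁻¹ * a ∈ A₁ := by
            rw [hA₁]; exact ⟨A.mul_mem (A.inv_mem htA) ha, h⟩
          have hc1 : ⁅v, t⁻¹ * a⁆ ∈ ⁅V, A₁⁆ := Subgroup.commutator_mem_commutator hv h1
          have hc2 := htV' _ (hVA₁ hc1)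
          have : ⁅v, a⁆ = ⁅v, t⁆ * ⁅v, t⁻¹ * a⁆ := by
            have e : t * ⁅v, t⁻¹ * a⁆ * t⁻¹ = ⁅v, t⁻¹ * a⁆ := by rw [hc2]; group
            rw [← e]
            simp only [commutatorElement_def]
            group
          rw [this]
          exact Subgroup.mul_mem _ (Subgroup.mem_sup_right
            (Subgroup.commutator_mem_commutator hv htA₀)) (Subgroup.mem_sup_left hc1)
      rw [Subgroup.commutator_comm, Subgroup.commutator_eq_bot_iff_le_centralizer]
      intro a ha
      have hq₁' : A₁ ≤ Subgroup.centralizer ((⁅V, A₁⁆ : Subgroup G) : Set G) := by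
        rw [Subgroup.commutator_comm, Subgroup.commutator_eq_bot_iff_le_centralizer] at hq₁
        exact hq₁
      have hcA₁ : ∀ b ∈ A, b ∈ Subgroup.centralizer ((⁅V, A₁⁆ : Subgroup G) : Set G) := by
        intro b hb
        rcases hdich b hb with h | h
        · exact hq₁' (by rw [hA₁]; exact ⟨hb, h⟩)
        · have h1 : t⁻¹ * b ∈ A₁ := by
            rw [hA₁]; exact ⟨A.mul_mem (A.inv_mem htA) hb, h⟩
          have h2 := hq₁' h1
          have h3 : t ∈ Subgroup.centralizer ((⁅V, A₁⁆ : Subgroup G) : Set G) := by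
            rw [Subgroup.mem_centralizer_iff]
            intro x hx
            exact (htV' x (hVA₁ hx)).symm
          have : b = t * (t⁻¹ * b) := by group
          rw [this]
          exact Subgroup.mul_mem _ h3 h2
      have hfin : ⁅V, A₁⁆ ⊔ ⁅V, A₀⁆ ≤ Subgroup.centralizer ({a} : Set G) := by
        refine sup_le ?_ ?_
        · intro x hx
          rw [Subgroup.mem_centralizer_iff]
          intro y hy
          rw [Set.mem_singleton_iff] at hy
          subst hy
          exact (Subgroup.mem_centralizer_iff.mp (hcA₁ y ha) x hx).symm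
        · intro x hx
          rw [Subgroup.mem_centralizer_iff]
          intro y hy
          rw [Set.mem_singleton_iff] at hy
          subst hy
          exact (Subgroup.mem_centralizer_iff.mp (hVA₀ y ha) x hx).symm
      rw [Subgroup.mem_centralizer_iff]
      intro x hx
      exact (Subgroup.mem_centralizer_iff.mp (hfin (hVAle hx)) a rfl).symm

/-- consequently a weak best offender is a best offender and lies in `H` -/
theorem weak_le [Finite G] (V H : Subgroup G) (hV : Cfsg.IsElementaryAbelian 2 V)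
    (hHV : H ≤ Subgroup.normalizer (V : Set G)) (hf : H ⊓ Subgroup.centralizer (V : Set G) = ⊥)
    (hS1 : Subgroup.centralizer (Cfsg.pPrimeCore 2 ↥H : Set ↥H) ≤ Cfsg.pPrimeCore 2 ↥H)
    (hS3 : H = ⨆ A : {A : Subgroup G // A ≤ H ∧ Cfsg.IsBestOffenderOn 2 V A}, (A : Subgroup G))
    (A : Subgroup G) (hAV : A ≤ Subgroup.normalizer (V : Set G))
    (hAH : A ≤ Subgroup.normalizer (H : Set G)) (hAc : ∀ a ∈ A, ∀ b ∈ A, a * b = b * a)
    (hAf : A ⊓ Subgroup.centralizer (V : Set G) = ⊥) (hA2 : IsPGroup 2 A)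
    (hbest : ∀ B : Subgroup G, B ≤ A →
        Nat.card B * Nat.card ↥(V ⊓ Subgroup.centralizer (B : Set G)) ≤
          Nat.card A * Nat.card ↥(V ⊓ Subgroup.centralizer (A : Set G)))
    (hsub : ∀ B : Subgroup G, B ≤ A → Cfsg.IsBestOffenderOn 2 V B → B ≤ H) : A ≤ H := by
  have hq := weak_quadratic V H hV hHV hf hS1 hS3 _ A rfl hAV hAH hAc hAf hA2 hbest hsub
  have hXV : ⁅V, A⁆ ≤ V := Cfsg.Agent.Lib.helper13.commutator_le_of_le_normalizer hAV
  apply hsub A le_rfl
  refine ⟨hbest, ?_, ?_⟩
  · have : ⁅A, A⁆ = ⊥ := by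
      rw [Subgroup.commutator_eq_bot_iff_le_centralizer]
      intro a ha
      rw [Subgroup.mem_centralizer_iff]
      intro b hb
      exact hAc b hb a ha
    rw [this]; exact bot_le
  · intro a ha
    rw [Subgroup.commutator_comm, Subgroup.commutator_eq_bot_iff_le_centralizer] at hq
    apply pow_mem_centralizer_of_stab hV.2 hXV (hq ha)
    intro v hv
    have : a * v * a⁻¹ * v⁻¹ = ⁅v, a⁆⁻¹ := by
      simp only [commutatorElement_def]; group
    rw [this]
    exact Subgroup.inv_mem _ (Subgroup.commutator_mem_commutator hv ha)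

end WeakOff

end Cfsg.Agent.Lib.helper14
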