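import Mathlib
import Cfsg.Agent.Lib.helper14.WeakOff
import Cfsg.Agent.Lib.helper13.JOver
import Cfsg.Agent.Lib.helper13.FaithModel
import Cfsg.Agent.Lib.helper13.PCoreAct
import Cfsg.Agent.Lib.helper51.TJ
import Cfsg.Agent.Lib.helper14.FF8
import Cfsg.Agent.Lib.helper14.ZJ
import Cfsg.Agent.Lib.helper28.PCores
import Cfsg.Agent.Lib.helper27.Layer
import Cfsg.Agent.Lib.helper55.Basic
import Cfsg.Agent.Lib.helper29.PSolv
import Cfsg.Agent.Lib.helper40.Cores
import Cfsg.Agent.Lib.helper53.PCore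
import Cfsg.Agent.S0617
import Cfsg.Agent.S0618

/-!
helper14: solvable Thompson factorization with `S₃`-blocks (abelian version of `J`).
-/

set_option autoImplicit false
open Cfsg

namespace Cfsg.Agent.Lib.helper14

open scoped commutatorElement

/-- a non-abelian group of order six is `S₃` -/
theorem nonempty_mulEquiv_perm_fin_three {E : Type*} [Group E] [Finite E] (h6 : Nat.card E = 6)
    (hne : ∃ a b : E, a * b ≠ b * a) : Nonempty (E ≃* Equiv.Perm (Fin 3)) := by
  classical
  have hp2 : Fact (Nat.Prime 2) := ⟨Nat.prime_two⟩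
  have hp3 : Fact (Nat.Prime 3) := ⟨Nat.prime_three⟩
  obtain ⟨x, hx⟩ := exists_prime_orderOf_dvd_card' (G := E) 2 (by rw [h6]; norm_num)
  have hA : Nat.card (Subgroup.zpowers x) = 2 := by rw [Nat.card_zpowers, hx]
  have hq : Nat.card (E ⧸ Subgroup.zpowers x) = 3 := by
    have := Subgroup.card_eq_card_quotient_mul_card_subgroup (Subgroup.zpowers x)
    rw [h6, hA] at this
    omega
  by_cases hn : (Subgroup.zpowers x).Normal
  · exfalso
    have hcen : Subgroup.zpowers x ≤ Subgroup.center E := by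
      intro z hz
      rw [Subgroup.mem_center_iff]
      intro g
      have h1 : g ∈ Subgroup.normalizer ((Subgroup.zpowers x : Subgroup E) : Set E) := by
        rw [Subgroup.normalizer_eq_top_iff.mpr hn]; exact Subgroup.mem_top g
      have := mem_centralizer_of_card_two hA h1
      exact (Subgroup.mem_centralizer_iff.mp this z hz).symm
    have hcyc : IsCyclic (E ⧸ Subgroup.zpowers x) := isCyclic_of_prime_card (p := 3) hq
    obtain ⟨a, b, hab⟩ := hne
    exact hab (commutative_of_cyclic_center_quotient (QuotientGroup.mk' (Subgroup.zpowers x))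
      (by rw [QuotientGroup.ker_mk']; exact hcen) a b)
  · have hker : (MulAction.toPermHom E (E ⧸ Subgroup.zpowers x)).ker = ⊥ := by
      rw [← Subgroup.normalCore_eq_ker]
      have hle : (Subgroup.zpowers x).normalCore ≤ Subgroup.zpowers x := Subgroup.normalCore_le _
      have hd : Nat.card (Subgroup.zpowers x).normalCore ∣ 2 := hA ▸ Subgroup.card_dvd_of_le hle
      rcases (Nat.dvd_prime Nat.prime_two).mp hd with h | h
      · exact Subgroup.card_eq_one.mp h
      · exfalso
        apply hn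
        have : (Subgroup.zpowers x).normalCore = Subgroup.zpowers x :=
          Subgroup.eq_of_le_of_card_ge hle (by rw [h, hA])
        rw [← this]; infer_instance
    have hinj : Function.Injective (MulAction.toPermHom E (E ⧸ Subgroup.zpowers x)) :=
      (MonoidHom.ker_eq_bot_iff _).mp hker
    have hcardP : Nat.card (Equiv.Perm (E ⧸ Subgroup.zpowers x)) = 6 := by
      rw [Nat.card_perm, hq]; rfl
    have hbij : Function.Bijective (MulAction.toPermHom E (E ⧸ Subgroup.zpowers x)) := by
      rw [Nat.bijective_iff_injective_and_card]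
      exact ⟨hinj, by rw [h6, hcardP]⟩
    have e2 : (E ⧸ Subgroup.zpowers x) ≃ Fin 3 := (Finite.equivFin _).trans (finCongr hq)
    exact ⟨(MulEquiv.ofBijective _ hbij).trans e2.permCongrHom⟩

theorem sl2_two_equiv_perm :
    Nonempty (Matrix.SpecialLinearGroup (Fin 2) (ZMod 2) ≃* Equiv.Perm (Fin 3)) := by
  apply nonempty_mulEquiv_perm_fin_three Cfsg.Agent.Lib.helper13.card_SL2_two
  refine ⟨⟨!![1, 1; 0, 1], by decide⟩, ⟨!![1, 0; 1, 1], by decide⟩, by decide⟩

/-- an independent family of subgroups normalized by their join is an internal direct product -/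
theorem nonempty_mulEquiv_pi_of_family {F : Type*} [Group F] {ι : Type*} [Finite ι]
    (E : ι → Subgroup F) (H : Subgroup F)
    (hN : ∀ i, H ≤ Subgroup.normalizer ((E i : Subgroup F) : Set F)) (hind : iSupIndep E)
    (hsup : (⨆ i, E i) = H) : Nonempty (H ≃* (∀ i, E i)) := by
  classical
  have := Fintype.ofFinite ι
  have hcomm : Pairwise fun i j : ι => ∀ x y : F, x ∈ E i → y ∈ E j → Commute x y := by
    intro i j hij x y hx hy
    have hEi : E i ≤ H := hsup ▸ le_iSup E i
    have hEj : E j ≤ H := hsup ▸ le_iSup E j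
    have h1 : ⁅x, y⁆ ∈ E i := by
      have := (Subgroup.mem_normalizer_iff.mp (hN i (hEj hy)) x⁻¹).mp (inv_mem hx)
      rw [commutatorElement_def]
      have e : x * y * x⁻¹ * y⁻¹ = x * (y * x⁻¹ * y⁻¹) := by group
      rw [e]; exact mul_mem hx this
    have h2 : ⁅x, y⁆ ∈ E j := by
      have := (Subgroup.mem_normalizer_iff.mp (hN j (hEi hx)) y).mp hy
      rw [commutatorElement_def]
      exact mul_mem this (inv_mem hy)
    have hdisj : Disjoint (E i) (E j) := hind.pairwiseDisjoint hij
    have h3 : ⁅x, y⁆ ∈ E i ⊓ E j := ⟨h1, h2⟩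
    rw [hdisj.eq_bot, Subgroup.mem_bot] at h3
    exact (commutatorElement_eq_one_iff_commute).mp h3
  have hinj := Subgroup.injective_noncommPiCoprod_of_iSupIndep (hcomm := hcomm) hind
  have hrange : (Subgroup.noncommPiCoprod hcomm).range = H := by
    rw [Subgroup.noncommPiCoprod_range, hsup]
  exact ⟨((MonoidHom.ofInjective hinj).trans (MulEquiv.subgroupCongr hrange)).symm⟩

/-- a family of `SL₂(2)`'s forming an internal direct product gives a power of `S₃` -/
theorem nonempty_mulEquiv_pi_perm {F : Type*} [Group F] [Finite F] (H₁ : Subgroup F)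
    (hH1 : H₁ ≠ ⊥) (Q : Subgroup F → Prop)
    (hE : ∀ E : {E : Subgroup F // Q E}, H₁ ≤ Subgroup.normalizer ((E : Subgroup F) : Set F) ∧
      Nonempty (↥(E : Subgroup F) ≃* Matrix.SpecialLinearGroup (Fin 2) (ZMod 2)))
    (hind : iSupIndep (fun E : {E : Subgroup F // Q E} => (E : Subgroup F)))
    (hsup : (⨆ E : {E : Subgroup F // Q E}, (E : Subgroup F)) = H₁) :
    ∃ n : ℕ, 1 ≤ n ∧ Nonempty (↥H₁ ≃* (Fin n → Equiv.Perm (Fin 3))) := by
  classical
  have hfinι : Finite {E : Subgroup F // Q E} := inferInstance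
  obtain ⟨e0⟩ := nonempty_mulEquiv_pi_of_family
    (fun E : {E : Subgroup F // Q E} => (E : Subgroup F)) H₁ (fun E => (hE E).1) hind hsup
  have hne : Nonempty {E : Subgroup F // Q E} := by
    by_contra hcon
    rw [not_nonempty_iff] at hcon
    apply hH1
    rw [← hsup]
    exact iSup_of_empty _
  obtain ⟨s⟩ := sl2_two_equiv_perm
  refine ⟨Nat.card {E : Subgroup F // Q E}, Nat.card_pos, ⟨?_⟩⟩
  exact (e0.trans (MulEquiv.piCongrRight (fun E => ((hE E).2.some).trans s))).trans
    (MulEquiv.arrowCongr (Finite.equivFin _) (MulEquiv.refl _))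

section Omega

variable {X : Type*} [Group X]

theorem omegaOne_two_mem {V : Subgroup X} (hVc : ∀ x ∈ V, ∀ y ∈ V, x * y = y * x) :
    ∀ w ∈ Cfsg.omegaOne 2 V, w ∈ V ∧ w ^ 2 = 1 := by
  intro w hw
  unfold Cfsg.omegaOne at hw
  induction hw using Subgroup.closure_induction with
  | mem x hx => exact hx
  | one => exact ⟨V.one_mem, one_pow 2⟩
  | mul x y _ _ hx hy =>
    exact ⟨V.mul_mem hx.1 hy.1, by
      rw [(show Commute x y from hVc x hx.1 y hy.1).mul_pow, hx.2, hy.2, one_mul]⟩
  | inv x _ hx => exact ⟨V.inv_mem hx.1, by rw [inv_pow, hx.2, inv_one]⟩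

theorem omegaOne_normal_of_normal (p : ℕ) (V : Subgroup X) [hV : V.Normal] :
    (Cfsg.omegaOne p V).Normal := by
  constructor
  intro n hn g
  have hle : Cfsg.omegaOne p V ≤ (Cfsg.omegaOne p V).comap (MulAut.conj g).toMonoidHom := by
    unfold Cfsg.omegaOne
    rw [Subgroup.closure_le]
    rintro x ⟨hx, hxp⟩
    rw [SetLike.mem_coe, Subgroup.mem_comap]
    apply Subgroup.subset_closure
    show g * x * g⁻¹ ∈ V ∧ (g * x * g⁻¹) ^ p = 1
    exact ⟨hV.conj_mem x hx g, by rw [conj_pow, hxp]; group⟩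
  exact hle hn

/-- an odd-order element centralizing `Ω₁(V)` centralizes the abelian 2-group `V` -/
theorem centralizes_of_centralizes_omegaOne {V : Subgroup X}
    (hVc : ∀ x ∈ V, ∀ y ∈ V, x * y = y * x) (hV2 : IsPGroup 2 V) {g : X}
    (hg : g ∈ Subgroup.normalizer (V : Set X)) (hodd : Odd (orderOf g))
    (hgW : g ∈ Subgroup.centralizer (Cfsg.omegaOne 2 V : Set X)) :
    g ∈ Subgroup.centralizer (V : Set X) := by
  have key : ∀ k : ℕ, ∀ v ∈ V, v ^ 2 ^ k = 1 → g * v * g⁻¹ = v := by
    intro k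
    induction k with
    | zero =>
      intro v _ hv
      rw [pow_zero, pow_one] at hv
      rw [hv]; group
    | succ k ih =>
      intro v hv hvk
      have hgv : g * v * g⁻¹ ∈ V := (Subgroup.mem_normalizer_iff.mp hg v).mp hv
      obtain ⟨f, hf⟩ : ∃ f, f = g * v * g⁻¹ * v⁻¹ := ⟨_, rfl⟩
      have hfV : f ∈ V := by rw [hf]; exact V.mul_mem hgv (V.inv_mem hv)
      have hu : v ^ 2 ^ k ∈ Cfsg.omegaOne 2 V := by
        apply Subgroup.subset_closure
        exact ⟨V.pow_mem hv _, by rw [← pow_mul, ← pow_succ]; exact hvk⟩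
      have hgu : g * v ^ 2 ^ k * g⁻¹ = v ^ 2 ^ k := by
        have := Subgroup.mem_centralizer_iff.mp hgW _ hu
        rw [← this]; group
      have hfk : f ^ 2 ^ k = 1 := by
        rw [hf, (show Commute (g * v * g⁻¹) v⁻¹ from hVc _ hgv _ (V.inv_mem hv)).mul_pow,
          conj_pow, hgu, inv_pow, mul_inv_cancel]
      have hgf : g * f * g⁻¹ = f := ih f hfV hfk
      have hpow : ∀ n : ℕ, g ^ n * v = f ^ n * v * g ^ n := by
        intro n
        induction n with
        | zero => simp
        | succ n ihn =>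
          have e1 : g * v = f * v * g := by rw [hf]; group
          have e2 : g * f ^ n = f ^ n * g := by
            have hc : Commute g f := by
              show g * f = f * g
              calc g * f = (g * f * g⁻¹) * g := by group
                _ = f * g := by rw [hgf]
            exact (hc.pow_right n).eq
          calc g ^ (n + 1) * v = g * (g ^ n * v) := by rw [pow_succ']; group
            _ = g * (f ^ n * v * g ^ n) := by rw [ihn]
            _ = (g * f ^ n) * v * g ^ n := by group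
            _ = (f ^ n * g) * v * g ^ n := by rw [e2]
            _ = f ^ n * (g * v) * g ^ n := by group
            _ = f ^ n * (f * v * g) * g ^ n := by rw [e1]
            _ = f ^ (n + 1) * v * g ^ (n + 1) := by rw [pow_succ, pow_succ']; group
      have h1 := hpow (orderOf g)
      rw [pow_orderOf_eq_one, one_mul, mul_one] at h1
      have hfn : f ^ orderOf g = 1 := mul_eq_right.mp h1.symm
      have hd1 : orderOf f ∣ orderOf g := orderOf_dvd_of_pow_eq_one hfn
      have hd2 : orderOf f ∣ 2 ^ k := orderOf_dvd_of_pow_eq_one hfk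
      have hcop : Nat.Coprime (orderOf g) (2 ^ k) := Nat.Coprime.pow_right k hodd.coprime_two_right
      have hd3 : orderOf f ∣ Nat.gcd (orderOf g) (2 ^ k) := Nat.dvd_gcd hd1 hd2
      rw [Nat.Coprime.gcd_eq_one hcop] at hd3
      have hf1 : f = 1 := orderOf_eq_one_iff.mp (Nat.dvd_one.mp hd3)
      rw [hf1] at hf
      exact (mul_inv_eq_one.mp hf.symm)
  rw [Subgroup.mem_centralizer_iff]
  intro v hv
  obtain ⟨k, hk⟩ := hV2 ⟨v, hv⟩
  have h := key k v hv (congrArg Subtype.val hk)
  calc v * g = (g * v * g⁻¹) * g := by rw [h]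
    _ = g * v := by group

theorem centralizer_normalClosure_eq (Z : Subgroup X) :
    Subgroup.centralizer ((Subgroup.normalClosure (Z : Set X) : Subgroup X) : Set X) =
      (Subgroup.centralizer (Z : Set X)).normalCore := by
  apply le_antisymm
  · rw [Subgroup.normal_le_normalCore]
    exact Subgroup.centralizer_le Subgroup.subset_normalClosure
  · rw [Subgroup.le_centralizer_iff]
    apply Subgroup.normalClosure_le_normal
    intro z hz
    rw [SetLike.mem_coe, Subgroup.mem_centralizer_iff]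
    intro c hc
    exact (Subgroup.mem_centralizer_iff.mp (Subgroup.normalCore_le _ hc) z hz).symm

/-- no normal 2-subgroup in `X / C_X(Ω₁(V))` for `V = ⟨Z(T)^X⟩` abelian -/
theorem kernel_facts [Finite X] (T : Sylow 2 X) (V : Subgroup X) [V.Normal]
    (hVc : ∀ x ∈ V, ∀ y ∈ V, x * y = y * x) (hV2 : IsPGroup 2 V)
    (hVZ : V = Subgroup.normalClosure (((T : Subgroup X) ⊓
      Subgroup.centralizer ((T : Subgroup X) : Set X) : Subgroup X) : Set X)) :
    ∀ D : Subgroup X, D.Normal → Subgroup.centralizer (Cfsg.omegaOne 2 V : Set X) ≤ D →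
      (∃ k : ℕ, (Subgroup.centralizer (Cfsg.omegaOne 2 V : Set X)).relIndex D = 2 ^ k) →
      D ≤ Subgroup.centralizer (V : Set X) := by
  intro D hDn hCD ⟨k, hk⟩
  have hp2 : Fact (Nat.Prime 2) := ⟨Nat.prime_two⟩
  have hWV : Cfsg.omegaOne 2 V ≤ V := fun w hw => (omegaOne_two_mem hVc w hw).1
  have hCVW : Subgroup.centralizer (V : Set X) ≤ Subgroup.centralizer (Cfsg.omegaOne 2 V : Set X) :=
    Subgroup.centralizer_le hWV
  have hidx1 : ∃ j : ℕ, (Subgroup.centralizer (V : Set X)).relIndex
      (Subgroup.centralizer (Cfsg.omegaOne 2 V : Set X)) = 2 ^ j := by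
    have hQ : IsPGroup 2 (↥(Subgroup.centralizer (Cfsg.omegaOne 2 V : Set X)) ⧸
        (Subgroup.centralizer (V : Set X)).subgroupOf
          (Subgroup.centralizer (Cfsg.omegaOne 2 V : Set X))) := by
      intro q
      induction q using QuotientGroup.induction_on with
      | H g =>
        obtain ⟨g, hg⟩ := g
        obtain ⟨k', m, hm, hkm⟩ := Nat.exists_eq_two_pow_mul_odd (orderOf_pos g).ne'
        refine ⟨k', ?_⟩
        rw [← QuotientGroup.mk_pow, QuotientGroup.eq_one_iff, Subgroup.mem_subgroupOf]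
        show g ^ 2 ^ k' ∈ Subgroup.centralizer (V : Set X)
        apply centralizes_of_centralizes_omegaOne hVc hV2
        · rw [Subgroup.normalizer_eq_top]; exact Subgroup.mem_top _
        · have : (g ^ 2 ^ k') ^ m = 1 := by rw [← pow_mul, ← hkm, pow_orderOf_eq_one]
          exact Odd.of_dvd_nat hm (orderOf_dvd_of_pow_eq_one this)
        · exact Subgroup.pow_mem _ hg _
    exact IsPGroup.iff_card.mp hQ
  obtain ⟨j, hj⟩ := hidx1
  have hidx : ∃ i : ℕ, (Subgroup.centralizer (V : Set X)).relIndex D = 2 ^ i := by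
    refine ⟨j + k, ?_⟩
    rw [← Subgroup.relIndex_mul_relIndex _ _ D hCVW hCD, hj, hk, pow_add]
  have hDle := Cfsg.Agent.Lib.helper13.le_sup_sylow_inf_of_relIndex_pow T
    (Subgroup.centralizer (V : Set X)) D hidx
  have hZV : (T : Subgroup X) ⊓ Subgroup.centralizer ((T : Subgroup X) : Set X) ≤ V := by
    rw [hVZ]; exact Subgroup.le_normalClosure
  have hDZ : D ≤ Subgroup.centralizer (((T : Subgroup X) ⊓
      Subgroup.centralizer ((T : Subgroup X) : Set X) : Subgroup X) : Set X) := by
    refine hDle.trans (sup_le ?_ ?_)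
    · exact Subgroup.centralizer_le hZV
    · intro x hx
      rw [Subgroup.mem_centralizer_iff]
      intro z hz
      exact (Subgroup.mem_centralizer_iff.mp hz.2 x hx.1).symm
  have h1 : D ≤ (Subgroup.centralizer (((T : Subgroup X) ⊓
      Subgroup.centralizer ((T : Subgroup X) : Set X) : Subgroup X) : Set X)).normalCore :=
    (Subgroup.normal_le_normalCore).mpr hDZ
  rw [← centralizer_normalClosure_eq, ← hVZ] at h1
  exact h1

/-- abelian subgroups of maximal order are weak best offenders on abelian `W ≤ T` -/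
theorem weak_offender_of_mem_famE [Finite X] {T W A : Subgroup X} (hWT : W ≤ T)
    (hWc : ∀ x ∈ W, ∀ y ∈ W, x * y = y * x) (hA : A ∈ famE 0 T) :
    ∀ B : Subgroup X, B ≤ A →
      Nat.card B * Nat.card ↥(W ⊓ Subgroup.centralizer (B : Set X)) ≤
        Nat.card A * Nat.card ↥(W ⊓ Subgroup.centralizer (A : Set X)) := by
  obtain ⟨hAT, hAg, hAmax⟩ := hA
  intro B hB
  have hAc : ∀ x ∈ A, ∀ y ∈ A, x * y = y * x := fun x hx y hy => goodE_commute hAg hx hy
  have hBU : B ≤ Subgroup.centralizer ((W ⊓ Subgroup.centralizer (B : Set X) : Subgroup X) : Set X) := by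
    intro b hb
    rw [Subgroup.mem_centralizer_iff]
    intro u hu
    exact (Subgroup.mem_centralizer_iff.mp hu.2 b hb).symm
  have hcomm : ∀ x ∈ B ⊔ (W ⊓ Subgroup.centralizer (B : Set X)),
      ∀ y ∈ B ⊔ (W ⊓ Subgroup.centralizer (B : Set X)), x * y = y * x := by
    have hle : B ⊔ (W ⊓ Subgroup.centralizer (B : Set X)) ≤ Subgroup.centralizer
        ((B ⊔ (W ⊓ Subgroup.centralizer (B : Set X)) : Subgroup X) : Set X) := by
      rw [Cfsg.Agent.Lib.helper13.centralizer_sup_eq]
      refine sup_le (le_inf ?_ hBU) (le_inf ?_ ?_)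
      · intro b hb
        rw [Subgroup.mem_centralizer_iff]
        intro c hc
        exact hAc c (hB hc) b (hB hb)
      · exact inf_le_right
      · intro u hu
        rw [Subgroup.mem_centralizer_iff]
        intro u' hu'
        exact hWc u' hu'.1 u hu.1
    intro x hx y hy
    exact Subgroup.mem_centralizer_iff.mp (hle hy) x hx
  have hgood : GoodE 0 (B ⊔ (W ⊓ Subgroup.centralizer (B : Set X))) :=
    ⟨Cfsg.Agent.Lib.helper13.isMulCommutative_of_forall_comm _ hcomm, fun a _ => pow_zero a⟩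
  have h1 := hAmax _ (sup_le (hB.trans hAT) (inf_le_left.trans hWT)) hgood
  have h2 := Cfsg.Agent.Lib.helper13.card_sup_mul_card_inf B
    (W ⊓ Subgroup.centralizer (B : Set X)) (hBU.trans (Subgroup.centralizer_le_normalizer _))
  have h3 : B ⊓ (W ⊓ Subgroup.centralizer (B : Set X)) ≤ W ⊓ Subgroup.centralizer (A : Set X) := by
    intro x hx
    refine Subgroup.mem_inf.mpr ⟨hx.2.1, ?_⟩
    rw [Subgroup.mem_centralizer_iff]
    intro a ha
    exact hAc a ha x (hB hx.1)
  have h4 := Subgroup.card_le_of_le h3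
  calc Nat.card B * Nat.card ↥(W ⊓ Subgroup.centralizer (B : Set X))
      = Nat.card ↥(B ⊔ (W ⊓ Subgroup.centralizer (B : Set X))) *
        Nat.card ↥(B ⊓ (W ⊓ Subgroup.centralizer (B : Set X))) := h2.symm
    _ ≤ Nat.card A * Nat.card ↥(W ⊓ Subgroup.centralizer (A : Set X)) := Nat.mul_le_mul h1 h4

theorem isBestOffenderOn_cj {p : ℕ} {V B : Subgroup X} {g : X}
    (hg : g ∈ Subgroup.normalizer (V : Set X)) (hB : Cfsg.IsBestOffenderOn p V B) :
    Cfsg.IsBestOffenderOn p V (cj g B) := by
  have := isBestOffenderOn_map_injective (MulAut.conj g).toMonoidHom (MulAut.conj g).injective hB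
  rwa [show V.map (MulAut.conj g).toMonoidHom = V from cj_eq_of_mem_normalizer hg] at this

end Omega

open Cfsg.Agent.Lib.helper13 in
/-- Solvable Thompson factorization with `S₃`-blocks. -/
theorem solv_ff_main {X : Type*} [Group X] [Finite X] [hsolv : Group.IsSolvable X]
    (hF : Cfsg.fittingSubgroup X = Cfsg.pCore 2 X) (T : Sylow 2 X) :
    ((Subgroup.centralizer (((T : Subgroup X) ⊓ Subgroup.centralizer ((T : Subgroup X) : Set X) : Subgroup X) : Set X)).normalCore
        ⊔ Subgroup.normalClosure (Cfsg.thompsonSubgroupAOf (T : Subgroup X) : Set X)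
        ⊔ Subgroup.normalizer (Cfsg.thompsonSubgroupAOf (T : Subgroup X) : Set X) = ⊤) ∧
    (Subgroup.normalClosure (Cfsg.thompsonSubgroupAOf (T : Subgroup X) : Set X)
        ≤ (Subgroup.centralizer (((T : Subgroup X) ⊓ Subgroup.centralizer ((T : Subgroup X) : Set X) : Subgroup X) : Set X)).normalCore
      ∨ ∃ n : ℕ, 1 ≤ n ∧
        Nonempty (↥(Subgroup.normalClosure (Cfsg.thompsonSubgroupAOf (T : Subgroup X) : Set X)) ⧸
            ((Subgroup.centralizer (((T : Subgroup X) ⊓ Subgroup.centralizer ((T : Subgroup X) : Set X) : Subgroup X) : Set X)).normalCore).subgroupOf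
              (Subgroup.normalClosure (Cfsg.thompsonSubgroupAOf (T : Subgroup X) : Set X))
          ≃* (Fin n → Equiv.Perm (Fin 3)))) := by
  have hp2 : Fact (Nat.Prime 2) := ⟨Nat.prime_two⟩
  obtain ⟨Z, hZ⟩ : ∃ Z : Subgroup X,
      Z = (T : Subgroup X) ⊓ Subgroup.centralizer ((T : Subgroup X) : Set X) := ⟨_, rfl⟩
  obtain ⟨J, hJ⟩ : ∃ J : Subgroup X, J = Cfsg.thompsonSubgroupAOf (T : Subgroup X) := ⟨_, rfl⟩
  rw [← hZ, ← hJ]
  obtain ⟨Y, hY⟩ : ∃ Y : Subgroup X, Y = Subgroup.normalClosure (J : Set X) := ⟨_, rfl⟩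
  rw [← hY]
  have hYn : Y.Normal := by rw [hY]; infer_instance
  have hJY : J ≤ Y := by rw [hY]; exact Subgroup.le_normalClosure
  have hfam : ∀ A ∈ famE 0 (T : Subgroup X), A ≤ J := fun A hA => by
    rw [hJ]; exact Cfsg.Agent.Lib.helper51.le_thompsonA hA
  constructor
  · -- Frattini argument
    obtain ⟨PL, hPL⟩ := Cfsg.Agent.Lib.helper53.exists_sylow_eq_inf_normal T Y
    have hfr := Sylow.normalizer_sup_eq_top PL
    rw [hPL] at hfr
    have hJeq : Cfsg.thompsonSubgroupAOf ((T : Subgroup X) ⊓ Y) = J := by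
      rw [hJ, Cfsg.Agent.Lib.helper51.thompsonA_eq_sSup, Cfsg.Agent.Lib.helper51.thompsonA_eq_sSup]
      congr 1
      obtain ⟨A₀, hA₀⟩ := famE_nonempty 0 (T : Subgroup X)
      apply Set.Subset.antisymm
      · exact famE_subset inf_le_left hA₀ (le_inf hA₀.1 ((hfam A₀ hA₀).trans hJY))
      · intro A hA
        exact mem_famE_of_le inf_le_left hA (le_inf hA.1 ((hfam A hA).trans hJY))
    have hN : Subgroup.normalizer ((((T : Subgroup X) ⊓ Y : Subgroup X)) : Set X) ≤
        Subgroup.normalizer (J : Set X) := by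
      rw [← hJeq]
      exact Cfsg.Agent.Lib.helper51.normalizer_le_normalizer_thompsonA _
    rw [eq_top_iff, ← hfr]
    exact sup_le (hN.trans le_sup_right) (le_sup_right.trans le_sup_left)
  · have hc : Subgroup.centralizer (Cfsg.pCore 2 X : Set X) ≤ Cfsg.pCore 2 X := by
      rw [← hF]
      exact Cfsg.Agent.Lib.helper28.centralizer_fittingSubgroup_le_iff.mpr
        Cfsg.Agent.Lib.helper27.layer_eq_bot_of_isSolvable
    have hOT : Cfsg.pCore 2 X ≤ T := Cfsg.Agent.Lib.helper55.pCore_le_sylow T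
    have hOn : (Cfsg.pCore 2 X).Normal := Cfsg.Agent.Lib.helper40.pCore_normal' 2 X
    have hZcO : Z ≤ Subgroup.centralizer (Cfsg.pCore 2 X : Set X) := by
      rw [hZ]; exact inf_le_right.trans (Subgroup.centralizer_le hOT)
    have hZO : Z ≤ Cfsg.pCore 2 X := hZcO.trans hc
    obtain ⟨V, hV⟩ : ∃ V : Subgroup X, V = Subgroup.normalClosure (Z : Set X) := ⟨_, rfl⟩
    have hVn : V.Normal := by rw [hV]; infer_instance
    have hVO : V ≤ Cfsg.pCore 2 X := by rw [hV]; exact Subgroup.normalClosure_le_normal hZO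
    have hVcO : V ≤ Subgroup.centralizer (Cfsg.pCore 2 X : Set X) := by
      rw [hV]; exact Subgroup.normalClosure_le_normal hZcO
    have hVc : ∀ x ∈ V, ∀ y ∈ V, x * y = y * x := by
      intro x hx y hy
      exact Subgroup.mem_centralizer_iff.mp (hVcO hy) x (hVO hx)
    have hV2 : IsPGroup 2 V := T.isPGroup'.to_le (hVO.trans hOT)
    have hkern := kernel_facts T V hVc hV2 (by rw [hV, hZ])
    obtain ⟨W, hW⟩ : ∃ W : Subgroup X, W = Cfsg.omegaOne 2 V := ⟨_, rfl⟩
    rw [← hW] at hkern
    have hWn : W.Normal := by rw [hW]; exact omegaOne_normal_of_normal 2 V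
    have hWV : W ≤ V := by rw [hW]; exact fun w hw => (omegaOne_two_mem hVc w hw).1
    have hWel : Cfsg.IsElementaryAbelian 2 W := by
      refine ⟨isMulCommutative_of_forall_comm _
        (fun a ha b hb => hVc a (hWV ha) b (hWV hb)), ?_⟩
      intro a ha
      rw [hW] at ha
      exact (omegaOne_two_mem hVc a ha).2
    have hWT : W ≤ T := hWV.trans (hVO.trans hOT)
    have hCV : Subgroup.centralizer (V : Set X) = (Subgroup.centralizer (Z : Set X)).normalCore := by
      rw [hV]; exact centralizer_normalClosure_eq Z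
    have hCVW : Subgroup.centralizer (V : Set X) ≤ Subgroup.centralizer (W : Set X) :=
      Subgroup.centralizer_le hWV
    have hCWn : (Subgroup.centralizer (W : Set X)).Normal := inferInstance
    have hCW : Subgroup.centralizer (W : Set X) = (Subgroup.centralizer (Z : Set X)).normalCore := by
      rw [← hCV]
      apply le_antisymm _ hCVW
      exact hkern _ hCWn le_rfl ⟨0, by rw [Subgroup.relIndex_self, pow_zero]⟩
    have hOq : Cfsg.pCore 2 (X ⧸ Subgroup.centralizer (W : Set X)) = ⊥ := by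
      apply Cfsg.Agent.S0618.pCore_quotient_eq_bot
      intro D hDn hCD hidx
      exact le_antisymm ((hkern D hDn hCD hidx).trans hCVW) hCD
    have hsep : Cfsg.IsPSolvable 2 X := Cfsg.Agent.Lib.helper29.isPSolvable_of_isSolvable 2 hsolv
    have hfin := fm_finite W
    have hfmVn := fmV_normal W
    have hV' := fmV_elemAb W hWel
    have hnormV : ∀ g : FM W, g ∈ Subgroup.normalizer ((fmV W : Subgroup (FM W)) : Set (FM W)) := by
      intro g
      rw [Subgroup.normalizer_eq_top_iff.mpr hfmVn]; exact Subgroup.mem_top g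
    obtain ⟨H₀, hH₀⟩ : ∃ H₀ : Subgroup (FM W), H₀ = ⨆ B : {B : Subgroup (FM W) //
        B ≤ Y.map (fmPi W) ∧ Cfsg.IsBestOffenderOn 2 (fmV W) B}, (B : Subgroup (FM W)) := ⟨_, rfl⟩
    have hH₀Y : H₀ ≤ Y.map (fmPi W) := by rw [hH₀]; exact iSup_le fun B => B.2.1
    have hBH₀ : ∀ B : Subgroup (FM W), B ≤ Y.map (fmPi W) →
        Cfsg.IsBestOffenderOn 2 (fmV W) B → B ≤ H₀ := by
      intro B h1 h2
      rw [hH₀]
      exact le_iSup (fun B : {B : Subgroup (FM W) // B ≤ Y.map (fmPi W) ∧
        Cfsg.IsBestOffenderOn 2 (fmV W) B} => (B : Subgroup (FM W))) ⟨B, h1, h2⟩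
    have hYmap : ∀ x : X, cj (fmPi W x) (Y.map (fmPi W)) ≤ Y.map (fmPi W) := by
      intro x
      rintro _ ⟨_, ⟨y, hy, rfl⟩, rfl⟩
      refine ⟨x * y * x⁻¹, hYn.conj_mem y hy x, ?_⟩
      simp [map_mul, map_inv]
    have hcjH₀ : ∀ x : X, cj (fmPi W x) H₀ ≤ H₀ := by
      intro x
      have e : cj (fmPi W x) H₀ = ⨆ B : {B : Subgroup (FM W) // B ≤ Y.map (fmPi W) ∧
          Cfsg.IsBestOffenderOn 2 (fmV W) B}, cj (fmPi W x) (B : Subgroup (FM W)) := by
        rw [hH₀]
        exact Subgroup.map_iSup _ _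
      rw [e]
      apply iSup_le
      rintro ⟨B, hB1, hB2⟩
      exact hBH₀ _ ((Subgroup.map_mono hB1).trans (hYmap x)) (isBestOffenderOn_cj (hnormV _) hB2)
    have hnormH₀ : ∀ x : X, fmPi W x ∈ Subgroup.normalizer (H₀ : Set (FM W)) := by
      intro x
      apply mem_normalizer_of_cj_le (hcjH₀ x)
      have := hcjH₀ x⁻¹
      rwa [map_inv] at this
    obtain ⟨J', hJ'⟩ : ∃ J' : Subgroup X, J' = H₀.comap (fmPi W) := ⟨_, rfl⟩
    have hJ'n : J'.Normal := by
      rw [hJ']
      constructor
      intro n hn g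
      rw [Subgroup.mem_comap] at hn ⊢
      rw [map_mul, map_mul, map_inv]
      exact (Subgroup.mem_normalizer_iff.mp (hnormH₀ g) _).mp hn
    have hmap : J'.map (fmPi W) = H₀ := by
      rw [hJ', Subgroup.map_comap_eq, inf_eq_right]
      exact hH₀Y.trans (Subgroup.map_le_range (fmPi W) Y)
    have hHV : H₀ ≤ Subgroup.normalizer ((fmV W : Subgroup (FM W)) : Set (FM W)) :=
      fun g _ => hnormV g
    have hf : H₀ ⊓ Subgroup.centralizer ((fmV W : Subgroup (FM W)) : Set (FM W)) = ⊥ := by
      rw [← hmap]; exact fm_faithful W J'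
    have hS1 : Subgroup.centralizer (Cfsg.pPrimeCore 2 ↥H₀ : Set ↥H₀) ≤ Cfsg.pPrimeCore 2 ↥H₀ := by
      have aux : ∀ K : Subgroup (FM W), J'.map (fmPi W) = K →
          Subgroup.centralizer (Cfsg.pPrimeCore 2 ↥K : Set ↥K) ≤ Cfsg.pPrimeCore 2 ↥K := by
        rintro _ rfl
        exact fm_hS1 W hsep hOq J'
      exact aux H₀ hmap
    have hS3 : H₀ = ⨆ A : {A : Subgroup (FM W) // A ≤ H₀ ∧
        Cfsg.IsBestOffenderOn 2 (fmV W) A}, (A : Subgroup (FM W)) := by
      apply le_antisymm
      · conv_lhs => rw [hH₀]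
        apply iSup_le
        rintro ⟨B, hB1, hB2⟩
        exact le_iSup (fun A : {A : Subgroup (FM W) // A ≤ H₀ ∧
          Cfsg.IsBestOffenderOn 2 (fmV W) A} => (A : Subgroup (FM W))) ⟨B, hBH₀ B hB1 hB2, hB2⟩
      · exact iSup_le fun A => A.2.1
    have hAH₀ : ∀ A ∈ famE 0 (T : Subgroup X), A.map (fmPi W) ≤ H₀ := by
      intro A hA
      have hAT : A ≤ T := hA.1
      have hAc : ∀ a ∈ A, ∀ b ∈ A, a * b = b * a := fun a ha b hb => goodE_commute hA.2.1 ha hb
      have hweak := weak_offender_of_mem_famE hWT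
        (fun x hx y hy => hVc x (hWV hx) y (hWV hy)) hA
      have hBO0 : Cfsg.IsBestOffenderOn 0 W A := by
        refine ⟨hweak, ?_, fun a _ => by rw [pow_zero]; exact Subgroup.one_mem _⟩
        have : ⁅A, A⁆ = ⊥ := by
          rw [Subgroup.commutator_eq_bot_iff_le_centralizer]
          intro a ha
          rw [Subgroup.mem_centralizer_iff]
          intro b hb
          exact hAc b hb a ha
        rw [this]; exact bot_le
      have hBO0' := (isBestOffenderOn_map W hBO0).1
      apply weak_le (fmV W) H₀ hV' hHV hf hS1 hS3 (A.map (fmPi W))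
      · exact fm_hHV W A
      · rintro _ ⟨a, -, rfl⟩; exact hnormH₀ a
      · rintro _ ⟨a, ha, rfl⟩ _ ⟨b, hb, rfl⟩
        rw [← map_mul, ← map_mul, hAc a ha b hb]
      · exact fm_faithful W A
      · exact (T.isPGroup'.to_le hAT).map (fmPi W)
      · exact hBO0'
      · intro B hB hBO
        exact hBH₀ B (hB.trans (Subgroup.map_mono ((hfam A hA).trans hJY))) hBO
    have hYH₀ : Y.map (fmPi W) = H₀ := by
      apply le_antisymm _ hH₀Y
      rw [Subgroup.map_le_iff_le_comap, ← hJ', hY]
      apply Subgroup.normalClosure_le_normal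
      rw [hJ, Cfsg.Agent.Lib.helper51.thompsonA_eq_sSup, SetLike.coe_subset_coe]
      apply sSup_le
      intro A hA
      rw [hJ', ← Subgroup.map_le_iff_le_comap]
      exact hAH₀ A hA
    have hk : ∀ y : X, fmPi W y = 1 ↔ y ∈ Subgroup.centralizer (W : Set X) := by
      intro y
      rw [← MonoidHom.mem_ker, fmPi_ker]
    by_cases hH1 : H₀ = ⊥
    · left
      rw [← hCW]
      intro y hy
      have h1 : fmPi W y ∈ Y.map (fmPi W) := Subgroup.mem_map_of_mem _ hy
      rw [hYH₀, hH1, Subgroup.mem_bot] at h1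
      exact (hk y).mp h1
    · right
      obtain ⟨-, hE, hind, hsupE, -, -⟩ :=
        Cfsg.Agent.S0617.result (fmV W) H₀ hV' hHV hf hS1 hS3 hH1
      obtain ⟨n, hn, ⟨e⟩⟩ := nonempty_mulEquiv_pi_perm H₀ hH1 _
        (fun E => ⟨(hE E).1, (hE E).2.1⟩) hind hsupE
      refine ⟨n, hn, ⟨?_⟩⟩
      have hφ : Function.Surjective ((fmPi W).subgroupMap Y) :=
        MonoidHom.subgroupMap_surjective _ _
      have hkerφ : ((fmPi W).subgroupMap Y).ker =
          ((Subgroup.centralizer (Z : Set X)).normalCore).subgroupOf Y := by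
        rw [← hCW]
        ext y
        rw [MonoidHom.mem_ker, Subgroup.mem_subgroupOf, ← hk]
        constructor
        · intro h; exact congrArg Subtype.val h
        · intro h; exact Subtype.ext h
      exact ((QuotientGroup.quotientMulEquivOfEq hkerφ).symm.trans
        (QuotientGroup.quotientKerEquivOfSurjective _ hφ)).trans
          ((MulEquiv.subgroupCongr hYH₀).trans e)

end Cfsg.Agent.Lib.helper14
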