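import Mathlib
import Cfsg.Prelude.Def_PLocal
import Cfsg.Agent.S0623
import Cfsg.Agent.S0029
import Cfsg.Agent.Lib.helper14.StableW
import Cfsg.Agent.Lib.helper14.ZJBridge
import Cfsg.Agent.Lib.helper14.PConstrained
import Cfsg.Agent.Lib.helper53.PCore
import Cfsg.Agent.Lib.helper53.Conj
import Cfsg.Agent.Lib.helper54.AxB
import Cfsg.Agent.Lib.helper55.Basic
import Cfsg.Agent.Lib.helper13.Thompson2

/-!
# `W(S)` inside a finite group: tools for the analogue of the ZJ-theorem

* `maxElem_map_subtype` : the largest elementary abelian subgroups of a Sylow subgroup are largest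
  elementary abelian subgroups of the group.
* `stableNormalClosure_normal` : `W(S) ⊴ S`.
* `commute_of_quadratic_stableNormalClosure` : S0623 for elements of an ambient group.
* `centralizes_normalClosure_of_quadratic` : "quadratic implies trivial" passes to normal closures.
* `normalizer_inf_le_normalizer_thompson`, `isStableEmbedding_inclusion`, `isPGroup_sectionKernel`.
-/

set_option autoImplicit false

namespace Cfsg.Agent.Lib.helper14

open Subgroup Cfsg.Agent.Lib.helper40
open scoped commutatorElement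

section

variable {G : Type*} [Group G]

/-- `W(S) ⊴ S` -/
theorem stableNormalClosure_normal {S : Type*} [Group S] [Finite S] {p : ℕ} [Fact p.Prime]
    (hS : IsPGroup p S) : (Cfsg.stableNormalClosure p S).Normal := by
  constructor
  intro w hw s
  have h := stableNormalClosure_map hS (MulAut.conj s)
  rw [← h]
  exact ⟨w, hw, by simp⟩

/-- the largest elementary abelian subgroups of a Sylow subgroup are largest elementary abelian
subgroups of the group -/
theorem maxElem_map_subtype [Finite G] {p : ℕ} [Fact p.Prime] (S : Sylow p G)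
    {A : Subgroup ↥(S : Subgroup G)}
    (hA : A ∈ Cfsg.maxElementaryAbelianSubgroups p ↥(S : Subgroup G)) :
    A.map (S : Subgroup G).subtype ∈ Cfsg.maxElementaryAbelianSubgroups p G := by
  have hAc := hA.1.1
  refine ⟨⟨inferInstance, ?_⟩, ?_⟩
  · rintro _ ⟨a, ha, rfl⟩
    rw [← map_pow, hA.1.2 a ha, map_one]
  · intro E hE
    have hEc := hE.1
    have hEp : IsPGroup p E := by
      intro x
      refine ⟨1, ?_⟩
      rw [pow_one]
      apply Subtype.ext
      rw [Subgroup.coe_pow]
      exact hE.2 _ x.2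
    obtain ⟨g, hg⟩ := Cfsg.Agent.Lib.helper53.exists_le_conj_sylow hEp S
    have hE' : E.map (MulAut.conj g⁻¹).toMonoidHom ≤ (S : Subgroup G) :=
      Cfsg.Agent.Lib.helper53.le_conj_iff.mp hg
    have h1 : Cfsg.IsElementaryAbelian p
        ((E.map (MulAut.conj g⁻¹).toMonoidHom).subgroupOf (S : Subgroup G)) :=
      goodE_subgroupOf (goodE_map hE _) _
    have h2 := hA.2 _ h1
    rw [Subgroup.card_subtype]
    rw [Nat.card_congr (Subgroup.subgroupOfEquivOfLe hE').toEquiv,
      Subgroup.card_map_of_injective (MulAut.conj g⁻¹).injective] at h2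
    exact h2

/-- S0623 for elements of an ambient group -/
theorem commute_of_quadratic_stableNormalClosure [Finite G] {p : ℕ} [Fact p.Prime] (T : Subgroup G)
    (hT : IsPGroup p T) {t : G} (ht : t ∈ T)
    (hq : ⁅⁅(Cfsg.stableNormalClosure p ↥T).map T.subtype, Subgroup.zpowers t⁆,
      Subgroup.zpowers t⁆ = ⊥) :
    ∀ w ∈ (Cfsg.stableNormalClosure p ↥T).map T.subtype, w * t = t * w := by
  have hq' : ⁅⁅Cfsg.stableNormalClosure p ↥T, Subgroup.zpowers (⟨t, ht⟩ : ↥T)⁆,
      Subgroup.zpowers (⟨t, ht⟩ : ↥T)⁆ = ⊥ := by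
    apply (Subgroup.map_eq_bot_iff_of_injective _ T.subtype_injective).mp
    rw [Subgroup.map_commutator, Subgroup.map_commutator, MonoidHom.map_zpowers]
    exact hq
  have h := Cfsg.Agent.S0623.result hT ⟨t, ht⟩ hq'
  rintro _ ⟨w, hw, rfl⟩
  have h1 : ⁅w, (⟨t, ht⟩ : ↥T)⁆ ∈
      ⁅Cfsg.stableNormalClosure p ↥T, Subgroup.zpowers (⟨t, ht⟩ : ↥T)⁆ :=
    Subgroup.commutator_mem_commutator hw (Subgroup.mem_zpowers _)
  rw [h, Subgroup.mem_bot] at h1
  have h2 := commutatorElement_eq_one_iff_commute.mp h1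
  exact congrArg Subtype.val h2.eq

/-- "quadratic implies trivial" passes from a subgroup `U` to its normal closure `V`, when the group
acts `p`-stably on `V`: the hypothesis is only needed for the elements of one Sylow subgroup. -/
theorem centralizes_normalClosure_of_quadratic_aux [Finite G] {p : ℕ} [Fact p.Prime] (P : Sylow p G)
    (U : Subgroup G)
    (hQ : ∀ s ∈ (P : Subgroup G), ⁅⁅U, Subgroup.zpowers s⁆, Subgroup.zpowers s⁆ = ⊥ →
      ∀ u ∈ U, u * s = s * u)
    (V : Subgroup G) [hVn : V.Normal] (hVdef : V = Subgroup.normalClosure (U : Set G))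
    (hst : Cfsg.IsPStableOn p V)
    (y : G)
    (hy : ⁅⁅V, Subgroup.zpowers y⁆, Subgroup.zpowers y⁆ = ⊥) :
    ∀ v ∈ V, v * y = y * v := by
  have hUV : U ≤ V := by rw [hVdef]; exact Subgroup.le_normalClosure
  suffices hcent : V ≤ Subgroup.centralizer ({y} : Set G) by
    intro v hv
    exact (Subgroup.mem_centralizer_iff.mp (hcent hv) y rfl).symm
  have hyD := hst y hy
  have hDn : ((Cfsg.pCore p (G ⧸ Subgroup.centralizer (V : Set G))).comap
      (QuotientGroup.mk' (Subgroup.centralizer (V : Set G)))).Normal := by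
    have := pCore_normal' p (G ⧸ Subgroup.centralizer (V : Set G))
    infer_instance
  obtain ⟨QD, hQD⟩ := Cfsg.Agent.Lib.helper53.exists_sylow_eq_inf_normal P
    ((Cfsg.pCore p (G ⧸ Subgroup.centralizer (V : Set G))).comap
      (QuotientGroup.mk' (Subgroup.centralizer (V : Set G))))
  have hCD : Subgroup.centralizer (V : Set G) ≤
      (Cfsg.pCore p (G ⧸ Subgroup.centralizer (V : Set G))).comap
        (QuotientGroup.mk' (Subgroup.centralizer (V : Set G))) := le_comap_mk'_self _ _
  have hDle : (Cfsg.pCore p (G ⧸ Subgroup.centralizer (V : Set G))).comap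
        (QuotientGroup.mk' (Subgroup.centralizer (V : Set G))) ≤
      Subgroup.centralizer (V : Set G) ⊔ ((P : Subgroup G) ⊓
        (Cfsg.pCore p (G ⧸ Subgroup.centralizer (V : Set G))).comap
          (QuotientGroup.mk' (Subgroup.centralizer (V : Set G)))) := by
    rw [← hQD]
    apply le_sup_sylow_of_relIndex _ _ hCD _ QD
    rw [← card_map_mk', Subgroup.map_comap_eq_self_of_surjective (QuotientGroup.mk'_surjective _)]
    exact IsPGroup.iff_card.mp (pCore_isPGroup p _)
  have hVle : Subgroup.normalClosure (U : Set G) ≤ Subgroup.centralizer ({y} : Set G) := by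
    unfold Subgroup.normalClosure
    rw [Subgroup.closure_le]
    intro z hz
    obtain ⟨u, hu, huz⟩ := Group.mem_conjugatesOfSet_iff.mp hz
    obtain ⟨h, rfl⟩ := isConj_iff.mp huz
    have huV : u ∈ V := hUV hu
    have hy'D : h⁻¹ * y * h ∈ (Cfsg.pCore p (G ⧸ Subgroup.centralizer (V : Set G))).comap
        (QuotientGroup.mk' (Subgroup.centralizer (V : Set G))) := by
      have := hDn.conj_mem y hyD h⁻¹
      simpa using this
    obtain ⟨c, hc, s, hs, hcs⟩ := Subgroup.mem_sup_of_normal_left.mp (hDle hy'D)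
    have hq' : ⁅⁅V, Subgroup.zpowers (h⁻¹ * y * h)⁆, Subgroup.zpowers (h⁻¹ * y * h)⁆ = ⊥ := by
      have e1 : V.map (MulAut.conj h⁻¹).toMonoidHom = V :=
        Subgroup.mem_normalizer_iff_map_conj_eq.mp
          (by rw [Subgroup.normalizer_eq_top_iff.mpr hVn]; trivial)
      have e2 : (Subgroup.zpowers y).map (MulAut.conj h⁻¹).toMonoidHom =
          Subgroup.zpowers (h⁻¹ * y * h) := by
        rw [MonoidHom.map_zpowers]
        congr 1
        simp
      rw [← e1, ← e2, ← Subgroup.map_commutator, ← Subgroup.map_commutator, hy, Subgroup.map_bot]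
    have hsame : ∀ v ∈ V, s * v * s⁻¹ = (h⁻¹ * y * h) * v * (h⁻¹ * y * h)⁻¹ := by
      intro v hv
      rw [← hcs]
      have h1 : s * v * s⁻¹ ∈ V := hVn.conj_mem v hv _
      have h2 := Subgroup.mem_centralizer_iff.mp hc _ h1
      calc s * v * s⁻¹ = (s * v * s⁻¹) * c * c⁻¹ := by group
        _ = c * (s * v * s⁻¹) * c⁻¹ := by rw [h2]
        _ = c * s * v * (c * s)⁻¹ := by group
    have hqs : ⁅⁅V, Subgroup.zpowers s⁆, Subgroup.zpowers s⁆ = ⊥ :=
      Cfsg.Agent.S0623.quadratic_of_same_action V _ _ hsame hq'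
    have hqU : ⁅⁅U, Subgroup.zpowers s⁆, Subgroup.zpowers s⁆ = ⊥ := by
      rw [eq_bot_iff, ← hqs]
      exact Subgroup.commutator_mono (Subgroup.commutator_mono hUV le_rfl) le_rfl
    have hus : u * s = s * u := hQ s (Subgroup.mem_inf.mp hs).1 hqU u hu
    rw [SetLike.mem_coe, Subgroup.mem_centralizer_iff]
    intro w hw
    rw [Set.mem_singleton_iff] at hw
    subst hw
    have h5 : u * c = c * u := Subgroup.mem_centralizer_iff.mp hc _ huV
    have h6 : (h⁻¹ * w * h) * u = u * (h⁻¹ * w * h) := by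
      calc (h⁻¹ * w * h) * u = c * s * u := by rw [hcs]
        _ = c * (u * s) := by rw [mul_assoc, hus]
        _ = (u * c) * s := by rw [← mul_assoc, h5]
        _ = u * (h⁻¹ * w * h) := by rw [mul_assoc, hcs]
    calc w * (h * u * h⁻¹) = h * ((h⁻¹ * w * h) * u) * h⁻¹ := by group
      _ = h * (u * (h⁻¹ * w * h)) * h⁻¹ := by rw [h6]
      _ = h * u * h⁻¹ * w := by group
  rw [hVdef]
  exact hVle

theorem centralizes_normalClosure_of_quadratic [Finite G] {p : ℕ} [Fact p.Prime] (P : Sylow p G)
    (U : Subgroup G)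
    (hQ : ∀ s ∈ (P : Subgroup G), ⁅⁅U, Subgroup.zpowers s⁆, Subgroup.zpowers s⁆ = ⊥ →
      ∀ u ∈ U, u * s = s * u)
    (hst : Cfsg.IsPStableOn p (Subgroup.normalClosure (U : Set G)))
    (y : G)
    (hy : ⁅⁅Subgroup.normalClosure (U : Set G), Subgroup.zpowers y⁆, Subgroup.zpowers y⁆ = ⊥) :
    ∀ v ∈ Subgroup.normalClosure (U : Set G), v * y = y * v :=
  centralizes_normalClosure_of_quadratic_aux P U hQ _ rfl hst y hy

/-- if every largest elementary abelian subgroup of `S` lies in `C`, then `N_G(S ∩ C) ≤ N_G(J(S))` -/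
theorem normalizer_inf_le_normalizer_thompson [Finite G] {p : ℕ} [Fact p.Prime] (S : Sylow p G)
    (C : Subgroup G)
    (hC : ∀ A ∈ Cfsg.maxElementaryAbelianSubgroups p ↥(S : Subgroup G),
      A.map (S : Subgroup G).subtype ≤ C) :
    Subgroup.normalizer (((S : Subgroup G) ⊓ C : Subgroup G) : Set G) ≤
      Subgroup.normalizer (Cfsg.thompsonSubgroupOf p (S : Subgroup G) : Set G) := by
  have hJ : Cfsg.thompsonSubgroupOf p (S : Subgroup G) ≤ (S : Subgroup G) ⊓ C := by
    refine le_inf (Subgroup.map_subtype_le _) ?_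
    unfold Cfsg.thompsonSubgroupOf Cfsg.thompsonSubgroup
    rw [Subgroup.map_le_iff_le_comap]
    apply sSup_le
    intro A hA
    rw [← Subgroup.map_le_iff_le_comap]
    exact hC A hA
  rw [← Cfsg.Agent.Lib.helper13.thompsonSubgroupOf_eq_of_le (p := p) inf_le_left hJ]
  exact Cfsg.Agent.Lib.helper13.normalizer_le_normalizer_thompsonSubgroupOf p _

end

section

universe u

/-- the inclusion of a Sylow subgroup `S` into `N_G(J(S))` is a stable embedding, under the
hypotheses of the analogue of the ZJ-theorem -/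
theorem isStableEmbedding_inclusion {G : Type u} [Group G] [Finite G] {p : ℕ} [Fact p.Prime]
    (hc : Subgroup.centralizer (Cfsg.pCore p G : Set G) ≤ Cfsg.pCore p G) (S : Sylow p G)
    (hSN : (S : Subgroup G) ≤
      Subgroup.normalizer (Cfsg.thompsonSubgroupOf p (S : Subgroup G) : Set G))
    (h3 : ∀ (V : Subgroup ↥(Subgroup.normalizer
        (Cfsg.thompsonSubgroupOf p (S : Subgroup G) : Set G))) [V.Normal],
      V.map (Subgroup.normalizer (Cfsg.thompsonSubgroupOf p (S : Subgroup G) : Set G)).subtype ≤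
        (Cfsg.omegaCenterThompson p ↥(S : Subgroup G)).map (S : Subgroup G).subtype →
      Cfsg.IsPStableOn p V) :
    Cfsg.IsStableEmbedding p (Subgroup.inclusion hSN) := by
  have hcomp : (Subgroup.normalizer
      (Cfsg.thompsonSubgroupOf p (S : Subgroup G) : Set G)).subtype.comp (Subgroup.inclusion hSN) =
      (S : Subgroup G).subtype := by
    ext x; rfl
  refine ⟨Subgroup.inclusion_injective hSN, inferInstance, ⟨S.subtype hSN, ?_⟩, ?_, ?_, ?_⟩
  · rw [Sylow.coe_subtype, Subgroup.inclusion_range]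
  · have h1 := Cfsg.Agent.Lib.helper54.charPIn_top hc
    have hJp : IsPGroup p (Cfsg.thompsonSubgroupOf p (S : Subgroup G)) :=
      S.isPGroup'.to_le (Subgroup.map_subtype_le _)
    have h2 := h1.inf_normalizer le_top hJp
    rw [top_inf_eq] at h2
    exact (Cfsg.Agent.Lib.helper54.charPIn_iff _).mp h2
  · have e : (Cfsg.thompsonSubgroup p ↥(S : Subgroup G)).map (Subgroup.inclusion hSN) =
        (Cfsg.thompsonSubgroupOf p (S : Subgroup G)).subgroupOf
          (Subgroup.normalizer (Cfsg.thompsonSubgroupOf p (S : Subgroup G) : Set G)) := by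
      apply Subgroup.map_injective (Subgroup.subtype_injective _)
      rw [Subgroup.map_map, hcomp, Subgroup.map_subgroupOf_eq_of_le Subgroup.le_normalizer]
      rfl
    rw [e]
    exact Subgroup.normal_in_normalizer
  · intro V hVn hV
    apply h3 V
    have := Subgroup.map_mono (f := (Subgroup.normalizer
      (Cfsg.thompsonSubgroupOf p (S : Subgroup G) : Set G)).subtype) hV
    rwa [Subgroup.map_map, hcomp] at this

end

/-- when `C_G(O_p(G)) ≤ O_p(G)`, the kernel of the action on `O_p(G)/Φ(O_p(G))` is a `p`-group -/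
theorem isPGroup_sectionKernel {G : Type*} [Group G] [Finite G] {p : ℕ} [Fact p.Prime]
    (hc : Subgroup.centralizer (Cfsg.pCore p G : Set G) ≤ Cfsg.pCore p G)
    [hΦ : ((frattini ↥(Cfsg.pCore p G)).map (Cfsg.pCore p G).subtype).Normal] :
    IsPGroup p (Cfsg.sectionKernel (Cfsg.pCore p G)
      ((frattini ↥(Cfsg.pCore p G)).map (Cfsg.pCore p G).subtype)) := by
  apply Cfsg.Agent.Lib.helper55.isPGroup_of_coprime_trivial
  intro x hx hxp
  have hQn : (Cfsg.pCore p G).Normal := pCore_normal' p G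
  have hQp : IsPGroup p (Cfsg.pCore p G) := pCore_isPGroup p G
  have h1 : Subgroup.zpowers x ≤ Subgroup.centralizer (Cfsg.pCore p G : Set G) := by
    apply Cfsg.Agent.S0029.result
    · rw [Subgroup.normalizer_eq_top_iff.mpr hQn]; exact le_top
    · rw [Nat.card_zpowers]
      obtain ⟨k, hk⟩ := IsPGroup.iff_card.mp (hQp.to_subgroup (frattini ↥(Cfsg.pCore p G)))
      rw [hk]
      exact Nat.Coprime.pow_right k hxp
    · intro a ha k hk
      have haK : a ∈ Cfsg.sectionKernel (Cfsg.pCore p G)
          ((frattini ↥(Cfsg.pCore p G)).map (Cfsg.pCore p G).subtype) :=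
        (Subgroup.zpowers_le.mpr hx) ha
      have h2 : (QuotientGroup.mk' ((frattini ↥(Cfsg.pCore p G)).map (Cfsg.pCore p G).subtype) a) ∈
          Subgroup.centralizer (((Cfsg.pCore p G).map (QuotientGroup.mk'
            ((frattini ↥(Cfsg.pCore p G)).map (Cfsg.pCore p G).subtype)) : Subgroup _) : Set _) := haK
      have h3 := Subgroup.mem_centralizer_iff.mp h2 _ (Subgroup.mem_map_of_mem _ hk)
      rw [← QuotientGroup.eq_one_iff]
      have h4 : ((a * k * a⁻¹ * k⁻¹ : G) : G ⧸ ((frattini ↥(Cfsg.pCore p G)).map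
          (Cfsg.pCore p G).subtype)) =
          (QuotientGroup.mk' _ a) * (QuotientGroup.mk' _ k) * (QuotientGroup.mk' _ a)⁻¹ *
            (QuotientGroup.mk' _ k)⁻¹ := rfl
      rw [h4, ← h3]
      group
  have hxQ : x ∈ Cfsg.pCore p G := hc (h1 (Subgroup.mem_zpowers x))
  exact Cfsg.Agent.Lib.helper55.eq_one_of_mem_of_coprime hQp hxQ hxp

end Cfsg.Agent.Lib.helper14
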