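import Mathlib
import Cfsg.Prelude.Def_PLocal
import Cfsg.Prelude.Def_ConjugacyFunctors
import Cfsg.Agent.S0624
import Cfsg.Agent.Lib.helper1.GT
import Cfsg.Agent.Lib.helper14.QuadStable

/-!
# Thompson's normal `p`-complement theorem for `W(S)`

`thompson_ws` : for `p` odd, `G` has a normal `p`-complement as soon as `N_G(W(S))` has one, `W(S)`
the stable normal closure of `Ω₁(Z(S))`.
-/

set_option autoImplicit false

namespace Cfsg.Agent.Lib.helper14

open Subgroup

universe u

/-- `W(S)` as a functor on groups -/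
def wsFunctor (p : ℕ) (Q : Type u) [Group Q] : Subgroup Q := Cfsg.stableNormalClosure p Q

theorem isCharPFunctor_wsFunctor (p : ℕ) [Fact p.Prime] :
    Cfsg.IsCharPFunctor.{u} p (wsFunctor p) := by
  constructor
  · intro Q _ _ hQ hnt h
    have h1 := omegaOne_center_le_stableNormalClosure (S := Q) p
    have h' : Cfsg.stableNormalClosure p Q = ⊥ := h
    rw [h'] at h1
    have hc : Nontrivial (Subgroup.center Q) := hQ.center_nontrivial
    have hcp : IsPGroup p (Subgroup.center Q) := hQ.to_subgroup _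
    have hdvd : p ∣ Nat.card (Subgroup.center Q) := by
      obtain ⟨n, hn⟩ := IsPGroup.iff_card.mp hcp
      rw [hn]
      have hn0 : n ≠ 0 := by
        rintro rfl
        rw [pow_zero] at hn
        exact (Finite.one_lt_card_iff_nontrivial.mpr hc).ne' hn
      exact dvd_pow_self p hn0
    obtain ⟨z, hz⟩ := exists_prime_orderOf_dvd_card' p hdvd
    have hzp : (z : Q) ^ p = 1 := by
      have := pow_orderOf_eq_one z
      rw [hz] at this
      exact congrArg Subtype.val this
    have hz1 : (z : Q) ∈ Cfsg.omegaOne p (Subgroup.center Q) :=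
      Subgroup.subset_closure ⟨z.2, hzp⟩
    have hz2 : (z : Q) = 1 := Subgroup.mem_bot.mp (h1 hz1)
    have hz3 : z = 1 := Subtype.ext hz2
    rw [hz3, orderOf_one] at hz
    exact (Fact.out : p.Prime).one_lt.ne hz
  · intro Q R _ _ _ hQ φ
    exact stableNormalClosure_map hQ φ

/-- in the minimal configuration of the Thompson reduction all `2`-subgroups are abelian -/
theorem two_subgroups_abelian_of_coatom {X : Type u} [Group X] [Finite X] (p : ℕ) [Fact p.Prime]
    (hp : p ≠ 2) (hquot : Cfsg.HasNormalPComplement p (X ⧸ Cfsg.pCore p X))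
    (hco : ∀ T : Sylow p X, IsCoatom (T : Subgroup X)) :
    ∀ Q : Subgroup X, IsPGroup 2 Q → ∀ x ∈ Q, ∀ y ∈ Q, x * y = y * x := by
  intro Q hQ x hx y hy
  obtain ⟨Kb, hKbn, hKbcop, j, hj⟩ := Cfsg.Agent.Lib.helper40.exists_normal_coprime_of_hasNPC hquot
  obtain ⟨T⟩ : Nonempty (Sylow p X) := inferInstance
  have hcomm := Cfsg.Agent.Lib.helper1.comm_of_coatom p (Cfsg.pCore p X) Kb hKbcop T (hco T)
  have h2p : Nat.Coprime 2 p := (Nat.coprime_primes Nat.prime_two Fact.out).mpr (Ne.symm hp)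
  have hmem : ∀ z ∈ Q, QuotientGroup.mk' (Cfsg.pCore p X) z ∈ Kb := by
    intro z hz
    have h1 : (QuotientGroup.mk' (Cfsg.pCore p X) z) ^ Kb.index ∈ Kb := Subgroup.pow_index_mem Kb _
    obtain ⟨k, hk⟩ := hQ ⟨z, hz⟩
    have hz2 : z ^ 2 ^ k = 1 := congrArg Subtype.val hk
    have h2 : orderOf (QuotientGroup.mk' (Cfsg.pCore p X) z) ∣ 2 ^ k :=
      orderOf_dvd_of_pow_eq_one (by rw [← map_pow, hz2, map_one])
    have hcop : (Kb.index).Coprime (orderOf (QuotientGroup.mk' (Cfsg.pCore p X) z)) := by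
      rw [hj]
      exact Nat.Coprime.pow_left j
        (Nat.Coprime.coprime_dvd_right h2 (Nat.Coprime.pow_right k h2p.symm))
    obtain ⟨m, hm⟩ := exists_pow_eq_self_of_coprime hcop
    rw [← hm]
    exact Subgroup.pow_mem _ h1 m
  have h3 := hcomm _ (hmem x hx) _ (hmem y hy)
  have h4 : x * y * x⁻¹ * y⁻¹ ∈ Cfsg.pCore p X := by
    rw [← QuotientGroup.eq_one_iff]
    show QuotientGroup.mk' (Cfsg.pCore p X) (x * y * x⁻¹ * y⁻¹) = 1
    rw [map_mul, map_mul, map_mul, map_inv, map_inv, h3]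
    group
  have h5 : x * y * x⁻¹ * y⁻¹ ∈ Q :=
    Q.mul_mem (Q.mul_mem (Q.mul_mem hx hy) (Q.inv_mem hx)) (Q.inv_mem hy)
  have h6 : x * y * x⁻¹ * y⁻¹ = 1 := by
    obtain ⟨k, hk⟩ := hQ ⟨_, h5⟩
    have hk' : (x * y * x⁻¹ * y⁻¹) ^ 2 ^ k = 1 := congrArg Subtype.val hk
    have h7 : orderOf (x * y * x⁻¹ * y⁻¹) ∣ 2 ^ k := orderOf_dvd_of_pow_eq_one hk'
    exact Cfsg.Agent.Lib.helper55.eq_one_of_mem_of_coprime
      (Cfsg.Agent.Lib.helper40.pCore_isPGroup p X) h4
      (Nat.Coprime.coprime_dvd_left h7 (Nat.Coprime.pow_left k h2p))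
  calc x * y = (x * y * x⁻¹ * y⁻¹) * (y * x) := by group
    _ = y * x := by rw [h6, one_mul]

/-- **Thompson's normal `p`-complement theorem for `W(S)`** (`p` odd) -/
theorem thompson_ws {G : Type u} [Group G] [Finite G] {p : ℕ} [Fact p.Prime] (hp : p ≠ 2)
    (S : Sylow p G)
    (hN : Cfsg.HasNormalPComplement p ↥(Subgroup.normalizer
      (((Cfsg.stableNormalClosure p ↥(S : Subgroup G)).map (S : Subgroup G).subtype) : Set G))) :
    Cfsg.HasNormalPComplement p G := by
  have hW := isCharPFunctor_wsFunctor.{u} p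
  have ax := Cfsg.Agent.Lib.helper40.redAx_hypW hW (fun _ _ => True) (fun _ _ _ _ => trivial)
    (fun _ _ _ _ _ => trivial)
  refine Cfsg.Agent.Lib.helper40.thompson_reduction ax ?_ G trivial
    (Cfsg.Agent.Lib.helper40.hypW_of_sylow hW S hN)
  intro X _ _ _ hP _ hcent hquot hco
  obtain ⟨T⟩ : Nonempty (Sylow p X) := inferInstance
  apply Cfsg.Agent.Lib.helper40.hasNPC_of_hypW_normal hP T
  have hab := two_subgroups_abelian_of_coatom p hp hquot hco
  have hst : Cfsg.IsActionPStable p X :=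
    isActionPStable_of_noSection p hp (noSL2Section_of_abelian_two p hp hab)
      (fun S' => noSL2Section_of_abelian_two p hp (fun Q hQ x hx y hy =>
        Subtype.ext (hab _ (hQ.map (Subgroup.normalizer
          (Cfsg.thompsonSubgroupOf p (S' : Subgroup X) : Set X)).subtype) (x : X)
          (Subgroup.mem_map_of_mem _ hx) (y : X) (Subgroup.mem_map_of_mem _ hy))))
  exact Cfsg.Agent.S0624.result hst hcent T

end Cfsg.Agent.Lib.helper14
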