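import Mathlib
import Cfsg.Agent.Lib.helper46.QuadAnis

set_option autoImplicit false

namespace Cfsg.Agent.Lib.helper14

open scoped IsMulCommutative

/-- No four distinct involutions. -/
def NoFourInv (P : Type*) [Group P] : Prop :=
  ∀ a b c d : P, a ≠ 1 → b ≠ 1 → c ≠ 1 → d ≠ 1 → a * a = 1 → b * b = 1 → c * c = 1 → d * d = 1 →
    a ≠ b → a ≠ c → a ≠ d → b ≠ c → b ≠ d → c ≠ d → False

theorem ti_iter_shift {P : Type*} [Group P] (γ : P →* P) (n : ℕ) (hγ : ∀ x, γ^[n] x = x)
    (hn : Odd n) (x t : P) (hx : γ x = x * t) (ht : γ t = t) (m : ℕ) (htm : t ^ (2 ^ m) = 1) :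
    t = 1 := by
  have h1 : ∀ j : ℕ, γ^[j] x = x * t ^ j := by
    intro j
    induction j with
    | zero => simp
    | succ j ih =>
      rw [Function.iterate_succ_apply', ih, map_mul, map_pow, hx, ht, pow_succ', mul_assoc]
  have h2 : t ^ n = 1 := by
    have := h1 n
    rw [hγ] at this
    exact (mul_eq_left.mp this.symm)
  have h3 : orderOf t ∣ n := orderOf_dvd_of_pow_eq_one h2
  have h4 : orderOf t ∣ 2 ^ m := orderOf_dvd_of_pow_eq_one htm
  have h5 : Nat.Coprime n (2 ^ m) := Nat.Coprime.pow_right _ (Nat.coprime_two_right.mpr hn)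
  have h6 : orderOf t = 1 := Nat.eq_one_of_dvd_coprimes h5 h3 h4
  exact orderOf_eq_one_iff.mp h6

theorem ti_odd_trivial {G₀ : Type*} [Group G₀] (γ : G₀ →* G₀) (n : ℕ) (hγ : ∀ x, γ^[n] x = x)
    (hn : Odd n) (H N : Subgroup G₀) (hH : ∀ x ∈ H, γ x ∈ H)
    (h2 : ∀ x ∈ H, ∃ k : ℕ, x ^ (2 ^ k) = 1)
    (hcomm : ∀ x ∈ H, ∀ t ∈ H, t⁻¹ * x⁻¹ * t * x ∈ N)
    (hN : ∀ y ∈ H, y * y ∈ N → γ y = y) : ∀ x ∈ H, γ x = x := by
  have key : ∀ k : ℕ, ∀ x ∈ H, x ^ (2 ^ k) = 1 → γ x = x := by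
    intro k
    induction k with
    | zero =>
      intro x _ hx
      rw [pow_zero, pow_one] at hx
      rw [hx, map_one]
    | succ k ih =>
      intro x hx hxk
      have h1 : (x * x) ^ (2 ^ k) = 1 := by
        rw [← pow_two, ← pow_mul, ← pow_succ']; exact hxk
      have h2' : γ (x * x) = x * x := ih _ (H.mul_mem hx hx) h1
      rw [map_mul] at h2'
      have htH : x⁻¹ * γ x ∈ H := H.mul_mem (H.inv_mem hx) (hH x hx)
      obtain ⟨t, ht⟩ : ∃ t, t = x⁻¹ * γ x := ⟨_, rfl⟩
      rw [← ht] at htH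
      have hgx : γ x = x * t := by rw [ht]; group
      have h3 : t * x * t = x := by
        have h' : x * (t * x * t) = x * x := by
          rw [← h2', hgx]; group
        exact mul_left_cancel h'
      have h5 : t * x = x * t⁻¹ := by rw [eq_mul_inv_iff_mul_eq]; exact h3
      have h4 : t⁻¹ * x⁻¹ * t * x = (t * t)⁻¹ := by
        calc t⁻¹ * x⁻¹ * t * x = t⁻¹ * x⁻¹ * (t * x) := by group
          _ = t⁻¹ * x⁻¹ * (x * t⁻¹) := by rw [h5]
          _ = (t * t)⁻¹ := by group
      have h6 : t * t ∈ N := by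
        have := hcomm x hx t htH
        rw [h4] at this
        exact (N.inv_mem_iff).mp this
      have h7 : γ t = t := hN t htH h6
      obtain ⟨m, hm⟩ := h2 t htH
      have h8 : t = 1 := ti_iter_shift γ n hγ hn x t hgx h7 m hm
      rw [hgx, h8, mul_one]
  intro x hx
  obtain ⟨k, hk⟩ := h2 x hx
  exact key k x hx hk

theorem ti_card_le_of_forall_mem_list {G : Type*} [Group G] (W : Subgroup G) (l : List G)
    (h : ∀ y ∈ W, y ∈ l) : Nat.card W ≤ l.length := by
  classical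
  have hsub : (W : Set G) ⊆ (l.toFinset : Set G) := by
    intro y hy
    simpa using h y hy
  have h1 : Nat.card W = (W : Set G).ncard := (Nat.card_coe_set_eq _)
  rw [h1]
  calc (W : Set G).ncard ≤ ((l.toFinset : Finset G) : Set G).ncard :=
        Set.ncard_le_ncard hsub (Finset.finite_toSet _)
    _ = l.toFinset.card := Set.ncard_coe_finset _
    _ ≤ l.length := List.toFinset_card_le l

theorem ti_eq_of_card_le_two {T : Type*} [Finite T] (h : Nat.card T ≤ 2) (o a b : T)
    (ha : a ≠ o) (hb : b ≠ o) : a = b := by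
  by_contra hab
  have := Fintype.ofFinite T
  have hnd : [o, a, b].Nodup := by
    simp [Ne.symm ha, Ne.symm hb, hab]
  have := hnd.length_le_card
  rw [Nat.card_eq_fintype_card] at h
  simp at this
  omega

section PLevel
variable {P : Type*} [Group P]

/-- The target group `Z / Z²`. -/
abbrev tiT (P : Type*) [Group P] :=
  (Subgroup.center P) ⧸ (powMonoidHom 2 : Subgroup.center P →* Subgroup.center P).range

/-- The source group `P / Z`. -/
abbrev tiE (P : Type*) [Group P] := P ⧸ Subgroup.center P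

theorem tiT_sq (t : tiT P) : t * t = 1 := by
  induction t using QuotientGroup.induction_on with
  | H z =>
    rw [← QuotientGroup.mk_mul, QuotientGroup.eq_one_iff]
    exact ⟨z, by simp [pow_two]⟩

theorem tiT_card [Finite P] : Nat.card (tiT P)
    = Nat.card (powMonoidHom 2 : Subgroup.center P →* Subgroup.center P).ker := by
  have h1 := Subgroup.card_eq_card_quotient_mul_card_subgroup
    (powMonoidHom 2 : Subgroup.center P →* Subgroup.center P).range
  have h2 := Subgroup.index_ker (powMonoidHom 2 : Subgroup.center P →* Subgroup.center P)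
  have h3 := Subgroup.card_mul_index (powMonoidHom 2 : Subgroup.center P →* Subgroup.center P).ker
  rw [h2] at h3
  have hpos : 0 < Nat.card (powMonoidHom 2 : Subgroup.center P →* Subgroup.center P).range :=
    Nat.card_pos
  rw [← h3] at h1
  exact (Nat.eq_of_mul_eq_mul_right hpos h1).symm

/-- `x ↦ x² Z²` on `P`. -/
noncomputable def tiSf (hsq : ∀ x : P, x * x ∈ Subgroup.center P) (x : P) : tiT P :=
  QuotientGroup.mk (⟨x * x, hsq x⟩ : Subgroup.center P)

theorem tiSf_mul_central (hsq : ∀ x : P, x * x ∈ Subgroup.center P) (x z : P)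
    (hz : z ∈ Subgroup.center P) : tiSf hsq (x * z) = tiSf hsq x := by
  unfold tiSf
  rw [QuotientGroup.eq]
  refine ⟨⟨z⁻¹, Subgroup.inv_mem _ hz⟩, ?_⟩
  apply Subtype.ext
  have hzc : z * x = x * z := (Subgroup.mem_center_iff.mp hz x).symm
  have h1 : x * z * (x * z) = x * x * (z * z) := by
    calc x * z * (x * z) = x * (z * x) * z := by group
      _ = x * (x * z) * z := by rw [hzc]
      _ = x * x * (z * z) := by group
  simp only [powMonoidHom_apply, Subgroup.coe_pow, Subgroup.coe_mul, Subgroup.coe_inv]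
  rw [h1]
  group

/-- The quadratic map `P/Z → Z/Z²`. -/
noncomputable def tiS (hsq : ∀ x : P, x * x ∈ Subgroup.center P) (e : tiE P) : tiT P :=
  tiSf hsq e.out

theorem tiS_mk (hsq : ∀ x : P, x * x ∈ Subgroup.center P) (x : P) :
    tiS hsq (QuotientGroup.mk x) = tiSf hsq x := by
  unfold tiS
  obtain ⟨h, hh⟩ := QuotientGroup.mk_out_eq_mul (Subgroup.center P) x
  rw [hh]
  exact tiSf_mul_central hsq x h h.2

theorem tiS_eq_one_iff (hsq : ∀ x : P, x * x ∈ Subgroup.center P) (a : P) :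
    tiS hsq (QuotientGroup.mk a) = 1 ↔ ∃ z ∈ Subgroup.center P, z * z = a * a := by
  rw [tiS_mk]
  unfold tiSf
  rw [QuotientGroup.eq_one_iff]
  constructor
  · rintro ⟨z, hz⟩
    refine ⟨z.1, z.2, ?_⟩
    have := congrArg Subtype.val hz
    simpa [pow_two] using this
  · rintro ⟨z, hz, hzz⟩
    exact ⟨⟨z, hz⟩, Subtype.ext (by simp [pow_two, hzz])⟩

theorem ti_hE (hsq : ∀ x : P, x * x ∈ Subgroup.center P) (e : tiE P) : e * e = 1 := by
  induction e using QuotientGroup.induction_on with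
  | H x =>
    rw [← QuotientGroup.mk_mul, QuotientGroup.eq_one_iff]
    exact hsq x

theorem ti_comm_mem (hsq : ∀ x : P, x * x ∈ Subgroup.center P) (a b : P) :
    a⁻¹ * b * a * b⁻¹ ∈ Subgroup.center P := by
  have h : a⁻¹ * b * a * b⁻¹ = (a⁻¹ * a⁻¹) * (a * b * (a * b)) * (b⁻¹ * b⁻¹) := by group
  rw [h]
  exact Subgroup.mul_mem _ (Subgroup.mul_mem _ (hsq _) (hsq _)) (hsq _)

theorem tiS_polar (hsq : ∀ x : P, x * x ∈ Subgroup.center P) (a b : P) :
    tiS hsq (QuotientGroup.mk a * QuotientGroup.mk b) * tiS hsq (QuotientGroup.mk a)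
        * tiS hsq (QuotientGroup.mk b)
      = QuotientGroup.mk (⟨a⁻¹ * b * a * b⁻¹, ti_comm_mem hsq a b⟩ : Subgroup.center P) := by
  rw [← QuotientGroup.mk_mul, tiS_mk, tiS_mk, tiS_mk]
  unfold tiSf
  have h1 : (⟨a * b * (a * b), hsq (a * b)⟩ : Subgroup.center P)
      = ⟨a * a, hsq a⟩ * ⟨a⁻¹ * b * a * b⁻¹, ti_comm_mem hsq a b⟩ * ⟨b * b, hsq b⟩ := by
    apply Subtype.ext
    simp only [Subgroup.coe_mul]
    group
  rw [h1, QuotientGroup.mk_mul, QuotientGroup.mk_mul]
  have hA := tiT_sq (QuotientGroup.mk (⟨a * a, hsq a⟩ : Subgroup.center P) : tiT P)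
  have hB := tiT_sq (QuotientGroup.mk (⟨b * b, hsq b⟩ : Subgroup.center P) : tiT P)
  generalize (QuotientGroup.mk (⟨a * a, hsq a⟩ : Subgroup.center P) : tiT P) = A at hA ⊢
  generalize (QuotientGroup.mk (⟨b * b, hsq b⟩ : Subgroup.center P) : tiT P) = B at hB ⊢
  generalize (QuotientGroup.mk (⟨a⁻¹ * b * a * b⁻¹, ti_comm_mem hsq a b⟩ : Subgroup.center P)
    : tiT P) = C
  calc A * C * B * A * B = C * (A * A) * (B * B) := by ac_rfl
    _ = C := by rw [hA, hB, mul_one, mul_one]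

theorem ti_comm_mul (hsq : ∀ x : P, x * x ∈ Subgroup.center P) (a b b' : P) :
    (⟨a⁻¹ * (b * b') * a * (b * b')⁻¹, ti_comm_mem hsq a (b * b')⟩ : Subgroup.center P)
      = ⟨a⁻¹ * b * a * b⁻¹, ti_comm_mem hsq a b⟩ * ⟨a⁻¹ * b' * a * b'⁻¹, ti_comm_mem hsq a b'⟩ := by
  apply Subtype.ext
  simp only [Subgroup.coe_mul]
  have hc2 : b⁻¹ * (a⁻¹ * b' * a * b'⁻¹) = (a⁻¹ * b' * a * b'⁻¹) * b⁻¹ :=
    Subgroup.mem_center_iff.mp (ti_comm_mem hsq a b') b⁻¹
  calc a⁻¹ * (b * b') * a * (b * b')⁻¹ = a⁻¹ * b * a * ((a⁻¹ * b' * a * b'⁻¹) * b⁻¹) := by group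
    _ = a⁻¹ * b * a * (b⁻¹ * (a⁻¹ * b' * a * b'⁻¹)) := by rw [hc2]
    _ = a⁻¹ * b * a * b⁻¹ * (a⁻¹ * b' * a * b'⁻¹) := by group

theorem ti_hB (hsq : ∀ x : P, x * x ∈ Subgroup.center P) (x y z : tiE P) :
    tiS hsq (x * (y * z)) * tiS hsq x * tiS hsq (y * z)
      = (tiS hsq (x * y) * tiS hsq x * tiS hsq y) * (tiS hsq (x * z) * tiS hsq x * tiS hsq z) := by
  induction x using QuotientGroup.induction_on with
  | H a =>
  induction y using QuotientGroup.induction_on with
  | H b =>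
  induction z using QuotientGroup.induction_on with
  | H b' =>
    rw [tiS_polar hsq a b, tiS_polar hsq a b', ← QuotientGroup.mk_mul _ b b',
      tiS_polar hsq a (b * b'), ti_comm_mul hsq a b b', QuotientGroup.mk_mul]

theorem ti_central_inv [Finite P] (h2 : IsPGroup 2 P) (hnt : Nontrivial P) :
    ∃ z₀ ∈ Subgroup.center P, z₀ ≠ 1 ∧ z₀ * z₀ = 1 := by
  have : Fact (Nat.Prime 2) := ⟨Nat.prime_two⟩
  have := h2.center_nontrivial
  have h2Z : IsPGroup 2 (Subgroup.center P) := h2.to_subgroup _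
  obtain ⟨n, hn⟩ := IsPGroup.iff_card.mp h2Z
  have hn0 : n ≠ 0 := by
    rintro rfl
    rw [pow_zero] at hn
    have := Finite.one_lt_card (α := Subgroup.center P)
    omega
  have hdvd : 2 ∣ Nat.card (Subgroup.center P) := by rw [hn]; exact dvd_pow_self 2 hn0
  obtain ⟨z, hz⟩ := exists_prime_orderOf_dvd_card' 2 hdvd
  refine ⟨z.1, z.2, ?_, ?_⟩
  · intro h
    have : z = 1 := Subtype.ext h
    rw [this, orderOf_one] at hz
    omega
  · have := pow_orderOf_eq_one z
    rw [hz, pow_two] at this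
    exact congrArg Subtype.val this

theorem ti_inv_cases (h4 : NoFourInv P) (z₀ v t : P) (hz₀ : z₀ ∈ Subgroup.center P)
    (hz1 : z₀ ≠ 1) (hz2 : z₀ * z₀ = 1) (hv : v ∉ Subgroup.center P) (hv2 : v * v = 1)
    (ht1 : t ≠ 1) (ht2 : t * t = 1) : t = z₀ ∨ t = v ∨ t = v * z₀ := by
  by_contra hcon
  push Not at hcon
  obtain ⟨h1, h2, h3⟩ := hcon
  have hzc : v * z₀ = z₀ * v := Subgroup.mem_center_iff.mp hz₀ v
  refine h4 z₀ v (v * z₀) t hz1 ?_ ?_ ht1 hz2 hv2 ?_ ht2 ?_ ?_ (Ne.symm h1) ?_ (Ne.symm h2)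
    (Ne.symm h3)
  · rintro rfl; exact hv (Subgroup.one_mem _)
  · intro h
    apply hv
    have : v = z₀⁻¹ := eq_inv_of_mul_eq_one_left h
    rw [this]; exact Subgroup.inv_mem _ hz₀
  · calc v * z₀ * (v * z₀) = v * (z₀ * v) * z₀ := by group
      _ = v * (v * z₀) * z₀ := by rw [hzc]
      _ = (v * v) * (z₀ * z₀) := by group
      _ = 1 := by rw [hv2, hz2, mul_one]
  · rintro rfl; exact hv hz₀
  · intro h
    have : v = 1 := by
      have h' : 1 * z₀ = v * z₀ := by rw [one_mul]; exact h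
      exact (mul_right_cancel h').symm
    exact hv (this ▸ Subgroup.one_mem _)
  · intro h
    have : z₀ = 1 := by
      have h' : v * 1 = v * z₀ := by rw [mul_one]; exact h
      exact (mul_left_cancel h').symm
    exact hz1 this

/-- A noncentral "zero" gives a noncentral involution. -/
theorem ti_zero_inv (hsq : ∀ x : P, x * x ∈ Subgroup.center P) (a : P)
    (ha : (QuotientGroup.mk a : tiE P) ≠ 1) (hS : tiS hsq (QuotientGroup.mk a) = 1) :
    ∃ v z : P, z ∈ Subgroup.center P ∧ a = v * z ∧ v ∉ Subgroup.center P ∧ v * v = 1 := by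
  obtain ⟨z, hz, hzz⟩ := (tiS_eq_one_iff hsq a).mp hS
  have haZ : a ∉ Subgroup.center P := fun h => ha ((QuotientGroup.eq_one_iff a).mpr h)
  refine ⟨a * z⁻¹, z, hz, by group, ?_, ?_⟩
  · intro h
    apply haZ
    have : a = a * z⁻¹ * z := by group
    rw [this]
    exact Subgroup.mul_mem _ h hz
  · have hzc : z⁻¹ * a = a * z⁻¹ :=
      (Subgroup.mem_center_iff.mp (Subgroup.inv_mem _ hz) a).symm
    calc a * z⁻¹ * (a * z⁻¹) = a * (z⁻¹ * a) * z⁻¹ := by group
      _ = a * (a * z⁻¹) * z⁻¹ := by rw [hzc]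
      _ = (a * a) * (z * z)⁻¹ := by group
      _ = 1 := by rw [hzz]; group

theorem ti_hZ1 [Finite P] (h2 : IsPGroup 2 P) (hsq : ∀ x : P, x * x ∈ Subgroup.center P)
    (h4 : NoFourInv P) (x y : tiE P) (hx : tiS hsq x = 1) (hy : tiS hsq y = 1)
    (hx1 : x ≠ 1) (hy1 : y ≠ 1) : x = y := by
  induction x using QuotientGroup.induction_on with
  | H a =>
  induction y using QuotientGroup.induction_on with
  | H b =>
    obtain ⟨v, za, hza, hav, hvZ, hvv⟩ := ti_zero_inv hsq a hx1 hx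
    obtain ⟨w, zb, hzb, hbw, hwZ, hww⟩ := ti_zero_inv hsq b hy1 hy
    have hnt : Nontrivial P := ⟨⟨v, 1, fun h => hvZ (h ▸ Subgroup.one_mem _)⟩⟩
    obtain ⟨z₀, hz₀, hz1, hz2⟩ := ti_central_inv h2 hnt
    have hw1 : w ≠ 1 := fun h => hwZ (h ▸ Subgroup.one_mem _)
    rw [QuotientGroup.eq]
    rcases ti_inv_cases h4 z₀ v w hz₀ hz1 hz2 hvZ hvv hw1 hww with h | h | h
    · exact absurd (h ▸ hz₀) hwZ
    · have : a⁻¹ * b = za⁻¹ * zb := by rw [hav, hbw, h]; group
      rw [this]
      exact Subgroup.mul_mem _ (Subgroup.inv_mem _ hza) hzb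
    · have : a⁻¹ * b = za⁻¹ * (z₀ * zb) := by rw [hav, hbw, h]; group
      rw [this]
      exact Subgroup.mul_mem _ (Subgroup.inv_mem _ hza) (Subgroup.mul_mem _ hz₀ hzb)

theorem ti_hcT [Finite P] (h4 : NoFourInv P) : Nat.card (tiT P) ≤ 4 := by
  rw [tiT_card]
  have hker : ∀ y : Subgroup.center P,
      y ∈ (powMonoidHom 2 : Subgroup.center P →* Subgroup.center P).ker → (y : P) * y = 1 := by
    intro y hy
    rw [MonoidHom.mem_ker, powMonoidHom_apply, pow_two] at hy
    exact congrArg Subtype.val hy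
  by_cases hA : ∀ y ∈ (powMonoidHom 2 : Subgroup.center P →* Subgroup.center P).ker, y = 1
  · have := ti_card_le_of_forall_mem_list
      (powMonoidHom 2 : Subgroup.center P →* Subgroup.center P).ker [1]
      (fun y hy => by simp [hA y hy])
    exact le_trans this (by simp)
  push Not at hA
  obtain ⟨a, ha, ha1⟩ := hA
  by_cases hB : ∀ y ∈ (powMonoidHom 2 : Subgroup.center P →* Subgroup.center P).ker,
      y = 1 ∨ y = a
  · have := ti_card_le_of_forall_mem_list
      (powMonoidHom 2 : Subgroup.center P →* Subgroup.center P).ker [1, a]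
      (fun y hy => by simpa using hB y hy)
    exact le_trans this (by simp)
  push Not at hB
  obtain ⟨b, hb, hb1, hba⟩ := hB
  have := ti_card_le_of_forall_mem_list
    (powMonoidHom 2 : Subgroup.center P →* Subgroup.center P).ker [1, a, b, a * b] (by
      intro y hy
      by_contra hcon
      simp only [List.mem_cons, List.not_mem_nil, or_false, not_or] at hcon
      obtain ⟨hy1, hya, hyb, hyab⟩ := hcon
      have hab : (a : P) * b = b * a := Subgroup.mem_center_iff.mp b.2 a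
      refine h4 (a : P) b (a * b) y ?_ ?_ ?_ ?_ (hker a ha) (hker b hb) ?_ (hker y hy) ?_ ?_ ?_ ?_
        ?_ ?_
      · exact fun h => ha1 (Subtype.ext h)
      · exact fun h => hb1 (Subtype.ext h)
      · intro h
        apply hba
        apply Subtype.ext
        have h' : (a : P) * b = a * a := by rw [h, hker a ha]
        exact mul_left_cancel h'
      · exact fun h => hy1 (Subtype.ext h)
      · calc (a : P) * b * (a * b) = a * (b * a) * b := by group
          _ = a * (a * b) * b := by rw [hab]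
          _ = (a * a) * (b * b) := by group
          _ = 1 := by rw [hker a ha, hker b hb, mul_one]
      · exact fun h => hba (Subtype.ext h.symm)
      · intro h
        apply hb1
        apply Subtype.ext
        have h' : (a : P) * 1 = a * b := by rw [mul_one]; exact h
        exact (mul_left_cancel h').symm
      · exact fun h => hya (Subtype.ext h.symm)
      · intro h
        apply ha1
        apply Subtype.ext
        have h' : (1 : P) * b = a * b := by rw [one_mul]; exact h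
        exact (mul_right_cancel h').symm
      · exact fun h => hyb (Subtype.ext h.symm)
      · exact fun h => hyab (Subtype.ext h.symm))
  exact le_trans this (by simp)

theorem ti_hZ0 [Finite P] (h2 : IsPGroup 2 P) (hsq : ∀ x : P, x * x ∈ Subgroup.center P)
    (h4 : NoFourInv P) (hex : ∃ x : tiE P, x ≠ 1 ∧ tiS hsq x = 1) :
    ∀ a b : tiT P, a ≠ 1 → b ≠ 1 → a = b := by
  obtain ⟨x, hx1, hx⟩ := hex
  induction x using QuotientGroup.induction_on with
  | H a =>
    obtain ⟨v, za, hza, hav, hvZ, hvv⟩ := ti_zero_inv hsq a hx1 hx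
    have hnt : Nontrivial P := ⟨⟨v, 1, fun h => hvZ (h ▸ Subgroup.one_mem _)⟩⟩
    obtain ⟨z₀, hz₀, hz1, hz2⟩ := ti_central_inv h2 hnt
    have hc : Nat.card (tiT P) ≤ 2 := by
      rw [tiT_card]
      have := ti_card_le_of_forall_mem_list
        (powMonoidHom 2 : Subgroup.center P →* Subgroup.center P).ker [1, ⟨z₀, hz₀⟩] (by
          intro y hy
          rw [MonoidHom.mem_ker, powMonoidHom_apply, pow_two] at hy
          have hyy : (y : P) * y = 1 := congrArg Subtype.val hy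
          by_cases hy1 : y = 1
          · simp [hy1]
          · have hy1' : (y : P) ≠ 1 := fun h => hy1 (Subtype.ext h)
            rcases ti_inv_cases h4 z₀ v y hz₀ hz1 hz2 hvZ hvv hy1' hyy with h | h | h
            · have : y = ⟨z₀, hz₀⟩ := Subtype.ext h
              simp [this]
            · exact absurd (h ▸ y.2) hvZ
            · exfalso
              apply hvZ
              have : v = y * z₀⁻¹ := by rw [h]; group
              rw [this]
              exact Subgroup.mul_mem _ y.2 (Subgroup.inv_mem _ hz₀))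
      exact le_trans this (by simp)
    intro s t hs ht
    exact ti_eq_of_card_le_two hc 1 s t hs ht

theorem ti_aut_center (γ : MulAut P) (z : P) (hz : z ∈ Subgroup.center P) :
    γ z ∈ Subgroup.center P := by
  rw [Subgroup.mem_center_iff] at hz ⊢
  intro g
  have h2 := congrArg γ (hz (γ.symm g))
  simpa using h2

theorem ti_iter_aut (γ : MulAut P) (j : ℕ) (x : P) : (⇑γ)^[j] x = (γ ^ j) x := by
  induction j with
  | zero => simp
  | succ j ih => rw [Function.iterate_succ_apply', ih, pow_succ', MulAut.mul_apply]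

/-- The induced endomorphism of `P/Z`. -/
noncomputable def tiBar (γ : MulAut P) : tiE P →* tiE P :=
  QuotientGroup.map _ _ γ.toMonoidHom (fun z hz => ti_aut_center γ z hz)

theorem tiBar_mk (γ : MulAut P) (x : P) :
    tiBar γ (QuotientGroup.mk x) = QuotientGroup.mk (γ x) := rfl

theorem tiBar_iter (γ : MulAut P) (j : ℕ) (x : P) :
    (tiBar γ)^[j] (QuotientGroup.mk x) = QuotientGroup.mk ((γ ^ j) x) := by
  induction j with
  | zero => simp
  | succ j ih => rw [Function.iterate_succ_apply', ih, tiBar_mk, pow_succ', MulAut.mul_apply]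

theorem tiBar_iter_id (γ : MulAut P) (l : ℕ) (hγ : γ ^ l = 1) (e : tiE P) :
    (tiBar γ)^[l] e = e := by
  induction e using QuotientGroup.induction_on with
  | H x => rw [tiBar_iter, hγ]; rfl

theorem ti_fix_center (h2 : IsPGroup 2 P) (γ : MulAut P) (l : ℕ) (hl : Odd l)
    (hγ : γ ^ l = 1) (hinv : ∀ x : P, x * x = 1 → γ x = x) :
    ∀ z ∈ Subgroup.center P, γ z = z := by
  have key := ti_odd_trivial γ.toMonoidHom l (fun x => by
      have := ti_iter_aut γ l x
      rw [hγ] at this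
      exact this) hl (Subgroup.center P) ⊥ (fun x hx => ti_aut_center γ x hx)
    (fun x _ => h2 x)
    (fun x hx t _ => by
      rw [Subgroup.mem_bot]
      have : t * x = x * t := Subgroup.mem_center_iff.mp hx t
      calc t⁻¹ * x⁻¹ * t * x = t⁻¹ * x⁻¹ * (t * x) := by group
        _ = t⁻¹ * x⁻¹ * (x * t) := by rw [this]
        _ = 1 := by group)
    (fun y _ hy => hinv y (Subgroup.mem_bot.mp hy))
  exact key

theorem ti_bar_ne (h2 : IsPGroup 2 P) (γ : MulAut P) (l : ℕ) (hl : Odd l) (hγ : γ ^ l = 1)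
    (hZfix : ∀ z ∈ Subgroup.center P, γ z = z) (hne : γ ≠ 1) : ∃ e : tiE P, tiBar γ e ≠ e := by
  by_contra hcon
  push Not at hcon
  apply hne
  ext x
  have h1 := hcon (QuotientGroup.mk x)
  rw [tiBar_mk, QuotientGroup.eq] at h1
  have ht : x⁻¹ * γ x ∈ Subgroup.center P := by
    have := Subgroup.inv_mem _ h1
    simpa [mul_inv_rev] using this
  obtain ⟨m, hm⟩ := h2 (x⁻¹ * γ x)
  have := ti_iter_shift γ.toMonoidHom l (fun y => by
      have := ti_iter_aut γ l y
      rw [hγ] at this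
      exact this) hl x (x⁻¹ * γ x) (by simp) (hZfix _ ht) m hm
  have h3 : γ x = x * (x⁻¹ * γ x) := by group
  rw [this, mul_one] at h3
  rw [h3]; rfl

theorem ti_S_bar (hsq : ∀ x : P, x * x ∈ Subgroup.center P) (γ : MulAut P)
    (hZfix : ∀ z ∈ Subgroup.center P, γ z = z) (e : tiE P) :
    tiS hsq (tiBar γ e) = tiS hsq e := by
  induction e using QuotientGroup.induction_on with
  | H x =>
    rw [tiBar_mk, tiS_mk, tiS_mk]
    unfold tiSf
    congr 1
    apply Subtype.ext
    show γ x * γ x = x * x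
    rw [← map_mul]
    exact hZfix _ (hsq x)

theorem ti_P_prime [Finite P] (h2 : IsPGroup 2 P) (hsq : ∀ x : P, x * x ∈ Subgroup.center P)
    (h4 : NoFourInv P) (γ : MulAut P) (l : ℕ) (hl : l.Prime) (hl2 : l ≠ 2) (hγ : γ ^ l = 1)
    (hne : γ ≠ 1) (hinv : ∀ x : P, x * x = 1 → γ x = x) : l = 3 ∨ l = 5 := by
  have hodd : Odd l := hl.odd_of_ne_two hl2
  have hZfix := ti_fix_center h2 γ l hodd hγ hinv
  exact Cfsg.Agent.Lib.helper46.quad_aut_prime (tiS hsq) (ti_hE hsq) tiT_sq (ti_hcT h4) (ti_hB hsq) (ti_hZ1 h2 hsq h4)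
    (tiBar γ) l hl hl2 (tiBar_iter_id γ l hγ) (ti_bar_ne h2 γ l hodd hγ hZfix hne)
    (ti_S_bar hsq γ hZfix)

theorem ti_P_not_both [Finite P] (h2 : IsPGroup 2 P) (hsq : ∀ x : P, x * x ∈ Subgroup.center P)
    (h4 : NoFourInv P) (γ₃ γ₅ : MulAut P) (h3 : γ₃ ^ 3 = 1) (h5 : γ₅ ^ 5 = 1)
    (hne3 : γ₃ ≠ 1) (hne5 : γ₅ ≠ 1) (hinv3 : ∀ x : P, x * x = 1 → γ₃ x = x)
    (hinv5 : ∀ x : P, x * x = 1 → γ₅ x = x) : False := by
  have hZ3 := ti_fix_center h2 γ₃ 3 (by decide) h3 hinv3
  have hZ5 := ti_fix_center h2 γ₅ 5 (by decide) h5 hinv5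
  exact Cfsg.Agent.Lib.helper46.quad_aut_not_both (tiS hsq) (ti_hE hsq) tiT_sq (ti_hcT h4) (ti_hB hsq) (ti_hZ1 h2 hsq h4)
    (ti_hZ0 h2 hsq h4) (tiBar γ₃) (tiBar γ₅) (tiBar_iter_id γ₃ 3 h3) (tiBar_iter_id γ₅ 5 h5)
    (ti_bar_ne h2 γ₃ 3 (by decide) h3 hZ3 hne3) (ti_bar_ne h2 γ₅ 5 (by decide) h5 hZ5 hne5)
    (ti_S_bar hsq γ₃ hZ3) (ti_S_bar hsq γ₅ hZ5)

end PLevel

end Cfsg.Agent.Lib.helper14
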