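import Mathlib
import Cfsg.Agent.Lib.helper14.ThreeInvP
import Cfsg.Agent.Lib.helper30.Critical
import Cfsg.Agent.Lib.helper4.BurnsidePQ

set_option autoImplicit false

namespace Cfsg.Agent.Lib.helper14

theorem ti_comm_mul3 {G : Type*} [Group G] (c A K B : G) (hA : c * A = A * c)
    (hK : c * K = K * c) (hB : c * B = B * c) : c * (A * K * B) = (A * K * B) * c := by
  calc c * (A * K * B) = (c * A) * K * B := by group
    _ = A * (c * K) * B := by rw [hA]; group
    _ = A * K * (c * B) := by rw [hK]; group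
    _ = A * K * B * c := by rw [hB]; group

theorem ti_G_setup {G : Type*} [Group G] [Finite G] (R : Subgroup G) [hRn : R.Normal]
    (hR : IsPGroup 2 R) :
    ∃ C₁ : Subgroup G, C₁.Normal ∧ C₁ ≤ R ∧ (∀ x : C₁, x * x ∈ Subgroup.center C₁) ∧
      (∀ g : G, (orderOf g).Coprime 2 → (∀ c ∈ C₁, g * c = c * g) → ∀ r ∈ R, g * r = r * g) := by
  have : Fact (Nat.Prime 2) := ⟨Nat.prime_two⟩
  obtain ⟨C, hCR, hCN, hcl, hfaith⟩ := Cfsg.Agent.Lib.helper30.exists_critical 2 R hR
  have hNR : Subgroup.normalizer (R : Set G) = ⊤ := Subgroup.normalizer_eq_top_iff.mpr hRn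
  have hCn : C.Normal := by
    rw [← Subgroup.normalizer_eq_top_iff]
    rw [hNR] at hCN
    exact top_le_iff.mp hCN
  have hZn : ∀ z ∈ C, (∀ c ∈ C, c * z = z * c) → ∀ g : G, ∀ c ∈ C,
      c * (g * z * g⁻¹) = (g * z * g⁻¹) * c := by
    intro z hz hzc g c hc
    have hc' : g⁻¹ * c * g ∈ C := by
      have := hCn.conj_mem c hc g⁻¹
      simpa using this
    have := hzc _ hc'
    calc c * (g * z * g⁻¹) = g * ((g⁻¹ * c * g) * z) * g⁻¹ := by group
      _ = g * (z * (g⁻¹ * c * g)) * g⁻¹ := by rw [this]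
      _ = g * z * g⁻¹ * c := by group
  let C₁ : Subgroup G :=
    { carrier := {x | x ∈ C ∧ (∀ c ∈ C, c * (x * x) = (x * x) * c)}
      one_mem' := ⟨C.one_mem, fun c _ => by simp⟩
      mul_mem' := by
        rintro x y ⟨hx, hxx⟩ ⟨hy, hyy⟩
        refine ⟨C.mul_mem hx hy, fun c hc => ?_⟩
        have hcomm : (x⁻¹ * y * x⁻¹⁻¹ * y⁻¹) * c = c * (x⁻¹ * y * x⁻¹⁻¹ * y⁻¹) :=
          hcl x⁻¹ (C.inv_mem hx) y hy c hc
        rw [inv_inv] at hcomm
        have e : x * y * (x * y) = (x * x) * (x⁻¹ * y * x * y⁻¹) * (y * y) := by group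
        rw [e]
        exact ti_comm_mul3 c _ _ _ (hxx c hc) hcomm.symm (hyy c hc)
      inv_mem' := by
        rintro x ⟨hx, hxx⟩
        refine ⟨C.inv_mem hx, fun c hc => ?_⟩
        have := hxx c hc
        calc c * (x⁻¹ * x⁻¹) = (x * x)⁻¹ * ((x * x) * c) * (x * x)⁻¹ := by group
          _ = (x * x)⁻¹ * (c * (x * x)) * (x * x)⁻¹ := by rw [this]
          _ = x⁻¹ * x⁻¹ * c := by group }
  have hC₁ : ∀ x, x ∈ C₁ ↔ x ∈ C ∧ (∀ c ∈ C, c * (x * x) = (x * x) * c) := fun x => Iff.rfl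
  refine ⟨C₁, ?_, ?_, ?_, ?_⟩
  · constructor
    intro x hx g
    obtain ⟨hxC, hxx⟩ := (hC₁ x).mp hx
    refine (hC₁ _).mpr ⟨hCn.conj_mem x hxC g, ?_⟩
    have e : g * x * g⁻¹ * (g * x * g⁻¹) = g * (x * x) * g⁻¹ := by group
    rw [e]
    exact hZn (x * x) (C.mul_mem hxC hxC) hxx g
  · exact fun x hx => hCR ((hC₁ x).mp hx).1
  · intro x
    rw [Subgroup.mem_center_iff]
    intro y
    apply Subtype.ext
    have := ((hC₁ x).mp x.2).2 y ((hC₁ y).mp y.2).1
    simpa using this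
  · intro g hg hgc r hr
    apply hfaith g (by rw [hNR]; exact Subgroup.mem_top g) hg ?_ r hr
    have hodd : Odd (orderOf g) := Nat.coprime_two_right.mp hg
    have key := ti_odd_trivial (MulAut.conj g).toMonoidHom (orderOf g) (by
        intro x
        have := ti_iter_aut (MulAut.conj g) (orderOf g) x
        rw [← map_pow, pow_orderOf_eq_one, map_one] at this
        exact this) hodd C (C ⊓ Subgroup.centralizer (C : Set G))
      (fun x hx => hCn.conj_mem x hx g)
      (by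
        intro x hx
        obtain ⟨k, hk⟩ := hR ⟨x, hCR hx⟩
        exact ⟨k, by simpa using congrArg Subtype.val hk⟩)
      (by
        intro x hx t ht
        refine ⟨?_, ?_⟩
        · exact C.mul_mem (C.mul_mem (C.mul_mem (C.inv_mem ht) (C.inv_mem hx)) ht) hx
        · show t⁻¹ * x⁻¹ * t * x ∈ Subgroup.centralizer (C : Set G)
          rw [Subgroup.mem_centralizer_iff]
          intro c hc
          have := hcl t⁻¹ (C.inv_mem ht) x⁻¹ (C.inv_mem hx) c hc
          rw [inv_inv, inv_inv] at this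
          exact this.symm)
      (by
        intro y hy hyy
        have hy1 : y ∈ C₁ :=
          (hC₁ y).mpr ⟨hy, fun c hc => Subgroup.mem_centralizer_iff.mp hyy.2 c hc⟩
        have := hgc y hy1
        show g * y * g⁻¹ = y
        rw [this]; group)
    intro c hc
    have h' : g * c * g⁻¹ = c := key c hc
    calc g * c = g * c * g⁻¹ * g := by group
      _ = c * g := by rw [h']

/-- No four distinct involutions in a subgroup. -/
def NoFourInvOn {G : Type*} [Group G] (R : Subgroup G) : Prop :=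
  ∀ a b c d : G, a ∈ R → b ∈ R → c ∈ R → d ∈ R → a ≠ 1 → b ≠ 1 → c ≠ 1 → d ≠ 1 →
    a * a = 1 → b * b = 1 → c * c = 1 → d * d = 1 →
    a ≠ b → a ≠ c → a ≠ d → b ≠ c → b ≠ d → c ≠ d → False

theorem ti_noFour_sub {G : Type*} [Group G] (R C₁ : Subgroup G) (h : NoFourInvOn R)
    (hle : C₁ ≤ R) : NoFourInv C₁ := by
  intro a b c d ha1 hb1 hc1 hd1 haa hbb hcc hdd hab hac had hbc hbd hcd
  exact h a b c d (hle a.2) (hle b.2) (hle c.2) (hle d.2)
    (fun h => ha1 (Subtype.ext h)) (fun h => hb1 (Subtype.ext h)) (fun h => hc1 (Subtype.ext h))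
    (fun h => hd1 (Subtype.ext h))
    (congrArg Subtype.val haa) (congrArg Subtype.val hbb) (congrArg Subtype.val hcc)
    (congrArg Subtype.val hdd)
    (fun h => hab (Subtype.ext h)) (fun h => hac (Subtype.ext h)) (fun h => had (Subtype.ext h))
    (fun h => hbc (Subtype.ext h)) (fun h => hbd (Subtype.ext h)) (fun h => hcd (Subtype.ext h))

/-- Data extracted for an element of odd prime order acting on `R`. -/
theorem ti_G_aut {G : Type*} [Group G] (C₁ R : Subgroup G) [C₁.Normal] (hC₁R : C₁ ≤ R)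
    (hfaith : ∀ g : G, (orderOf g).Coprime 2 → (∀ c ∈ C₁, g * c = c * g) →
      ∀ r ∈ R, g * r = r * g)
    (g : G) (l : ℕ) (hl : l.Prime) (hl2 : l ≠ 2) (hg : g ^ l = 1)
    (hgR : ∃ r ∈ R, g * r ≠ r * g) (hinv : ∀ r ∈ R, r * r = 1 → g * r = r * g) :
    (MulAut.conjNormal g : MulAut C₁) ^ l = 1 ∧ (MulAut.conjNormal g : MulAut C₁) ≠ 1 ∧
      ∀ x : C₁, x * x = 1 → (MulAut.conjNormal g : MulAut C₁) x = x := by
  have hcop : (orderOf g).Coprime 2 := by
    have h1 : orderOf g ∣ l := orderOf_dvd_of_pow_eq_one hg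
    exact Nat.Coprime.coprime_dvd_left h1 ((Nat.coprime_primes hl Nat.prime_two).mpr hl2)
  refine ⟨?_, ?_, ?_⟩
  · rw [← map_pow, hg, map_one]
  · intro h
    obtain ⟨r, hr, hne⟩ := hgR
    apply hne
    apply hfaith g hcop ?_ r hr
    intro c hc
    have := congrArg (fun f : MulAut C₁ => ((f ⟨c, hc⟩ : C₁) : G)) h
    simp only [MulAut.conjNormal_apply, MulAut.one_apply] at this
    calc g * c = g * c * g⁻¹ * g := by group
      _ = c * g := by rw [this]
  · intro x hx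
    apply Subtype.ext
    rw [MulAut.conjNormal_apply]
    have := hinv x (hC₁R x.2) (congrArg Subtype.val hx)
    rw [this]; group

theorem ti_G_prime {G : Type*} [Group G] [Finite G] (R : Subgroup G) [R.Normal]
    (hR : IsPGroup 2 R) (h4 : NoFourInvOn R) (g : G) (l : ℕ) (hl : l.Prime) (hl2 : l ≠ 2)
    (hg : g ^ l = 1) (hgR : ∃ r ∈ R, g * r ≠ r * g)
    (hinv : ∀ r ∈ R, r * r = 1 → g * r = r * g) : l = 3 ∨ l = 5 := by
  obtain ⟨C₁, hn, hC₁R, hsq, hfaith⟩ := ti_G_setup R hR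
  have h2P : IsPGroup 2 C₁ := hR.to_le hC₁R
  have h4P : NoFourInv C₁ := ti_noFour_sub R C₁ h4 hC₁R
  obtain ⟨h1, h2, h3⟩ := ti_G_aut C₁ R hC₁R hfaith g l hl hl2 hg hgR hinv
  exact ti_P_prime h2P hsq h4P (MulAut.conjNormal g) l hl hl2 h1 h2 h3

theorem ti_G_not_both {G : Type*} [Group G] [Finite G] (R : Subgroup G) [R.Normal]
    (hR : IsPGroup 2 R) (h4 : NoFourInvOn R) (g₃ g₅ : G) (hg3 : g₃ ^ 3 = 1) (hg5 : g₅ ^ 5 = 1)
    (hgR3 : ∃ r ∈ R, g₃ * r ≠ r * g₃) (hgR5 : ∃ r ∈ R, g₅ * r ≠ r * g₅)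
    (hinv3 : ∀ r ∈ R, r * r = 1 → g₃ * r = r * g₃)
    (hinv5 : ∀ r ∈ R, r * r = 1 → g₅ * r = r * g₅) : False := by
  obtain ⟨C₁, hn, hC₁R, hsq, hfaith⟩ := ti_G_setup R hR
  have h2P : IsPGroup 2 C₁ := hR.to_le hC₁R
  have h4P : NoFourInv C₁ := ti_noFour_sub R C₁ h4 hC₁R
  obtain ⟨h1, h2, h3⟩ := ti_G_aut C₁ R hC₁R hfaith g₃ 3 Nat.prime_three (by decide) hg3 hgR3 hinv3
  obtain ⟨k1, k2, k3⟩ := ti_G_aut C₁ R hC₁R hfaith g₅ 5 Nat.prime_five (by decide) hg5 hgR5 hinv5
  exact ti_P_not_both h2P hsq h4P (MulAut.conjNormal g₃) (MulAut.conjNormal g₅) h1 k1 h2 k2 h3 k3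

section XLevel
variable {X : Type*} [Group X]

/-- The holomorph. -/
abbrev tiHol (X : Type*) [Group X] := X ⋊[MonoidHom.id (MulAut X)] MulAut X

instance tiHol_finite [Finite X] : Finite (tiHol X) :=
  Finite.of_equiv _ (SemidirectProduct.equivProd (φ := MonoidHom.id (MulAut X))).symm

instance tiHol_normal : (SemidirectProduct.inl : X →* tiHol X).range.Normal := by
  rw [SemidirectProduct.range_inl_eq_ker_rightHom]
  infer_instance

theorem tiHol_pgroup (h2 : IsPGroup 2 X) :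
    IsPGroup 2 (SemidirectProduct.inl : X →* tiHol X).range := by
  rintro ⟨_, x, rfl⟩
  obtain ⟨k, hk⟩ := h2 x
  refine ⟨k, Subtype.ext ?_⟩
  simp only [Subgroup.coe_pow, Subgroup.coe_one]
  rw [← map_pow, hk, map_one]

theorem tiHol_noFour (h4 : NoFourInv X) :
    NoFourInvOn (SemidirectProduct.inl : X →* tiHol X).range := by
  rintro _ _ _ _ ⟨a, rfl⟩ ⟨b, rfl⟩ ⟨c, rfl⟩ ⟨d, rfl⟩ ha1 hb1 hc1 hd1 haa hbb hcc hdd hab hac had
    hbc hbd hcd
  have inj := SemidirectProduct.inl_injective (φ := MonoidHom.id (MulAut X))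
  exact h4 a b c d (fun h => ha1 (by rw [h, map_one])) (fun h => hb1 (by rw [h, map_one]))
    (fun h => hc1 (by rw [h, map_one])) (fun h => hd1 (by rw [h, map_one]))
    (inj (by rw [map_mul, haa, map_one])) (inj (by rw [map_mul, hbb, map_one]))
    (inj (by rw [map_mul, hcc, map_one])) (inj (by rw [map_mul, hdd, map_one]))
    (fun h => hab (by rw [h])) (fun h => hac (by rw [h])) (fun h => had (by rw [h]))
    (fun h => hbc (by rw [h])) (fun h => hbd (by rw [h])) (fun h => hcd (by rw [h]))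

theorem tiHol_conj (γ : MulAut X) (x : X) :
    (SemidirectProduct.inr γ : tiHol X) * SemidirectProduct.inl x * (SemidirectProduct.inr γ)⁻¹
      = SemidirectProduct.inl (γ x) := by
  rw [← map_inv]
  exact (SemidirectProduct.inl_aut (φ := MonoidHom.id (MulAut X)) γ x).symm

theorem tiHol_data (γ : MulAut X) (hne : γ ≠ 1) (hinv : ∀ x : X, x * x = 1 → γ x = x) :
    (∃ r ∈ (SemidirectProduct.inl : X →* tiHol X).range,
        (SemidirectProduct.inr γ : tiHol X) * r ≠ r * SemidirectProduct.inr γ) ∧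
      (∀ r ∈ (SemidirectProduct.inl : X →* tiHol X).range, r * r = 1 →
        (SemidirectProduct.inr γ : tiHol X) * r = r * SemidirectProduct.inr γ) := by
  have inj := SemidirectProduct.inl_injective (φ := MonoidHom.id (MulAut X))
  constructor
  · have : ∃ x, γ x ≠ x := by
      by_contra h
      push Not at h
      exact hne (MulEquiv.ext h)
    obtain ⟨x, hx⟩ := this
    refine ⟨SemidirectProduct.inl x, ⟨x, rfl⟩, fun h => hx ?_⟩
    apply inj
    rw [← tiHol_conj γ x, h]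
    group
  · rintro _ ⟨x, rfl⟩ hxx
    have hx : x * x = 1 := inj (by rw [map_mul, hxx, map_one])
    have := tiHol_conj γ x
    rw [hinv x hx] at this
    calc (SemidirectProduct.inr γ : tiHol X) * SemidirectProduct.inl x
        = SemidirectProduct.inr γ * SemidirectProduct.inl x * (SemidirectProduct.inr γ)⁻¹
          * SemidirectProduct.inr γ := by group
      _ = SemidirectProduct.inl x * SemidirectProduct.inr γ := by rw [this]

theorem ti_X_prime [Finite X] (h2 : IsPGroup 2 X) (h4 : NoFourInv X) (γ : MulAut X) (l : ℕ)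
    (hl : l.Prime) (hl2 : l ≠ 2) (hγ : γ ^ l = 1) (hne : γ ≠ 1)
    (hinv : ∀ x : X, x * x = 1 → γ x = x) : l = 3 ∨ l = 5 := by
  obtain ⟨h1, h2'⟩ := tiHol_data γ hne hinv
  exact ti_G_prime (SemidirectProduct.inl : X →* tiHol X).range (tiHol_pgroup h2) (tiHol_noFour h4)
    (SemidirectProduct.inr γ) l hl hl2 (by rw [← map_pow, hγ, map_one]) h1 h2'

theorem ti_X_not_both [Finite X] (h2 : IsPGroup 2 X) (h4 : NoFourInv X) (γ₃ γ₅ : MulAut X)
    (h3 : γ₃ ^ 3 = 1) (h5 : γ₅ ^ 5 = 1) (hne3 : γ₃ ≠ 1) (hne5 : γ₅ ≠ 1)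
    (hinv3 : ∀ x : X, x * x = 1 → γ₃ x = x) (hinv5 : ∀ x : X, x * x = 1 → γ₅ x = x) : False := by
  obtain ⟨a1, a2⟩ := tiHol_data γ₃ hne3 hinv3
  obtain ⟨b1, b2⟩ := tiHol_data γ₅ hne5 hinv5
  exact ti_G_not_both (SemidirectProduct.inl : X →* tiHol X).range (tiHol_pgroup h2)
    (tiHol_noFour h4) (SemidirectProduct.inr γ₃) (SemidirectProduct.inr γ₅)
    (by rw [← map_pow, h3, map_one]) (by rw [← map_pow, h5, map_one]) a1 b1 a2 b2

/-- The action of automorphisms on the involutions. -/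
noncomputable def tiPerm (X : Type*) [Group X] :
    MulAut X →* Equiv.Perm {x : X // orderOf x = 2} where
  toFun α :=
    { toFun := fun x => ⟨α x.1, by rw [MulEquiv.orderOf_eq]; exact x.2⟩
      invFun := fun x => ⟨α.symm x.1, by rw [MulEquiv.orderOf_eq]; exact x.2⟩
      left_inv := fun x => Subtype.ext (by simp)
      right_inv := fun x => Subtype.ext (by simp) }
  map_one' := by ext x; rfl
  map_mul' := fun α β => by ext x; rfl

theorem ti_arith (n : ℕ) (hn : n ≠ 0)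
    (hprime : ∀ l : ℕ, l.Prime → l ∣ n → l = 2 ∨ l = 3 ∨ l = 5) (hnot : ¬ (3 ∣ n ∧ 5 ∣ n)) :
    ∃ a q b : ℕ, q.Prime ∧ n = 2 ^ a * q ^ b := by
  obtain ⟨a, m, hm2, rfl⟩ := Nat.exists_eq_pow_mul_and_not_dvd hn 2 (by norm_num)
  have hm0 : m ≠ 0 := by rintro rfl; simp at hn
  by_cases h5 : 5 ∣ m
  · obtain ⟨b, m', hm5, rfl⟩ := Nat.exists_eq_pow_mul_and_not_dvd hm0 5 (by norm_num)
    have hm1 : m' = 1 := by
      by_contra h
      obtain ⟨l, hl, hldvd⟩ := Nat.exists_prime_and_dvd h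
      have hln : l ∣ 2 ^ a * (5 ^ b * m') :=
        Dvd.dvd.mul_left (Dvd.dvd.mul_left hldvd _) _
      rcases hprime l hl hln with rfl | rfl | rfl
      · exact hm2 (Dvd.dvd.mul_left hldvd _)
      · exact hnot ⟨hln, Dvd.dvd.mul_left h5 _⟩
      · exact hm5 hldvd
    exact ⟨a, 5, b, Nat.prime_five, by rw [hm1, mul_one]⟩
  · obtain ⟨b, m', hm3, rfl⟩ := Nat.exists_eq_pow_mul_and_not_dvd hm0 3 (by norm_num)
    have hm1 : m' = 1 := by
      by_contra h
      obtain ⟨l, hl, hldvd⟩ := Nat.exists_prime_and_dvd h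
      have hln : l ∣ 2 ^ a * (3 ^ b * m') :=
        Dvd.dvd.mul_left (Dvd.dvd.mul_left hldvd _) _
      rcases hprime l hl hln with rfl | rfl | rfl
      · exact hm2 (Dvd.dvd.mul_left hldvd _)
      · exact hm3 hldvd
      · exact h5 (Dvd.dvd.mul_left hldvd _)
    exact ⟨a, 3, b, Nat.prime_three, by rw [hm1, mul_one]⟩

theorem ti_main [Finite X] (h2 : IsPGroup 2 X)
    (h3 : Nat.card {x : X // orderOf x = 2} = 3) : Group.IsSolvable (MulAut X) := by
  classical
  have hF2 : Fact (Nat.Prime 2) := ⟨Nat.prime_two⟩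
  have hfin : Fintype {x : X // orderOf x = 2} := Fintype.ofFinite _
  have ho : ∀ x : X, x ≠ 1 → x * x = 1 → orderOf x = 2 := fun x hx hxx =>
    orderOf_eq_prime (by rw [pow_two]; exact hxx) hx
  have h4 : NoFourInv X := by
    intro a b c d ha1 hb1 hc1 hd1 haa hbb hcc hdd hab hac had hbc hbd hcd
    have hnd : [(⟨a, ho a ha1 haa⟩ : {x : X // orderOf x = 2}), ⟨b, ho b hb1 hbb⟩,
        ⟨c, ho c hc1 hcc⟩, ⟨d, ho d hd1 hdd⟩].Nodup := by
      simp [hab, hac, had, hbc, hbd, hcd]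
    have := hnd.length_le_card
    rw [Nat.card_eq_fintype_card] at h3
    simp at this
    omega
  have hKfix : ∀ γ : MulAut X, γ ∈ (tiPerm X).ker → ∀ x : X, x * x = 1 → γ x = x := by
    intro γ hγ x hxx
    by_cases hx : x = 1
    · rw [hx, map_one]
    · have := congrArg (fun f : Equiv.Perm {x : X // orderOf x = 2} =>
        ((f ⟨x, ho x hx hxx⟩ : {x : X // orderOf x = 2}) : X)) (MonoidHom.mem_ker.mp hγ)
      exact this
  have hI : Group.IsSolvable (Equiv.Perm {x : X // orderOf x = 2}) := by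
    apply Cfsg.Agent.Lib.helper4.isSolvable_of_card_eq_prime_pow_mul_prime_pow 2 3 1 1
      Nat.prime_two Nat.prime_three
    rw [Nat.card_eq_fintype_card, Fintype.card_perm, ← Nat.card_eq_fintype_card, h3]
    rfl
  have hK : Group.IsSolvable (tiPerm X).ker := by
    have hprime : ∀ l : ℕ, l.Prime → l ∣ Nat.card (tiPerm X).ker → l = 2 ∨ l = 3 ∨ l = 5 := by
      intro l hl hdvd
      have : Fact l.Prime := ⟨hl⟩
      obtain ⟨γ, hγ⟩ := exists_prime_orderOf_dvd_card' l hdvd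
      by_cases hl2 : l = 2
      · exact Or.inl hl2
      · right
        have h1 : (γ : MulAut X) ^ l = 1 := by
          have := pow_orderOf_eq_one γ
          rw [hγ] at this
          exact congrArg Subtype.val this
        have hne : (γ : MulAut X) ≠ 1 := by
          intro h
          have : γ = 1 := Subtype.ext h
          rw [this, orderOf_one] at hγ
          exact hl.one_lt.ne hγ
        exact ti_X_prime h2 h4 γ l hl hl2 h1 hne (hKfix γ γ.2)
    have hnot : ¬ (3 ∣ Nat.card (tiPerm X).ker ∧ 5 ∣ Nat.card (tiPerm X).ker) := by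
      rintro ⟨h3', h5'⟩
      have hF3 : Fact (Nat.Prime 3) := ⟨Nat.prime_three⟩
      have hF5 : Fact (Nat.Prime 5) := ⟨Nat.prime_five⟩
      obtain ⟨γ₃, hγ₃⟩ := exists_prime_orderOf_dvd_card' 3 h3'
      obtain ⟨γ₅, hγ₅⟩ := exists_prime_orderOf_dvd_card' 5 h5'
      have e3 : (γ₃ : MulAut X) ^ 3 = 1 := by
        have := pow_orderOf_eq_one γ₃
        rw [hγ₃] at this
        exact congrArg Subtype.val this
      have e5 : (γ₅ : MulAut X) ^ 5 = 1 := by
        have := pow_orderOf_eq_one γ₅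
        rw [hγ₅] at this
        exact congrArg Subtype.val this
      have n3 : (γ₃ : MulAut X) ≠ 1 := by
        intro h
        have : γ₃ = 1 := Subtype.ext h
        rw [this, orderOf_one] at hγ₃
        omega
      have n5 : (γ₅ : MulAut X) ≠ 1 := by
        intro h
        have : γ₅ = 1 := Subtype.ext h
        rw [this, orderOf_one] at hγ₅
        omega
      exact ti_X_not_both h2 h4 γ₃ γ₅ e3 e5 n3 n5 (hKfix γ₃ γ₃.2) (hKfix γ₅ γ₅.2)
    obtain ⟨a, q, b, hq, hcard⟩ := ti_arith _ Nat.card_pos.ne' hprime hnot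
    exact Cfsg.Agent.Lib.helper4.isSolvable_of_card_eq_prime_pow_mul_prime_pow 2 q a b
      Nat.prime_two hq hcard
  exact Group.isSolvable_of_ker_le_range (tiPerm X).ker.subtype (tiPerm X)
    (by rw [Subgroup.range_subtype])

end XLevel

end Cfsg.Agent.Lib.helper14
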