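import Cfsg.Agent.Lib.helper81.WTDefs

/-!
# S4414 piece A (core): two `T`-fixed vectors with supports inside / outside one `T`-orbit,
with the pieces W0, W0b, W1, SV as hypotheses.
-/

set_option autoImplicit false

namespace Cfsg.Agent.Lib.helper81.WT

open scoped TensorProduct

universe u v w

theorem helper14_exists_two_core {S : Type u} [Group S] {F : Type w} [Field F]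
    {V : Type v} [AddCommGroup V] [Module F V]
    (R : Representation F S V) (Y : Subgroup S) [Y.Normal] [Fintype ↥Y]
    (T : Subgroup S)
    (hW0 : ∃ μ₀ : ↥Y →* Fˣ, proj R Y μ₀ ≠ 0)
    (hW0b : ∀ (g : S) (μ : ↥Y →* Fˣ), proj R Y μ ≠ 0 → proj R Y (cj Y g μ) ≠ 0)
    (hW1 : ∀ μ₀ : ↥Y →* Fˣ, proj R Y μ₀ ≠ 0 →
      ¬ ∀ ν : ↥Y →* Fˣ, proj R Y ν ≠ 0 → ν ∈ orb Y T μ₀)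
    (hSV : ∀ (Θ : Set (↥Y →* Fˣ)), (∀ s ∈ T, ∀ μ ∈ Θ, cj Y s μ ∈ Θ) →
      ∀ μ₀ : ↥Y →* Fˣ, μ₀ ∈ Θ → proj R Y μ₀ ≠ 0 →
        ∃ v : V, v ≠ 0 ∧ v ∈ fixT R T ∧ supp R Y v ⊆ Θ) :
    ∃ (μ₀ : ↥Y →* Fˣ) (v₁ v₂ : V), v₁ ≠ 0 ∧ v₂ ≠ 0 ∧ v₁ ∈ fixT R T ∧ v₂ ∈ fixT R T ∧
      supp R Y v₁ ⊆ orb Y T μ₀ ∧ Disjoint (supp R Y v₂) (orb Y T μ₀) := by
  obtain ⟨μ₀, hμ₀⟩ := hW0
  have hΘ₁ : ∀ s ∈ T, ∀ μ ∈ orb Y T μ₀, cj Y s μ ∈ orb Y T μ₀ := by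
    rintro s hs μ ⟨t, ht, rfl⟩
    exact ⟨s * t, T.mul_mem hs ht, (cj_mul Y s t μ₀).symm⟩
  have hμ₀mem : μ₀ ∈ orb Y T μ₀ := ⟨1, T.one_mem, (cj_one Y μ₀).symm⟩
  obtain ⟨v₁, hv₁, hv₁f, hv₁s⟩ := hSV _ hΘ₁ μ₀ hμ₀mem hμ₀
  have h1 := hW1 μ₀ hμ₀
  rw [not_forall] at h1
  obtain ⟨ν₁, h1⟩ := h1
  rw [Classical.not_imp] at h1
  obtain ⟨hν₁, hν₁n⟩ := h1
  have hΘ₂ : ∀ s ∈ T, ∀ μ ∈ {ν : ↥Y →* Fˣ | proj R Y ν ≠ 0 ∧ ν ∉ orb Y T μ₀},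
      cj Y s μ ∈ {ν : ↥Y →* Fˣ | proj R Y ν ≠ 0 ∧ ν ∉ orb Y T μ₀} := by
    rintro s hs μ ⟨hμ, hμn⟩
    refine ⟨hW0b s μ hμ, fun hmem => hμn ?_⟩
    have h2 := hΘ₁ s⁻¹ (T.inv_mem hs) _ hmem
    rwa [← cj_mul, inv_mul_cancel, cj_one] at h2
  obtain ⟨v₂, hv₂, hv₂f, hv₂s⟩ := hSV _ hΘ₂ ν₁ ⟨hν₁, hν₁n⟩ hν₁
  refine ⟨μ₀, v₁, v₂, hv₁, hv₂, hv₁f, hv₂f, hv₁s, ?_⟩
  rw [Set.disjoint_left]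
  intro ν hν hν'
  exact (hv₂s hν).2 hν'

end Cfsg.Agent.Lib.helper81.WT
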