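import Mathlib
import Cfsg.Agent.Lib.helper61.SL25Pres
import Cfsg.Agent.Lib.helper1.Z2C
import Cfsg.Agent.Lib.helper53.Z2D
import Cfsg.Agent.Lib.helper53.Z2H
import Cfsg.Agent.Lib.helper20.Z2A
import Cfsg.Agent.Lib.helper20.Z2G
import Cfsg.Agent.Lib.helper20.Z2J
import Cfsg.Agent.Lib.helper20.Z2K
import Cfsg.Agent.Lib.helper39.Z2B
import Cfsg.Agent.Lib.helper91.Z2E
import Cfsg.Agent.Lib.helper91.Z2F
import Cfsg.Agent.Lib.helper65.Z2O

/-!
Assembly of the structure theorem for non-solvable groups with a fixed-point-free module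
(corollaries of Zassenhaus' theorem S0690) (helper14).
-/

set_option autoImplicit false

namespace Cfsg.Agent.Lib.helper14.Zass2

open Cfsg.Agent.Lib.helper62.FrobExtract

universe u v

/-- Structure of a non-solvable group with a fixed-point-free module, given Zassenhaus' theorem
`hZ` (the statement of S0690). -/
theorem zass_struct
    (hZ : ∀ (K : Type v) [Group K] [Finite K] (G : Subgroup (MulAut K)),
      (∀ φ ∈ G, φ ≠ 1 → ∀ k : K, φ k = k → k = 1) → commutator G = ⊤ → G ≠ ⊥ →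
      Nonempty (G ≃* Matrix.SpecialLinearGroup (Fin 2) (ZMod 5)))
    {G : Type u} [Group G] [Finite G] (h : HasFpfMod.{u, v} G) (hns : ¬ Group.IsSolvable G) :
    ∃ G₀ : Subgroup G, G₀.Normal ∧ (G₀.index = 1 ∨ G₀.index = 2) ∧
      ∃ S M : Subgroup G, S ⊔ M = G₀ ∧ S ⊓ M = ⊥ ∧ (∀ s ∈ S, ∀ x ∈ M, s * x = x * s) ∧
        Nonempty (S ≃* Matrix.SpecialLinearGroup (Fin 2) (ZMod 5)) ∧
        (∀ (p : ℕ) [Fact p.Prime] (P : Sylow p M), IsCyclic P) ∧ (Nat.card M).Coprime 30 := by
  classical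
  obtain ⟨S, hSn, hSne, hSperf⟩ := Cfsg.Agent.Lib.helper20.perfect_core hns
  have hSn' : S.Normal := hSn
  have hfS : HasFpfMod.{u, v} S := h.comap S.subtype S.subtype_injective
  have hSnt : Nontrivial S := (Subgroup.nontrivial_iff_ne_bot S).mpr hSne
  obtain ⟨e⟩ := Cfsg.Agent.Lib.helper39.zass_bridge hZ hfS hSperf hSnt
  -- the involution
  obtain ⟨z, hzS, hz1, hz2⟩ : ∃ z : G, z ∈ S ∧ z ≠ 1 ∧ z ^ 2 = 1 := by
    refine ⟨((e.symm Cfsg.Agent.Lib.helper61.SL25.mZ : S) : G), (e.symm _).2, ?_, ?_⟩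
    · intro hh
      have h1 : e.symm Cfsg.Agent.Lib.helper61.SL25.mZ = 1 := Subtype.ext hh
      have h2 : Cfsg.Agent.Lib.helper61.SL25.mZ = 1 := by
        simpa using congrArg e h1
      exact absurd h2 (by decide)
    · rw [← Subgroup.coe_pow, ← map_pow, Cfsg.Agent.Lib.helper61.SL25.mZ2, map_one]
      rfl
  have hzcent : ∀ g : G, g * z = z * g := by
    intro g
    have h1 : g * z * g⁻¹ = z := by
      apply Cfsg.Agent.Lib.helper62.FrobSolv.fpf_involution_unique h _ _ _ hz1 _ hz2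
      · intro hh
        apply hz1
        have : z = g⁻¹ * (g * z * g⁻¹) * g := by group
        rw [this, hh]; group
      · rw [conj_pow, hz2]; group
    calc g * z = g * z * g⁻¹ * g := by group
      _ = z * g := by rw [h1]
  have hzC : z ∈ Subgroup.centralizer (S : Set G) := by
    rw [Subgroup.mem_centralizer_iff]
    intro s _
    exact hzcent s
  have h2 : ∀ t ∈ Subgroup.centralizer (S : Set G), ∀ k : ℕ, t ^ 2 ^ k = 1 → t = 1 ∨ t = z := by
    intro t ht k htk
    have h3 := Cfsg.Agent.Lib.helper91.cent_two_elt h S ⟨e⟩ t ht k htk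
    by_cases ht1 : t = 1
    · exact Or.inl ht1
    · exact Or.inr (Cfsg.Agent.Lib.helper62.FrobSolv.fpf_involution_unique h t z ht1 hz1 h3 hz2)
  obtain ⟨M, hMC, hModd, hMz⟩ := Cfsg.Agent.Lib.helper20.exists_odd_compl (Subgroup.centralizer (S : Set G)) z hzC hz2
    (fun g _ => hzcent g) h2
  have hidx := Cfsg.Agent.Lib.helper53.index_sup_centralizer Cfsg.Agent.Lib.helper1.card_mulAut_sl25_le S ⟨e⟩
  have hsup : S ⊔ M = S ⊔ Subgroup.centralizer (S : Set G) := by
    rw [← hMz, ← sup_assoc]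
    symm
    apply sup_eq_left.mpr
    exact (Subgroup.zpowers_le.mpr hzS).trans le_sup_left
  have hcop15 := Cfsg.Agent.Lib.helper91.cent_coprime_15 h S ⟨e⟩
  have hMdvd : Nat.card M ∣ Nat.card (Subgroup.centralizer (S : Set G)) :=
    Subgroup.card_dvd_of_le hMC
  have hM15 : (Nat.card M).Coprime 15 := Nat.Coprime.coprime_dvd_left hMdvd hcop15
  have hM2 : (Nat.card M).Coprime 2 := Nat.Coprime.symm (Nat.coprime_two_left.mpr hModd)
  have hM30 : (Nat.card M).Coprime 30 := by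
    have h30 : (30 : ℕ) = 2 * 15 := by norm_num
    rw [h30]
    exact Nat.Coprime.mul_right hM2 hM15
  have hM120 : (Nat.card M).Coprime 120 := by
    have h120 : (120 : ℕ) = 2 * 2 * 2 * 15 := by norm_num
    rw [h120]
    exact Nat.Coprime.mul_right (Nat.Coprime.mul_right (Nat.Coprime.mul_right hM2 hM2) hM2) hM15
  have hS120 : Nat.card S = 120 := by
    rw [Nat.card_congr e.toEquiv]
    exact Cfsg.Agent.Lib.helper61.SL25.card_SL25
  refine ⟨S ⊔ Subgroup.centralizer (S : Set G), inferInstance, hidx, S, M, hsup, ?_, ?_, ⟨e⟩, ?_,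
    hM30⟩
  · rw [eq_bot_iff]
    intro g hg
    obtain ⟨hgS, hgM⟩ := Subgroup.mem_inf.mp hg
    rw [Subgroup.mem_bot]
    have h1 : orderOf g ∣ Nat.card S := by
      have := orderOf_dvd_natCard (⟨g, hgS⟩ : S)
      rwa [Subgroup.orderOf_mk] at this
    have h3 : orderOf g ∣ Nat.card M := by
      have := orderOf_dvd_natCard (⟨g, hgM⟩ : M)
      rwa [Subgroup.orderOf_mk] at this
    rw [hS120] at h1
    have h4 : orderOf g ∣ 1 := by
      have := Nat.dvd_gcd h3 h1
      rwa [Nat.Coprime.gcd_eq_one hM120] at this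
    exact orderOf_eq_one_iff.mp (Nat.dvd_one.mp h4)
  · intro s hs x hx
    exact (Subgroup.mem_centralizer_iff.mp (hMC hx)) s hs
  · intro p _ P
    exact Cfsg.Agent.Lib.helper53.sylow_cyclic_of_odd h M hModd p P

end Cfsg.Agent.Lib.helper14.Zass2
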