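import Mathlib
import Cfsg.Agent.Lib.helper14.Zass2Asm
import Cfsg.Agent.Lib.helper15.LinReg
import Cfsg.Agent.Lib.helper62.LinRegQ8B
import Cfsg.Agent.Lib.helper25.WrX2

/-!
The insoluble sharply doubly transitive groups and the Zassenhaus structure lemma for regular
linear groups, from Zassenhaus' theorem (helper14).
-/

set_option autoImplicit false

namespace Cfsg.Agent.Lib.helper14.Zass2

open Cfsg.Agent.Lib.helper62.FrobExtract

universe u v

/-- An element of order 4 of `SL(2,5)`. -/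
def uM : Matrix.SpecialLinearGroup (Fin 2) (ZMod 5) := ⟨!![2, 0; 0, 3], by decide⟩
/-- A second element of order 4 of `SL(2,5)`. -/
def vM : Matrix.SpecialLinearGroup (Fin 2) (ZMod 5) := ⟨!![0, 1; -1, 0], by decide⟩

theorem uM4 : uM ^ 4 = 1 := by decide
theorem uM2 : uM ^ 2 ≠ 1 := by decide
theorem vM2 : vM ^ 2 = uM ^ 2 := by decide
theorem vMuM : vM * uM * vM⁻¹ = uM⁻¹ := by decide

section

variable {p : ℕ} [Fact p.Prime] {V : Type u} [AddCommGroup V] [Module (ZMod p) V] [Finite V]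

/-- A regular linear group has a fixed-point-free module. -/
theorem hasFpfMod_of_reg [Nontrivial V] (H : Subgroup (V ≃ₗ[ZMod p] V))
    (hreg : ∀ v w : V, v ≠ 0 → w ≠ 0 → ∃! h : H, (h : V ≃ₗ[ZMod p] V) v = w) :
    HasFpfMod.{u, u} H := by
  classical
  have hfinE : Finite (V ≃ₗ[ZMod p] V) :=
    Finite.of_injective (fun e : V ≃ₗ[ZMod p] V => (e : V → V)) DFunLike.coe_injective
  have hcardH : Nat.card H = p ^ Module.finrank (ZMod p) V - 1 :=
    Cfsg.Agent.Lib.helper15.LinReg.card_of_reg H hreg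
  have hfd : Module.Finite (ZMod p) V := Module.Finite.of_finite
  have hd : 0 < Module.finrank (ZMod p) V := Module.finrank_pos
  have hpp : p.Prime := Fact.out
  have hpH : ¬ p ∣ Nat.card H := by
    rw [hcardH]
    intro hdvd
    have h1 : p ∣ p ^ Module.finrank (ZMod p) V := dvd_pow_self p hd.ne'
    have h2 : 1 ≤ p ^ Module.finrank (ZMod p) V := Nat.one_le_pow _ _ hpp.pos
    have h3 : p ∣ 1 := by
      have := Nat.dvd_sub h1 hdvd
      rwa [Nat.sub_sub_self h2] at this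
    exact hpp.one_lt.ne' (Nat.dvd_one.mp h3)
  exact ⟨p, inferInstance, V, inferInstance, inferInstance, hpH,
    inferInstance, inferInstance,
    fun x => by rw [← Nat.cast_smul_eq_nsmul (ZMod p), ZMod.natCast_self, zero_smul],
    fun a ha x hx => by
      by_contra hx0
      exact ha (Cfsg.Agent.Lib.helper15.LinReg.free_of_reg H hreg a x hx0 hx)⟩

/-- The insoluble sharply doubly transitive groups, given Zassenhaus' theorem. -/
theorem s0689_of
    (hZ : ∀ (K : Type u) [Group K] [Finite K] (G : Subgroup (MulAut K)),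
      (∀ φ ∈ G, φ ≠ 1 → ∀ k : K, φ k = k → k = 1) → commutator G = ⊤ → G ≠ ⊥ →
      Nonempty (G ≃* Matrix.SpecialLinearGroup (Fin 2) (ZMod 5)))
    (H : Subgroup (V ≃ₗ[ZMod p] V))
    (hreg : ∀ v w : V, v ≠ 0 → w ≠ 0 → ∃! h : H, (h : V ≃ₗ[ZMod p] V) v = w)
    (hsolv : ¬ Group.IsSolvable H) :
    (Nat.card V = 121 ∧ Nonempty (H ≃* Matrix.SpecialLinearGroup (Fin 2) (ZMod 5))) ∨
    (Nat.card V = 841 ∧
      Nonempty (H ≃* Matrix.SpecialLinearGroup (Fin 2) (ZMod 5) × Multiplicative (ZMod 7))) ∨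
    (Nat.card V = 3481 ∧
      Nonempty (H ≃* Matrix.SpecialLinearGroup (Fin 2) (ZMod 5) × Multiplicative (ZMod 29))) := by
  classical
  have hfinE : Finite (V ≃ₗ[ZMod p] V) :=
    Finite.of_injective (fun e : V ≃ₗ[ZMod p] V => (e : V → V)) DFunLike.coe_injective
  have hnt : Nontrivial V := by
    by_contra hn
    rw [not_nontrivial_iff_subsingleton] at hn
    apply hsolv
    have hsub : Subsingleton H :=
      ⟨fun a b => Subtype.ext (LinearEquiv.ext fun x => Subsingleton.elim _ _)⟩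
    exact inferInstance
  have hcardH : Nat.card H = p ^ Module.finrank (ZMod p) V - 1 :=
    Cfsg.Agent.Lib.helper15.LinReg.card_of_reg H hreg
  have hpp : p.Prime := Fact.out
  have hfpf : HasFpfMod.{u, u} H := hasFpfMod_of_reg H hreg
  obtain ⟨G₀, hG₀n, hidx, S, M, hsup, hdisj, hcomm, ⟨e⟩, hcyc, hM30⟩ := zass_struct hZ hfpf hsolv
  -- a quaternion subgroup of `S`
  obtain ⟨a, b, haS, hbS, ha4, ha2, hb2, hba⟩ : ∃ a b : H, a ∈ S ∧ b ∈ S ∧ a ^ 4 = 1 ∧ a ^ 2 ≠ 1 ∧
      b ^ 2 = a ^ 2 ∧ b * a * b⁻¹ = a⁻¹ := by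
    refine ⟨((e.symm uM : S) : H), ((e.symm vM : S) : H), (e.symm uM).2, (e.symm vM).2, ?_, ?_, ?_,
      ?_⟩
    · rw [← Subgroup.coe_pow, ← map_pow, uM4, map_one]; rfl
    · intro hh
      rw [← Subgroup.coe_pow, ← map_pow] at hh
      have h1 : e.symm (uM ^ 2) = 1 := Subtype.ext hh
      have h2 : uM ^ 2 = 1 := by simpa using congrArg e h1
      exact uM2 h2
    · rw [← Subgroup.coe_pow, ← map_pow, ← Subgroup.coe_pow, ← map_pow, vM2]
    · rw [← Subgroup.coe_inv, ← Subgroup.coe_mul, ← Subgroup.coe_mul, ← Subgroup.coe_inv,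
        ← map_inv, ← map_mul, ← map_mul, ← map_inv, vMuM]
  obtain ⟨eN⟩ := Cfsg.Agent.Lib.helper25.closure_pair_quat a b ha4 ha2 hb2 hba
  have hNS : Subgroup.closure ({a, b} : Set H) ≤ S := by
    rw [Subgroup.closure_le]
    rintro x (rfl | rfl)
    · exact haS
    · exact hbS
  have hK : ∀ k ∈ M, ∀ n ∈ Subgroup.closure ({a, b} : Set H), k * n = n * k :=
    fun k hk n hn => (hcomm n (hNS hn) k hk).symm
  obtain ⟨hp2, k, hdk, hKdvd⟩ :=
    Cfsg.Agent.Lib.helper62.LinRegQ8.card_dvd_of_commute_q8 H hreg _ eN M hK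
  obtain ⟨ε⟩ := Cfsg.Agent.Lib.helper20.sup_equiv_prod S M hdisj hcomm
  have hS120 : Nat.card S = 120 := by
    rw [Nat.card_congr e.toEquiv]
    exact Cfsg.Agent.Lib.helper61.SL25.card_SL25
  have hG₀card : Nat.card G₀ = 120 * Nat.card M := by
    rw [← hsup, Nat.card_congr ε.toEquiv, Nat.card_prod, hS120]
  have hHcard : Nat.card H = G₀.index * (120 * Nat.card M) := by
    rw [← hG₀card, mul_comm]
    exact (Subgroup.card_mul_index G₀).symm
  obtain ⟨he1, hcases⟩ := Cfsg.Agent.Lib.helper20.arith_689 p k (Nat.card M) G₀.index hpp hidx hKdvd hM30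
    (by rw [← hdk, ← hcardH, hHcard])
  have hG₀top : G₀ = ⊤ := Subgroup.index_eq_one.mp he1
  have hVcard : Nat.card V = (p ^ k) ^ 2 := by
    rw [Module.natCard_eq_pow_finrank (K := ZMod p) (V := V), Nat.card_zmod, hdk, mul_comm, pow_mul]
  obtain ⟨θ⟩ : Nonempty (H ≃* S × M) := by
    have hST : S ⊔ M = ⊤ := hsup.trans hG₀top
    exact ⟨Subgroup.topEquiv.symm.trans ((MulEquiv.subgroupCongr hST.symm).trans ε)⟩
  rcases hcases with ⟨hQ, hm⟩ | ⟨hQ, hm⟩ | ⟨hQ, hm⟩
  · left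
    refine ⟨by rw [hVcard, hQ]; norm_num, ?_⟩
    have hsub : Subsingleton M := (Nat.card_eq_one_iff_unique.mp hm).1
    have huniq : Unique M := uniqueOfSubsingleton 1
    exact ⟨θ.trans (MulEquiv.prodUnique.trans e)⟩
  · right; left
    refine ⟨by rw [hVcard, hQ]; norm_num, ?_⟩
    have h7 : Fact (Nat.Prime 7) := ⟨by norm_num⟩
    have hMc : IsCyclic M := isCyclic_of_prime_card hm
    have hc : Nat.card M = Nat.card (Multiplicative (ZMod 7)) := by
      rw [hm, Nat.card_eq_fintype_card, Fintype.card_multiplicative, ZMod.card]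
    exact ⟨θ.trans (MulEquiv.prodCongr e (mulEquivOfCyclicCardEq hc))⟩
  · right; right
    refine ⟨by rw [hVcard, hQ]; norm_num, ?_⟩
    have h29 : Fact (Nat.Prime 29) := ⟨by norm_num⟩
    have hMc : IsCyclic M := isCyclic_of_prime_card hm
    have hc : Nat.card M = Nat.card (Multiplicative (ZMod 29)) := by
      rw [hm, Nat.card_eq_fintype_card, Fintype.card_multiplicative, ZMod.card]
    exact ⟨θ.trans (MulEquiv.prodCongr e (mulEquivOfCyclicCardEq hc))⟩

/-- The Zassenhaus structure lemma for regular linear groups, given Zassenhaus' theorem. -/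
theorem s0686_of
    (hZ : ∀ (K : Type u) [Group K] [Finite K] (G : Subgroup (MulAut K)),
      (∀ φ ∈ G, φ ≠ 1 → ∀ k : K, φ k = k → k = 1) → commutator G = ⊤ → G ≠ ⊥ →
      Nonempty (G ≃* Matrix.SpecialLinearGroup (Fin 2) (ZMod 5)))
    (H : Subgroup (V ≃ₗ[ZMod p] V))
    (hreg : ∀ v w : V, v ≠ 0 → w ≠ 0 → ∃! h : H, (h : V ≃ₗ[ZMod p] V) v = w)
    (hI : ∀ A : Subgroup H, A.Normal → IsCyclic A → ∃ W : Submodule (ZMod p) V, W ≠ ⊥ ∧ W ≠ ⊤ ∧
      ∀ a ∈ A, ∀ v ∈ W, ((a : H) : V ≃ₗ[ZMod p] V) v ∈ W)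
    (A : Subgroup H) (hAn : A.Normal) (hAc : IsMulCommutative A)
    (hAmax : ∀ B : Subgroup H, B.Normal → IsMulCommutative B → A ≤ B → B = A)
    (N : Subgroup H) (hNn : N.Normal) (hNle : N ≤ Subgroup.centralizer (A : Set H))
    (hNna : ¬ IsMulCommutative N)
    (hNmin : ∀ M : Subgroup H, M.Normal → M ≤ N → ¬ IsMulCommutative M → M = N) :
    Nonempty (N ≃* QuaternionGroup 2) ∨
      Nonempty (N ≃* Matrix.SpecialLinearGroup (Fin 2) (ZMod 5)) := by
  classical
  have hfinE : Finite (V ≃ₗ[ZMod p] V) :=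
    Finite.of_injective (fun e : V ≃ₗ[ZMod p] V => (e : V → V)) DFunLike.coe_injective
  obtain ⟨W₀, hW₀b, hW₀t, -⟩ := hI ⊥ inferInstance inferInstance
  have hnt : Nontrivial V := by
    by_contra hn
    rw [not_nontrivial_iff_subsingleton] at hn
    exact hW₀b (Submodule.eq_bot_of_subsingleton)
  have hfpf : HasFpfMod.{u, u} H := hasFpfMod_of_reg H hreg
  by_cases hperf : commutator N = ⊤
  · right
    have hfN : HasFpfMod.{u, u} N := hfpf.comap N.subtype N.subtype_injective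
    have hNnt : Nontrivial N := by
      by_contra hn
      rw [not_nontrivial_iff_subsingleton] at hn
      exact hNna ⟨⟨fun a b => Subsingleton.elim _ _⟩⟩
    exact Cfsg.Agent.Lib.helper39.zass_bridge hZ hfN hperf hNnt
  · left
    exact Cfsg.Agent.Lib.helper65.s0686_core hfpf A hAn hAc hAmax N hNn hNle hNna hNmin hperf

end

/-- Structure of non-solvable Frobenius complements, given Zassenhaus' theorem. -/
theorem s3359_of
    (hZ : ∀ (K : Type) [Group K] [Finite K] (G : Subgroup (MulAut K)),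
      (∀ φ ∈ G, φ ≠ 1 → ∀ k : K, φ k = k → k = 1) → commutator G = ⊤ → G ≠ ⊥ →
      Nonempty (G ≃* Matrix.SpecialLinearGroup (Fin 2) (ZMod 5)))
    {G : Type u} [Group G] [Finite G] (hns : ¬ Group.IsSolvable G)
    (hFC : ∃ (L : Type) (_ : Group L) (_ : Finite L) (H : Subgroup L),
      Cfsg.IsFrobeniusComplement H ∧ Nonempty (G ≃* H)) :
    ∃ G₀ : Subgroup G, G₀.Normal ∧ (G₀.index = 1 ∨ G₀.index = 2) ∧
      ∃ S M : Subgroup G, S ⊔ M = G₀ ∧ S ⊓ M = ⊥ ∧ (∀ s ∈ S, ∀ x ∈ M, s * x = x * s) ∧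
        Nonempty (S ≃* Matrix.SpecialLinearGroup (Fin 2) (ZMod 5)) ∧
        (∀ (p : ℕ) [Fact p.Prime] (P : Sylow p M), IsCyclic P) ∧ (Nat.card M).Coprime 30 := by
  obtain ⟨L, _, _, H, hH, ⟨e⟩⟩ := hFC
  have h1 : HasFpfMod.{0, 0} H := hasFpfMod_of_frob H hH
  have h2 : HasFpfMod.{u, 0} G := HasFpfMod.comap e.toMonoidHom e.injective h1
  exact zass_struct hZ h2 hns

end Cfsg.Agent.Lib.helper14.Zass2
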